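import Mathlib.GroupTheory.Solvable
import Mathlib.GroupTheory.QuotientGroup.Basic
import Cfsg.Prelude.Def_OddOrder

/-!
# The odd order theorem from the non-existence of minimal simple groups of odd order
-/

set_option autoImplicit false

namespace CfsgLib.OddChar.OddSolvable

universe u

/-- A group of odd order is solvable if no minimal simple group of odd order exists. -/
theorem isSolvable_of_odd
    (key : ∀ (H : Type u) [Group H] [Finite H], Cfsg.IsMinSimpleOddOrder H → False)
    {G : Type u} [Group G] [Finite G] (hG : Odd (Nat.card G)) : Group.IsSolvable G := by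
  suffices h : ∀ n : ℕ, ∀ (H : Type u) [Group H] [Finite H], Nat.card H = n → Odd n →
      Group.IsSolvable H from h _ G rfl hG
  intro n
  induction n using Nat.strong_induction_on with
  | _ n ih =>
    intro H _ _ hn hodd
    subst hn
    by_contra hns
    have hsub : ∀ K : Subgroup H, K ≠ ⊤ → Group.IsSolvable K := fun K hK =>
      ih (Nat.card K) (lt_of_le_of_ne (Subgroup.card_le_card_group K) fun e =>
        hK (Subgroup.eq_top_of_card_eq K e)) K rfl
        (hodd.of_dvd_nat K.card_subgroup_dvd_card)
    haveI : Nontrivial H := not_subsingleton_iff_nontrivial.1 fun _ => hns inferInstance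
    refine key H ⟨hodd, ⟨⟨fun N hN => ?_⟩, fun hc => hns ?_, hsub⟩⟩
    · by_contra hne
      push Not at hne
      obtain ⟨h1, h2⟩ := hne
      haveI := hN
      haveI := hsub N h2
      have hlt : Nat.card (H ⧸ N) < Nat.card H := by
        rw [N.card_eq_card_quotient_mul_card_subgroup]
        exact lt_mul_of_one_lt_right Nat.card_pos ((Subgroup.one_lt_card_iff_ne_bot N).2 h1)
      haveI := ih _ hlt (H ⧸ N) rfl (hodd.of_dvd_nat N.card_quotient_dvd_card)
      exact hns ((Group.isSolvable_iff_subgroup_quotient (G := H) N).2 ⟨inferInstance, inferInstance⟩)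
    · exact isSolvable_of_comm fun a b => hc.is_comm.comm a b

end CfsgLib.OddChar.OddSolvable
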