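import Cfsg.Agent.Lib.AppendixC.Glue

/-!
Field coordinates for the final configuration of the odd order theorem (Peterfalvi 14) and the
conclusion of Appendix C for it.
-/

set_option autoImplicit false

namespace CfsgLib.OddChar.FinalField

variable {G : Type*} [Group G] [Finite G]

/-- The field of `p ^ q` elements attached to `P ⋊ U`, with `W₂` the prime field; `U` is cyclic. -/
theorem exists_field {p q : ℕ} (hp : p.Prime) (hq : q.Prime) (P U W₂ : Subgroup G)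
    (hPel : Cfsg.IsElementaryAbelian p P) (hPcard : Nat.card P = p ^ q)
    (hUn : U ≤ Subgroup.normalizer (P : Set G)) (hUcomm : IsMulCommutative U)
    (hUcard : Nat.card U * (p - 1) = p ^ q - 1)
    (hfpf : ∀ u ∈ U, u ≠ 1 → ∀ x ∈ P, u * x = x * u → x = 1)
    (hW2 : W₂ ≤ P) (hW2card : Nat.card W₂ = p) :
    IsCyclic U ∧ ∃ (F : Type) (_ : Field F) (_ : Fintype F) (f : G → F) (ψ : G → F),
      Fintype.card F = p ^ q ∧ Set.BijOn f (P : Set G) Set.univ ∧
      (∀ x ∈ P, ∀ x' ∈ P, f (x * x') = f x + f x') ∧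
      (∀ u ∈ U, ψ u ≠ 0 ∧ ∀ x ∈ P, f (u * x * u⁻¹) = ψ u * f x) ∧
      (∀ u ∈ U, ∀ u' ∈ U, ψ (u * u') = ψ u * ψ u') ∧ Set.InjOn ψ (U : Set G) ∧
      (∀ x ∈ P, x ∈ W₂ ↔ f x ^ p = f x) := by
  obtain ⟨F, hF, hF', f, ψ, h⟩ := CfsgLib.AppendixC.exists_field_coordinates hp hq P U W₂ hPel
    hPcard hUn hUcomm hUcard hfpf hW2 hW2card
  refine ⟨?_, F, hF, hF', f, ψ, h⟩
  obtain ⟨-, -, -, hψ, hmul, hinj, -⟩ := h
  have h1 : ψ 1 = 1 := by
    have h := hmul 1 (one_mem U) 1 (one_mem U)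
    rw [one_mul] at h
    exact (mul_eq_left₀ (hψ 1 (one_mem U)).1).1 h.symm
  let χ : U →* F :=
    { toFun := fun u => ψ u
      map_one' := h1
      map_mul' := fun u v => hmul u u.2 v v.2 }
  exact isCyclic_of_subgroup_isDomain χ fun u v e => Subtype.ext (hinj u.2 v.2 e)

/-- Appendix C: the final configuration forces `p ≤ q`. -/
theorem le_of_config {p q : ℕ} (hp : p.Prime) (hq : q.Prime) (P U W₂ Q : Subgroup G)
    (hPel : Cfsg.IsElementaryAbelian p P) (hPcard : Nat.card P = p ^ q)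
    (hUn : U ≤ Subgroup.normalizer (P : Set G)) (hUcomm : IsMulCommutative U)
    (hUcard : Nat.card U * (p - 1) = p ^ q - 1)
    (hfpf : ∀ u ∈ U, u ≠ 1 → ∀ x ∈ P, u * x = x * u → x = 1)
    (hW2 : W₂ ≤ P) (hW2card : Nat.card W₂ = p) (hQ : IsMulCommutative Q)
    (hQp : (Nat.card Q).Coprime p) (hW2Q : W₂ ≤ Subgroup.normalizer (Q : Set G))
    (y : G) (hy : y ∈ Q)
    (hyU : W₂.map (MulAut.conj y).toMonoidHom ≤ Subgroup.normalizer (U : Set G))
    (hA : Nat.Coprime ((p ^ q - 1) / (p - 1)) (p - 1)) : p ≤ q :=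
  not_lt.1 fun hlt => CfsgLib.AppendixC.final_config_false hp hq hlt P U W₂ Q hPel hPcard hUn hUcomm
    hUcard hA hfpf hW2 hW2card hQ hQp hW2Q y hy hyU

end CfsgLib.OddChar.FinalField
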