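import Cfsg.Agent.Lib.OddChar.PairLocal
import Cfsg.Agent.Lib.OddLocal.Sec14Frob

/-!
# `PTypeCentProp` from a rank condition on types III, IV, V

For type II every element of `M_σ^#` has its centraliser in `M` (BG 14.13); an element of `M_σ` of
prime order `p` with centraliser outside `M` has `p ∉ β(M)`.  So it is enough that for types III, IV
and V the Sylow subgroups of `M_σ` for primes outside `β(M)` are cyclic.
-/

set_option autoImplicit false
set_option linter.unusedSectionVars false

namespace CfsgLib.OddChar.PTypeCent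

open CfsgLib.OddLocal

universe u

variable {G : Type u} [Group G] [Finite G]

/-- The rank condition. -/
def SigmaRankProp (G : Type u) [Group G] : Prop :=
  ∀ L : Subgroup G, IsCoatom L →
    (Cfsg.IsOfTypeIII L ∨ Cfsg.IsOfTypeIV L ∨ Cfsg.IsOfTypeV L) →
    ∀ p : ℕ, p.Prime → p ∉ Cfsg.beta L → Cfsg.PRankLE p 1 ↥(Cfsg.sigmaCore L)

/-- Type II: centralisers of elements of `L_σ^#` lie in `L`. -/
theorem centralizer_le_of_typeII (hG : Cfsg.IsMinSimpleOddOrder G) {L : Subgroup G} (hL : IsCoatom L)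
    (hII : Cfsg.IsOfTypeII L) {x : G} (hx : x ∈ Cfsg.sigmaCore L) (hx1 : x ≠ 1) :
    Subgroup.centralizer ({x} : Set G) ≤ L := by
  have B := S15.s16Base hG
  obtain ⟨K, U, hKU⟩ := S15.exists_decomposition B.h1350 hL B.h1351 B.h1352
  obtain ⟨hK, hU⟩ := (S15.typeII_iff hG B hL hKU).1 hII
  exact (BG.pre'_of_minimal hG).centralizer_le_of_U hL hKU hK hU hx hx1

/-- `PTypeCentProp` from the rank condition. -/
theorem ptypeCent (hG : Cfsg.IsMinSimpleOddOrder G) (hr : SigmaRankProp G) :
    TypeIProps.PTypeCentProp G := by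
  intro L hL hnI p hp A hA hAe hAc x hx hx1
  by_contra hxL
  rcases (S15.type_exhaust hG (S15.s16Base hG) hL).resolve_left hnI with hII | h
  · exact hxL (centralizer_le_of_typeII hG hL hII (hA hx) hx1)
  haveI := Fact.mk hp
  obtain ⟨_, _, _, _, _, hτ, _⟩ :=
    (BG.pre'_of_minimal hG).supporting_maximal hL (hA hx) hx1 hxL
  have hxp : x ^ p = 1 := hAe.2 x hx
  have hord : orderOf x = p := orderOf_eq_prime hxp hx1
  have hβ : p ∉ Cfsg.beta L := (hτ p hp (dvd_of_eq hord.symm)).2
  have h1 := (CfsgLib.PGroup.pRankLE_subgroup_iff (Cfsg.sigmaCore L)).1 (hr L hL h p hp hβ) A hA hAe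
  rw [hAc, pow_one] at h1
  nlinarith [hp.two_le]

/-- The predecessors of S1540 from the rank condition. -/
theorem props (hG : Cfsg.IsMinSimpleOddOrder G) (hr : SigmaRankProp G) : TypeIProps.Props G :=
  PairLocal.props_of hG (ptypeCent hG hr)

end CfsgLib.OddChar.PTypeCent
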