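import Cfsg.Agent.Lib.OddChar.FreeModule

/-!
# The fixed-point formula for a Frobenius group acting coprimely on a solvable group

`Frob`: the hypotheses on `U`, `E ≤ S`; `finrank_formula`: modules; `card_formula`: solvable groups.
-/

namespace CfsgLib.OddChar.FrobFix

open Module

universe v w

variable {S : Type v} [Group S] {p : ℕ} [Fact p.Prime]

section Module

variable {W : Type w} [AddCommGroup W] [Module (ZMod p) W]

/-- The fixed points of a subgroup in a module. -/
def fixM (ρ : S →* Module.End (ZMod p) W) (A : Subgroup S) : Submodule (ZMod p) W where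
  carrier := {w | ∀ a ∈ A, ρ a w = w}
  zero_mem' := fun a _ => map_zero _
  add_mem' := fun {x y} hx hy a ha => by rw [map_add, hx a ha, hy a ha]
  smul_mem' := fun c x hx a ha => by rw [map_smul, hx a ha]

theorem mem_fixM {ρ : S →* Module.End (ZMod p) W} {A : Subgroup S} {w : W} :
    w ∈ fixM ρ A ↔ ∀ a ∈ A, ρ a w = w := Iff.rfl

theorem fixM_sup (ρ : S →* Module.End (ZMod p) W) (A B : Subgroup S) :
    fixM ρ (A ⊔ B) = fixM ρ A ⊓ fixM ρ B := by
  refine le_antisymm (fun w hw => ⟨fun a ha => hw a (Subgroup.mem_sup_left ha),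
    fun b hb => hw b (Subgroup.mem_sup_right hb)⟩) fun w hw => ?_
  intro s hs
  rw [Subgroup.sup_eq_closure] at hs
  induction hs using Subgroup.closure_induction with
  | mem x hx => exact hx.elim (hw.1 x) (hw.2 x)
  | one => rw [map_one]; rfl
  | mul x y _ _ hx hy => rw [map_mul, Module.End.mul_apply, hy, hx]
  | inv x _ hx =>
    conv_lhs => rw [← hx, ← Module.End.mul_apply, ← map_mul, inv_mul_cancel, map_one]
    rfl

/-- The splitting by averaging over a coprime group. -/
theorem averaging_split [FiniteDimensional (ZMod p) W] {A : Type*} [Group A] [Fintype A]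
    (ρ : A →* Module.End (ZMod p) W) (hp : ¬ p ∣ Fintype.card A) (C : Submodule (ZMod p) W)
    (hC : ∀ w, w ∈ C ↔ ∀ a, ρ a w = w) (F : Submodule (ZMod p) W)
    (hF : ∀ w ∈ F, (∑ a, ρ a) w ∈ F) :
    finrank (ZMod p) F = finrank (ZMod p) ↥(F ⊓ C) +
      finrank (ZMod p) ↥(F ⊓ LinearMap.ker (∑ a, ρ a)) := by
  set T := ∑ a, ρ a with hT
  have hne : (Fintype.card A : ZMod p) ≠ 0 := fun h =>
    hp ((CharP.cast_eq_zero_iff (ZMod p) p _).mp h)
  have hTC : ∀ w, T w ∈ C := fun w => (hC _).mpr fun b => by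
    have e : ρ b * T = T := by
      rw [hT, Finset.mul_sum]
      exact Fintype.sum_equiv (Equiv.mulLeft b) _ _ fun g => by simp
    exact LinearMap.congr_fun e w
  have hTc : ∀ c ∈ C, T c = (Fintype.card A : ZMod p) • c := fun c hc => by
    rw [hT, LinearMap.coe_sum, Finset.sum_apply, Finset.sum_congr rfl fun g _ => (hC _).mp hc g,
      Finset.sum_const, Finset.card_univ, ← Nat.cast_smul_eq_nsmul (ZMod p)]
  have hsup : (F ⊓ C) ⊔ (F ⊓ LinearMap.ker T) = F := by
    refine le_antisymm (sup_le inf_le_left inf_le_left) fun w hw => Submodule.mem_sup.mpr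
      ⟨(Fintype.card A : ZMod p)⁻¹ • T w, ⟨F.smul_mem _ (hF w hw), C.smul_mem _ (hTC w)⟩,
        w - (Fintype.card A : ZMod p)⁻¹ • T w, ⟨F.sub_mem hw (F.smul_mem _ (hF w hw)), ?_⟩,
        add_sub_cancel _ _⟩
    show T (w - (Fintype.card A : ZMod p)⁻¹ • T w) = 0
    rw [map_sub, map_smul, hTc _ (hTC w), smul_smul, inv_mul_cancel₀ hne, one_smul, sub_self]
  have hinf : (F ⊓ C) ⊓ (F ⊓ LinearMap.ker T) = ⊥ := by
    refine (Submodule.eq_bot_iff _).mpr fun w hw => ?_
    have h := hTc w hw.1.2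
    rw [show T w = 0 from hw.2.2] at h
    exact (smul_eq_zero.mp h.symm).resolve_left hne
  have := Submodule.finrank_sup_add_finrank_inf_eq (F ⊓ C) (F ⊓ LinearMap.ker T)
  rw [hsup, hinf, finrank_bot, add_zero] at this
  exact this

/-- The representation on an invariant submodule. -/
def restrictRep {A : Type*} [Monoid A] (ρ : A →* Module.End (ZMod p) W) (C : Submodule (ZMod p) W)
    (h : ∀ a, ∀ w ∈ C, ρ a w ∈ C) : A →* Module.End (ZMod p) C where
  toFun a := (ρ a).restrict (h a)
  map_one' := LinearMap.ext fun w => Subtype.ext (by simp)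
  map_mul' a b := LinearMap.ext fun w => Subtype.ext (by simp)

theorem restrictRep_apply {A : Type*} [Monoid A] (ρ : A →* Module.End (ZMod p) W)
    (C : Submodule (ZMod p) W) (h : ∀ a, ∀ w ∈ C, ρ a w ∈ C) (a : A) (w : C) :
    ((restrictRep ρ C h a w : C) : W) = ρ a w := rfl

end Module

/-- `U ⋊ E` is a Frobenius group with nilpotent kernel `U`. -/
structure Frob (U E : Subgroup S) : Prop where
  norm : ∀ e ∈ E, ∀ u ∈ U, e * u * e⁻¹ ∈ U
  fpf : ∀ e ∈ E, e ≠ 1 → ∀ u ∈ U, e * u = u * e → u = 1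
  nil : Group.IsNilpotent U

variable [Finite S] {U E : Subgroup S}

open Classical in
theorem finrank_free (h : Frob U E) (hE : ¬ p ∣ Nat.card E) (hU : ¬ p ∣ Nat.card U) :
    ∀ (k : ℕ) (W : Type w) [AddCommGroup W] [Module (ZMod p) W] [FiniteDimensional (ZMod p) W]
      (ρ : ↥(U ⊔ E) →* Module.End (ZMod p) W) (N : Subgroup S), Nat.card U - Nat.card N = k →
      N ≤ U → (∀ u ∈ U, ∀ n ∈ N, u * n * u⁻¹ ∈ N) → (∀ e ∈ E, ∀ n ∈ N, e * n * e⁻¹ ∈ N) →
      (∀ n : ↥(U ⊔ E), (n : S) ∈ N → ρ n = 1) →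
      fixM ρ (U.subgroupOf (U ⊔ E)) = ⊥ →
      finrank (ZMod p) W = Nat.card E * finrank (ZMod p) (fixM ρ (E.subgroupOf (U ⊔ E))) := by
  intro k
  induction k using Nat.strong_induction_on with
  | _ k ih =>
  intro W _ _ _ ρ N hk hNU hNn hNE hN hfix
  rcases eq_or_lt_of_le hNU with rfl | hlt
  · have htop : fixM ρ (N.subgroupOf (N ⊔ E)) = ⊤ := by
      refine eq_top_iff.mpr fun w _ a ha => ?_
      rw [hN a (Subgroup.mem_subgroupOf.mp ha)]
      rfl
    have hz : finrank (ZMod p) W = 0 := by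
      rw [← finrank_top, ← htop, hfix, finrank_bot]
    have hz2 : finrank (ZMod p) (fixM ρ (E.subgroupOf (N ⊔ E))) = 0 :=
      Nat.le_zero.mp ((Submodule.finrank_le _).trans hz.le)
    rw [hz, hz2, mul_zero]
  set N' := N.subgroupOf U with hN'
  have : N'.Normal := ⟨fun n hn g => hNn g g.2 n hn⟩
  have := h.nil
  have : Nontrivial (U ⧸ N') := by
    rw [QuotientGroup.nontrivial_iff, hN', Ne, Subgroup.subgroupOf_eq_top]
    exact fun hUN => hlt.not_ge hUN
  have hcen : Nontrivial (Subgroup.center (U ⧸ N')) :=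
    (Subgroup.nontrivial_iff_ne_bot _).mpr fun hb => by
      have := Group.nilpotent_quotient_of_nilpotent (H := N')
      have h1 := Group.IsNilpotent.center_ne_bot (G := U ⧸ N')
      exact h1 hb
  let A := Subgroup.center (U ⧸ N')
  letI : CommGroup A :=
    { (inferInstance : Group A) with
      mul_comm := fun a b => Subtype.ext (Subgroup.mem_center_iff.mp b.2 a) }
  have : Fintype A := Fintype.ofFinite _
  have : Fintype E := Fintype.ofFinite _
  -- the action on `U ⧸ N`
  let cj : E → (U →* U) := fun e => MonoidHom.mk' (fun u => ⟨(e : S) * u * (e : S)⁻¹, h.norm e e.2 u u.2⟩)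
    fun u v => Subtype.ext (by simp only [Subgroup.coe_mul]; group)
  let f : E → (U ⧸ N' →* U ⧸ N') := fun e => QuotientGroup.map N' N' (cj e) fun n hn =>
    hNE e e.2 n hn
  have hf : ∀ (e : E) (u : U), f e (u : U ⧸ N') = (cj e u : U ⧸ N') := fun _ _ => rfl
  have hf1 : ∀ q, f 1 q = q := fun q => by
    obtain ⟨u, rfl⟩ := QuotientGroup.mk_surjective q
    rw [hf]; exact congrArg _ (Subtype.ext (by simp [cj]))
  have hfm : ∀ e e' q, f (e * e') q = f e (f e' q) := fun e e' q => by
    obtain ⟨u, rfl⟩ := QuotientGroup.mk_surjective q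
    rw [hf, hf, hf]; exact congrArg _ (Subtype.ext (by simp [cj, mul_assoc]))
  have hfA : ∀ e, ∀ q ∈ A, f e q ∈ A := fun e q hq => Subgroup.mem_center_iff.mpr fun x => by
    have hx : x = f e (f e⁻¹ x) := by rw [← hfm, mul_inv_cancel, hf1]
    rw [hx, ← map_mul, ← map_mul, (Subgroup.mem_center_iff.mp hq) _]
  let α : E →* MulAut A := MonoidHom.mk' (fun e =>
    { toFun := fun a => ⟨f e (a : U ⧸ N'), hfA e _ a.2⟩
      invFun := fun a => ⟨f e⁻¹ (a : U ⧸ N'), hfA e⁻¹ _ a.2⟩
      left_inv := fun a => Subtype.ext (by simp only; rw [← hfm, inv_mul_cancel, hf1])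
      right_inv := fun a => Subtype.ext (by simp only; rw [← hfm, mul_inv_cancel, hf1])
      map_mul' := fun a b => Subtype.ext (map_mul (f e) (a : U ⧸ N') (b : U ⧸ N')) })
    fun e e' => MulEquiv.ext fun a => Subtype.ext (hfm e e' a)
  have hfpf : ∀ e, e ≠ 1 → ∀ a, α e a = a → a = 1 := by
    intro e he a ha
    have ha' : f e (a : U ⧸ N') = a := congrArg Subtype.val ha
    obtain ⟨u, hu⟩ := QuotientGroup.mk_surjective (a : U ⧸ N')
    rw [← hu, hf] at ha'
    have hinj : Function.Injective fun x : U => x⁻¹ * cj e x := fun x y hxy => by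
      have hxy' : (x : S)⁻¹ * ((e : S) * x * (e : S)⁻¹) = (y : S)⁻¹ * ((e : S) * y * (e : S)⁻¹) :=
        congrArg Subtype.val hxy
      have hc : (e : S) * ((y : S) * (x : S)⁻¹) = (y : S) * (x : S)⁻¹ * e := by
        calc (e : S) * ((y : S) * (x : S)⁻¹)
            = (y : S) * ((y : S)⁻¹ * ((e : S) * y * (e : S)⁻¹)) * ((e : S) * (x : S)⁻¹) := by group
          _ = (y : S) * ((x : S)⁻¹ * ((e : S) * x * (e : S)⁻¹)) * ((e : S) * (x : S)⁻¹) := by rw [hxy']
          _ = _ := by group
      have := h.fpf e e.2 (fun e' => he (Subtype.ext e')) _ (U.mul_mem y.2 (U.inv_mem x.2)) hc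
      exact Subtype.ext (mul_inv_eq_one.mp this).symm
    let g : N' → N' := fun n => ⟨(n : U)⁻¹ * cj e n, N'.mul_mem (N'.inv_mem n.2) (hNE e e.2 _ n.2)⟩
    have hg : Function.Injective g := fun x y hxy => Subtype.ext (hinj (congrArg Subtype.val hxy))
    obtain ⟨n, hn⟩ := Finite.surjective_of_injective hg ⟨u⁻¹ * cj e u, QuotientGroup.eq.mp ha'.symm⟩
    have hnu : (n : U) = u := hinj (congrArg Subtype.val hn)
    refine Subtype.ext ?_
    rw [← hu, Subgroup.coe_one]
    exact (QuotientGroup.eq_one_iff u).mpr (hnu ▸ n.2)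
  -- the representations
  let ρU : U →* Module.End (ZMod p) W := ρ.comp (Subgroup.inclusion le_sup_left)
  let ρQ : U ⧸ N' →* Module.End (ZMod p) W := QuotientGroup.lift N' ρU fun n hn =>
    hN (Subgroup.inclusion le_sup_left n) hn
  let ρA : A →* Module.End (ZMod p) W := ρQ.comp A.subtype
  let ρE : E →* Module.End (ZMod p) W := ρ.comp (Subgroup.inclusion le_sup_right)
  have hQU : ∀ u : U, ρQ (u : U ⧸ N') = ρU u := fun u => rfl
  have hcompat : ∀ g a, ρE g * ρA a = ρA (α g a) * ρE g := by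
    intro g a
    obtain ⟨u, hu⟩ := QuotientGroup.mk_surjective (a : U ⧸ N')
    show ρE g * ρQ (a : U ⧸ N') = ρQ (f g (a : U ⧸ N')) * ρE g
    rw [← hu, hf, hQU, hQU]
    simp only [ρU, ρE, MonoidHom.comp_apply, ← map_mul]
    refine congrArg ρ (Subtype.ext ?_)
    simp [cj]
  set T := ∑ a, ρA a with hT
  have hcE : ∀ g : E, ρE g * T = T * ρE g := fun g => by
    rw [hT, Finset.mul_sum, Finset.sum_mul]
    exact Fintype.sum_equiv (α g).toEquiv _ _ fun a => hcompat g a
  have hcU : ∀ u : U, ρU u * T = T * ρU u := fun u => by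
    rw [hT, Finset.mul_sum, Finset.sum_mul]
    refine Finset.sum_congr rfl fun a _ => ?_
    rw [← hQU, show ρA a = ρQ (a : U ⧸ N') from rfl, ← map_mul, ← map_mul,
      Subgroup.mem_center_iff.mp a.2]
  have hcS : ∀ s : ↥(U ⊔ E), ρ s * T = T * ρ s := by
    let M : Subgroup ↥(U ⊔ E) :=
      { carrier := {s | Commute (ρ s) T}
        one_mem' := show Commute (ρ 1) T by rw [map_one]; exact Commute.one_left T
        mul_mem' := fun {x y} hx hy => show Commute (ρ (x * y)) T by
          rw [map_mul]; exact Commute.mul_left hx hy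
        inv_mem' := fun {x} hx => show ρ x⁻¹ * T = T * ρ x⁻¹ by
          calc ρ x⁻¹ * T = ρ x⁻¹ * (T * ρ x) * ρ x⁻¹ := by
                rw [mul_assoc, mul_assoc, ← map_mul, mul_inv_cancel, map_one, mul_one]
            _ = ρ x⁻¹ * (ρ x * T) * ρ x⁻¹ := by rw [(show ρ x * T = T * ρ x from hx)]
            _ = T * ρ x⁻¹ := by rw [← mul_assoc (ρ x⁻¹), ← map_mul, inv_mul_cancel, map_one, one_mul] }
    have hM : (⊤ : Subgroup ↥(U ⊔ E)) ≤ M := by
      rw [← Subgroup.subgroupOf_self (U ⊔ E), Subgroup.subgroupOf_sup le_sup_left le_sup_right]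
      exact sup_le (fun x hx => hcU ⟨(x : S), Subgroup.mem_subgroupOf.mp hx⟩)
        (fun x hx => hcE ⟨(x : S), Subgroup.mem_subgroupOf.mp hx⟩)
    exact fun s => hM (Subgroup.mem_top s)
  have hpA : ¬ p ∣ Fintype.card A := fun hd => hU (by
    rw [← Nat.card_eq_fintype_card] at hd
    exact hd.trans ((Subgroup.card_subgroup_dvd_card A).trans (Subgroup.card_quotient_dvd_card N')))
  let C : Submodule (ZMod p) W := fixM ρA ⊤
  have hCa : ∀ w, w ∈ C ↔ ∀ a, ρA a w = w := fun w =>
    ⟨fun hw a => hw a (Subgroup.mem_top a), fun hw a _ => hw a⟩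
  have hCinv : ∀ s : ↥(U ⊔ E), ∀ w ∈ C, ρ s w ∈ C := by
    intro s w hw
    have hne : (Fintype.card A : ZMod p) ≠ 0 := fun h' =>
      hpA ((CharP.cast_eq_zero_iff (ZMod p) p _).mp h')
    have hTw : T w = (Fintype.card A : ZMod p) • w := by
      rw [hT, LinearMap.coe_sum, Finset.sum_apply, Finset.sum_congr rfl fun a _ => (hCa w).mp hw a,
        Finset.sum_const, Finset.card_univ, ← Nat.cast_smul_eq_nsmul (ZMod p)]
    have e := LinearMap.congr_fun (hcS s) w
    rw [Module.End.mul_apply, Module.End.mul_apply, hTw, map_smul] at e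
    have e2 : ρ s w = (Fintype.card A : ZMod p)⁻¹ • T (ρ s w) := by
      rw [← e, smul_smul, inv_mul_cancel₀ hne, one_smul]
    rw [e2]
    refine C.smul_mem _ ((hCa _).mpr fun b => ?_)
    have eb : ρA b * T = T := by
      rw [hT, Finset.mul_sum]
      exact Fintype.sum_equiv (Equiv.mulLeft b) _ _ fun g => by simp
    exact LinearMap.congr_fun eb _
  have hKinv : ∀ s : ↥(U ⊔ E), ∀ w ∈ LinearMap.ker T, ρ s w ∈ LinearMap.ker T := by
    intro s w hw
    have e := LinearMap.congr_fun (hcS s) w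
    rw [Module.End.mul_apply, Module.End.mul_apply, LinearMap.mem_ker.mp hw, map_zero] at e
    exact LinearMap.mem_ker.mpr e.symm
  set F := fixM ρ (E.subgroupOf (U ⊔ E)) with hF
  have hsplitW := averaging_split ρA hpA C hCa ⊤ (fun _ _ => trivial)
  have hsplitF := averaging_split ρA hpA C hCa F (fun w hw a ha => by
    have := LinearMap.congr_fun (hcS a) w
    rw [Module.End.mul_apply, Module.End.mul_apply, hw a ha] at this
    exact this)
  rw [top_inf_eq, top_inf_eq, finrank_top] at hsplitW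
  -- the part fixed by the centre
  set N₂ := ((A : Subgroup (U ⧸ N')).comap (QuotientGroup.mk' N')).map U.subtype with hN₂
  have hN₂lt : N < N₂ := by
    refine lt_of_le_of_ne (fun n hn => ⟨⟨n, hNU hn⟩, ?_, rfl⟩) fun e => ?_
    · show QuotientGroup.mk' N' ⟨n, hNU hn⟩ ∈ A
      rw [show QuotientGroup.mk' N' ⟨n, hNU hn⟩ = 1 from (QuotientGroup.eq_one_iff _).mpr hn]
      exact A.one_mem
    · obtain ⟨a, ha⟩ := exists_ne (1 : A)
      obtain ⟨u, hu⟩ := QuotientGroup.mk_surjective (a : U ⧸ N')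
      have : (u : S) ∈ N₂ := ⟨u, show QuotientGroup.mk' N' u ∈ A by
        rw [QuotientGroup.mk'_apply, hu]; exact a.2, rfl⟩
      rw [← e] at this
      exact ha (Subtype.ext (hu.symm.trans ((QuotientGroup.eq_one_iff u).mpr this)))
  have hcard : Nat.card U - Nat.card N₂ < k := by
    have h1 : Nat.card N < Nat.card N₂ := lt_of_not_ge fun hge =>
      hN₂lt.ne (Subgroup.eq_of_le_of_card_ge hN₂lt.le hge)
    have h2 : Nat.card N₂ ≤ Nat.card U := Subgroup.card_le_of_le (Subgroup.map_subtype_le _)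
    omega
  have hC₀ := ih _ hcard C (restrictRep ρ C hCinv) N₂ rfl (Subgroup.map_subtype_le _)
    (by
      rintro u hu _ ⟨v, hv, rfl⟩
      refine ⟨⟨u, hu⟩ * v * ⟨u, hu⟩⁻¹, ?_, rfl⟩
      exact Subgroup.Normal.conj_mem inferInstance v hv _)
    (by
      rintro e he _ ⟨v, hv, rfl⟩
      exact ⟨cj ⟨e, he⟩ v, hfA ⟨e, he⟩ _ hv, rfl⟩)
    (by
      intro n hn
      obtain ⟨v, hv, hvn⟩ := hn
      refine LinearMap.ext fun w => Subtype.ext ?_
      rw [restrictRep_apply, Module.End.one_apply]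
      have := (hCa w).mp w.2 ⟨_, hv⟩
      rwa [show n = Subgroup.inclusion le_sup_left v from Subtype.ext hvn.symm])
    (by
      refine (Submodule.eq_bot_iff _).mpr fun w hw => Subtype.ext ?_
      have : (w : W) ∈ fixM ρ (U.subgroupOf (U ⊔ E)) := fun a ha =>
        congrArg Subtype.val (hw a ha)
      rw [hfix] at this
      exact this)
  -- the part without fixed points
  let hEinv : ∀ g : E, ∀ w ∈ LinearMap.ker T, ρE g w ∈ LinearMap.ker T := fun g => hKinv _
  have hAinv : ∀ a : A, ∀ w ∈ LinearMap.ker T, ρA a w ∈ LinearMap.ker T := fun a => by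
    obtain ⟨u, hu⟩ := QuotientGroup.mk_surjective (a : U ⧸ N')
    intro w hw
    show ρQ (a : U ⧸ N') w ∈ _
    rw [← hu, hQU]
    exact hKinv _ w hw
  have hK := FreeModule.finrank_eq_mul α hfpf hpA (by rwa [← Nat.card_eq_fintype_card])
    (restrictRep ρA _ hAinv) (restrictRep ρE _ hEinv)
    (fun g a => LinearMap.ext fun w => Subtype.ext (by
      simpa [restrictRep_apply, Module.End.mul_apply] using LinearMap.congr_fun (hcompat g a) (w : W)))
    (LinearMap.ext fun w => Subtype.ext (by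
      have := LinearMap.mem_ker.mp w.2
      have h2 : (∑ a, ρA a) (w : W) = 0 := this
      rw [LinearMap.coe_sum, Finset.sum_apply] at h2
      rw [LinearMap.coe_sum, Finset.sum_apply, AddSubmonoidClass.coe_finset_sum]
      exact h2))
    (F.comap (LinearMap.ker T).subtype)
    (fun w => ⟨fun hw g => Subtype.ext (hw ⟨g, le_sup_right (a := U) g.2⟩
        (Subgroup.mem_subgroupOf.mpr g.2)),
      fun hw a ha => congrArg Subtype.val (hw ⟨a, Subgroup.mem_subgroupOf.mp ha⟩)⟩)
  rw [← Nat.card_eq_fintype_card] at hK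
  have e1 : finrank (ZMod p) ↥(fixM (restrictRep ρ C hCinv) (E.subgroupOf (U ⊔ E))) =
      finrank (ZMod p) ↥(F ⊓ C) := by
    have hh : fixM (restrictRep ρ C hCinv) (E.subgroupOf (U ⊔ E)) = (F ⊓ C).comap C.subtype :=
      Submodule.ext fun w => ⟨fun hw => ⟨fun a ha => congrArg Subtype.val (hw a ha), w.2⟩,
        fun hw a ha => Subtype.ext (hw.1 a ha)⟩
    rw [← LinearEquiv.finrank_eq (Submodule.comapSubtypeEquivOfLe (inf_le_right : F ⊓ C ≤ C)), hh]
  have e2 : finrank (ZMod p) ↥(F.comap (LinearMap.ker T).subtype) =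
      finrank (ZMod p) ↥(F ⊓ LinearMap.ker T) := by
    rw [← LinearEquiv.finrank_eq
      (Submodule.comapSubtypeEquivOfLe (inf_le_right : F ⊓ LinearMap.ker T ≤ LinearMap.ker T))]
    have hh : F.comap (LinearMap.ker T).subtype =
        (F ⊓ LinearMap.ker T).comap (LinearMap.ker T).subtype :=
      Submodule.ext fun w => ⟨fun hw => ⟨hw, w.2⟩, fun hw => hw.1⟩
    rw [hh]
  rw [e1] at hC₀
  rw [e2] at hK
  rw [hsplitW, hsplitF, hC₀, hK, mul_add]

open Classical in
/-- The formula for modules. -/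
theorem finrank_formula (h : Frob U E) (hE : ¬ p ∣ Nat.card E) (hU : ¬ p ∣ Nat.card U)
    (W : Type w) [AddCommGroup W] [Module (ZMod p) W] [FiniteDimensional (ZMod p) W]
    (ρ : ↥(U ⊔ E) →* Module.End (ZMod p) W) :
    Nat.card E * finrank (ZMod p) (fixM ρ ⊤) + finrank (ZMod p) W =
      Nat.card E * finrank (ZMod p) (fixM ρ (E.subgroupOf (U ⊔ E))) +
        finrank (ZMod p) (fixM ρ (U.subgroupOf (U ⊔ E))) := by
  have : Fintype U := Fintype.ofFinite _
  let ρU : U →* Module.End (ZMod p) W := ρ.comp (Subgroup.inclusion le_sup_left)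
  set T := ∑ u, ρU u with hT
  have hcS : ∀ s : ↥(U ⊔ E), ρ s * T = T * ρ s := by
    intro s
    have hn : ∀ u : U, (s : S) * u * (s : S)⁻¹ ∈ U := by
      have key : U ⊔ E ≤ Subgroup.normalizer (U : Set S) :=
        sup_le Subgroup.le_normalizer fun e he => Subgroup.mem_normalizer_iff.mpr fun u =>
          ⟨h.norm e he u, fun hu => by
            have := h.norm e⁻¹ (E.inv_mem he) _ hu
            simpa [mul_assoc] using this⟩
      exact fun u => (Subgroup.mem_normalizer_iff.mp (key s.2) u).mp u.2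
    let g : U → U := fun u => ⟨_, hn u⟩
    have hg : Function.Bijective g := Finite.injective_iff_bijective.mp fun u v huv =>
      Subtype.ext (mul_left_cancel (mul_right_cancel (congrArg Subtype.val huv)))
    rw [hT, Finset.mul_sum, Finset.sum_mul]
    refine Fintype.sum_bijective g hg _ _ fun u => ?_
    simp only [ρU, MonoidHom.comp_apply, ← map_mul]
    refine congrArg ρ (Subtype.ext ?_)
    simp [g]
  set C := fixM ρ (U.subgroupOf (U ⊔ E)) with hC
  have hCa : ∀ w, w ∈ C ↔ ∀ u, ρU u w = w := fun w =>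
    ⟨fun hw u => hw _ (Subgroup.mem_subgroupOf.mpr u.2),
      fun hw a ha => hw ⟨a, Subgroup.mem_subgroupOf.mp ha⟩⟩
  have hKinv : ∀ s : ↥(U ⊔ E), ∀ w ∈ LinearMap.ker T, ρ s w ∈ LinearMap.ker T := by
    intro s w hw
    have e := LinearMap.congr_fun (hcS s) w
    rw [Module.End.mul_apply, Module.End.mul_apply, LinearMap.mem_ker.mp hw, map_zero] at e
    exact LinearMap.mem_ker.mpr e.symm
  set F := fixM ρ (E.subgroupOf (U ⊔ E)) with hF
  have hpU : ¬ p ∣ Fintype.card U := by rwa [← Nat.card_eq_fintype_card]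
  have hsplitW := averaging_split ρU hpU C hCa ⊤ (fun _ _ => trivial)
  have hsplitF := averaging_split ρU hpU C hCa F (fun w hw a ha => by
    have := LinearMap.congr_fun (hcS a) w
    rw [Module.End.mul_apply, Module.End.mul_apply, hw a ha] at this
    exact this)
  rw [top_inf_eq, top_inf_eq, finrank_top] at hsplitW
  have htop : fixM ρ ⊤ = C ⊓ F := by
    have e : (⊤ : Subgroup ↥(U ⊔ E)) = U.subgroupOf (U ⊔ E) ⊔ E.subgroupOf (U ⊔ E) := by
      rw [← Subgroup.subgroupOf_sup le_sup_left le_sup_right, Subgroup.subgroupOf_self]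
    rw [e, fixM_sup]
  have hK := finrank_free h hE hU _ (LinearMap.ker T) (restrictRep ρ _ hKinv) ⊥ rfl bot_le
    (fun u _ n hn => by simp [Subgroup.mem_bot.mp hn]) (fun e _ n hn => by simp [Subgroup.mem_bot.mp hn])
    (fun n hn => by rw [show n = 1 from Subtype.ext (Subgroup.mem_bot.mp hn), map_one])
    (by
      refine (Submodule.eq_bot_iff _).mpr fun w hw => Subtype.ext ?_
      have hwC : ∀ u, ρU u (w : W) = w := fun u =>
        congrArg Subtype.val (hw (Subgroup.inclusion le_sup_left u) (Subgroup.mem_subgroupOf.mpr u.2))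
      have h1 : T (w : W) = 0 := w.2
      have h2 : T (w : W) = (Fintype.card U : ZMod p) • (w : W) := by
        simp only [hT, LinearMap.coe_sum, Finset.sum_apply, hwC, Finset.sum_const, Finset.card_univ]
        rw [← Nat.cast_smul_eq_nsmul (ZMod p)]
      rw [h2] at h1
      exact (smul_eq_zero.mp h1).resolve_left fun h' =>
        hpU ((CharP.cast_eq_zero_iff (ZMod p) p _).mp h'))
  have e2 : finrank (ZMod p) ↥(fixM (restrictRep ρ _ hKinv) (E.subgroupOf (U ⊔ E))) =
      finrank (ZMod p) ↥(F ⊓ LinearMap.ker T) := by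
    rw [← LinearEquiv.finrank_eq
      (Submodule.comapSubtypeEquivOfLe (inf_le_right : F ⊓ LinearMap.ker T ≤ LinearMap.ker T))]
    have hh : fixM (restrictRep ρ _ hKinv) (E.subgroupOf (U ⊔ E)) =
        (F ⊓ LinearMap.ker T).comap (LinearMap.ker T).subtype :=
      Submodule.ext fun w => ⟨fun hw => ⟨fun a ha => congrArg Subtype.val (hw a ha), w.2⟩,
        fun hw a ha => Subtype.ext (hw.1 a ha)⟩
    rw [hh]
  rw [e2] at hK
  rw [htop, inf_comm C F, hsplitW, hsplitF, hK]
  ring

section Groups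

/-- The fixed points of a subgroup in a group. -/
def fixG {H : Type*} [Group H] {T : Type*} [Group T] (φ : T →* MulAut H) (A : Subgroup T) :
    Subgroup H where
  carrier := {h | ∀ a ∈ A, φ a h = h}
  one_mem' := fun a _ => map_one _
  mul_mem' := fun {x y} hx hy a ha => by rw [map_mul, hx a ha, hy a ha]
  inv_mem' := fun {x} hx a ha => by rw [map_inv, hx a ha]

theorem mem_fixG {H : Type*} [Group H] {T : Type*} [Group T] {φ : T →* MulAut H} {A : Subgroup T}
    {x : H} : x ∈ fixG φ A ↔ ∀ a ∈ A, φ a x = x := Iff.rfl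

/-- The automorphisms induced on a characteristic subgroup. -/
def resAut {H : Type*} [Group H] {T : Type*} [Group T] (φ : T →* MulAut H) (N : Subgroup H)
    (hN : ∀ t, ∀ n ∈ N, φ t n ∈ N) : T →* MulAut N :=
  MonoidHom.mk' (fun t =>
    { toFun := fun n => ⟨φ t (n : H), hN t n n.2⟩
      invFun := fun n => ⟨φ t⁻¹ (n : H), hN t⁻¹ n n.2⟩
      left_inv := fun n => Subtype.ext (by simp)
      right_inv := fun n => Subtype.ext (by simp)
      map_mul' := fun a b => Subtype.ext (map_mul (φ t) (a : H) (b : H)) })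
    fun s t => MulEquiv.ext fun n => Subtype.ext (by simp)

/-- The automorphisms induced on a quotient. -/
def quoAut {H : Type*} [Group H] {T : Type*} [Group T] (φ : T →* MulAut H) (N : Subgroup H)
    [N.Normal] (hN : ∀ t, ∀ n ∈ N, φ t n ∈ N) : T →* MulAut (H ⧸ N) :=
  MonoidHom.mk' (fun t =>
    { toFun := QuotientGroup.map N N (φ t).toMonoidHom fun n hn => hN t n hn
      invFun := QuotientGroup.map N N (φ t⁻¹).toMonoidHom fun n hn => hN t⁻¹ n hn
      left_inv := fun x => by
        obtain ⟨n, rfl⟩ := QuotientGroup.mk_surjective x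
        simp
      right_inv := fun x => by
        obtain ⟨n, rfl⟩ := QuotientGroup.mk_surjective x
        simp
      map_mul' := fun a b => map_mul _ a b })
    fun s t => MulEquiv.ext fun x => by
      obtain ⟨n, rfl⟩ := QuotientGroup.mk_surjective x
      simp

theorem card_fixG_eq_mul {H : Type*} [Group H] [Finite H] {T : Type*} [Group T] [Finite T]
    (φ : T →* MulAut H) (N : Subgroup H) [N.Normal] (hN : ∀ t, ∀ n ∈ N, φ t n ∈ N)
    (hcomm : ∀ a ∈ N, ∀ b ∈ N, a * b = b * a) (hexp : ∀ a ∈ N, a ^ p = 1) (A : Subgroup T)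
    (hA : ¬ p ∣ Nat.card A) :
    Nat.card (fixG φ A) =
      Nat.card (fixG (resAut φ N hN) A) * Nat.card (fixG (quoAut φ N hN) A) := by
  classical
  have : Fintype A := Fintype.ofFinite _
  let f : fixG φ A →* H ⧸ N := (QuotientGroup.mk' N).comp (fixG φ A).subtype
  have hrange : f.range = fixG (quoAut φ N hN) A := by
    refine le_antisymm ?_ fun y hy => ?_
    · rintro _ ⟨x, rfl⟩ a ha
      show ((φ a (x : H) : H) : H ⧸ N) = _
      rw [x.2 a ha]
      rfl
    obtain ⟨x, rfl⟩ := QuotientGroup.mk_surjective y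
    have hc : ∀ a ∈ A, x⁻¹ * φ a x ∈ N := fun a ha =>
      QuotientGroup.eq.mp ((hy a ha).symm : (x : H ⧸ N) = ((φ a x : H) : H ⧸ N))
    letI : CommGroup N :=
      { (inferInstance : Group N) with mul_comm := fun a b => Subtype.ext (hcomm a a.2 b b.2) }
    let c : A → N := fun a => ⟨x⁻¹ * φ (a : T) x, hc a a.2⟩
    let ψ := resAut φ N hN
    have hcoc : ∀ a b : A, ψ (a : T) (c b) = (c a)⁻¹ * c (a * b) := fun a b => Subtype.ext (by
      show φ (a : T) (x⁻¹ * φ (b : T) x) = (x⁻¹ * φ (a : T) x)⁻¹ * (x⁻¹ * φ ((a * b : A) : T) x)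
      rw [map_mul, map_inv, Subgroup.coe_mul, map_mul φ, MulAut.mul_apply]
      group)
    set y := ∏ b, c b
    have hy' : ∀ a : A, ψ (a : T) y = ((c a) ^ Fintype.card A)⁻¹ * y := fun a => by
      rw [map_prod, Finset.prod_congr rfl fun b _ => hcoc a b, Finset.prod_mul_distrib,
        Finset.prod_const, Finset.card_univ, inv_pow]
      congr 1
      exact Fintype.prod_equiv (Equiv.mulLeft a) _ _ fun b => rfl
    obtain ⟨k, hk⟩ : ∃ k : ℕ, ∀ n : N, (n ^ Fintype.card A) ^ k = n := by
      have hcop : Nat.Coprime (Fintype.card A) p :=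
        ((Fact.out : p.Prime).coprime_iff_not_dvd.mpr (by rwa [← Nat.card_eq_fintype_card])).symm
      obtain ⟨k, -, hk⟩ := Nat.exists_mul_mod_eq_one_of_coprime hcop (Fact.out : p.Prime).one_lt
      refine ⟨k, fun n => ?_⟩
      have hn : n ^ p = 1 := Subtype.ext (by simpa using hexp n n.2)
      rw [← pow_mul, ← Nat.mod_add_div (Fintype.card A * k) p, hk, pow_add, pow_mul, hn, one_pow,
        pow_one, mul_one]
    refine ⟨⟨x * (y ^ k : N), fun a ha => ?_⟩, ?_⟩
    · have h1 : φ a ((y ^ k : N) : H) = (((c ⟨a, ha⟩)⁻¹ * y ^ k : N) : H) := by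
        show ((ψ a (y ^ k) : N) : H) = _
        rw [map_pow, hy' ⟨a, ha⟩, mul_pow, inv_pow, hk]
      rw [map_mul, h1, Subgroup.coe_mul, Subgroup.coe_inv]
      show φ a x * ((x⁻¹ * φ a x)⁻¹ * _) = _
      group
    · show ((x * (y ^ k : N) : H) : H ⧸ N) = (x : H ⧸ N)
      exact QuotientGroup.mk_mul_of_mem x (y ^ k : N).2
  have hker : Nat.card f.ker = Nat.card (fixG (resAut φ N hN) A) := by
    refine Nat.card_congr
      { toFun := fun x => ⟨⟨((x : fixG φ A) : H), (QuotientGroup.eq_one_iff _).mp x.2⟩,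
          fun a ha => Subtype.ext ((x : fixG φ A).2 a ha)⟩
        invFun := fun n => ⟨⟨((n : N) : H), fun a ha => congrArg Subtype.val (n.2 a ha)⟩,
          (QuotientGroup.eq_one_iff _).mpr (n : N).2⟩
        left_inv := fun x => rfl
        right_inv := fun n => rfl }
  rw [← hrange, ← hker, ← f.ker.card_mul_index, Subgroup.index_ker]

theorem card_formula_elementary (h : Frob U E) (hE : ¬ p ∣ Nat.card E) (hU : ¬ p ∣ Nat.card U)
    {V : Type w} [CommGroup V] [Finite V] (hexp : ∀ a : V, a ^ p = 1)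
    (φ : ↥(U ⊔ E) →* MulAut V) :
    Nat.card (fixG φ ⊤) ^ Nat.card E * Nat.card V =
      Nat.card (fixG φ (E.subgroupOf (U ⊔ E))) ^ Nat.card E *
        Nat.card (fixG φ (U.subgroupOf (U ⊔ E))) := by
  have : Module (ZMod p) (Additive V) := AddCommGroup.zmodModule fun x => by
    have := hexp (Additive.toMul x)
    exact congrArg Additive.ofMul this
  let ρ : ↥(U ⊔ E) →* Module.End (ZMod p) (Additive V) :=
    { toFun := fun s => AddMonoidHom.toZModLinearMap p (MonoidHom.toAdditive (φ s).toMonoidHom)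
      map_one' := by
        refine LinearMap.ext fun x => ?_
        simp
      map_mul' := fun s t => by
        refine LinearMap.ext fun x => ?_
        simp [Module.End.mul_apply] }
  have : FiniteDimensional (ZMod p) (Additive V) := Module.Finite.of_finite
  have hcard : ∀ A : Subgroup ↥(U ⊔ E),
      Nat.card (fixG φ A) = p ^ finrank (ZMod p) ↥(fixM ρ A) := fun A => by
    have e : Nat.card (fixG φ A) = Nat.card (fixM ρ A) := Nat.card_congr
      { toFun := fun x => (⟨Additive.ofMul (x : V), fun a ha => congrArg Additive.ofMul (x.2 a ha)⟩ : ↥(fixM ρ A))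
        invFun := fun x => ⟨Additive.toMul (x : Additive V), fun a ha =>
          congrArg Additive.toMul (show ρ a (x : Additive V) = x from x.2 a ha)⟩
        left_inv := fun x => rfl
        right_inv := fun x => rfl }
    rw [e, Module.natCard_eq_pow_finrank (K := ZMod p), Nat.card_zmod]
  have hV : Nat.card V = p ^ finrank (ZMod p) (Additive V) := by
    rw [show Nat.card V = Nat.card (Additive V) from Nat.card_congr Additive.ofMul,
      Module.natCard_eq_pow_finrank (K := ZMod p), Nat.card_zmod]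
  rw [hcard, hcard, hcard, hV, ← pow_mul, ← pow_mul, ← pow_add, ← pow_add]
  congr 1
  have := finrank_formula h hE hU (Additive V) ρ
  linarith

omit [Fact p.Prime] in
/-- The formula for solvable groups. -/
theorem card_formula (h : Frob U E) : ∀ (n : ℕ) (H : Type w) [Group H] [Finite H]
    (φ : ↥(U ⊔ E) →* MulAut H), Nat.card H = n → Group.IsSolvable H →
    Nat.Coprime (Nat.card H) (Nat.card ↥(U ⊔ E)) →
    Nat.card (fixG φ ⊤) ^ Nat.card E * Nat.card H =
      Nat.card (fixG φ (E.subgroupOf (U ⊔ E))) ^ Nat.card E *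
        Nat.card (fixG φ (U.subgroupOf (U ⊔ E))) := by
  intro n
  induction n using Nat.strong_induction_on with
  | _ n ih =>
  intro H _ _ φ hn hsol hcop
  rcases subsingleton_or_nontrivial H with hs | hnt
  · have h1 : ∀ K : Subgroup H, Nat.card K = 1 := fun K => Nat.card_unique
    rw [h1, h1, h1, Nat.card_unique (α := H)]
  -- a characteristic elementary abelian subgroup
  obtain ⟨m, hm⟩ := (Group.isSolvable_def H).mp hsol
  classical
  set j := Nat.find (p := fun m => derivedSeries H m = ⊥) ⟨m, hm⟩ with hj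
  have hj0 : j ≠ 0 := fun e => by
    have := Nat.find_spec (p := fun m => derivedSeries H m = ⊥) ⟨m, hm⟩
    rw [← hj, e, derivedSeries_zero] at this
    exact top_ne_bot this
  obtain ⟨i, hi⟩ := Nat.exists_eq_succ_of_ne_zero hj0
  set D := derivedSeries H i with hD
  have hDne : D ≠ ⊥ := Nat.find_min (p := fun m => derivedSeries H m = ⊥) ⟨m, hm⟩ (by omega)
  have hDc : ∀ a ∈ D, ∀ b ∈ D, a * b = b * a := by
    intro a ha b hb
    have hb' : ⁅D, D⁆ = ⊥ := by
      have := Nat.find_spec (p := fun m => derivedSeries H m = ⊥) ⟨m, hm⟩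
      rw [← hj, hi] at this
      rw [← this, derivedSeries_succ]
    have := Subgroup.commutator_mem_commutator ha hb
    rw [hb', Subgroup.mem_bot, commutatorElement_eq_one_iff_mul_comm] at this
    exact this
  have : Nontrivial D := (Subgroup.nontrivial_iff_ne_bot _).mpr hDne
  obtain ⟨q, hq, hqd⟩ := Nat.exists_prime_and_dvd (n := Nat.card D)
    (by have := Finite.one_lt_card (α := D); omega)
  have : Fact q.Prime := ⟨hq⟩
  let N : Subgroup H :=
    { carrier := {x | x ∈ D ∧ x ^ q = 1}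
      one_mem' := ⟨D.one_mem, one_pow q⟩
      mul_mem' := fun {a b} ha hb => ⟨D.mul_mem ha.1 hb.1, by
        rw [(show Commute a b from hDc a ha.1 b hb.1).mul_pow, ha.2, hb.2, one_mul]⟩
      inv_mem' := fun {a} ha => ⟨D.inv_mem ha.1, by rw [inv_pow, ha.2, inv_one]⟩ }
  have hchar : ∀ (σ : MulAut H), ∀ x ∈ N, σ x ∈ N := fun σ x hx => ⟨by
    have hmap := map_derivedSeries_le_derivedSeries σ.toMonoidHom i
    exact hmap ⟨x, hx.1, rfl⟩, by rw [← map_pow, hx.2, map_one]⟩
  have hNn : N.Normal := ⟨fun x hx g => hchar (MulAut.conj g) x hx⟩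
  have hN : ∀ t, ∀ x ∈ N, φ t x ∈ N := fun t => hchar (φ t)
  have hNne : N ≠ ⊥ := by
    obtain ⟨x, hx⟩ := exists_prime_orderOf_dvd_card' q hqd
    intro e
    have hxN : (x : H) ∈ N := ⟨x.2, by
      rw [← Subgroup.coe_pow, ← hx, pow_orderOf_eq_one, Subgroup.coe_one]⟩
    rw [e, Subgroup.mem_bot] at hxN
    rw [show x = 1 from Subtype.ext hxN, orderOf_one] at hx
    exact hq.one_lt.ne hx
  have hqH : q ∣ Nat.card H := hqd.trans (Subgroup.card_subgroup_dvd_card D)
  have hqS : ∀ A : Subgroup ↥(U ⊔ E), ¬ q ∣ Nat.card A := fun A hA =>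
    hq.one_lt.ne' (Nat.eq_one_of_dvd_coprimes hcop hqH
      (hA.trans (Subgroup.card_subgroup_dvd_card A)))
  have hqU : ¬ q ∣ Nat.card U := fun hd => hqS (U.subgroupOf (U ⊔ E)) (by
    rwa [Nat.card_congr (Subgroup.subgroupOfEquivOfLe le_sup_left).toEquiv])
  have hqE : ¬ q ∣ Nat.card E := fun hd => hqS (E.subgroupOf (U ⊔ E)) (by
    rwa [Nat.card_congr (Subgroup.subgroupOfEquivOfLe le_sup_right).toEquiv])
  let cN : CommGroup N :=
    { (inferInstance : Group N) with mul_comm := fun a b => Subtype.ext (hDc a a.2.1 b b.2.1) }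
  have hN1 := card_formula_elementary h hqE hqU (V := N)
    (fun a => Subtype.ext (by simpa using a.2.2)) (resAut φ N hN)
  have hlt : Nat.card (H ⧸ N) < n := by
    rw [← hn, Subgroup.card_eq_card_quotient_mul_card_subgroup N]
    have h2 : 1 < Nat.card N := N.one_lt_card_iff_ne_bot.mpr hNne
    exact lt_mul_of_one_lt_right Nat.card_pos h2
  have hQ := ih _ hlt (H ⧸ N) (quoAut φ N hN) rfl inferInstance
    (hcop.coprime_dvd_left (Subgroup.card_quotient_dvd_card N))
  have hmul := card_fixG_eq_mul φ N hN (fun a ha b hb => hDc a ha.1 b hb.1)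
    (fun a ha => ha.2)
  rw [hmul ⊤ (hqS _), hmul _ (hqS _), hmul _ (hqS _),
    Subgroup.card_eq_card_quotient_mul_card_subgroup N, mul_pow, mul_pow]
  calc _ = (Nat.card (fixG (resAut φ N hN) ⊤) ^ Nat.card E * Nat.card N) *
      (Nat.card (fixG (quoAut φ N hN) ⊤) ^ Nat.card E * Nat.card (H ⧸ N)) := by ring
    _ = _ := by rw [hN1, hQ]; ring

end Groups

end CfsgLib.OddChar.FrobFix

namespace CfsgLib.OddChar.FrobFix

universe v

variable {X : Type v} [Group X] [Finite X]

/-- The formula inside a group. -/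
theorem card_inf_centralizer_formula {U E H : Subgroup X} (h : Frob U E)
    (hHn : ∀ x ∈ U ⊔ E, ∀ a ∈ H, x * a * x⁻¹ ∈ H) (hsolv : Group.IsSolvable H)
    (hcop : Nat.Coprime (Nat.card H) (Nat.card ↥(U ⊔ E))) :
    Nat.card ↥(H ⊓ Subgroup.centralizer ((U ⊔ E : Subgroup X) : Set X)) ^ Nat.card E * Nat.card H =
      Nat.card ↥(H ⊓ Subgroup.centralizer (E : Set X)) ^ Nat.card E *
        Nat.card ↥(H ⊓ Subgroup.centralizer (U : Set X)) := by
  let φ : ↥(U ⊔ E) →* MulAut H := MonoidHom.mk' (fun s =>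
    { toFun := fun a => ⟨(s : X) * a * (s : X)⁻¹, hHn s s.2 a a.2⟩
      invFun := fun a => ⟨((s⁻¹ : ↥(U ⊔ E)) : X) * a * ((s⁻¹ : ↥(U ⊔ E)) : X)⁻¹, hHn _ (s⁻¹).2 a a.2⟩
      left_inv := fun a => Subtype.ext (by simp [mul_assoc])
      right_inv := fun a => Subtype.ext (by simp [mul_assoc])
      map_mul' := fun a b => Subtype.ext (by simp only [Subgroup.coe_mul]; group) })
    fun s t => MulEquiv.ext fun a => Subtype.ext (by
      show ((s * t : ↥(U ⊔ E)) : X) * a * ((s * t : ↥(U ⊔ E)) : X)⁻¹ =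
        (s : X) * ((t : X) * a * (t : X)⁻¹) * (s : X)⁻¹
      simp only [Subgroup.coe_mul]; group)
  have key : ∀ A : Subgroup X, A ≤ U ⊔ E →
      Nat.card (fixG φ (A.subgroupOf (U ⊔ E))) = Nat.card ↥(H ⊓ Subgroup.centralizer (A : Set X)) := by
    intro A hA
    exact Nat.card_congr
      { toFun := fun a => ⟨((a : H) : X), (a : H).2, Subgroup.mem_centralizer_iff.mpr fun b hb =>
          mul_inv_eq_iff_eq_mul.mp (congrArg Subtype.val
            (a.2 ⟨b, hA hb⟩ (Subgroup.mem_subgroupOf.mpr hb)))⟩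
        invFun := fun a => ⟨⟨(a : X), a.2.1⟩, fun b hb => Subtype.ext (mul_inv_eq_iff_eq_mul.mpr
          (Subgroup.mem_centralizer_iff.mp a.2.2 (b : X) (Subgroup.mem_subgroupOf.mp hb)))⟩
        left_inv := fun a => rfl
        right_inv := fun a => rfl }
  have := card_formula h _ H φ rfl hsolv hcop
  rwa [key E le_sup_right, key U le_sup_left,
    show (⊤ : Subgroup ↥(U ⊔ E)) = (U ⊔ E).subgroupOf (U ⊔ E) from (Subgroup.subgroupOf_self _).symm,
    key (U ⊔ E) le_rfl] at this

end CfsgLib.OddChar.FrobFix
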