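import Cfsg.Agent.Lib.OddChar.LocalProps
import Cfsg.Agent.Lib.OddLocal.S16Discharge
import Cfsg.Agent.Lib.OddLocal.Sec14Cover

/-!
# The local data of a pair of maximal subgroups that are not of type I

`exists_pair`: for a minimal simple group of odd order either every maximal subgroup is of type I
(read in `M_F`) or there is a pair `S, T` with type-P data sharing `W₁, W₂`, each side described by
`SideLocal`.  `props_of`: `TypeIProps.Props` from the centraliser property of the subgroups of type P.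
-/

set_option autoImplicit false
set_option linter.unusedSectionVars false

namespace CfsgLib.OddChar.PairLocal

open CfsgLib.OddLocal

universe u

/-- One member of the pair. -/
structure SideLocal {G : Type u} [Group G] (S W₁ U W₂ : Subgroup G) : Prop where
  max : IsCoatom S
  data : Cfsg.IsTypePWith S W₁ U W₂
  not_I : ¬ S15.IsTypeICore S
  core_sigma : Cfsg.typeCore S = Cfsg.sigmaCore S
  types : Cfsg.IsOfTypeII S ∨ Cfsg.IsOfTypeIII S ∨ Cfsg.IsOfTypeIV S ∨ Cfsg.IsOfTypeV S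
  cases :
    (Cfsg.IsOfTypeII S ∧ U ≠ ⊥ ∧ (Nat.card W₁).Prime ∧ Cfsg.IsTISubset (Cfsg.fittingOf S : Set G) ∧
      IsMulCommutative U ∧ ¬ Subgroup.normalizer (U : Set G) ≤ S ∧
      (∀ r : ℕ, r.Prime → Cfsg.PRankLE r 2 U) ∧ Cfsg.typeCore S = Cfsg.fittingHallOf S) ∨
    ((Cfsg.IsOfTypeIII S ∨ Cfsg.IsOfTypeIV S) ∧ U ≠ ⊥ ∧ (Nat.card W₁).Prime ∧
      Cfsg.IsTISubset (Cfsg.fittingOf S : Set G) ∧ Subgroup.normalizer (U : Set G) ≤ S ∧
      Cfsg.typeCore S = ⁅S, S⁆) ∨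
    (Cfsg.IsOfTypeV S ∧ U = ⊥)

theorem SideLocal.nu {G : Type u} [Group G] {S W₁ U W₂ : Subgroup G} (h : SideLocal S W₁ U W₂) :
    ¬ Subgroup.normalizer (U : Set G) ≤ S ∨ Cfsg.typeCore S = ⁅S, S⁆ := by
  rcases h.cases with h' | h' | ⟨-, hU⟩
  · exact Or.inl h'.2.2.2.2.2.1
  · exact Or.inr h'.2.2.2.2.2
  · refine Or.inl fun hle => h.max.1 (top_le_iff.1 ?_)
    rwa [hU, Subgroup.normalizer_eq_top] at hle

variable {G : Type u} [Group G] [Finite G] {M K U : Subgroup G}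

theorem rankLE_two_of_typeP (B : S15.S16Base G) (hM : IsCoatom M)
    (hKU : Cfsg.IsSigmaDecomposition M K U) {p : ℕ} (hp : p.Prime) : Cfsg.PRankLE p 2 U := by
  haveI := Fact.mk hp
  by_cases hd : p ∣ Nat.card U
  · exact CfsgLib.PGroup.pRankLE_of_injective
      (S15.rankLE_two_of_notMem_sigma B.h1350 B.h1405 hM hp (S15.U_primes B.h1350 hM hKU hp hd).1)
      (Subgroup.inclusion (S15.U_le B.h1350 hM hKU)) (Subgroup.inclusion_injective _)
  · refine CfsgLib.PGroup.pRankLE_iff.2 fun A hA => ?_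
    obtain ⟨n, hn⟩ := CfsgLib.PGroup.elemAb_card hA
    rcases Nat.eq_zero_or_pos n with rfl | hn0
    · rw [hn]; exact Nat.pow_le_pow_right hp.pos (by norm_num)
    · exact absurd ((hn ▸ dvd_pow_self p hn0.ne').trans A.card_subgroup_dvd_card) hd

/-- The data of one member, from a factorisation with `K ≠ 1`. -/
theorem exists_side (hG : Cfsg.IsMinSimpleOddOrder G) (B : S15.S16Base G) (hM : IsCoatom M)
    (hKU : Cfsg.IsSigmaDecomposition M K U) (hK1 : K ≠ ⊥) :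
    ∃ U' : Subgroup G,
      SideLocal M K U' (Cfsg.sigmaCore M ⊓ Subgroup.centralizer (K : Set G)) := by
  obtain ⟨U', hP, he⟩ := S15.typeP_data hG B hM hKU hK1
  refine ⟨U', hM, hP, fun h => hK1 ((S15.isTypeICore_iff hG B hM hKU).1 h),
    S15.typeCore_eq hG B hM, S15.typeP_type hG B hM hKU hK1, ?_⟩
  obtain ⟨-, hII, hIII, hV⟩ := S15.typeP_forms hG B hM hKU hP
  by_cases hU : U = ⊥
  · by_cases hF : Cfsg.fittingHallOf M = Cfsg.sigmaCore M
    · exact Or.inr (Or.inr ⟨S15.typeV_of hG B hM hKU hK1 hU hF, hV hU hF⟩)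
    · obtain ⟨-, -, -, hp, -⟩ := S15.fcore_structure hG B.h1445 B.h1446 B.h1350 B.h1351 B.h1352
        B.h1354 B.h1366 B.h1369 B.h1372 B.h1414 B.h1426 B.h1429 B.h1430 hM hKU hF
      have h34 := S15.typeIII_or_IV_of hG B hM hKU hF
      exact Or.inr (Or.inl ⟨h34, (hIII hU hF).1, hp, S15.fittingOf_TI_of_ne hG B.toNTBase hM hF,
        (hIII hU hF).2, if_pos h34⟩)
  · have hF := S15.fittingHallOf_eq_of_not_both hG B.toBase hM hKU hU
    obtain rfl := he hF
    obtain ⟨hp, hTI, -⟩ := B.h1372 M hM K U' hKU hK1 hU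
    exact Or.inl ⟨S15.typeII_of hG B hM hKU hK1 hU, hU, hp, hTI,
      S15.U_commutative hG B.h1350 B.h1430 hM hKU hK1, (hII hU).2,
      fun r hr => rankLE_two_of_typeP B hM hKU hr, (S15.typeCore_eq hG B hM).trans hF.symm⟩

/-- Either every maximal subgroup is of type I or there is a pair. -/
theorem exists_pair (hG : Cfsg.IsMinSimpleOddOrder G) :
    (∀ M : Subgroup G, IsCoatom M → S15.IsTypeICore M) ∨
      ∃ S T W₁ W₂ U V : Subgroup G, SideLocal S W₁ U W₂ ∧ SideLocal T W₂ V W₁ ∧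
        S ⊓ T = W₁ ⊔ W₂ ∧ (Cfsg.IsOfTypeII S ∨ Cfsg.IsOfTypeII T) ∧
        ∀ M : Subgroup G, IsCoatom M → S15.IsTypeICore M ∨
          ∃ g : G, M = S.map (MulAut.conj g).toMonoidHom ∨ M = T.map (MulAut.conj g).toMonoidHom := by
  have B := S15.s16Base hG
  by_cases h : ∀ M : Subgroup G, IsCoatom M → ∀ K U : Subgroup G,
      Cfsg.IsSigmaDecomposition M K U → K = ⊥
  · refine Or.inl fun M hM => ?_
    obtain ⟨K, U, hKU⟩ := S15.exists_decomposition B.h1350 hM B.h1351 B.h1352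
    exact S15.typeI_of_K_eq_bot hG B hM hKU (h M hM K U hKU)
  push Not at h
  obtain ⟨M, hM, K, U, hKU, hK1⟩ := h
  obtain ⟨Ms, ⟨hMs, hKst, hKstH⟩, -⟩ := B.h1366 M hM K U hKU hK1
  set Ks := Cfsg.sigmaCore M ⊓ Subgroup.centralizer (K : Set G) with hKs
  have hKs1 : Ks ≠ ⊥ := (B.h1354 M hM K hKU.cyclic hKU.hall).1
  obtain ⟨⟨Us, hKUs⟩, -⟩ := B.h1352 Ms hMs Ks ((B.h1351 Ms hMs).2 Ks hKstH) hKstH
  obtain ⟨hII, hclass⟩ := B.h1369 M hM K U hKU hK1 Ms hMs hKst hKstH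
  obtain ⟨U', hS⟩ := exists_side hG B hM hKU hK1
  obtain ⟨V', hT⟩ := exists_side hG B hMs hKUs hKs1
  rw [show Cfsg.sigmaCore Ms ⊓ Subgroup.centralizer (Ks : Set G) = K from hKst.symm] at hT
  refine Or.inr ⟨M, Ms, K, Ks, U', V', hS, hT, (B.h1368 M hM K U hKU hK1 Ms hMs hKst hKstH).1, ?_,
    fun H hH => ?_⟩
  · rcases hII with h | h
    · exact Or.inl (S15.typeII_of hG B hM hKU hK1 h)
    · exact Or.inr (S15.typeII_of hG B hMs hKUs hKs1 (h Us hKUs))
  · obtain ⟨K', U'', hKU'⟩ := S15.exists_decomposition B.h1350 hH B.h1351 B.h1352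
    by_cases hK' : K' = ⊥
    · exact Or.inl (S15.typeI_of_K_eq_bot hG B hH hKU' hK')
    · exact Or.inr (hclass H hH (S15.exists_kappa hKU' hK'))

/-- `M_s = M_σ`. -/
theorem core_eq (hG : Cfsg.IsMinSimpleOddOrder G) :
    ∀ M : Subgroup G, IsCoatom M → Cfsg.typeCore M = Cfsg.sigmaCore M :=
  fun _ hM => S15.typeCore_eq hG (S15.s16Base hG) hM

/-- The predecessors of S1540, given the centraliser property of type P. -/
theorem props_of (hG : Cfsg.IsMinSimpleOddOrder G) (hP : TypeIProps.PTypeCentProp G) :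
    TypeIProps.Props G :=
  LocalProps.props hG (S15.s16Base hG)
    (fun _ _ hM hN => (BG.pre'_of_minimal hG).tildeOf_disjoint hM hN) hP

end CfsgLib.OddChar.PairLocal
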