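import Cfsg.Agent.Lib.OddChar.Partition

/-!
# Suzuki's counting argument

`family_disjoint`, `family_parity`, `family_out`, `cover_sum`, `no_partition`.
-/

namespace CfsgLib.OddChar.Partition

open CfsgLib.Char CfsgLib.CharNormal CfsgLib.OddChar.Coh
open scoped ComplexConjugate

variable {G : Type*} [Group G] [Fintype G] {H₁ H₂ : Subgroup G}
  (D₁ : Family H₁) (D₂ : Family H₂) (hoff : ∀ x : G, Off H₁ x ∨ Off H₂ x)

include hoff

theorem off_sharp {x : G} (hx : x ∈ sharp H₂) : Off H₁ x := by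
  rcases hoff x with h | h
  · exact h
  · rcases h with h | h
    · exact absurd h (mem_sharp.mp hx).2
    · exact absurd (by simpa using (mem_sharp.mp hx).1) (h 1)

open Classical in
theorem family_disjoint {ω : Cfsg.IrrCharacter G} (hω : ω ∈ D₁.F) : ω ∉ D₂.F := by
  intro hω'
  obtain ⟨η, hη, hne⟩ : ∃ η ∈ D₁.F, η ≠ ω := by
    by_contra h
    push Not at h
    have := Finset.card_le_one.mpr fun a ha c hc => (h a ha).trans (h c hc).symm
    have := D₁.two_le_card
    omega
  obtain ⟨ξ, hξ, hne'⟩ : ∃ η ∈ D₂.F, η ≠ ω := by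
    by_contra h
    push Not at h
    have := Finset.card_le_one.mpr fun a ha c hc => (h a ha).trans (h c hc).symm
    have := D₂.two_le_card
    omega
  have hzero : Cfsg.classInner ((D₁.b η : ℂ) • (ω : G → ℂ) - (D₁.b ω : ℂ) • (η : G → ℂ))
      ((D₂.b ξ : ℂ) • (ω : G → ℂ) - (D₂.b ω : ℂ) • (ξ : G → ℂ)) = 0 := by
    rw [classInner_def, Finset.sum_eq_zero, mul_zero]
    intro x _
    rcases hoff x with h | h
    · simp [D₁.rel ω hω η hη x h]
    · simp [D₂.rel ω hω' ξ hξ x h]
  rw [classInner_sub_left, classInner_sub_right, classInner_sub_right, classInner_smul_left,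
    classInner_smul_left, classInner_smul_left, classInner_smul_left, classInner_smul_right,
    classInner_smul_right, classInner_smul_right, classInner_smul_right, classInner_irr_self ω.2,
    classInner_irr_ne ω.2 ξ.2 (fun e => hne' (Subtype.ext e.symm)),
    classInner_irr_ne η.2 ω.2 (fun e => hne (Subtype.ext e))] at hzero
  simp only [map_intCast] at hzero
  have hb := (Int.cast_ne_zero (α := ℂ)).mpr (D₁.b_ne ω hω)
  have hd := (Int.cast_ne_zero (α := ℂ)).mpr (D₂.b_ne ω hω')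
  have heq : η = ξ := by
    by_contra h
    rw [classInner_irr_ne η.2 ξ.2 (fun e => h (Subtype.ext e))] at hzero
    simp only [mul_one, mul_zero, sub_zero] at hzero
    rcases mul_eq_zero.mp hzero with h' | h'
    · exact D₁.b_ne η hη (by exact_mod_cast h')
    · exact D₂.b_ne ξ hξ (by exact_mod_cast h')
  subst heq
  rw [classInner_irr_self η.2] at hzero
  have r1 := D₁.rel ω hω η hη 1 (Or.inl rfl)
  have r2 := D₂.rel ω hω' η hξ 1 (Or.inl rfl)
  obtain ⟨u, hu, hu'⟩ := exists_degree_pos ω.2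
  obtain ⟨v, hv, hv'⟩ := exists_degree_pos η.2
  rw [hu', hv'] at r1 r2
  have hmul : (D₁.b ω : ℂ) * (D₂.b ω : ℂ) * ((v : ℂ) ^ 2 + (u : ℂ) ^ 2) = 0 := by
    linear_combination (u : ℂ) ^ 2 * hzero - ((D₁.b ω : ℂ) * (v : ℂ)) * r2 - ((D₂.b η : ℂ) * (u : ℂ)) * r1
  rcases mul_eq_zero.mp hmul with h | h
  · exact mul_ne_zero hb hd h
  · have : v ^ 2 + u ^ 2 = 0 := by exact_mod_cast h
    nlinarith

theorem g_eq_mul {η : Cfsg.IrrCharacter G} (hη : η ∈ D₁.F) (hH : (sharp H₂).Nonempty) :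
    D₂.g η = D₁.b η * D₂.g D₁.η₀ := by
  obtain ⟨x, hx⟩ := hH
  have h := D₁.rel η hη D₁.η₀ D₁.mem_η₀ x (off_sharp hoff hx)
  rw [D₂.const η (family_disjoint D₁ D₂ hoff hη) x hx,
    D₂.const D₁.η₀ (family_disjoint D₁ D₂ hoff D₁.mem_η₀) x hx, D₁.b_η₀, Int.cast_one, one_mul] at h
  exact_mod_cast h

omit hoff

theorem sharp_nonempty {H : Subgroup G} (D : Family H) : (sharp H).Nonempty := by
  obtain ⟨x, hx, -⟩ := D.nonconst D.η₀ D.mem_η₀
  exact ⟨x, hx⟩

theorem irrOne_notMem {H : Subgroup G} (D : Family H) : (irrOne : Cfsg.IrrCharacter G) ∉ D.F := by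
  intro h
  obtain ⟨x, -, y, -, hne⟩ := D.nonconst _ h
  exact hne (by rw [irrOne_apply, irrOne_apply])

/-- Off the family, conjugation keeps the value on the kernel. -/
theorem conj_notMem {H : Subgroup G} (D : Family H) {ω : Cfsg.IrrCharacter G} (h : ω ∉ D.F) :
    irrConj ω ∉ D.F ∧ D.g (irrConj ω) = D.g ω := by
  have hv : ∀ x ∈ sharp H, (irrConj ω : G → ℂ) x = (D.g ω : ℂ) := fun x hx => by
    rw [irrConj_apply, D.const ω h x hx, map_intCast]
  have hnot : irrConj ω ∉ D.F := fun h' => by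
    obtain ⟨x, hx, y, hy, hne⟩ := D.nonconst _ h'
    exact hne (by rw [hv x hx, hv y hy])
  obtain ⟨x, hx⟩ := sharp_nonempty D
  have := D.const _ hnot x hx
  rw [hv x hx] at this
  exact ⟨hnot, by exact_mod_cast this.symm⟩

include hoff

open Classical in
theorem family_parity (hodd : Odd (Nat.card G)) : D₂.g D₁.η₀ ≠ 0 ∨ D₁.g D₂.η₀ ≠ 0 := by
  by_contra hcon
  push Not at hcon
  have hoff' : ∀ x : G, Off H₂ x ∨ Off H₁ x := fun x => (hoff x).symm
  have hzero : ∑ ω : Cfsg.IrrCharacter G, D₁.g ω * D₂.g ω = 0 := by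
    have h := classInner_eq_sum (f' := D₂.Γ) (isClassFunction_of_isGen D₁.Γ_gen)
    simp only [D₁.g_spec, D₂.g_spec, map_intCast] at h
    rw [classInner_def, Finset.sum_eq_zero (fun x _ => by
      rcases hoff x with h' | h'
      · rw [D₁.Γ_off x h', zero_mul]
      · rw [D₂.Γ_off x h', map_zero, mul_zero]), mul_zero] at h
    exact_mod_cast h.symm
  set R : Finset (Cfsg.IrrCharacter G) := Finset.univ.filter fun ω => ω ∉ D₁.F ∧ ω ∉ D₂.F with hR
  have hsub : ∑ ω ∈ R, D₁.g ω * D₂.g ω = 0 := by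
    rw [hR]
    refine Eq.trans (Finset.sum_subset (Finset.filter_subset _ _) fun ω _ hω => ?_) hzero
    simp only [Finset.mem_filter, Finset.mem_univ, true_and, not_and_or, not_not] at hω
    rcases hω with h | h
    · rw [g_eq_mul D₁ D₂ hoff h (sharp_nonempty D₂), hcon.1, mul_zero, mul_zero]
    · rw [g_eq_mul D₂ D₁ hoff' h (sharp_nonempty D₁), hcon.2, mul_zero, zero_mul]
  have h1 : irrOne ∈ R := by simp [hR, irrOne_notMem]
  have h2 := congrArg (fun z : ℤ => (z : ZMod 2)) hsub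
  simp only [Int.cast_sum, Int.cast_mul, Int.cast_zero] at h2
  rw [← Finset.add_sum_erase _ _ h1, D₁.g_one, D₂.g_one] at h2
  rw [Finset.sum_involution (fun ω _ => irrConj ω)] at h2
  · simp at h2
  · intro ω hω
    obtain ⟨ha, hb⟩ := (Finset.mem_filter.mp (Finset.mem_of_mem_erase hω)).2
    rw [(conj_notMem D₁ ha).2, (conj_notMem D₂ hb).2]
    exact CharTwo.add_self_eq_zero _
  · intro ω hω _ e
    exact Finset.ne_of_mem_erase hω (irr_real_eq_one hodd e)
  · intro ω hω
    obtain ⟨ha, hb⟩ := (Finset.mem_filter.mp (Finset.mem_of_mem_erase hω)).2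
    refine Finset.mem_erase.mpr ⟨fun e => Finset.ne_of_mem_erase hω ?_, Finset.mem_filter.mpr
      ⟨Finset.mem_univ _, (conj_notMem D₁ ha).1, (conj_notMem D₂ hb).1⟩⟩
    have := congrArg irrConj e
    rw [irrConj_irrConj] at this
    rw [this]
    exact Subtype.ext (funext fun g => by simp [irrConj_apply, irrOne_apply])
  · intro ω _
    exact irrConj_irrConj ω

omit hoff

variable {ι : Type*} [Fintype ι] (L H : ι → Subgroup G) (D : ∀ i, Family (H i))

open Classical in
theorem family_out (hoff : ∀ i j, i ≠ j → ∀ x : G, Off (H i) x ∨ Off (H j) x) (i : ι) :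
    ∑ k ∈ Finset.univ.erase i, (D i).g (D k).η₀ ^ 2 * ((D k).m : ℤ) ≤ ((D i).e : ℤ) - 1 := by
  have hdis : ∀ k l, k ≠ l → Disjoint (D k).F (D l).F := fun k l h =>
    Finset.disjoint_left.mpr fun ω hω => family_disjoint (D k) (D l) (hoff k l h) hω
  have h1 : irrOne ∉ Finset.univ.biUnion fun k => (D k).F := by
    simp [irrOne_notMem]
  have hle := Finset.sum_le_sum_of_subset_of_nonneg
    (Finset.subset_univ (insert irrOne (Finset.univ.biUnion fun k => (D k).F)))
    (f := fun ω => (D i).g ω ^ 2) fun ω _ _ => sq_nonneg _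
  rw [Finset.sum_insert h1, (D i).g_one, Finset.sum_biUnion (fun k _ l _ h => hdis k l h),
    (D i).Γ_norm, ← Finset.add_sum_erase _ _ (Finset.mem_univ i)] at hle
  have hown : 1 ≤ ∑ ω ∈ (D i).F, (D i).g ω ^ 2 := by
    obtain ⟨ω, hω, hne⟩ := Finset.exists_ne_zero_of_sum_ne_zero
      (f := fun ω => (D i).g ω * (D i).b ω) (s := (D i).F) (fun h => by
        have := (D i).odd_gb; rw [h] at this; exact absurd this (by decide))
    refine le_trans ?_ (Finset.single_le_sum (f := fun ω => (D i).g ω ^ 2) (fun _ _ => sq_nonneg _) hω)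
    have : (D i).g ω ≠ 0 := left_ne_zero_of_mul hne
    have : 0 < (D i).g ω ^ 2 := by positivity
    omega
  have hk : ∀ k ∈ Finset.univ.erase i, ∑ ω ∈ (D k).F, (D i).g ω ^ 2 =
      (D i).g (D k).η₀ ^ 2 * ((D k).m : ℤ) := fun k hk => by
    rw [Finset.sum_congr rfl fun ω hω => by
      rw [g_eq_mul (D k) (D i) (hoff k i (Finset.ne_of_mem_erase hk)) hω (sharp_nonempty (D i)), mul_pow],
      ← Finset.sum_mul, (D k).sum_b, mul_comm]
  rw [Finset.sum_congr rfl hk] at hle
  linarith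

open Classical in
/-- Summing a class function over the conjugates of the kernels. -/
theorem cover_sum (hTI : ∀ i, ∀ g : G, g ∉ L i → ∀ t ∈ H i, g * t * g⁻¹ ∈ H i → t = 1)
    (hn : ∀ i, ∀ x ∈ L i, ∀ h ∈ H i, x * h * x⁻¹ ∈ H i)
    (hoff : ∀ i j, i ≠ j → ∀ x : G, Off (H i) x ∨ Off (H j) x)
    (hcover : ∀ x : G, x ≠ 1 → ∃ i, ∃ y : G, y * x * y⁻¹ ∈ H i)
    (Φ : G → ℝ) (hΦ : ∀ x y : G, Φ (y * x * y⁻¹) = Φ x) :
    ∑ x ∈ Finset.univ.erase 1, Φ x =
      ∑ i, (Nat.card G : ℝ) / (Nat.card (L i) : ℝ) * ∑ h ∈ sharp (H i), Φ h := by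
  have hfib : ∀ i, (Nat.card G : ℝ) * ∑ h ∈ sharp (H i), Φ h =
      ∑ x : G, Φ x * ((Finset.univ.filter fun y : G => y * x * y⁻¹ ∈ sharp (H i)).card : ℝ) := by
    intro i
    have h1 : ∀ y : G, ∑ h ∈ sharp (H i), Φ h = ∑ x : G, if y * x * y⁻¹ ∈ sharp (H i) then Φ x else 0 := by
      intro y
      rw [← Finset.sum_filter]
      refine (Finset.sum_bij (fun x _ => y * x * y⁻¹) (fun x hx => (Finset.mem_filter.mp hx).2)
        (fun a _ c _ e => by simpa using e)
        (fun h hh => ⟨y⁻¹ * h * y, by simp [mul_assoc, hh], by simp [mul_assoc]⟩)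
        fun x _ => (hΦ x y).symm).symm
    calc (Nat.card G : ℝ) * ∑ h ∈ sharp (H i), Φ h
        = ∑ y : G, ∑ h ∈ sharp (H i), Φ h := by
          rw [Finset.sum_const, Finset.card_univ, nsmul_eq_mul, Nat.card_eq_fintype_card]
      _ = _ := by
          rw [Finset.sum_congr rfl fun y _ => h1 y, Finset.sum_comm]
          exact Finset.sum_congr rfl fun x _ => by
            rw [Finset.sum_ite, Finset.sum_const_zero, add_zero, Finset.sum_const, nsmul_eq_mul, mul_comm]
  simp only [div_mul_eq_mul_div, hfib, Finset.sum_div]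
  rw [Finset.sum_comm, ← Finset.add_sum_erase _ (fun x => ∑ i, _) (Finset.mem_univ (1 : G))]
  simp only [mul_one, mul_inv_cancel, mem_sharp, ne_eq, not_true, and_false, Finset.filter_false,
    Finset.card_empty, Nat.cast_zero, mul_zero, zero_div, Finset.sum_const_zero, zero_add]
  refine Finset.sum_congr rfl fun x hx => ?_
  have hx1 : x ≠ 1 := Finset.ne_of_mem_erase hx
  obtain ⟨i, y, hy⟩ := hcover x hx1
  rw [Finset.sum_eq_single i]
  · have hset : (Finset.univ.filter fun z : G => z * x * z⁻¹ ∈ H i ∧ ¬ z * x * z⁻¹ = 1).card =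
        Nat.card (L i) := by
      rw [Nat.card_eq_fintype_card, Fintype.card_subtype]
      refine Finset.card_equiv (Equiv.mulRight y⁻¹) fun z => ?_
      simp only [Finset.mem_filter, Finset.mem_univ, true_and, Equiv.coe_mulRight]
      constructor
      · rintro ⟨hz, hz1⟩
        by_contra hL
        refine hx1 (conj_eq_one_iff.mp (hTI i _ hL (y * x * y⁻¹) hy ?_))
        simpa [mul_assoc] using hz
      · intro hz
        have := hn i _ hz _ hy
        refine ⟨by simpa [mul_assoc] using this, fun e => hx1 (conj_eq_one_iff.mp e)⟩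
    rw [hset, mul_div_assoc, div_self (Nat.cast_ne_zero.mpr Nat.card_pos.ne'), mul_one]
  · intro j _ hj
    rw [show (Finset.univ.filter fun z : G => z * x * z⁻¹ ∈ H j ∧ ¬ z * x * z⁻¹ = 1) = ∅ from
      Finset.filter_eq_empty_iff.mpr fun z _ hz => ?_, Finset.card_empty, Nat.cast_zero, mul_zero,
      zero_div]
    rcases hoff j i hj x with h | h
    · exact h.elim hx1 fun h => h z hz.1
    · exact h.elim hx1 fun h => h y hy
  · exact fun h => absurd (Finset.mem_univ i) h

open Classical in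
theorem no_partition (hodd : Odd (Nat.card G)) [Nonempty ι]
    (hcard : ∀ i, (D i).e * Nat.card (H i) = Nat.card (L i))
    (hne : ∀ i j, i ≠ j → Nat.card (H i) ≠ Nat.card (H j))
    (hTI : ∀ i, ∀ g : G, g ∉ L i → ∀ t ∈ H i, g * t * g⁻¹ ∈ H i → t = 1)
    (hn : ∀ i, ∀ x ∈ L i, ∀ h ∈ H i, x * h * x⁻¹ ∈ H i)
    (hoff : ∀ i j, i ≠ j → ∀ x : G, Off (H i) x ∨ Off (H j) x)
    (hcover : ∀ x : G, x ≠ 1 → ∃ i, ∃ y : G, y * x * y⁻¹ ∈ H i) : False := by
  obtain ⟨i, -, hmin⟩ := Finset.exists_min_image (Finset.univ : Finset ι) (fun k => Nat.card (H k))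
    Finset.univ_nonempty
  set Gc : ℝ := (Nat.card G : ℝ) with hGc
  have hG0 : 0 < Gc := by rw [hGc]; exact_mod_cast Nat.card_pos
  set h : ι → ℝ := fun k => (Nat.card (H k) : ℝ) with hh
  have hpos : ∀ k, 0 < h k := fun k => by simp only [hh]; exact_mod_cast Nat.card_pos
  have heq : ∀ k, h k = (D k).e * (D k).m + 1 := fun k => by
    simp only [hh]; rw [(D k).card_eq]; push_cast; ring
  have hLc : ∀ k, (Nat.card (L k) : ℝ) = (D k).e * h k := fun k => by
    simp only [hh]; exact_mod_cast (hcard k).symm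
  have hsharp : ∀ k, ((sharp (H k)).card : ℝ) = (D k).e * (D k).m := fun k => by
    have h1 : (sharp (H k)).card + 1 = Nat.card (H k) := by
      rw [Nat.card_eq_fintype_card, Fintype.card_subtype,
        show sharp (H k) = (Finset.univ.filter fun x => x ∈ H k).erase 1 by
          ext x; simp [mem_sharp, and_comm],
        Finset.card_erase_add_one (by simp)]
    rw [(D k).card_eq] at h1
    exact_mod_cast Nat.succ_injective h1
  have hepos : ∀ k, (0 : ℝ) < (D k).e := fun k => by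
    have := (D k).two_le_e
    exact_mod_cast (by omega : 0 < (D k).e)
  -- the whole group
  have htot : 1 - 1 / Gc = ∑ k, ((D k).m : ℝ) / h k := by
    have h1 := cover_sum L H hTI hn hoff hcover (fun _ => (1 : ℝ)) (fun _ _ => rfl)
    simp only [Finset.sum_const, nsmul_eq_mul, mul_one, Finset.card_erase_of_mem (Finset.mem_univ _),
      Finset.card_univ, ← Nat.card_eq_fintype_card, hsharp, hLc] at h1
    rw [Nat.cast_sub Nat.card_pos, Nat.cast_one, ← hGc] at h1
    have h2 : ∀ k, Gc / ((D k).e * h k) * ((D k).e * (D k).m) = Gc * ((D k).m / h k) := fun k => by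
      field_simp [(hepos k).ne', (hpos k).ne']
    rw [Finset.sum_congr rfl fun k _ => h2 k, ← Finset.mul_sum] at h1
    field_simp [hG0.ne']
    linarith
  -- the exceptional character of the smallest kernel
  obtain ⟨d, hd0, hd⟩ := exists_degree_pos (D i).η₀.2
  have hin : (d : ℝ) ^ 2 / Gc +
      ∑ k ∈ Finset.univ.erase i, ((D k).g (D i).η₀ : ℝ) ^ 2 * ((D k).m / h k) ≤
        ((D i).e : ℝ) / h i := by
    have hcl := isClassFunction_of_isIrr (D i).η₀.2
    have h1 := cover_sum L H hTI hn hoff hcover (fun x => ‖((D i).η₀ : G → ℂ) x‖ ^ 2)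
      (fun x y => by rw [hcl x y])
    have h0 := classInner_self_eq ((D i).η₀ : G → ℂ)
    rw [classInner_irr_self (D i).η₀.2] at h0
    have h0' : (1 : ℝ) = Gc⁻¹ * ∑ x : G, ‖((D i).η₀ : G → ℂ) x‖ ^ 2 := by exact_mod_cast h0
    rw [← Finset.add_sum_erase _ _ (Finset.mem_univ (1 : G)), h1, hd, Complex.norm_natCast, mul_add,
      Finset.mul_sum, ← Finset.add_sum_erase _ _ (Finset.mem_univ i)] at h0'
    have hk : ∀ k ∈ Finset.univ.erase i, Gc⁻¹ * ((Nat.card G : ℝ) / (Nat.card (L k) : ℝ) *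
        ∑ x ∈ sharp (H k), ‖((D i).η₀ : G → ℂ) x‖ ^ 2) =
        ((D k).g (D i).η₀ : ℝ) ^ 2 * ((D k).m / h k) := by
      intro k hk
      have hnot := family_disjoint (D i) (D k) (hoff i k (Finset.ne_of_mem_erase hk).symm) (D i).mem_η₀
      rw [Finset.sum_congr rfl fun x hx => by
        rw [(D k).const _ hnot x hx, Complex.norm_intCast, sq_abs], Finset.sum_const, nsmul_eq_mul,
        hsharp, hLc, ← hGc]
      field_simp [(hepos k).ne', (hpos k).ne', hG0.ne']
    rw [Finset.sum_congr rfl hk, hLc i, ← hGc] at h0'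
    have hbig := (D i).big
    push_cast at hbig
    rw [← heq i] at hbig
    have h2 : 1 - ((D i).e : ℝ) / h i ≤ Gc⁻¹ * (Gc / ((D i).e * h i) *
        ∑ x ∈ sharp (H i), ‖((D i).η₀ : G → ℂ) x‖ ^ 2) := by
      rw [← mul_assoc, inv_mul_eq_div, div_div_cancel_left' hG0.ne', inv_mul_eq_div,
        le_div_iff₀ (mul_pos (hepos i) (hpos i))]
      refine le_trans (le_of_eq ?_) hbig
      field_simp [(hpos i).ne']
    rw [inv_mul_eq_div] at h0'
    linarith
  have hout : ∑ k ∈ Finset.univ.erase i, ((D i).g (D k).η₀ : ℝ) ^ 2 * ((D k).m / h k) <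
      (((D i).e : ℝ) - 1) / h i := by
    have h1 := family_out H D hoff i
    have h1' : ∑ k ∈ Finset.univ.erase i, ((D i).g (D k).η₀ : ℝ) ^ 2 * ((D k).m : ℝ) ≤
        ((D i).e : ℝ) - 1 := by exact_mod_cast h1
    calc ∑ k ∈ Finset.univ.erase i, ((D i).g (D k).η₀ : ℝ) ^ 2 * ((D k).m / h k)
        ≤ ∑ k ∈ Finset.univ.erase i, ((D i).g (D k).η₀ : ℝ) ^ 2 * ((D k).m : ℝ) / (h i + 1) := by
          refine Finset.sum_le_sum fun k hk => ?_
          have hlt : Nat.card (H i) + 1 ≤ Nat.card (H k) :=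
            Nat.lt_of_le_of_ne (hmin k (Finset.mem_univ _)) (hne i k (Finset.ne_of_mem_erase hk).symm)
          have hlt' : h i + 1 ≤ h k := by simp only [hh]; exact_mod_cast hlt
          rw [← mul_div_assoc]
          exact div_le_div_of_nonneg_left (by positivity) (by linarith [hpos i]) hlt'
      _ = (∑ k ∈ Finset.univ.erase i, ((D i).g (D k).η₀ : ℝ) ^ 2 * ((D k).m : ℝ)) / (h i + 1) :=
          (Finset.sum_div _ _ _).symm
      _ ≤ (((D i).e : ℝ) - 1) / (h i + 1) :=
          div_le_div_of_nonneg_right h1' (by linarith [hpos i])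
      _ < _ := by
          refine div_lt_div_of_pos_left ?_ (hpos i) (by linarith)
          have : (2 : ℝ) ≤ (D i).e := by exact_mod_cast (D i).two_le_e
          linarith
  have hpair : ∀ k ∈ Finset.univ.erase i, ((D k).m : ℝ) / h k ≤
      ((D k).g (D i).η₀ : ℝ) ^ 2 * ((D k).m / h k) + ((D i).g (D k).η₀ : ℝ) ^ 2 * ((D k).m / h k) := by
    intro k hk
    have hp := family_parity (D i) (D k) (hoff i k (Finset.ne_of_mem_erase hk).symm) hodd
    have h1 : (1 : ℝ) ≤ ((D k).g (D i).η₀ : ℝ) ^ 2 + ((D i).g (D k).η₀ : ℝ) ^ 2 := by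
      have : (1 : ℤ) ≤ (D k).g (D i).η₀ ^ 2 + (D i).g (D k).η₀ ^ 2 := by
        have := sq_nonneg ((D k).g (D i).η₀)
        have := sq_nonneg ((D i).g (D k).η₀)
        rcases hp with h | h <;> have := sq_pos_of_ne_zero h <;> omega
      exact_mod_cast this
    rw [← add_mul]
    exact le_mul_of_one_le_left (div_nonneg (Nat.cast_nonneg _) (hpos k).le) h1
  have hall := Finset.sum_le_sum hpair
  rw [Finset.sum_add_distrib] at hall
  rw [← Finset.add_sum_erase _ _ (Finset.mem_univ i)] at htot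
  have hd2 : 1 / Gc ≤ (d : ℝ) ^ 2 / Gc := by
    refine div_le_div_of_nonneg_right ?_ hG0.le
    have : (1 : ℝ) ≤ d := by exact_mod_cast hd0
    nlinarith
  have hfin : ((D i).m : ℝ) / h i + ((D i).e : ℝ) / h i + (((D i).e : ℝ) - 1) / h i ≤ 1 := by
    rw [← add_div, ← add_div, div_le_one (hpos i), heq i]
    have h1 : (2 : ℝ) ≤ (D i).e := by exact_mod_cast (D i).two_le_e
    have h2 : (2 : ℝ) ≤ (D i).m := by exact_mod_cast (D i).two_le_m
    nlinarith [mul_nonneg (sub_nonneg.mpr h2) (show (0 : ℝ) ≤ (D i).e - 1 by linarith)]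
  linarith

end CfsgLib.OddChar.Partition
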