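import Cfsg.Agent.Lib.OddChar.PairConfig
import Cfsg.Agent.Lib.OddChar.PairLocal
import Cfsg.Agent.Lib.OddChar.PTypeCent
import Cfsg.Agent.Lib.OddChar.FinalField
import Cfsg.Agent.Lib.OddChar.Prime.SigmaRank
import Cfsg.Agent.S1526

/-!
# The pair data from the frozen hypotheses, and the conclusions of PF 12–14

Everything here assumes that no maximal subgroup is of Type V (`NoTypeV`).
-/

set_option autoImplicit false
set_option linter.unusedSectionVars false

namespace CfsgLib.OddChar.PairFinal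

open CfsgLib.OddLocal

universe u

/-- No maximal subgroup is of Type V. -/
def NoTypeV (G : Type u) [Group G] : Prop :=
  ∀ L : Subgroup G, IsCoatom L → ¬ Cfsg.IsOfTypeV L

variable {G : Type u} [Group G] [Finite G] {S T W₁ W₂ U V : Subgroup G}

/-- The hypotheses of S1543–S1549. -/
structure Hyp (S T W₁ W₂ U V : Subgroup G) : Prop where
  maxS : IsCoatom S
  maxT : IsCoatom T
  dataS : Cfsg.IsTypePWith S W₁ U W₂
  dataT : Cfsg.IsTypePWith T W₂ V W₁
  inter : S ⊓ T = W₁ ⊔ W₂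
  typesS : Cfsg.IsOfTypeII S ∨ Cfsg.IsOfTypeIII S ∨ Cfsg.IsOfTypeIV S ∨ Cfsg.IsOfTypeV S
  typesT : Cfsg.IsOfTypeII T ∨ Cfsg.IsOfTypeIII T ∨ Cfsg.IsOfTypeIV T ∨ Cfsg.IsOfTypeV T

theorem Hyp.symm (h : Hyp S T W₁ W₂ U V) : Hyp T S W₂ W₁ V U :=
  ⟨h.maxT, h.maxS, h.dataT, h.dataS, by rw [inf_comm, h.inter, sup_comm], h.typesT, h.typesS⟩

variable (hG : Cfsg.IsMinSimpleOddOrder G) (hV : NoTypeV G)
include hG

theorem props (hV : NoTypeV G) : TypeIProps.Props G :=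
  PTypeCent.props hG (Prime.sigmaRankProp_of hG hV)

/-- S1540. -/
theorem typeI_frob (hV : NoTypeV G) {M : Subgroup G} (hM : IsCoatom M) (hI : Cfsg.IsOfTypeI M) :
    ∀ x ∈ Cfsg.fittingHallOf M, x ≠ 1 →
      M ⊓ Subgroup.centralizer ({x} : Set G) ≤ Cfsg.fittingHallOf M := by
  haveI := Fintype.ofFinite G
  exact TypeIFrobenius.typeI_frobenius (props hG hV) M hM (S15.isTypeICore_of_isOfTypeI hI)

theorem noPartition : NotAllTypeI.NoPartitionProp G :=
  fun _ _ hι L H a b c d e f g => Cfsg.Agent.S1526.result hG.1 hι L H a b c d e f g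

/-- Some maximal subgroup is not of Type I, read in `M_F`. -/
theorem not_all_typeI (hV : NoTypeV G) :
    ∃ M : Subgroup G, IsCoatom M ∧ ¬ S15.IsTypeICore M := by
  haveI := Fintype.ofFinite G
  have B := S15.s16Base hG
  exact NotAllTypeI.not_all_typeI hG (TypeIFrobenius.typeI_frobenius (props hG hV))
    (LocalProps.tameAProp hG B) (LocalProps.sigmaPrimesProp B) (LocalProps.sigmaHallProp B)
    (LocalProps.sigmaTypeIProp hG B) (noPartition hG)

/-- Types II and III. -/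
theorem two_or_three (hV : NoTypeV G) {M : Subgroup G} (hM : IsCoatom M)
    (h : Cfsg.IsOfTypeII M ∨ Cfsg.IsOfTypeIII M ∨ Cfsg.IsOfTypeIV M ∨ Cfsg.IsOfTypeV M) :
    Cfsg.IsOfTypeII M ∨ Cfsg.IsOfTypeIII M := by
  rcases h with h | h | h | h
  · exact Or.inl h
  · exact Or.inr h
  · exact absurd h (Prime.not_IV (Prime.pre_of_minimal hG) hM)
  · exact absurd h (hV M hM)

theorem not_normalizer_le_of_II (hM : IsCoatom S) (hP : Cfsg.IsTypePWith S W₁ U W₂)
    (hII : Cfsg.IsOfTypeII S) : ¬ Subgroup.normalizer (U : Set G) ≤ S := by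
  obtain ⟨A, B, C, hP', -, -, -, -, hN, -⟩ := hII
  intro hle
  obtain ⟨g, hg, rfl⟩ := TypeSets.exists_conj_U (maximal_solvable hG hM) hP hP'
  refine hN fun x hx => ?_
  have h1 : g * x * g⁻¹ ∈
      Subgroup.normalizer ((B.map (MulAut.conj g).toMonoidHom : Subgroup G) : Set G) := by
    rw [← Subgroup.map_equiv_normalizer_eq B (MulAut.conj g)]
    exact ⟨x, hx, rfl⟩
  have h2 := mul_mem (mul_mem (inv_mem hg) (hle h1)) hg
  rwa [show g⁻¹ * (g * x * g⁻¹) * g = x by group] at h2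

variable {hG}

theorem side (hV : NoTypeV G) (h : Hyp S T W₁ W₂ U V) :
    Pair.Side S W₁ U W₂ (Nat.card W₁) (Nat.card W₂) :=
  Prime.side_of hG h.maxS h.dataS (two_or_three hG hV h.maxS h.typesS)
    (Prime.W₁_card_prime (maximal_solvable hG h.maxT) h.dataT
      ((two_or_three hG hV h.maxT h.typesT).imp_right Or.inl))

theorem nu (hV : NoTypeV G) (h : Hyp S T W₁ W₂ U V) :
    ¬ Subgroup.normalizer (U : Set G) ≤ S ∨ Cfsg.typeCore S = ⁅S, S⁆ := by
  rcases two_or_three hG hV h.maxS h.typesS with h' | h'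
  · exact Or.inl (not_normalizer_le_of_II hG h.maxS h.dataS h')
  · exact Or.inr (if_pos (Or.inl h'))

theorem II_lt (hV : NoTypeV G) (h : Hyp S T W₁ W₂ U V) (hlt : Nat.card W₁ < Nat.card W₂) :
    Cfsg.IsOfTypeII S := by
  refine (two_or_three hG hV h.maxS h.typesS).resolve_right fun h' => ?_
  obtain ⟨-, -, -, -, -, -, -, hlt'⟩ :=
    Prime.structure_34 (Prime.pre_of_minimal hG) h.maxS (Or.inl h') h.dataS
  omega

theorem not_typeI (h : Hyp S T W₁ W₂ U V) : ¬ S15.IsTypeICore S := by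
  obtain ⟨U₀, hKU, -⟩ := Prime.exists_decomposition_W₁ hG h.maxS h.dataS
  exact fun hI => h.dataS.W₁_ne ((S15.isTypeICore_iff hG (S15.s16Base hG) h.maxS hKU).1 hI)

theorem classes (h : Hyp S T W₁ W₂ U V) : ∀ M : Subgroup G, IsCoatom M → S15.IsTypeICore M ∨
    ∃ g : G, M = S.map (MulAut.conj g).toMonoidHom ∨ M = T.map (MulAut.conj g).toMonoidHom := by
  intro M hM
  have B := S15.s16Base hG
  obtain ⟨U₀, hKU, hW₂⟩ := Prime.exists_decomposition_W₁ hG h.maxS h.dataS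
  obtain ⟨V₀, hKV, hW₁⟩ := Prime.exists_decomposition_W₁ hG h.maxT h.dataT
  have hKst : W₁ = Cfsg.sigmaCore T ⊓ Subgroup.centralizer
      ((Cfsg.sigmaCore S ⊓ Subgroup.centralizer (W₁ : Set G) : Subgroup G) : Set G) := by
    rw [← hW₂]; exact hW₁
  have hKstH : Cfsg.IsPiHallOf (Cfsg.kappa T)
      (Cfsg.sigmaCore S ⊓ Subgroup.centralizer (W₁ : Set G)) T := by
    rw [← hW₂]; exact hKV.hall
  obtain ⟨-, hclass⟩ :=
    B.h1369 S h.maxS W₁ U₀ hKU h.dataS.W₁_ne T h.maxT hKst hKstH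
  obtain ⟨K', U', hKU'⟩ := S15.exists_decomposition B.h1350 hM B.h1351 B.h1352
  by_cases hK' : K' = ⊥
  · exact Or.inl (S15.typeI_of_K_eq_bot hG B hM hKU' hK')
  · exact Or.inr (hclass M hM (S15.exists_kappa hKU' hK'))

/-- The pair data. -/
theorem pairData (hV : NoTypeV G) (h : Hyp S T W₁ W₂ U V) :
    Pair.PairData S T W₁ W₂ U V (Nat.card W₁) (Nat.card W₂) where
  side_S := side (hG := hG) hV h
  side_T := side (hG := hG) hV h.symm
  inter := h.inter
  local_props := props hG hV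
  core_eq := PairLocal.core_eq hG
  not_I_S := not_typeI (hG := hG) h
  not_I_T := not_typeI (hG := hG) h.symm
  classes := classes (hG := hG) h
  nu_S := nu (hG := hG) hV h
  nu_T := nu (hG := hG) hV h.symm
  II_lt_S := fun hlt => not_normalizer_le_of_II hG h.maxS h.dataS (II_lt (hG := hG) hV h hlt)
  II_lt_T := fun hlt =>
    not_normalizer_le_of_II hG h.maxT h.dataT (II_lt (hG := hG) hV h.symm hlt)

/-- S1548. -/
theorem normalizer_W₁ (hV : NoTypeV G) (h : Hyp S T W₁ W₂ U V) :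
    Subgroup.normalizer (W₁ : Set G) = Subgroup.centralizer (W₁ : Set G) ∧
      Subgroup.centralizer (W₁ : Set G) = Cfsg.fittingHallOf T ⊔ W₂ := by
  haveI := Fintype.ofFinite G
  exact ⟨(pairData (hG := hG) hV h).normalizer_W₁, (pairData (hG := hG) hV h).centralizer_W₁⟩

/-- S1547. -/
theorem centU_eq_bot (hV : NoTypeV G) (h : Hyp S T W₁ W₂ U V) :
    U ⊓ Subgroup.centralizer ((Cfsg.fittingHallOf S : Subgroup G) : Set G) = ⊥ := by
  haveI := Fintype.ofFinite G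
  exact (pairData (hG := hG) hV h).centU_eq_bot

/-- S1549. -/
theorem over_normalizer (hV : NoTypeV G) (h : Hyp S T W₁ W₂ U V) (hII : Cfsg.IsOfTypeII S) {L : Subgroup G}
    (hL : IsCoatom L) (hNU : Subgroup.normalizer (U : Set G) ≤ L) :
    (∀ x ∈ Cfsg.fittingHallOf L, x ≠ 1 →
        L ⊓ Subgroup.centralizer ({x} : Set G) ≤ Cfsg.fittingHallOf L) ∧
      U ≤ Cfsg.fittingHallOf L ∧
      ((Cfsg.fittingHallOf L ⊓ W₁ = ⊥ ∧ Cfsg.fittingHallOf L ⊔ W₁ = L) ∨
        ∃ y ∈ Cfsg.fittingHallOf T,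
          Cfsg.fittingHallOf L ⊓ (W₁ ⊔ W₂.map (MulAut.conj y).toMonoidHom) = ⊥ ∧
          Cfsg.fittingHallOf L ⊔ (W₁ ⊔ W₂.map (MulAut.conj y).toMonoidHom) = L) := by
  haveI := Fintype.ofFinite G
  have hd := pairData (hG := hG) hV h
  have hnu := not_normalizer_le_of_II hG h.maxS h.dataS hII
  refine ⟨hd.over_frob hnu hL hNU, hd.over_U_le hnu hL hNU, ?_⟩
  obtain ⟨E, hE, hEc⟩ := hd.over_complement hnu hL hNU
  have hsup : Cfsg.fittingHallOf L ⊔ E = L := by
    refine le_antisymm (sup_le hE.1 hE.2.1) fun l hl => ?_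
    obtain ⟨a, ha, b, hb, rfl⟩ := hE.2.2.2 l hl
    exact mul_mem (Subgroup.mem_sup_left ha) (Subgroup.mem_sup_right hb)
  rcases hEc with rfl | ⟨y, hy, rfl⟩
  · exact Or.inl ⟨hE.2.2.1, hsup⟩
  · exact Or.inr ⟨y, hy, hE.2.2.1, hsup⟩

/-- S1544 without the field coordinates. -/
theorem config (hV : NoTypeV G) (h : Hyp S T W₁ W₂ U V) (hlt : Nat.card W₁ < Nat.card W₂) :
    (Nat.card W₁).Prime ∧ (Nat.card W₂).Prime ∧
      Cfsg.IsElementaryAbelian (Nat.card W₂) (Cfsg.fittingHallOf S) ∧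
      Nat.card (Cfsg.fittingHallOf S) = Nat.card W₂ ^ Nat.card W₁ ∧ IsCyclic U ∧
      IsMulCommutative U ∧
      Nat.card U * (Nat.card W₂ - 1) = Nat.card W₂ ^ Nat.card W₁ - 1 ∧
      (∀ u ∈ U, u ≠ 1 → ∀ x ∈ Cfsg.fittingHallOf S, u * x = x * u → x = 1) ∧
      Nat.Coprime ((Nat.card W₂ ^ Nat.card W₁ - 1) / (Nat.card W₂ - 1)) (Nat.card W₂ - 1) ∧
      U ≤ Subgroup.normalizer (Cfsg.fittingHallOf S : Set G) ∧
      W₂ ≤ Cfsg.fittingHallOf S ∧
      (Nat.card (Cfsg.fittingHallOf T)).Coprime (Nat.card W₂) ∧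
      Cfsg.IsElementaryAbelian (Nat.card W₁) (Cfsg.fittingHallOf T) ∧
      IsMulCommutative (Cfsg.fittingHallOf T) ∧
      W₂ ≤ Subgroup.normalizer (Cfsg.fittingHallOf T : Set G) ∧
      ∃ y ∈ Cfsg.fittingHallOf T,
        W₂.map (MulAut.conj y).toMonoidHom ≤ Subgroup.normalizer (U : Set G) := by
  haveI := Fintype.ofFinite G
  have hd := pairData (hG := hG) hV h
  have hS := hd.side_S
  have hT := hd.side_T
  obtain ⟨hcyc, hcard, hcop, y, hy, hyU⟩ := hd.config hlt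
  refine ⟨hS.q_prime, hS.p_prime, hS.P_elem, hS.P_card, hcyc, hS.U_comm, hcard,
    fun u hu hu1 x hx => hd.fpf_elem hu hu1 hx, hcop, hS.U_le.trans hS.normalizer_P, hS.W₂_le_P,
    ?_, hT.P_elem, ⟨⟨fun a b => Subtype.ext (hT.P_comm a.2 b.2)⟩⟩, hT.W₁_le.trans hT.normalizer_P,
    y, hy, hyU⟩
  rw [hT.P_card]
  exact Nat.Coprime.pow_left _ ((Nat.coprime_primes hS.q_prime hS.p_prime).2 hlt.ne)

variable (hG)

/-- No minimal simple group of odd order exists without a maximal subgroup of Type V. -/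
theorem absurd_of_noTypeV (hV : NoTypeV G) : False := by
  rcases PairLocal.exists_pair hG with hall | ⟨S, T, W₁, W₂, U, V, hS, hT, hST, -, -⟩
  · obtain ⟨M, hM, hnI⟩ := not_all_typeI hG hV
    exact hnI (hall M hM)
  · have key : ∀ {S T W₁ W₂ U V : Subgroup G}, Hyp S T W₁ W₂ U V →
        Nat.card W₁ < Nat.card W₂ → False := by
      intro S T W₁ W₂ U V h hlt
      obtain ⟨hq, hp, hel, hc, -, hUc, hU, hfpf, hA, hUn, hW₂, hcop, -, hTc, hN, y, hy, hyU⟩ :=
        config (hG := hG) hV h hlt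
      exact absurd (FinalField.le_of_config hp hq _ U W₂ _ hel hc hUn hUc hU hfpf hW₂ rfl hTc
        hcop hN y hy hyU hA) hlt.not_ge
    have h : Hyp S T W₁ W₂ U V := ⟨hS.max, hT.max, hS.data, hT.data, hST, hS.types, hT.types⟩
    rcases lt_trichotomy (Nat.card W₁) (Nat.card W₂) with hlt | heq | hlt
    · exact key h hlt
    · exact (side (hG := hG) hV h).q_ne_p heq
    · exact key h.symm hlt

end CfsgLib.OddChar.PairFinal
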