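import Cfsg.Agent.Lib.Char.Linear
import Cfsg.Agent.Lib.Char.TI
import Cfsg.Prelude.Def_OddOrderChar
import Cfsg.Prelude.Def_OddOrderLocal

/-!
# Cyclic self-normalising subgroups `W = W₁ × W₂`

* `lin`, `classInner_lin`, `sum_lin`: linear characters as functions;
* `hom_ext_of_sup`: homomorphisms on `W₁ ⊔ W₂`;
* `prod`: the function `(1 - φ)(1 - ψ)`;
* `ti_of_selfNormalizing`: `W \ (W₁ ∪ W₂)` is a TI-set.
-/

namespace CfsgLib.OddChar.CTI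

open CfsgLib.Char
open scoped ComplexConjugate

section Lin

variable {W : Type*} [Group W] [Fintype W]

/-- A linear character as a function. -/
def lin (ω : W →* ℂˣ) : W → ℂ := fun w => (ω w : ℂ)

omit [Fintype W] in
theorem lin_apply (ω : W →* ℂˣ) (w : W) : lin ω w = (ω w : ℂ) := rfl

omit [Fintype W] in
theorem lin_injective : Function.Injective (lin : (W →* ℂˣ) → W → ℂ) := fun _ _ h =>
  MonoidHom.ext fun w => Units.ext (congrFun h w)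

open Classical in
theorem classInner_lin (ω ω' : W →* ℂˣ) :
    Cfsg.classInner (lin ω) (lin ω') = if ω = ω' then 1 else 0 := by
  split_ifs with h
  · subst h; exact classInner_irr_self (isIrrCharacter_units_hom ω)
  · exact classInner_irr_ne (isIrrCharacter_units_hom ω) (isIrrCharacter_units_hom ω')
      fun e => h (lin_injective e)

/-- For an abelian group the irreducible characters are the linear characters. -/
noncomputable def irrEquiv (hcomm : ∀ a b : W, a * b = b * a) :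
    (W →* ℂˣ) ≃ Cfsg.IrrCharacter W :=
  Equiv.ofBijective (fun ω => ⟨lin ω, isIrrCharacter_units_hom ω⟩)
    ⟨fun _ _ h => lin_injective (congrArg Subtype.val h), fun χ =>
      ⟨linearHom (isCharacter_of_isIrr χ.2) (irr_one_eq_one_of_comm hcomm χ.2),
        Subtype.ext (funext fun _ => rfl)⟩⟩

open Classical in
theorem sum_lin (hcomm : ∀ a b : W, a * b = b * a) [Fintype (W →* ℂˣ)] (x : W) :
    ∑ ω : W →* ℂˣ, lin ω x = if x = 1 then (Nat.card W : ℂ) else 0 := by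
  rw [← sum_degree_mul_apply x, ← (irrEquiv hcomm).sum_comp]
  refine Finset.sum_congr rfl fun ω _ => ?_
  rw [show ((irrEquiv hcomm ω : Cfsg.IrrCharacter W) : W → ℂ) = lin ω from rfl]; simp [lin]

omit [Fintype W] in
theorem finite_hom [Finite W] (hcomm : ∀ a b : W, a * b = b * a) : Finite (W →* ℂˣ) := by
  have := Fintype.ofFinite W
  exact Finite.of_equiv _ (irrEquiv hcomm).symm

end Lin

variable {G : Type*} [Group G] {W₁ W₂ : Subgroup G}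

/-- The function `(1 - φ)(1 - ψ)`. -/
def prod (φ ψ : ↥(W₁ ⊔ W₂) →* ℂˣ) : ↥(W₁ ⊔ W₂) → ℂ :=
  fun w => 1 - (φ w : ℂ) - (ψ w : ℂ) + (φ w : ℂ) * (ψ w : ℂ)

theorem prod_eq (φ ψ : ↥(W₁ ⊔ W₂) →* ℂˣ) :
    prod φ ψ = lin 1 - lin φ - lin ψ + lin (φ * ψ) := by
  funext w; simp [prod, lin]

theorem prod_eq_zero {φ ψ : ↥(W₁ ⊔ W₂) →* ℂˣ}
    (hφ : ∀ w : ↥(W₁ ⊔ W₂), (w : G) ∈ W₂ → φ w = 1)
    (hψ : ∀ w : ↥(W₁ ⊔ W₂), (w : G) ∈ W₁ → ψ w = 1) {w : ↥(W₁ ⊔ W₂)}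
    (hw : (w : G) ∈ W₁ ∨ (w : G) ∈ W₂) : prod φ ψ w = 0 := by
  rcases hw with hw | hw
  · simp [prod, hψ w hw]
  · simp [prod, hφ w hw]

theorem hom_mul_one {M : Type*} [Monoid M] (α : M →* ℂˣ) : α * 1 = α := by ext w; simp

theorem hom_one_mul {M : Type*} [Monoid M] (α : M →* ℂˣ) : 1 * α = α := by ext w; simp

theorem hom_eq_one {M : Type*} [Monoid M] {ω : ↥(W₁ ⊔ W₂) →* M}
    (h₁ : ∀ w : ↥(W₁ ⊔ W₂), (w : G) ∈ W₁ → ω w = 1)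
    (h₂ : ∀ w : ↥(W₁ ⊔ W₂), (w : G) ∈ W₂ → ω w = 1) : ω = 1 := by
  suffices ω.ker = ⊤ from MonoidHom.ext fun w => MonoidHom.mem_ker.mp (this ▸ Subgroup.mem_top w)
  have hle : W₁ ⊔ W₂ ≤ ω.ker.map (W₁ ⊔ W₂).subtype :=
    sup_le (fun a ha => ⟨⟨a, le_sup_left (a := W₁) ha⟩, h₁ _ ha, rfl⟩)
      (fun a ha => ⟨⟨a, le_sup_right (b := W₂) ha⟩, h₂ _ ha, rfl⟩)
  rw [eq_top_iff]
  intro w _
  obtain ⟨v, hv, he⟩ := hle w.2
  rwa [Subtype.ext he] at hv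

theorem hom_ext_of_sup {φ φ' ψ ψ' : ↥(W₁ ⊔ W₂) →* ℂˣ}
    (hφ : ∀ w : ↥(W₁ ⊔ W₂), (w : G) ∈ W₂ → φ w = 1)
    (hφ' : ∀ w : ↥(W₁ ⊔ W₂), (w : G) ∈ W₂ → φ' w = 1)
    (hψ : ∀ w : ↥(W₁ ⊔ W₂), (w : G) ∈ W₁ → ψ w = 1)
    (hψ' : ∀ w : ↥(W₁ ⊔ W₂), (w : G) ∈ W₁ → ψ' w = 1) (h : φ * ψ = φ' * ψ') :
    φ = φ' ∧ ψ = ψ' := by
  have h1 : φ⁻¹ * φ' = 1 := by
    refine hom_eq_one (fun w hw => ?_) (fun w hw => by simp [hφ w hw, hφ' w hw])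
    have := DFunLike.congr_fun h w
    simp only [MonoidHom.mul_apply, hψ w hw, hψ' w hw, mul_one] at this
    simp [this]
  have hφφ : φ = φ' := inv_mul_eq_one.mp h1
  exact ⟨hφφ, by subst hφφ; exact mul_left_cancel h⟩

theorem eq_one_of_eq {φ ψ : ↥(W₁ ⊔ W₂) →* ℂˣ}
    (hφ : ∀ w : ↥(W₁ ⊔ W₂), (w : G) ∈ W₂ → φ w = 1)
    (hψ : ∀ w : ↥(W₁ ⊔ W₂), (w : G) ∈ W₁ → ψ w = 1) (h : φ = ψ) : φ = 1 := by
  have := hom_ext_of_sup (φ := φ) (φ' := 1) (ψ := 1) (ψ' := ψ) hφ (fun _ _ => rfl) (fun _ _ => rfl)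
    hψ (by ext w; simp [h])
  exact this.1

section Inner

variable [Fintype ↥(W₁ ⊔ W₂)]

open Classical in
theorem classInner_prod_lin {φ ψ φ' ψ' : ↥(W₁ ⊔ W₂) →* ℂˣ}
    (hφ : ∀ w : ↥(W₁ ⊔ W₂), (w : G) ∈ W₂ → φ w = 1)
    (hψ : ∀ w : ↥(W₁ ⊔ W₂), (w : G) ∈ W₁ → ψ w = 1)
    (hφ' : ∀ w : ↥(W₁ ⊔ W₂), (w : G) ∈ W₂ → φ' w = 1)
    (hψ' : ∀ w : ↥(W₁ ⊔ W₂), (w : G) ∈ W₁ → ψ' w = 1) :
    Cfsg.classInner (prod φ ψ) (lin (φ' * ψ')) =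
      (if φ' = 1 ∧ ψ' = 1 then 1 else 0) - (if φ' = φ ∧ ψ' = 1 then 1 else 0)
        - (if φ' = 1 ∧ ψ' = ψ then 1 else 0) + (if φ' = φ ∧ ψ' = ψ then 1 else 0) := by
  have one₂ : ∀ w : ↥(W₁ ⊔ W₂), (w : G) ∈ W₂ → (1 : ↥(W₁ ⊔ W₂) →* ℂˣ) w = 1 := fun _ _ => rfl
  have one₁ : ∀ w : ↥(W₁ ⊔ W₂), (w : G) ∈ W₁ → (1 : ↥(W₁ ⊔ W₂) →* ℂˣ) w = 1 := fun _ _ => rfl
  have key : ∀ α β : ↥(W₁ ⊔ W₂) →* ℂˣ, (∀ w : ↥(W₁ ⊔ W₂), (w : G) ∈ W₂ → α w = 1) →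
      (∀ w : ↥(W₁ ⊔ W₂), (w : G) ∈ W₁ → β w = 1) →
      Cfsg.classInner (lin (α * β)) (lin (φ' * ψ')) = if φ' = α ∧ ψ' = β then 1 else 0 := by
    intro α β ha hb
    rw [classInner_lin]
    refine if_congr ⟨fun h => ?_, fun h => by rw [h.1, h.2]⟩ rfl rfl
    obtain ⟨e1, e2⟩ := hom_ext_of_sup ha hφ' hb hψ' h
    exact ⟨e1.symm, e2.symm⟩
  rw [prod_eq, classInner_add_left, classInner_sub_left, classInner_sub_left,
    ← key 1 1 one₂ one₁, ← key φ 1 hφ one₁, ← key 1 ψ one₂ hψ, ← key φ ψ hφ hψ]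
  simp only [hom_one_mul, hom_mul_one]

open Classical in
theorem classInner_prod_prod {φ ψ φ' ψ' : ↥(W₁ ⊔ W₂) →* ℂˣ}
    (hφ : ∀ w : ↥(W₁ ⊔ W₂), (w : G) ∈ W₂ → φ w = 1)
    (hψ : ∀ w : ↥(W₁ ⊔ W₂), (w : G) ∈ W₁ → ψ w = 1)
    (hφ' : ∀ w : ↥(W₁ ⊔ W₂), (w : G) ∈ W₂ → φ' w = 1)
    (hψ' : ∀ w : ↥(W₁ ⊔ W₂), (w : G) ∈ W₁ → ψ' w = 1)
    (h1 : φ ≠ 1) (h2 : ψ ≠ 1) (h1' : φ' ≠ 1) (h2' : ψ' ≠ 1) :
    Cfsg.classInner (prod φ ψ) (prod φ' ψ') =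
      1 + (if φ = φ' then 1 else 0) + (if ψ = ψ' then 1 else 0) +
        (if φ = φ' then 1 else 0) * (if ψ = ψ' then 1 else 0) := by
  have one₂ : ∀ w : ↥(W₁ ⊔ W₂), (w : G) ∈ W₂ → (1 : ↥(W₁ ⊔ W₂) →* ℂˣ) w = 1 := fun _ _ => rfl
  have one₁ : ∀ w : ↥(W₁ ⊔ W₂), (w : G) ∈ W₁ → (1 : ↥(W₁ ⊔ W₂) →* ℂˣ) w = 1 := fun _ _ => rfl
  have a := classInner_prod_lin hφ hψ one₂ one₁
  have b := classInner_prod_lin hφ hψ hφ' one₁
  have c := classInner_prod_lin hφ hψ one₂ hψ'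
  have d := classInner_prod_lin hφ hψ hφ' hψ'
  simp only [hom_one_mul, hom_mul_one] at a b c
  rw [prod_eq φ' ψ', classInner_add_right, classInner_sub_right, classInner_sub_right, a, b, c, d]
  simp only [eq_comm (a := φ') (b := φ), eq_comm (a := ψ') (b := ψ), Ne.symm h1, Ne.symm h2, h1',
    h2']
  by_cases e1 : φ = φ' <;> by_cases e2 : ψ = ψ' <;> simp [e1, e2]

end Inner

theorem card_hom {A : Type*} [Group A] [Finite A] (hcomm : ∀ a b : A, a * b = b * a) :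
    Nat.card (A →* ℂˣ) = Nat.card A := by
  classical
  have := Fintype.ofFinite A
  rw [Nat.card_congr (irrEquiv hcomm), card_irr_eq_card_conjClasses]
  refine (Nat.card_eq_of_bijective ConjClasses.mk ⟨fun a b h => ?_, ConjClasses.mk_surjective⟩).symm
  obtain ⟨c, hc⟩ := isConj_iff.mp (ConjClasses.mk_eq_mk_iff_isConj.mp h)
  rw [← hc, hcomm c a, mul_inv_cancel_right]

theorem exists_mul_of_mem (hcomm : ∀ a ∈ W₁, ∀ b ∈ W₂, a * b = b * a) {x : G}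
    (hx : x ∈ W₁ ⊔ W₂) : ∃ a ∈ W₁, ∃ b ∈ W₂, x = a * b := by
  rw [Subgroup.sup_eq_closure] at hx
  induction hx using Subgroup.closure_induction with
  | mem x hx =>
    rcases hx with hx | hx
    · exact ⟨x, hx, 1, W₂.one_mem, (mul_one x).symm⟩
    · exact ⟨1, W₁.one_mem, x, hx, (one_mul x).symm⟩
  | one => exact ⟨1, W₁.one_mem, 1, W₂.one_mem, (one_mul 1).symm⟩
  | mul x y _ _ hx hy =>
    obtain ⟨a, ha, b, hb, rfl⟩ := hx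
    obtain ⟨c, hc, d, hd, rfl⟩ := hy
    refine ⟨a * c, W₁.mul_mem ha hc, b * d, W₂.mul_mem hb hd, ?_⟩
    rw [show a * b * (c * d) = a * (b * c) * d by group, ← hcomm c hc b hb]
    group
  | inv x _ hx =>
    obtain ⟨a, ha, b, hb, rfl⟩ := hx
    exact ⟨a⁻¹, W₁.inv_mem ha, b⁻¹, W₂.inv_mem hb, by
      rw [hcomm _ (W₁.inv_mem ha) _ (W₂.inv_mem hb), mul_inv_rev]⟩

theorem commute_of_mem (hW : Cfsg.IsSelfNormalizingCyclic W₁ W₂) (a b : ↥(W₁ ⊔ W₂)) :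
    a * b = b * a := by
  have := hW.2.2.2.2.1
  exact (IsCyclic.isMulCommutative (α := ↥(W₁ ⊔ W₂))).is_comm.comm a b

theorem exists_proj (hW : Cfsg.IsSelfNormalizingCyclic W₁ W₂) :
    ∃ π₁ π₂ : ↥(W₁ ⊔ W₂) →* ↥(W₁ ⊔ W₂), (∀ w, π₁ w * π₂ w = w) ∧
      (∀ w, (π₁ w : G) ∈ W₁) ∧ (∀ w, (π₂ w : G) ∈ W₂) ∧
      (∀ w : ↥(W₁ ⊔ W₂), (w : G) ∈ W₁ → π₁ w = w ∧ π₂ w = 1) ∧
      (∀ w : ↥(W₁ ⊔ W₂), (w : G) ∈ W₂ → π₁ w = 1 ∧ π₂ w = w) := by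
  obtain ⟨-, -, hdisj, hc, -, -⟩ := hW
  choose f hf g hg he using fun w : ↥(W₁ ⊔ W₂) => exists_mul_of_mem hc w.2
  have huniq : ∀ a ∈ W₁, ∀ b ∈ W₂, ∀ c ∈ W₁, ∀ d ∈ W₂, a * b = c * d → a = c ∧ b = d := by
    intro a ha b hb c hc' d hd h
    have h1 : c⁻¹ * a = d * b⁻¹ :=
      eq_mul_inv_of_mul_eq (by rw [mul_assoc, h, inv_mul_cancel_left])
    have h2 : c⁻¹ * a ∈ W₁ ⊓ W₂ :=
      ⟨W₁.mul_mem (W₁.inv_mem hc') ha, h1 ▸ W₂.mul_mem hd (W₂.inv_mem hb)⟩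
    rw [hdisj, Subgroup.mem_bot, inv_mul_eq_one] at h2
    subst h2
    exact ⟨rfl, mul_left_cancel h⟩
  have hmul : ∀ v w, f (v * w) = f v * f w ∧ g (v * w) = g v * g w := fun v w => by
    refine huniq _ (hf _) _ (hg _) _ (W₁.mul_mem (hf v) (hf w)) _ (W₂.mul_mem (hg v) (hg w)) ?_
    rw [← he, Subgroup.coe_mul]
    conv_lhs => rw [he v, he w]
    rw [show f v * g v * (f w * g w) = f v * (g v * f w) * g w by group, ← hc _ (hf w) _ (hg v)]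
    group
  refine ⟨MonoidHom.mk' (fun w => ⟨f w, le_sup_left (a := W₁) (hf w)⟩)
      fun v w => Subtype.ext (hmul v w).1,
    MonoidHom.mk' (fun w => ⟨g w, le_sup_right (b := W₂) (hg w)⟩)
      fun v w => Subtype.ext (hmul v w).2, fun w => Subtype.ext (he w).symm, hf, hg, ?_, ?_⟩
  · intro w hw
    obtain ⟨e1, e2⟩ :=
      huniq _ (hf w) _ (hg w) _ hw 1 W₂.one_mem ((he w).symm.trans (mul_one _).symm)
    exact ⟨Subtype.ext e1, Subtype.ext e2⟩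
  · intro w hw
    obtain ⟨e1, e2⟩ :=
      huniq _ (hf w) _ (hg w) 1 W₁.one_mem _ hw ((he w).symm.trans (one_mul _).symm)
    exact ⟨Subtype.ext e1, Subtype.ext e2⟩

/-- The elements of `W` outside `W₁ ∪ W₂` form a TI-set. -/
theorem ti_of_selfNormalizing [Finite G] (hW : Cfsg.IsSelfNormalizingCyclic W₁ W₂) (g : G)
    (hg : g ∉ W₁ ⊔ W₂) (t : G) (ht : t ∈ W₁ ⊔ W₂ ∧ t ∉ W₁ ∧ t ∉ W₂) :
    ¬ (g * t * g⁻¹ ∈ W₁ ⊔ W₂) := by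
  intro hgt
  obtain ⟨-, -, -, -, hcyc, hN⟩ := hW
  set X : Set G := {y | y ∈ W₁ ⊔ W₂ ∧ orderOf y = orderOf t} with hX
  have hgen : ∀ s ∈ X, ∀ y ∈ X, y ∈ Subgroup.zpowers s := by
    rintro s ⟨hs, hso⟩ y ⟨hy, hyo⟩
    classical
    have := Fintype.ofFinite G
    have := Fintype.ofFinite ↥(W₁ ⊔ W₂)
    let S : Finset ↥(W₁ ⊔ W₂) := Finset.univ.filter fun z => z ^ orderOf t = 1
    let Z : Finset ↥(W₁ ⊔ W₂) :=
      Finset.univ.filter fun z => z ∈ Subgroup.zpowers (⟨s, hs⟩ : ↥(W₁ ⊔ W₂))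
    have hsub : Z ⊆ S := fun z hz => by
      obtain ⟨k, hk⟩ := Subgroup.mem_zpowers_iff.mp (Finset.mem_filter.mp hz).2
      refine Finset.mem_filter.mpr ⟨Finset.mem_univ _, ?_⟩
      rw [← hk, ← hso, ← Subgroup.orderOf_mk s hs, ← zpow_natCast, ← zpow_mul, mul_comm, zpow_mul,
        zpow_natCast, pow_orderOf_eq_one, one_zpow]
    have hZc : Z.card = orderOf t := by
      rw [← hso, ← Subgroup.orderOf_mk s hs, ← Nat.card_zpowers, Nat.card_eq_fintype_card,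
        Fintype.card_subtype]
    have hZS : Z = S := Finset.eq_of_subset_of_card_le hsub
      (by rw [hZc]; exact IsCyclic.card_pow_eq_one_le (orderOf_pos t))
    have hyS : (⟨y, hy⟩ : ↥(W₁ ⊔ W₂)) ∈ S := by
      refine Finset.mem_filter.mpr ⟨Finset.mem_univ _, ?_⟩
      rw [← hyo, ← Subgroup.orderOf_mk y hy, pow_orderOf_eq_one]
    rw [← hZS] at hyS
    obtain ⟨k, hk⟩ := Subgroup.mem_zpowers_iff.mp (Finset.mem_filter.mp hyS).2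
    exact Subgroup.mem_zpowers_iff.mpr ⟨k, by simpa using congrArg Subtype.val hk⟩
  have htX : t ∈ X := ⟨ht.1, rfl⟩
  have hsub : X ⊆ (↑(W₁ ⊔ W₂) : Set G) \ (↑W₁ ∪ ↑W₂) := by
    intro y hy
    refine ⟨hy.1, ?_⟩
    rintro (h | h)
    · exact ht.2.1 (Subgroup.zpowers_le.mpr h (hgen y hy t htX))
    · exact ht.2.2 (Subgroup.zpowers_le.mpr h (hgen y hy t htX))
  have hgX : g * t * g⁻¹ ∈ X :=
    ⟨hgt, by rw [← MulAut.conj_apply]; exact MulEquiv.orderOf_eq (MulAut.conj g) t⟩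
  refine hg ?_
  rw [← hN X hsub ⟨t, htX⟩, Subgroup.mem_set_normalizer_iff]
  have hmap : ∀ y, y ∈ X → g * y * g⁻¹ ∈ X := by
    intro y hy
    obtain ⟨k, hk⟩ := Subgroup.mem_zpowers_iff.mp (hgen t htX y hy)
    refine ⟨?_, by rw [← MulAut.conj_apply, MulEquiv.orderOf_eq]; exact hy.2⟩
    rw [← hk, ← conj_zpow]
    exact Subgroup.zpow_mem _ hgt k
  intro y
  refine ⟨hmap y, fun h => ?_⟩
  obtain ⟨k, hk⟩ := Subgroup.mem_zpowers_iff.mp (hgen _ hgX _ h)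
  rw [conj_zpow] at hk
  have hyk : y = t ^ k := mul_left_cancel (mul_right_cancel hk.symm)
  have ho : orderOf y = orderOf t := by
    rw [← h.2, ← MulAut.conj_apply, MulEquiv.orderOf_eq]
  exact ⟨hyk ▸ Subgroup.zpow_mem _ ht.1 k, ho⟩

end CfsgLib.OddChar.CTI
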