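import Mathlib

/-!
# Cosets of coprime automorphisms

* `exists_pow_eq_mul`: separating commuting elements of coprime exponents by a power;
* `sum_coset_eq`: a conjugation invariant function summed over `H g`;
* `exists_conj_coset`: every element of `H g` is `H`-conjugate to one of `C_H(g) g`.
-/

namespace CfsgLib.OddChar

variable {G : Type*} [Group G]

theorem exists_pow_of_coprime {m n : ℕ} (h : Nat.Coprime n m) :
    ∃ k : ℕ, ∀ a u : G, Commute a u → a ^ n = 1 → u ^ m = 1 → (a * u) ^ k = a := by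
  obtain ⟨k, hk1, hk0⟩ := Nat.chineseRemainder h 1 0
  refine ⟨k, fun a u hc ha hu => ?_⟩
  have hka : a ^ k = a := by
    conv_rhs => rw [← pow_one a]
    exact pow_eq_pow_iff_modEq.mpr (hk1.of_dvd (orderOf_dvd_of_pow_eq_one ha))
  have hku : u ^ k = 1 := by
    have h := hk0.of_dvd (orderOf_dvd_of_pow_eq_one hu)
    exact orderOf_dvd_iff_pow_eq_one.mp (Nat.modEq_zero_iff_dvd.mp h)
  rw [hc.mul_pow, hka, hku, mul_one]

variable [Finite G]

open Classical in
theorem sum_coset_eq [Fintype G] {M : Type*} [AddCommMonoid M] (H : Subgroup G) (g : G)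
    (hg : g ∈ Subgroup.normalizer (H : Set G)) (hcop : Nat.Coprime (orderOf g) (Nat.card H))
    (f : G → M) (hf : ∀ h ∈ H, ∀ y, f (h * y * h⁻¹) = f y) :
    Nat.card ↥(H ⊓ Subgroup.centralizer ({g} : Set G)) • ∑ h : H, f (h * g) =
      Nat.card H • ∑ c : ↥(H ⊓ Subgroup.centralizer ({g} : Set G)), f (c * g) := by
  set C := H ⊓ Subgroup.centralizer ({g} : Set G) with hC
  have hcomm : ∀ c : C, Commute g (c : G) := fun c =>
    ((Subgroup.mem_centralizer_singleton_iff.mp c.2.2) : _).symm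
  have hmem : ∀ p : H × C, (p.1 : G) * (p.2 * g) * (p.1 : G)⁻¹ * g⁻¹ ∈ H := fun p => by
    rw [show (p.1 : G) * (p.2 * g) * (p.1 : G)⁻¹ * g⁻¹ =
      (p.1 : G) * p.2 * (g * (p.1 : G)⁻¹ * g⁻¹) by group]
    exact H.mul_mem (H.mul_mem p.1.2 p.2.2.1)
      ((Subgroup.mem_normalizer_iff.mp hg _).mp (H.inv_mem p.1.2))
  obtain ⟨k, hk⟩ := exists_pow_of_coprime (G := G) hcop
  have hinj : ∀ p q : H × C, (p.1 : G) * (p.2 * g) * (p.1 : G)⁻¹ = q.1 * (q.2 * g) * (q.1 : G)⁻¹ →
      (q.1 : G)⁻¹ * p.1 ∈ C := by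
    intro p q h
    refine ⟨H.mul_mem (H.inv_mem q.1.2) p.1.2, Subgroup.mem_centralizer_singleton_iff.mpr ?_⟩
    have hp : ∀ c : C, ((c : G) * g) ^ k = g := fun c => by
      rw [← (hcomm c).eq]
      refine hk g c (hcomm c) (pow_orderOf_eq_one g) ?_
      exact orderOf_dvd_iff_pow_eq_one.mp (Subgroup.orderOf_dvd_natCard _ c.2.1)
    have h' := congrArg (· ^ k) h
    simp only [conj_pow, hp] at h'
    calc (q.1 : G)⁻¹ * p.1 * g
        = (q.1 : G)⁻¹ * ((p.1 : G) * g * (p.1 : G)⁻¹) * p.1 := by group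
      _ = (q.1 : G)⁻¹ * ((q.1 : G) * g * (q.1 : G)⁻¹) * p.1 := by rw [h']
      _ = g * ((q.1 : G)⁻¹ * p.1) := by group
  set Φ : H × C → H := fun p => ⟨_, hmem p⟩ with hΦ
  have hΦg : ∀ p, (Φ p : G) * g = (p.1 : G) * (p.2 * g) * (p.1 : G)⁻¹ := fun p => by
    simp only [hΦ]; group
  have hle : ∀ b ∈ (Finset.univ.image Φ), (Finset.univ.filter fun p => Φ p = b).card ≤
      Fintype.card C := by
    intro b hb
    obtain ⟨q, -, rfl⟩ := Finset.mem_image.mp hb
    have hpe : ∀ p ∈ Finset.univ.filter (fun p => Φ p = Φ q),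
        (p.1 : G) * (p.2 * g) * (p.1 : G)⁻¹ = q.1 * (q.2 * g) * (q.1 : G)⁻¹ := fun p hp => by
      rw [← hΦg, ← hΦg, (Finset.mem_filter.mp hp).2]
    rw [← Finset.card_univ]
    refine Finset.card_le_card_of_injOn
      (fun p => if h : (q.1 : G)⁻¹ * p.1 ∈ C then ⟨_, h⟩ else 1) (fun p _ => Finset.mem_univ _) ?_
    intro p hp p' hp' he
    simp only [dif_pos (hinj p q (hpe p hp)), dif_pos (hinj p' q (hpe p' hp')),
      Subtype.mk.injEq, mul_right_inj] at he
    have h1 : p.1 = p'.1 := Subtype.ext he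
    have h2 := (hpe p hp).trans (hpe p' hp').symm
    rw [h1] at h2
    exact Prod.ext h1 (Subtype.ext (mul_right_cancel (mul_left_cancel (mul_right_cancel h2))))
  have htot : ∑ b : H, (Finset.univ.filter fun p => Φ p = b).card = Fintype.card H * Fintype.card C := by
    rw [← Fintype.card_prod, ← Finset.card_univ (α := H × C)]
    exact (Finset.card_eq_sum_card_fiberwise (fun p _ => Finset.mem_univ _)).symm
  have hall : ∀ b : H, (Finset.univ.filter fun p => Φ p = b).card = Fintype.card C := by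
    have hle' : ∀ b : H, (Finset.univ.filter fun p => Φ p = b).card ≤ Fintype.card C := fun b => by
      by_cases hb : b ∈ Finset.univ.image Φ
      · exact hle b hb
      · have he : (Finset.univ.filter fun p => Φ p = b) = ∅ := by
          rw [Finset.filter_eq_empty_iff]
          intro p _ he
          exact hb (he ▸ Finset.mem_image_of_mem Φ (Finset.mem_univ p))
        rw [he, Finset.card_empty]
        exact Nat.zero_le _
    intro b
    refine (Finset.sum_eq_sum_iff_of_le fun b _ => hle' b).mp ?_ b (Finset.mem_univ b)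
    rw [htot, Finset.sum_const, Finset.card_univ, smul_eq_mul]
  have hsum : ∑ p : H × C, f ((Φ p : G) * g) = Fintype.card C • ∑ h : H, f (h * g) := by
    rw [← Finset.sum_fiberwise Finset.univ Φ, Finset.smul_sum]
    refine Finset.sum_congr rfl fun b _ => ?_
    rw [Finset.sum_congr rfl fun p hp => by rw [(Finset.mem_filter.mp hp).2], Finset.sum_const,
      hall b]
  rw [Nat.card_eq_fintype_card, Nat.card_eq_fintype_card, ← hsum, Fintype.sum_prod_type,
    Finset.sum_congr rfl (g := fun _ : H => ∑ c : C, f (c * g)) fun x _ =>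
      Finset.sum_congr rfl fun c _ => by rw [hΦg]; exact hf x x.2 _,
    Finset.sum_const, Finset.card_univ]

theorem exists_conj_coset (H : Subgroup G) (g : G)
    (hg : g ∈ Subgroup.normalizer (H : Set G)) (hcop : Nat.Coprime (orderOf g) (Nat.card H))
    {h : G} (hh : h ∈ H) :
    ∃ x ∈ H, ∃ c ∈ H, c * g = g * c ∧ x * (h * g) * x⁻¹ = c * g := by
  classical
  have := Fintype.ofFinite G
  set P : G → Prop := fun y => ∃ x ∈ H, x * (h * g) * x⁻¹ = y
  have key := sum_coset_eq H g hg hcop (fun y => if P y then 1 else 0 : G → ℕ) fun z hz y => by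
    have : P (z * y * z⁻¹) ↔ P y := by
      constructor
      · rintro ⟨x, hx, he⟩
        exact ⟨z⁻¹ * x, H.mul_mem (H.inv_mem hz) hx, by
          rw [show z⁻¹ * x * (h * g) * (z⁻¹ * x)⁻¹ = z⁻¹ * (x * (h * g) * x⁻¹) * z by group, he]
          group⟩
      · rintro ⟨x, hx, rfl⟩
        exact ⟨z * x, H.mul_mem hz hx, by group⟩
    simp only [this]
  simp only [smul_eq_mul] at key
  by_contra hne
  push Not at hne
  rw [Finset.sum_eq_zero (s := (Finset.univ : Finset ↥(H ⊓ Subgroup.centralizer ({g} : Set G))))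
    fun c _ => if_neg ?_, mul_zero] at key
  · rcases Nat.mul_eq_zero.mp key with h0 | h0
    · exact Nat.card_pos.ne' h0
    · have h1 := (Finset.sum_eq_zero_iff.mp h0) ⟨h, hh⟩ (Finset.mem_univ _)
      rw [if_pos ⟨1, H.one_mem, by group⟩] at h1
      exact one_ne_zero h1
  · rintro ⟨x, hx, he⟩
    exact hne x hx c c.2.1 (Subgroup.mem_centralizer_singleton_iff.mp c.2.2) he

end CfsgLib.OddChar
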