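import Cfsg.Agent.Lib.Char.Generalized
import Cfsg.Agent.Lib.OddChar.Coset
import Cfsg.Prelude.Def_OddOrderChar

/-!
# The Dade set-up

* `mem_H_of_coprime`, `H_conj`, `conj_of_coset`: the supporting subgroups and their cosets;
* `dade_apply`, `dade_apply_none`: values of the Dade map;
* `dade_sum`: summing the Dade map against an arbitrary function;
* `dade_classInner`: the adjoint;
* `dade_eq_sum`, `isGen_dade`: the Dade map preserves generalized characters.
-/

namespace CfsgLib.OddChar.Dade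

open CfsgLib.Char
open scoped ComplexConjugate

variable {G : Type*} [Group G] {A : Set G} {L : Subgroup G} {H : G → Subgroup G}

theorem mem_centralizer_iff' {a g : G} :
    g ∈ Subgroup.centralizer ({a} : Set G) ↔ g * a = a * g :=
  Subgroup.mem_centralizer_singleton_iff

section Basic

variable (hD : Cfsg.DadeHypothesis A L H) {a b : G}
include hD

theorem comm_of_mem_H (ha : a ∈ A) {u : G} (hu : u ∈ H a) : Commute a u :=
  (mem_centralizer_iff'.mp (hD.le_centralizer a ha hu)).symm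

theorem centralizer_le_normalizer (ha : a ∈ A) :
    Subgroup.centralizer ({a} : Set G) ≤ Subgroup.normalizer (H a : Set G) := by
  intro c hc
  rw [Subgroup.mem_normalizer_iff]
  refine fun u => ⟨hD.conj_mem_H a ha c hc u, fun h => ?_⟩
  have := hD.conj_mem_H a ha c⁻¹ (inv_mem hc) _ h
  simpa [mul_assoc] using this

theorem exists_mul (ha : a ∈ A) {c : G} (hc : c ∈ Subgroup.centralizer ({a} : Set G)) :
    ∃ u ∈ H a, ∃ l, l ∈ L ∧ l * a = a * l ∧ c = u * l := by
  rw [← hD.sup_eq a ha, ← SetLike.mem_coe, Subgroup.coe_mul_of_right_le_normalizer_left _ _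
    (inf_le_right.trans (centralizer_le_normalizer hD ha))] at hc
  obtain ⟨u, hu, l, hl, rfl⟩ := hc
  exact ⟨u, hu, l, hl.1, mem_centralizer_iff'.mp hl.2, rfl⟩

theorem eq_one_of_mem (ha : a ∈ A) {u : G} (hu : u ∈ H a) (huL : u ∈ L) : u = 1 := by
  have h : u ∈ H a ⊓ (L ⊓ Subgroup.centralizer ({a} : Set G)) :=
    ⟨hu, huL, hD.le_centralizer a ha hu⟩
  rwa [hD.inf_eq_bot a ha, Subgroup.mem_bot] at h

variable [Finite G]

theorem mem_H_of_coprime (ha : a ∈ A) {g : G} (hg : g * a = a * g)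
    (hcop : Nat.Coprime (orderOf g) (Nat.card ↥(L ⊓ Subgroup.centralizer ({a} : Set G)))) :
    g ∈ H a := by
  obtain ⟨u, hu, l, hl, hla, rfl⟩ := exists_mul hD ha (mem_centralizer_iff'.mpr hg)
  have hpow : ∀ n : ℕ, (u * l) ^ n * (l ^ n)⁻¹ ∈ H a := by
    intro n
    induction n with
    | zero => simp
    | succ n ih =>
      rw [show (u * l) ^ (n + 1) * (l ^ (n + 1))⁻¹ =
        ((u * l) ^ n * (l ^ n)⁻¹) * (l ^ n * u * (l ^ n)⁻¹) by rw [pow_succ, pow_succ]; group]
      exact mul_mem ih (hD.conj_mem_H a ha _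
        (pow_mem (mem_centralizer_iff'.mpr hla) n) u hu)
  have h1 := hpow (orderOf (u * l))
  rw [pow_orderOf_eq_one, one_mul, inv_mem_iff] at h1
  have h2 := eq_one_of_mem hD ha h1 (pow_mem hl _)
  have h3 : l = 1 := by
    rw [← orderOf_eq_one_iff]
    exact Nat.eq_one_of_dvd_coprimes hcop (orderOf_dvd_of_pow_eq_one h2)
      (Subgroup.orderOf_dvd_natCard _ ⟨hl, mem_centralizer_iff'.mpr hla⟩)
  rwa [h3, mul_one]

theorem coprime_orderOf (ha : a ∈ A) (hb : b ∈ A) :
    Nat.Coprime (orderOf a) (Nat.card (H b)) :=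
  ((hD.coprime b hb a ha).coprime_dvd_right
    (Subgroup.orderOf_dvd_natCard (L ⊓ Subgroup.centralizer ({a} : Set G))
      (x := a) ⟨hD.subset ha, mem_centralizer_iff'.mpr rfl⟩)).symm

theorem H_conj_le (ha : a ∈ A) {x : G} (hx : x ∈ L) {u : G} (hu : u ∈ H a) :
    x * u * x⁻¹ ∈ H (x * a * x⁻¹) := by
  have hb := hD.conj_mem x hx a ha
  refine mem_H_of_coprime hD hb ?_ ?_
  · have hc := (comm_of_mem_H hD ha hu).eq
    calc x * u * x⁻¹ * (x * a * x⁻¹) = x * (u * a) * x⁻¹ := by group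
      _ = x * (a * u) * x⁻¹ := by rw [hc]
      _ = x * a * x⁻¹ * (x * u * x⁻¹) := by group
  · rw [← MulAut.conj_apply, MulEquiv.orderOf_eq]
    exact (hD.coprime a ha _ hb).coprime_dvd_left (Subgroup.orderOf_dvd_natCard _ hu)

theorem mem_H_conj_iff (ha : a ∈ A) {x : G} (hx : x ∈ L) {u : G} :
    x * u * x⁻¹ ∈ H (x * a * x⁻¹) ↔ u ∈ H a := by
  refine ⟨fun h => ?_, H_conj_le hD ha hx⟩
  have := H_conj_le hD (hD.conj_mem x hx a ha) (L.inv_mem hx) h
  simpa [mul_assoc] using this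

theorem H_conj (ha : a ∈ A) {x : G} (hx : x ∈ L) :
    H (x * a * x⁻¹) = (H a).map (MulAut.conj x).toMonoidHom := by
  ext v
  rw [Subgroup.mem_map_equiv, MulAut.conj_symm_apply,
    ← mem_H_conj_iff hD ha hx (u := x⁻¹ * v * x)]
  group

theorem conj_of_coset (ha : a ∈ A) (hb : b ∈ A) {u v g : G} (hu : u ∈ H a) (hv : v ∈ H b)
    (h : g * (a * u) * g⁻¹ = b * v) : g * a * g⁻¹ = b := by
  obtain ⟨k, hk⟩ := exists_pow_of_coprime (G := G)
    (m := Nat.card (H a) * Nat.card (H b)) (n := orderOf a * orderOf b)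
    (Nat.Coprime.mul_left
      ((coprime_orderOf hD ha ha).mul_right (coprime_orderOf hD ha hb))
      ((coprime_orderOf hD hb ha).mul_right (coprime_orderOf hD hb hb)))
  have h' := congrArg (· ^ k) h
  simp only [conj_pow] at h'
  rwa [hk a u (comm_of_mem_H hD ha hu) (orderOf_dvd_iff_pow_eq_one.mp (Dvd.intro _ rfl))
      (orderOf_dvd_iff_pow_eq_one.mp ((Subgroup.orderOf_dvd_natCard _ hu).trans (Dvd.intro _ rfl))),
    hk b v (comm_of_mem_H hD hb hv) (orderOf_dvd_iff_pow_eq_one.mp (Dvd.intro_left _ rfl))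
      (orderOf_dvd_iff_pow_eq_one.mp
        ((Subgroup.orderOf_dvd_natCard _ hv).trans (Dvd.intro_left _ rfl)))] at h'

/-- If two cosets meet up to conjugation, their centres are conjugate in `L`. -/
theorem exists_conj_L (ha : a ∈ A) (hb : b ∈ A) {u v g : G} (hu : u ∈ H a) (hv : v ∈ H b)
    (h : g * (a * u) * g⁻¹ = b * v) : ∃ x ∈ L, x * a * x⁻¹ = b := by
  have he := conj_of_coset hD ha hb hu hv h
  obtain ⟨x, hx, hxe⟩ := hD.fusion a ha g (he.symm ▸ hb)
  exact ⟨x, hx, hxe.trans he⟩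

end Basic

section Map

variable (hD : Cfsg.DadeHypothesis A L H)
include hD

theorem dade_apply [Finite G] {α : L → ℂ} (hα : Cfsg.IsClassFunction L α) {g : G} {a : L}
    (ha : (a : G) ∈ A) {x u : G} (hu : u ∈ H (a : G)) (hx : x * g * x⁻¹ = (a : G) * u) :
    Cfsg.dadeIsometry A L H α g = α a := by
  have hex : ∃ a : L, (a : G) ∈ A ∧ ∃ x : G, ∃ u ∈ H (a : G), x * g * x⁻¹ = (a : G) * u :=
    ⟨a, ha, x, u, hu, hx⟩
  simp only [Cfsg.dadeIsometry, dif_pos hex]
  obtain ⟨hb, y, v, hv, hy⟩ := Classical.choose_spec hex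
  obtain ⟨z, hz, hze⟩ := exists_conj_L hD ha hb hu hv (g := y * x⁻¹) (by rw [← hx, ← hy]; group)
  have : Classical.choose hex = (⟨z, hz⟩ : L) * a * (⟨z, hz⟩ : L)⁻¹ := Subtype.ext hze.symm
  rw [this]
  exact hα a ⟨z, hz⟩

omit hD in
theorem dade_apply_none {α : L → ℂ} {g : G}
    (h : ¬ ∃ a : L, (a : G) ∈ A ∧ ∃ x : G, ∃ u ∈ H (a : G), x * g * x⁻¹ = (a : G) * u) :
    Cfsg.dadeIsometry A L H α g = 0 := by
  simp only [Cfsg.dadeIsometry, dif_neg h]

theorem isClassFunction_dade [Finite G] {α : L → ℂ} (hα : Cfsg.IsClassFunction L α) :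
    Cfsg.IsClassFunction G (Cfsg.dadeIsometry A L H α) := by
  intro g c
  by_cases h : ∃ a : L, (a : G) ∈ A ∧ ∃ x : G, ∃ u ∈ H (a : G), x * g * x⁻¹ = (a : G) * u
  · obtain ⟨a, ha, x, u, hu, hx⟩ := h
    rw [dade_apply hD hα ha hu hx,
      dade_apply hD hα ha hu (g := c * g * c⁻¹) (x := x * c⁻¹) (by rw [← hx]; group)]
  · rw [dade_apply_none h, dade_apply_none]
    rintro ⟨a, ha, x, u, hu, hx⟩
    exact h ⟨a, ha, x * c, u, hu, by rw [← hx]; group⟩

open Classical in
theorem card_fibre [Finite G] {g x₀ u₀ : G} {a₀ : L} (ha : (a₀ : G) ∈ A) (hu : u₀ ∈ H (a₀ : G))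
    (hg : x₀ * ((a₀ : G) * u₀) * x₀⁻¹ = g) :
    Nat.card {p : G × L × G // ((p.2.1 : G) ∈ A ∧ p.2.2 ∈ H (p.2.1 : G)) ∧
      p.1 * ((p.2.1 : G) * p.2.2) * p.1⁻¹ = g} = Nat.card L * Nat.card (H (a₀ : G)) := by
  rw [← Nat.card_prod]
  symm
  have hc : ∀ h : H (a₀ : G), (h : G) * a₀ * (h : G)⁻¹ = a₀ := fun h => by
    rw [← (comm_of_mem_H hD ha h.2).eq, mul_inv_cancel_right]
  refine Nat.card_eq_of_bijective (fun q => ⟨(x₀ * ((q.1 : G) * q.2)⁻¹,
    q.1 * a₀ * q.1⁻¹, (q.1 : G) * ((q.2 : G) * u₀ * (q.2 : G)⁻¹) * (q.1 : G)⁻¹), ⟨?_, ?_⟩, ?_⟩)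
    ⟨?_, ?_⟩
  · exact hD.conj_mem _ q.1.2 _ ha
  · exact H_conj_le hD ha q.1.2 (mul_mem (mul_mem q.2.2 hu) (inv_mem q.2.2))
  · rw [← hg]
    simp only [Subgroup.coe_mul, Subgroup.coe_inv]
    calc _ = x₀ * (((q.2 : G)⁻¹ * a₀ * (q.2 : G)) * u₀) * x₀⁻¹ := by group
      _ = _ := by
        have := hc q.2⁻¹
        rw [Subgroup.coe_inv, inv_inv] at this
        rw [this]
  · rintro ⟨l, h⟩ ⟨l', h'⟩ e
    have e1 : ((l : G) * h) = (l' : G) * h' :=
      inv_injective (mul_left_cancel (congrArg (fun p => p.1.1) e))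
    have h2 : (l' : G)⁻¹ * l = (h' : G) * (h : G)⁻¹ := by
      rw [show (h' : G) = (l' : G)⁻¹ * ((l : G) * h) by rw [e1]; group]
      group
    have h3 : (h' : G) * (h : G)⁻¹ = 1 :=
      eq_one_of_mem hD ha (mul_mem h'.2 (inv_mem h.2)) (h2 ▸ mul_mem (inv_mem l'.2) l.2)
    obtain rfl : h' = h := Subtype.ext (mul_inv_eq_one.mp h3)
    obtain rfl : l = l' := Subtype.ext (mul_right_cancel e1)
    rfl
  · rintro ⟨⟨x, a, u⟩, ⟨ha', hu'⟩, hp⟩
    have he : (x⁻¹ * x₀) * (a₀ : G) * (x⁻¹ * x₀)⁻¹ = a := by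
      refine conj_of_coset hD ha ha' hu hu' (g := x⁻¹ * x₀) ?_
      rw [show x⁻¹ * x₀ * ((a₀ : G) * u₀) * (x⁻¹ * x₀)⁻¹ =
        x⁻¹ * (x₀ * ((a₀ : G) * u₀) * x₀⁻¹) * x by group, hg, ← hp]
      group
    obtain ⟨l, hl, hle⟩ := hD.fusion _ ha (x⁻¹ * x₀) (he.symm ▸ ha')
    rw [he] at hle
    have hc' : l⁻¹ * (x⁻¹ * x₀) ∈ Subgroup.centralizer ({(a₀ : G)} : Set G) := by
      rw [mem_centralizer_iff']
      calc l⁻¹ * (x⁻¹ * x₀) * (a₀ : G)
          = l⁻¹ * ((x⁻¹ * x₀) * a₀ * (x⁻¹ * x₀)⁻¹) * (x⁻¹ * x₀) := by group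
        _ = l⁻¹ * (l * a₀ * l⁻¹) * (x⁻¹ * x₀) := by rw [he, hle]
        _ = _ := by group
    obtain ⟨v, hv, m, hm, hma, hvm⟩ := exists_mul hD ha hc'
    have hv' : m⁻¹ * v * m ∈ H (a₀ : G) := by
      have := hD.conj_mem_H _ ha m⁻¹ (inv_mem (mem_centralizer_iff'.mpr hma)) v hv
      rwa [inv_inv] at this
    have hy : (l * m) * (m⁻¹ * v * m) = x⁻¹ * x₀ := by
      rw [show (l * m) * (m⁻¹ * v * m) = l * (v * m) by group, ← hvm]; group
    have hx' : x₀ * ((l * m) * (m⁻¹ * v * m))⁻¹ = x := by rw [hy]; group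
    have ha'' : l * m * (a₀ : G) * (l * m)⁻¹ = a := by
      rw [← hle, show l * m * (a₀ : G) * (l * m)⁻¹ = l * (m * a₀ * m⁻¹) * l⁻¹ by group, hma,
        mul_inv_cancel_right]
    refine ⟨(⟨l * m, mul_mem hl hm⟩, ⟨_, hv'⟩),
      Subtype.ext (Prod.ext hx' (Prod.ext (Subtype.ext ha'') ?_))⟩
    -- the last component is determined by the others
    show (l * m) * (m⁻¹ * v * m * u₀ * (m⁻¹ * v * m)⁻¹) * (l * m)⁻¹ = u
    set h : G := m⁻¹ * v * m with hh
    have h1 : (l * m * h) * ((a₀ : G) * u₀) * (l * m * h)⁻¹ = (a : G) * u := by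
      rw [hy, show x⁻¹ * x₀ * ((a₀ : G) * u₀) * (x⁻¹ * x₀)⁻¹ =
        x⁻¹ * (x₀ * ((a₀ : G) * u₀) * x₀⁻¹) * x by group, hg, ← hp]
      group
    have h2 : h * (a₀ : G) * h⁻¹ = a₀ := hc ⟨h, hv'⟩
    rw [show (l * m * h) * ((a₀ : G) * u₀) * (l * m * h)⁻¹ =
      (l * m * (h * (a₀ : G) * h⁻¹) * (l * m)⁻¹) * ((l * m) * (h * u₀ * h⁻¹) * (l * m)⁻¹) by group,
      h2, ha''] at h1
    exact mul_left_cancel h1

open Classical in
/-- The Dade map summed against an arbitrary function on `G`. -/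
theorem dade_sum [Fintype G] [Fintype L] {α : L → ℂ} (hα : Cfsg.IsClassFunction L α)
    (hαA : ∀ x : L, (x : G) ∉ A → α x = 0) (f : G → ℂ) :
    ∑ g : G, Cfsg.dadeIsometry A L H α g * f g =
      ∑ a : L, α a * ((Nat.card L : ℂ) * (Nat.card (H (a : G)) : ℂ))⁻¹ *
        ∑ x : G, ∑ u : H (a : G), f (x * ((a : G) * u) * x⁻¹) := by
  set P : Finset (G × L × G) :=
    Finset.univ.filter fun p => (p.2.1 : G) ∈ A ∧ p.2.2 ∈ H (p.2.1 : G) with hP
  set w : G × L × G → ℂ :=
    fun p => α p.2.1 * ((Nat.card L : ℂ) * (Nat.card (H (p.2.1 : G)) : ℂ))⁻¹ with hw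
  have hR : ∑ a : L, α a * ((Nat.card L : ℂ) * (Nat.card (H (a : G)) : ℂ))⁻¹ *
      ∑ x : G, ∑ u : H (a : G), f (x * ((a : G) * u) * x⁻¹) =
      ∑ p ∈ P, w p * f (p.1 * ((p.2.1 : G) * p.2.2) * p.1⁻¹) := by
    rw [hP, Finset.sum_filter, Fintype.sum_prod_type]
    simp only [Fintype.sum_prod_type, Finset.mul_sum]
    rw [Finset.sum_comm]
    refine Finset.sum_congr rfl fun x _ => Finset.sum_congr rfl fun a _ => ?_
    by_cases ha : (a : G) ∈ A
    · simp only [ha, true_and]
      rw [← Finset.sum_filter]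
      exact (Finset.sum_subtype _ (p := fun u => u ∈ H (a : G)) (by simp) fun u =>
        w (x, a, u) * f (x * ((a : G) * u) * x⁻¹)).symm
    · simp [ha, hαA a ha]
  rw [hR, ← Finset.sum_fiberwise P fun p => p.1 * ((p.2.1 : G) * p.2.2) * p.1⁻¹]
  refine Finset.sum_congr rfl fun g _ => ?_
  rw [Finset.sum_congr rfl (g := fun p => w p * f g) fun p hp => by rw [(Finset.mem_filter.mp hp).2],
    ← Finset.sum_mul]
  congr 1
  by_cases h : ∃ a : L, (a : G) ∈ A ∧ ∃ x : G, ∃ u ∈ H (a : G), x * g * x⁻¹ = (a : G) * u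
  · obtain ⟨a, ha, x, u, hu, hx⟩ := h
    have hconst : ∀ p ∈ P.filter (fun p => p.1 * ((p.2.1 : G) * p.2.2) * p.1⁻¹ = g),
        w p = α a * ((Nat.card L : ℂ) * (Nat.card (H (a : G)) : ℂ))⁻¹ := by
      intro p hp
      obtain ⟨hpP, hpe⟩ := Finset.mem_filter.mp hp
      obtain ⟨hpa, hpu⟩ := (Finset.mem_filter.mp hpP).2
      obtain ⟨z, hz, hze⟩ := exists_conj_L hD ha hpa hu hpu (g := p.1⁻¹ * x⁻¹)
        (by rw [← hx, ← hpe]; group)
      have h1 : p.2.1 = (⟨z, hz⟩ : L) * a * (⟨z, hz⟩ : L)⁻¹ := Subtype.ext hze.symm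
      have h2 : Nat.card (H (p.2.1 : G)) = Nat.card (H (a : G)) := by
        rw [← hze, H_conj hD ha hz, Subgroup.card_map_of_injective (MulEquiv.injective _)]
      simp only [hw, h2]
      rw [h1, hα a ⟨z, hz⟩]
    rw [dade_apply hD hα ha hu hx, Finset.sum_congr rfl hconst, Finset.sum_const, nsmul_eq_mul]
    have hcard : (P.filter fun p => p.1 * ((p.2.1 : G) * p.2.2) * p.1⁻¹ = g).card =
        Nat.card L * Nat.card (H (a : G)) := by
      rw [← card_fibre hD ha hu (g := g) (x₀ := x⁻¹) (by rw [← hx]; group), hP, Finset.filter_filter,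
        Nat.card_eq_fintype_card, Fintype.card_subtype]
    rw [hcard, Nat.cast_mul]
    field_simp [card_subgroup_ne_zero L, card_subgroup_ne_zero (H (a : G))]
  · rw [dade_apply_none h, Finset.sum_eq_zero]
    intro p hp
    obtain ⟨hpP, hpe⟩ := Finset.mem_filter.mp hp
    obtain ⟨hpa, hpu⟩ := (Finset.mem_filter.mp hpP).2
    exact absurd ⟨p.2.1, hpa, p.1⁻¹, p.2.2, hpu, by rw [← hpe]; group⟩ h

theorem dade_sum_classFun [Fintype G] [Fintype L] {α : L → ℂ} (hα : Cfsg.IsClassFunction L α)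
    (hαA : ∀ x : L, (x : G) ∉ A → α x = 0) {f : G → ℂ} (hf : Cfsg.IsClassFunction G f) :
    ∑ g : G, Cfsg.dadeIsometry A L H α g * f g =
      (Nat.card G : ℂ) * (Nat.card L : ℂ)⁻¹ * ∑ a : L, α a *
        ((Nat.card (H (a : G)) : ℂ)⁻¹ * ∑ᶠ u ∈ (H (a : G) : Set G), f ((a : G) * u)) := by
  classical
  rw [dade_sum hD hα hαA f, Finset.mul_sum]
  refine Finset.sum_congr rfl fun a _ => ?_
  rw [Finset.sum_congr rfl (g := fun _ : G => ∑ u : H (a : G), f ((a : G) * u)) fun x _ =>
    Finset.sum_congr rfl fun u _ => hf _ x, Finset.sum_const, Finset.card_univ, nsmul_eq_mul,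
    ← Nat.card_eq_fintype_card, ← finsum_set_coe_eq_finsum_mem, finsum_eq_sum_of_fintype, mul_inv]
  simp only [SetLike.coe_sort_coe]
  ring

/-- The adjoint of the Dade map. -/
theorem dade_classInner [Fintype G] [Fintype L] {α : L → ℂ} (hα : Cfsg.IsClassFunction L α)
    (hαA : ∀ x : L, (x : G) ∉ A → α x = 0) {χ : G → ℂ} {ψ : L → ℂ}
    (hχ : Cfsg.IsClassFunction G χ) (hψ : ∀ a : L, (a : G) ∈ A →
      ψ a = (Nat.card (H a) : ℂ)⁻¹ * ∑ᶠ u ∈ (H a : Set G), χ (a * u)) :
    Cfsg.classInner (Cfsg.dadeIsometry A L H α) χ = Cfsg.classInner α ψ := by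
  rw [classInner_def, classInner_def,
    dade_sum_classFun hD hα hαA (f := fun g => conj (χ g)) fun g c => by
      show conj (χ (c * g * c⁻¹)) = _; rw [hχ g c]]
  rw [← mul_assoc, ← mul_assoc, inv_mul_cancel₀ (card_ne_zero' (G := G)), one_mul]
  congr 1
  refine Finset.sum_congr rfl fun a _ => ?_
  by_cases ha : (a : G) ∈ A
  · rw [hψ a ha, map_mul, map_inv₀, map_natCast,
      show conj (∑ᶠ u ∈ (H (a : G) : Set G), χ ((a : G) * u)) = _ from
        (starRingEnd ℂ).toAddMonoidHom.map_finsum_mem _ (Set.toFinite _)]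
    rfl
  · simp [hαA a ha]

end Map

section Generalized

variable [Fintype G] (A L H) [Fintype L]

/-- The conjugation action of `L` on its finite subsets. -/
@[reducible] def conjAction : MulAction L (Finset L) where
  smul l B := B.map (MulAut.conj l).toEquiv.toEmbedding
  one_smul B := by
    show Finset.map _ B = B
    rw [show (MulAut.conj (1 : L)).toEquiv.toEmbedding = Function.Embedding.refl L by
      ext y; simp, Finset.map_refl]
  mul_smul l m B := by
    show Finset.map _ B = Finset.map _ (Finset.map _ B)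
    rw [Finset.map_map]
    congr 1
    ext y
    simp [mul_assoc]

attribute [local instance] conjAction

omit [Fintype G] [Fintype L] in
theorem mem_conj_smul {l : L} {B : Finset L} {y : L} :
    y ∈ l • B ↔ ∃ b ∈ B, l * b * l⁻¹ = y := Finset.mem_map

/-- `H B`, the intersection of the supporting subgroups over `B`. -/
def HB (B : Finset L) : Subgroup G := ⨅ b ∈ B, H (b : G)

omit [Fintype G] [Fintype L] in
theorem mem_HB {B : Finset L} {g : G} : g ∈ HB L H B ↔ ∀ b ∈ B, g ∈ H (b : G) := by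
  simp [HB, Subgroup.mem_iInf]

open Classical in
/-- The summand attached to a set of elements of `A`. -/
noncomputable def term (α : L → ℂ) (B : Finset L) : G → ℂ := fun g =>
  ((Nat.card (MulAction.stabilizer L B) : ℂ) * (Nat.card (HB L H B) : ℂ))⁻¹ *
    ∑ x : G, ∑ l : L, ∑ h : G,
      if l • B = B ∧ h ∈ HB L H B ∧ x * (h * l) * x⁻¹ = g then α l else 0

variable {A L H} (hD : Cfsg.DadeHypothesis A L H)
include hD

theorem conj_mem_HB {B : Finset L} (hB : ∀ b ∈ B, (b : G) ∈ A) (l : L) {h : G} :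
    (l : G) * h * (l : G)⁻¹ ∈ HB L H (l • B) ↔ h ∈ HB L H B := by
  rw [mem_HB, mem_HB]
  constructor
  · intro hh b hb
    exact (mem_H_conj_iff hD (hB b hb) l.2).mp (hh _ ((mem_conj_smul L).mpr ⟨b, hb, rfl⟩))
  · intro hh y hy
    obtain ⟨b, hb, rfl⟩ := (mem_conj_smul L).mp hy
    exact (mem_H_conj_iff hD (hB b hb) l.2).mpr (hh b hb)

theorem term_smul {α : L → ℂ} (hα : Cfsg.IsClassFunction L α) {B : Finset L}
    (hB : ∀ b ∈ B, (b : G) ∈ A) (m : L) : term L H α (m • B) = term L H α B := by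
  classical
  funext g
  have h1 : Nat.card (MulAction.stabilizer L (m • B)) = Nat.card (MulAction.stabilizer L B) :=
    (Nat.card_congr (MulAction.stabilizerEquivStabilizer (g := m) (a := B) rfl).toEquiv).symm
  have h2 : Nat.card (HB L H (m • B)) = Nat.card (HB L H B) :=
    (Nat.card_congr ((MulAut.conj (m : G)).toEquiv.subtypeEquiv
      fun h => (conj_mem_HB hD hB m).symm)).symm
  unfold term
  rw [h1, h2]
  congr 1
  symm
  refine Fintype.sum_equiv (Equiv.mulRight (m : G)⁻¹) _ _ fun x => ?_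
  refine Fintype.sum_equiv (MulAut.conj m).toEquiv _ _ fun l => ?_
  refine Fintype.sum_equiv (MulAut.conj (m : G)).toEquiv _ _ fun h => ?_
  simp only [Equiv.coe_mulRight, MulEquiv.toEquiv_eq_coe, EquivLike.coe_coe, MulAut.conj_apply]
  refine if_congr (and_congr ?_ (and_congr (conj_mem_HB hD hB m).symm ?_)) (hα l m).symm rfl
  · rw [mul_smul, mul_smul, inv_smul_smul, smul_left_cancel_iff]
  · rw [Subgroup.coe_mul, Subgroup.coe_mul, Subgroup.coe_inv]
    rw [show x * (m : G)⁻¹ * ((m : G) * h * (m : G)⁻¹ * ((m : G) * l * (m : G)⁻¹)) *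
      (x * (m : G)⁻¹)⁻¹ = x * (h * l) * x⁻¹ by group]

theorem isGen_term {α : L → ℂ} (hα : Cfsg.IsGeneralizedCharacter L α) {B : Finset L}
    (hB : ∀ b ∈ B, (b : G) ∈ A) (hne : B.Nonempty) :
    Cfsg.IsGeneralizedCharacter G (term L H α B) := by
  classical
  set N := MulAction.stabilizer L B with hN
  have hnorm : ∀ l : N, (((l : L) : G)) ∈ Subgroup.normalizer (HB L H B : Set G) := fun l => by
    rw [Subgroup.mem_normalizer_iff]
    intro h
    have := conj_mem_HB hD hB (l : L) (h := h)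
    rw [MulAction.mem_stabilizer_iff.mp l.2] at this
    exact this.symm
  let f : N →* G := L.subtype.comp N.subtype
  let c : N →* MulAut (HB L H B) := (HB L H B).normalizerMonoidHom.comp
    (MonoidHom.mk' (fun l => ⟨f l, hnorm l⟩) fun a b => Subtype.ext (map_mul f a b))
  let φ : SemidirectProduct (HB L H B) N c →* G :=
    SemidirectProduct.lift (HB L H B).subtype f fun l => MonoidHom.ext fun h => rfl
  have hφ : ∀ p, φ p = (p.left : G) * ((p.right : L) : G) := fun p => rfl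
  have hinj : Function.Injective φ := by
    rw [injective_iff_map_eq_one]
    intro p hp
    rw [hφ] at hp
    obtain ⟨b, hb⟩ := hne
    have hl : (p.left : G) ∈ L := by
      rw [eq_inv_of_mul_eq_one_left hp]
      exact inv_mem (p.right : L).2
    have h1 := eq_one_of_mem hD (hB b hb) ((mem_HB L H).mp p.left.2 b hb) hl
    rw [h1, one_mul] at hp
    exact SemidirectProduct.ext (Subtype.ext h1) (Subtype.ext (Subtype.ext hp))
  set e := MonoidHom.ofInjective hinj
  set θ : φ.range → ℂ :=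
    fun y => α (((e.symm y).right : N) : L) with hθ
  have hgen : Cfsg.IsGeneralizedCharacter φ.range θ :=
    isGen_comp hα (N.subtype.comp (SemidirectProduct.rightHom.comp e.symm.toMonoidHom))
  have := Fintype.ofFinite φ.range
  have hind : term L H α B = Cfsg.indFun φ.range θ := by
    funext g
    rw [indFun_apply]
    unfold term
    have hc : Nat.card φ.range =
        Nat.card N * Nat.card (HB L H B) := by
      rw [← Nat.card_congr e.toEquiv, SemidirectProduct.card, mul_comm]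
    rw [hc, Nat.cast_mul]
    congr 1
    refine Finset.sum_congr rfl fun x _ => ?_
    by_cases hy : x⁻¹ * g * x ∈ φ.range
    · obtain ⟨p, hp⟩ := hy
      rw [extendByZero_of_mem θ ⟨p, hp⟩]
      have hep : e.symm ⟨x⁻¹ * g * x, p, hp⟩ = p := by
        rw [MulEquiv.symm_apply_eq]; exact Subtype.ext hp.symm
      simp only [hθ, hep]
      rw [Finset.sum_eq_single ((p.right : N) : L), Finset.sum_eq_single (p.left : G), if_pos]
      · exact ⟨MulAction.mem_stabilizer_iff.mp p.right.2, p.left.2, by rw [← hφ, hp]; group⟩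
      · intro h _ hne'
        refine if_neg fun hc' => hne' ?_
        have key : h * ((p.right : L) : G) = x⁻¹ * g * x := by rw [← hc'.2.2]; group
        have : φ ⟨⟨h, hc'.2.1⟩, p.right⟩ = φ p := by rw [hφ, hp]; exact key
        exact congrArg (fun q => ((q.left : HB L H B) : G)) (hinj this)
      · simp
      · intro l _ hne'
        refine Finset.sum_eq_zero fun h _ => if_neg fun hc' => hne' ?_
        have key : h * (l : G) = x⁻¹ * g * x := by rw [← hc'.2.2]; group
        have : φ ⟨⟨h, hc'.2.1⟩, ⟨l, hc'.1⟩⟩ = φ p := by rw [hφ, hp]; exact key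
        exact congrArg (fun q => ((q.right : N) : L)) (hinj this)
      · simp
    · rw [extendByZero_of_notMem θ hy]
      refine Finset.sum_eq_zero fun l _ => Finset.sum_eq_zero fun h _ => if_neg fun hc' => hy ?_
      have key : h * (l : G) = x⁻¹ * g * x := by rw [← hc'.2.2]; group
      exact ⟨⟨⟨h, hc'.2.1⟩, ⟨l, hc'.1⟩⟩, (hφ _).trans key⟩
  rw [hind]
  exact isGen_indFun _ hgen

open Classical in
/-- The Dade map is an alternating sum of the terms. -/
theorem dade_eq_sum {α : L → ℂ} (hα : Cfsg.IsClassFunction L α)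
    (hαA : ∀ x : L, (x : G) ∉ A → α x = 0) (g : G) :
    Cfsg.dadeIsometry A L H α g =
      ∑ B ∈ (Finset.univ.filter fun B : Finset L => B.Nonempty ∧ ∀ b ∈ B, (b : G) ∈ A),
        (-1 : ℂ) ^ (B.card + 1) * ((Nat.card (MulAction.stabilizer L B) : ℂ) / (Nat.card L : ℂ)) *
          term L H α B g := by
  set 𝔅 := Finset.univ.filter fun B : Finset L => B.Nonempty ∧ ∀ b ∈ B, (b : G) ∈ A with h𝔅
  set φ : G → ℂ := fun y => ∑ x : G, if x * y * x⁻¹ = g then 1 else 0 with hφ
  set T : Finset L → L → ℂ :=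
    fun B l => (Nat.card (HB L H B) : ℂ)⁻¹ * ∑ h : HB L H B, φ ((h : G) * (l : G)) with hT
  have hφc : ∀ z y : G, φ (z * y * z⁻¹) = φ y := fun z y => by
    simp only [hφ]
    refine Fintype.sum_equiv (Equiv.mulRight z) _ _ fun x => ?_
    simp only [Equiv.coe_mulRight]
    refine if_congr ?_ rfl rfl
    rw [show x * z * y * (x * z)⁻¹ = x * (z * y * z⁻¹) * x⁻¹ by group]
  -- each summand, regrouped
  have hterm : ∀ B ∈ 𝔅, (-1 : ℂ) ^ (B.card + 1) *
      ((Nat.card (MulAction.stabilizer L B) : ℂ) / (Nat.card L : ℂ)) * term L H α B g =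
      (Nat.card L : ℂ)⁻¹ * ∑ l : L,
        if l • B = B then α l * ((-1 : ℂ) ^ (B.card + 1) * T B l) else 0 := by
    intro B hB
    have hS : ∑ x : G, ∑ l : L, ∑ h : G,
        (if l • B = B ∧ h ∈ HB L H B ∧ x * (h * l) * x⁻¹ = g then α l else 0) =
        ∑ l : L, if l • B = B then α l * ∑ h : HB L H B, φ ((h : G) * (l : G)) else 0 := by
      rw [Finset.sum_comm]
      refine Finset.sum_congr rfl fun l _ => ?_
      by_cases hl : l • B = B
      · simp only [hl, true_and, if_true, hφ, Finset.mul_sum, mul_ite, mul_one, mul_zero]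
        rw [Finset.sum_comm]
        symm
        rw [← Finset.sum_subtype (Finset.univ.filter fun h => h ∈ HB L H B) (by simp)
          fun h => ∑ x : G, if x * (h * (l : G)) * x⁻¹ = g then α l else 0, Finset.sum_filter]
        refine Finset.sum_congr rfl fun h _ => ?_
        by_cases hh : h ∈ HB L H B <;> simp [hh]
      · simp [hl]
    unfold term
    rw [hS]
    have h0 : (Nat.card (MulAction.stabilizer L B) : ℂ) ≠ 0 := by exact_mod_cast Nat.card_pos.ne'
    simp only [Finset.mul_sum]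
    refine Finset.sum_congr rfl fun l _ => ?_
    split_ifs
    · simp only [hT, ← Finset.mul_sum]
      field_simp
    · simp
  rw [Finset.sum_congr rfl hterm, ← Finset.mul_sum, Finset.sum_comm]
  -- the left side
  have hleft := dade_sum hD hα hαA fun y => if y = g then 1 else 0
  simp only [mul_ite, mul_one, mul_zero, Finset.sum_ite_eq', Finset.mem_univ, if_true] at hleft
  rw [hleft, Finset.mul_sum]
  refine Finset.sum_congr rfl fun l _ => ?_
  by_cases hl : (l : G) ∈ A
  swap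
  · simp [hαA l hl]
  rw [← Finset.sum_filter]
  set 𝔅l := 𝔅.filter fun B => l • B = B with h𝔅l
  have hfix : ∀ b : L, l * b * l⁻¹ = l ↔ b = l := fun b =>
    ⟨fun h => by simpa [mul_assoc] using congrArg (fun t => l⁻¹ * t * l) h,
      fun h => by rw [h, mul_inv_cancel_right]⟩
  have hins : ∀ B : Finset L, l • B = B → l • insert l B = insert l B := fun B hB => by
    show (insert l B).map _ = _
    rw [Finset.map_insert]
    exact congrArg₂ insert ((hfix l).mpr rfl) hB
  have hers : ∀ B : Finset L, l • B = B → l • B.erase l = B.erase l := fun B hB => by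
    show (B.erase l).map _ = _
    rw [Finset.map_erase]
    exact congrArg₂ Finset.erase hB ((hfix l).mpr rfl)
  have hmem : ∀ B, B ∈ 𝔅l ↔ (B.Nonempty ∧ ∀ b ∈ B, (b : G) ∈ A) ∧ l • B = B := fun B => by
    simp [h𝔅l, h𝔅]
  -- adjoining `l` does not change a term
  have hTins : ∀ B ∈ 𝔅l, T (insert l B) l = T B l := by
    intro B hB
    obtain ⟨⟨hne, hBA⟩, hlB⟩ := (hmem B).mp hB
    have hnorm : (l : G) ∈ Subgroup.normalizer (HB L H B : Set G) := by
      rw [Subgroup.mem_normalizer_iff]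
      intro h
      have := conj_mem_HB hD hBA l (h := h)
      rw [hlB] at this
      exact this.symm
    obtain ⟨b, hb⟩ := hne
    have hcop : Nat.Coprime (orderOf (l : G)) (Nat.card (HB L H B)) :=
      (coprime_orderOf hD hl (hBA b hb)).coprime_dvd_right
        (Subgroup.card_dvd_of_le fun h hh => (mem_HB L H).mp hh b hb)
    have hinf : HB L H B ⊓ Subgroup.centralizer ({(l : G)} : Set G) = HB L H (insert l B) := by
      ext h
      rw [Subgroup.mem_inf, mem_HB, mem_HB, mem_centralizer_iff']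
      simp only [Finset.mem_insert, forall_eq_or_imp]
      refine ⟨fun hh => ⟨mem_H_of_coprime hD hl hh.2 ?_, hh.1⟩,
        fun hh => ⟨hh.2, (comm_of_mem_H hD hl hh.1).eq.symm⟩⟩
      exact (hD.coprime _ (hBA b hb) _ hl).coprime_dvd_left
        (Subgroup.orderOf_dvd_natCard _ (hh.1 b hb))
    have key := sum_coset_eq (HB L H B) (l : G) hnorm hcop φ fun z _ y => hφc z y
    rw [hinf, nsmul_eq_mul, nsmul_eq_mul] at key
    simp only [hT]
    have h1 := card_subgroup_ne_zero (HB L H B)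
    have h2 := card_subgroup_ne_zero (HB L H (insert l B))
    field_simp
    linear_combination -key
  have hsingle : ({l} : Finset L) ∈ 𝔅l := (hmem _).mpr ⟨⟨Finset.singleton_nonempty l,
    by simpa using hl⟩, by show Finset.map _ _ = _; rw [Finset.map_singleton]; simp⟩
  rw [← Finset.add_sum_erase _ _ hsingle]
  have hzero : ∑ B ∈ 𝔅l.erase {l}, α l * ((-1 : ℂ) ^ (B.card + 1) * T B l) = 0 := by
    refine Finset.sum_involution (fun B _ => if l ∈ B then B.erase l else insert l B) ?_ ?_ ?_ ?_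
    · intro B hB
      obtain ⟨hB1, hB2⟩ := Finset.mem_erase.mp hB
      obtain ⟨⟨hne, hBA⟩, hlB⟩ := (hmem B).mp hB2
      by_cases hlm : l ∈ B
      · rw [if_pos hlm]
        have hne' : (B.erase l).Nonempty := by
          rw [Finset.nonempty_iff_ne_empty, Ne, Finset.erase_eq_empty_iff, not_or]
          exact ⟨hne.ne_empty, hB1⟩
        have := hTins (B.erase l)
          ((hmem _).mpr ⟨⟨hne', fun b hb => hBA b (Finset.mem_of_mem_erase hb)⟩, hers B hlB⟩)
        rw [Finset.insert_erase hlm] at this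
        rw [this, Finset.card_erase_of_mem hlm, Nat.sub_add_cancel hne.card_pos, pow_succ]
        ring
      · rw [if_neg hlm, hTins B hB2, Finset.card_insert_of_notMem hlm, pow_succ (-1 : ℂ) (B.card + 1)]
        ring
    · intro B _ _
      by_cases hlm : l ∈ B
      · rw [if_pos hlm]; exact fun h => Finset.erase_ne_self.mpr hlm h
      · rw [if_neg hlm]; exact fun h => hlm (h ▸ Finset.mem_insert_self l B)
    · intro B hB
      obtain ⟨hB1, hB2⟩ := Finset.mem_erase.mp hB
      obtain ⟨⟨hne, hBA⟩, hlB⟩ := (hmem B).mp hB2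
      rw [Finset.mem_erase, hmem]
      by_cases hlm : l ∈ B
      · rw [if_pos hlm]
        refine ⟨fun h => ?_, ⟨?_, fun b hb => hBA b (Finset.mem_of_mem_erase hb)⟩, hers B hlB⟩
        · have : l ∈ B.erase l := by rw [h]; simp
          simp at this
        · rw [Finset.nonempty_iff_ne_empty, Ne, Finset.erase_eq_empty_iff, not_or]
          exact ⟨hne.ne_empty, hB1⟩
      · rw [if_neg hlm]
        refine ⟨fun h => ?_, ⟨Finset.insert_nonempty _ _, ?_⟩, hins B hlB⟩
        · obtain ⟨b, hb⟩ := hne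
          have hb' : b ∈ insert l B := Finset.mem_insert_of_mem hb
          rw [h, Finset.mem_singleton] at hb'
          exact hlm (hb' ▸ hb)
        · intro b hb
          rcases Finset.mem_insert.mp hb with rfl | hb
          exacts [hl, hBA b hb]
    · intro B _
      by_cases hlm : l ∈ B <;> simp [hlm, Finset.insert_erase]
  rw [hzero, add_zero]
  have hHs : HB L H ({l} : Finset L) = H (l : G) := by ext; simp [mem_HB]
  simp only [hT, hHs, Finset.card_singleton]
  have hsum : ∑ u : H (l : G), φ ((u : G) * (l : G)) =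
      ∑ x : G, ∑ u : H (l : G), if x * ((l : G) * u) * x⁻¹ = g then 1 else 0 := by
    simp only [hφ]
    rw [Finset.sum_comm]
    exact Finset.sum_congr rfl fun x _ => Finset.sum_congr rfl fun u _ => by
      rw [(comm_of_mem_H hD hl u.2).eq]
  have hsum' : ∑ h : HB L H ({l} : Finset L), φ ((h : G) * (l : G)) =
      ∑ h : H (l : G), φ ((h : G) * (l : G)) :=
    Fintype.sum_equiv (Equiv.subtypeEquivRight fun h => by rw [hHs]) _ _ fun h => rfl
  rw [hsum', hsum]
  ring

/-- The Dade map sends generalized characters to generalized characters. -/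
theorem isGen_dade {α : L → ℂ} (hα : Cfsg.IsGeneralizedCharacter L α)
    (hαA : ∀ x : L, (x : G) ∉ A → α x = 0) :
    Cfsg.IsGeneralizedCharacter G (Cfsg.dadeIsometry A L H α) := by
  classical
  have hαc := isClassFunction_of_isGen hα
  set 𝔅 := Finset.univ.filter fun B : Finset L => B.Nonempty ∧ ∀ b ∈ B, (b : G) ∈ A with h𝔅
  have heq : Cfsg.dadeIsometry A L H α = ∑ B ∈ 𝔅,
      ((-1 : ℂ) ^ (B.card + 1) *
        ((Nat.card (MulAction.stabilizer L B) : ℂ) / (Nat.card L : ℂ))) • term L H α B :=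
    funext fun g => by
      rw [dade_eq_sum hD hαc hαA g, Finset.sum_apply]; rfl
  rw [heq, ← Finset.sum_fiberwise 𝔅 fun B => (Finset.univ.image fun l : L => l • B)]
  refine isGen_sum _ fun O _ => ?_
  rcases Finset.eq_empty_or_nonempty
    (𝔅.filter fun B => (Finset.univ.image fun l : L => l • B) = O) with h0 | ⟨B₀, hB₀⟩
  · rw [h0, Finset.sum_empty]; exact isGen_zero
  obtain ⟨hB, hBO⟩ := Finset.mem_filter.mp hB₀
  obtain ⟨hne, hBA⟩ := (Finset.mem_filter.mp hB).2
  have horb : 𝔅.filter (fun B => (Finset.univ.image fun l : L => l • B) = O) = O := by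
    ext B
    subst hBO
    rw [Finset.mem_filter]
    constructor
    · rintro ⟨-, h⟩
      rw [← h]
      exact Finset.mem_image.mpr ⟨1, Finset.mem_univ _, one_smul L B⟩
    · intro h
      obtain ⟨m, -, rfl⟩ := Finset.mem_image.mp h
      refine ⟨Finset.mem_filter.mpr ⟨Finset.mem_univ _, ?_, ?_⟩, ?_⟩
      · exact hne.map
      · intro y hy
        obtain ⟨b, hb, rfl⟩ := (mem_conj_smul L).mp hy
        exact hD.conj_mem _ m.2 _ (hBA b hb)
      · refine Finset.ext fun C => ?_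
        simp only [Finset.mem_image, Finset.mem_univ, true_and]
        exact ⟨fun ⟨k, hk⟩ => ⟨k * m, by rw [← hk, mul_smul]⟩,
          fun ⟨k, hk⟩ => ⟨k * m⁻¹, by rw [← hk, mul_smul, inv_smul_smul]⟩⟩
  have hcard : O.card * Nat.card (MulAction.stabilizer L B₀) = Nat.card L := by
    rw [← (MulAction.stabilizer L B₀).index_mul_card, MulAction.index_stabilizer]
    congr 1
    rw [← hBO, ← Set.ncard_coe_finset, Finset.coe_image, Finset.coe_univ, Set.image_univ]
    rfl
  have hconst : ∀ B ∈ O, ((-1 : ℂ) ^ (B.card + 1) *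
      ((Nat.card (MulAction.stabilizer L B) : ℂ) / (Nat.card L : ℂ))) • term L H α B =
      ((-1 : ℂ) ^ (B₀.card + 1) *
      ((Nat.card (MulAction.stabilizer L B₀) : ℂ) / (Nat.card L : ℂ))) • term L H α B₀ := by
    intro B hBm
    rw [← hBO] at hBm
    obtain ⟨m, -, rfl⟩ := Finset.mem_image.mp hBm
    rw [term_smul hD hαc hBA m]
    have h1 : (m • B₀).card = B₀.card := Finset.card_map _
    have h2 : Nat.card (MulAction.stabilizer L (m • B₀)) = Nat.card (MulAction.stabilizer L B₀) :=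
      (Nat.card_congr (MulAction.stabilizerEquivStabilizer (g := m) (a := B₀) rfl).toEquiv).symm
    rw [h1, h2]
  rw [horb, Finset.sum_congr rfl hconst, Finset.sum_const, ← Nat.cast_smul_eq_nsmul ℂ, smul_smul]
  rw [show (O.card : ℂ) * ((-1 : ℂ) ^ (B₀.card + 1) *
      ((Nat.card (MulAction.stabilizer L B₀) : ℂ) / (Nat.card L : ℂ))) =
      (((-1 : ℤ) ^ (B₀.card + 1) : ℤ) : ℂ) by
    have hL : (Nat.card L : ℂ) ≠ 0 := card_subgroup_ne_zero L
    rw [← hcard] at hL ⊢
    push_cast at hL ⊢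
    rw [mul_comm ((-1 : ℂ) ^ _), ← mul_assoc, mul_div_assoc', div_self hL, one_mul]]
  exact isGen_intCast_smul (isGen_term hD hα hBA hne) _

end Generalized

end CfsgLib.OddChar.Dade
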