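import Cfsg.Agent.Lib.OddChar.GridCore

/-!
# Arrays of integer vectors of norm three with the inner products of a product grid

* `row_center`: the vectors of one row have a common entry;
* `exists_grid`: the structure of the whole array.
-/

namespace CfsgLib.OddChar.GridVec

variable {ι : Type*} [Fintype ι]

/-- The inner product of integer vectors. -/
def ip (v w : ι → ℤ) : ℤ := ∑ x, v x * w x

theorem ip_comm (v w : ι → ℤ) : ip v w = ip w v :=
  Finset.sum_congr rfl fun _ _ => mul_comm _ _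

/-- An integer vector of norm three and degree `-1`. -/
structure Vec (d : ι → ℤ) (v : ι → ℤ) : Prop where
  norm : ip v v = 3
  deg : ∑ x, v x * d x = -1

variable {d : ι → ℤ} {v w : ι → ℤ}

theorem Vec.cases (hv : Vec d v) (x : ι) : v x = 0 ∨ v x = 1 ∨ v x = -1 := by
  have h : v x * v x ≤ ip v v :=
    Finset.single_le_sum (f := fun y => v y * v y) (fun y _ => mul_self_nonneg _) (Finset.mem_univ x)
  rw [hv.norm] at h
  have h1 : -1 ≤ v x := by nlinarith
  have h2 : v x ≤ 1 := by nlinarith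
  omega

theorem Vec.sq (hv : Vec d v) {x : ι} (h : v x ≠ 0) : v x * v x = 1 := by
  rcases hv.cases x with e | e | e <;> simp_all

open Classical in
/-- The support. -/
noncomputable def supp (v : ι → ℤ) : Finset ι := Finset.univ.filter fun x => v x ≠ 0

@[simp] theorem mem_supp {x : ι} : x ∈ supp v ↔ v x ≠ 0 := by simp [supp]

theorem Vec.card_supp (hv : Vec d v) : (supp v).card = 3 := by
  classical
  have h : ip v v = ((supp v).card : ℤ) := by
    rw [supp, Finset.card_filter, ip, Nat.cast_sum]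
    refine Finset.sum_congr rfl fun x _ => ?_
    rcases hv.cases x with e | e | e <;> simp [e]
  rw [hv.norm] at h
  omega

theorem Vec.exists_third (hv : Vec d v) {x y : ι} (hx : v x ≠ 0) (hy : v y ≠ 0) :
    ∃ z, z ≠ x ∧ z ≠ y ∧ v z ≠ 0 := by
  classical
  obtain ⟨z, hz⟩ : (((supp v).erase x).erase y).Nonempty := by
    rw [← Finset.card_pos]
    have h1 := Finset.pred_card_le_card_erase (s := supp v) (a := x)
    have h2 := Finset.pred_card_le_card_erase (s := (supp v).erase x) (a := y)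
    have := hv.card_supp
    omega
  simp at hz
  exact ⟨z, hz.2.1, hz.1, hz.2.2⟩

theorem Vec.supp_eq [DecidableEq ι] (hv : Vec d v) {x y z : ι} (hx : v x ≠ 0) (hy : v y ≠ 0)
    (hz : v z ≠ 0) (hxy : x ≠ y) (hxz : x ≠ z) (hyz : y ≠ z) : supp v = {x, y, z} := by
  refine (Finset.eq_of_subset_of_card_le ?_ ?_).symm
  · intro u hu
    simp at hu
    rcases hu with rfl | rfl | rfl <;> simpa
  · rw [hv.card_supp, Finset.card_eq_three.mpr ⟨x, y, z, hxy, hxz, hyz, rfl⟩]

theorem Vec.eq_of_ne_zero (hv : Vec d v) {x y z u : ι} (hx : v x ≠ 0) (hy : v y ≠ 0)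
    (hz : v z ≠ 0) (hxy : x ≠ y) (hxz : x ≠ z) (hyz : y ≠ z) (hu : v u ≠ 0) :
    u = x ∨ u = y ∨ u = z := by
  classical
  have : u ∈ supp v := mem_supp.mpr hu
  rw [hv.supp_eq hx hy hz hxy hxz hyz] at this
  simpa using this

theorem Vec.ip_eq (hv : Vec d v) {x y z : ι} (hx : v x ≠ 0) (hy : v y ≠ 0)
    (hz : v z ≠ 0) (hxy : x ≠ y) (hxz : x ≠ z) (hyz : y ≠ z) (w : ι → ℤ) :
    ip v w = v x * w x + v y * w y + v z * w z := by
  classical
  rw [ip, ← Finset.sum_subset (Finset.subset_univ (supp v)) fun u _ hu => by simp at hu; simp [hu],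
    hv.supp_eq hx hy hz hxy hxz hyz, Finset.sum_insert (by simp [hxy, hxz]),
    Finset.sum_insert (by simp [hyz]), Finset.sum_singleton, add_assoc]

variable (hd : ∀ x, 0 < d x)

include hd in
theorem share (hv : Vec d v) (hw : Vec d w) (h : ip v w = 1) :
    ∃ x, v x ≠ 0 ∧ w x = v x ∧ ∀ y, v y ≠ 0 → w y ≠ 0 → y = x := by
  classical
  set S := (supp v).filter fun x => w x ≠ 0 with hS
  have hmem : ∀ {y}, y ∈ S ↔ v y ≠ 0 ∧ w y ≠ 0 := fun {y} => by simp [hS]
  have hsum : ∑ y ∈ S, v y * w y = 1 := by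
    rw [← h, ip]
    refine Finset.sum_subset (Finset.subset_univ _) fun y _ hy => ?_
    by_contra hne
    exact hy (hmem.mpr (mul_ne_zero_iff.mp hne))
  have hpm : ∀ y ∈ S, v y * w y = 1 ∨ v y * w y = -1 := by
    intro y hy
    obtain ⟨h1, h2⟩ := hmem.mp hy
    rcases hv.cases y with e | e | e <;> rcases hw.cases y with e' | e' | e' <;> simp_all
  have hle : S.card ≤ 3 := le_trans (Finset.card_filter_le _ _) hv.card_supp.le
  have hcase : S.card = 1 ∨ S.card = 3 := by
    rcases (show S.card = 0 ∨ S.card = 1 ∨ S.card = 2 ∨ S.card = 3 by omega) with e | e | e | e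
    · simp [Finset.card_eq_zero.mp e] at hsum
    · exact Or.inl e
    · obtain ⟨x, y, hxy, hSe⟩ := Finset.card_eq_two.mp e
      rw [hSe] at hsum hpm
      rw [Finset.sum_pair hxy] at hsum
      have := hpm x (by simp)
      have := hpm y (by simp)
      omega
    · exact Or.inr e
  rcases hcase with e | e
  · obtain ⟨x, hx⟩ := Finset.card_eq_one.mp e
    obtain ⟨h1, h2⟩ := hmem.mp (hx ▸ Finset.mem_singleton_self x : x ∈ S)
    rw [hx, Finset.sum_singleton] at hsum
    refine ⟨x, h1, ?_, fun y hy hy' => Finset.mem_singleton.mp (hx ▸ hmem.mpr ⟨hy, hy'⟩)⟩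
    linear_combination (v x) * hsum - (w x) * hv.sq h1
  · exfalso
    obtain ⟨x, y, z, hxy, hxz, hyz, hSe⟩ := Finset.card_eq_three.mp e
    obtain ⟨vx, wx⟩ := hmem.mp (show x ∈ S by simp [hSe])
    obtain ⟨vy, wy⟩ := hmem.mp (show y ∈ S by simp [hSe])
    obtain ⟨vz, wz⟩ := hmem.mp (show z ∈ S by simp [hSe])
    have h3 := hv.ip_eq vx vy vz hxy hxz hyz w
    have h4 := hv.ip_eq vx vy vz hxy hxz hyz d
    have h5 := hw.ip_eq wx wy wz hxy hxz hyz d
    rw [h] at h3
    rw [ip, hv.deg] at h4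
    rw [ip, hw.deg] at h5
    have := hd x
    have := hd y
    have := hd z
    rcases (hv.cases x).resolve_left vx with a | a <;>
      rcases (hw.cases x).resolve_left wx with a' | a' <;>
      rcases (hv.cases y).resolve_left vy with b | b <;>
      rcases (hw.cases y).resolve_left wy with b' | b' <;>
      rcases (hv.cases z).resolve_left vz with c | c <;>
      rcases (hw.cases z).resolve_left wz with c' | c' <;>
      simp only [a, a', b, b', c, c', mul_one, one_mul, mul_neg, neg_mul, neg_neg] at h3 h4 h5 <;>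
      omega

include hd in
theorem share' (hv : Vec d v) (hw : Vec d w) (h : ip v w = 1) {x : ι} (hx : v x ≠ 0)
    (hx' : w x ≠ 0) : w x = v x ∧ ∀ y, v y ≠ 0 → w y ≠ 0 → y = x := by
  obtain ⟨z, -, hz, hu⟩ := share hd hv hw h
  obtain rfl := hu x hx hx'
  exact ⟨hz, hu⟩

theorem exists_other (h : ip v w = 0) {x : ι} (hx : v x ≠ 0) (hx' : w x ≠ 0) :
    ∃ y, y ≠ x ∧ v y ≠ 0 ∧ w y ≠ 0 := by
  by_contra hne
  push Not at hne
  rw [ip, Finset.sum_eq_single x (fun y _ hy => ?_) (by simp)] at h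
  · exact mul_ne_zero hx hx' h
  · by_cases e : v y = 0
    · simp [e]
    · simp [hne y hy e]

include hd in
/-- The configuration `{a,p,P}, {a,q,Q}, {a,r,R}, {p,q,r}` has no dual family. -/
theorem config_center (v w : Fin 4 → ι → ℤ) (hv : ∀ j, Vec d (v j)) (hw : ∀ j, Vec d (w j))
    (hvv : ∀ j l, j ≠ l → ip (v j) (v l) = 1) (hww : ∀ j l, j ≠ l → ip (w j) (w l) = 1)
    (hvw : ∀ j l, ip (v j) (w l) = if j = l then 1 else 0) {a : ι} (h0 : v 0 a ≠ 0)
    (h1 : v 1 a ≠ 0) (h2 : v 2 a ≠ 0) (h3 : v 3 a = 0) : False := by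
  classical
  obtain ⟨p, p0, hp, pu⟩ := share hd (hv 0) (hv 3) (hvv _ _ (by decide))
  obtain ⟨q, q1, hq, qu⟩ := share hd (hv 1) (hv 3) (hvv _ _ (by decide))
  obtain ⟨r, r2, hr, ru⟩ := share hd (hv 2) (hv 3) (hvv _ _ (by decide))
  have p3 : v 3 p ≠ 0 := by rw [hp]; exact p0
  have q3 : v 3 q ≠ 0 := by rw [hq]; exact q1
  have r3 : v 3 r ≠ 0 := by rw [hr]; exact r2
  have c01 := share' hd (hv 0) (hv 1) (hvv _ _ (by decide)) h0 h1
  have c02 := share' hd (hv 0) (hv 2) (hvv _ _ (by decide)) h0 h2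
  have c12 := share' hd (hv 1) (hv 2) (hvv _ _ (by decide)) h1 h2
  have pa : p ≠ a := fun e => p3 (e ▸ h3)
  have qa : q ≠ a := fun e => q3 (e ▸ h3)
  have ra : r ≠ a := fun e => r3 (e ▸ h3)
  have pq : p ≠ q := fun e => pa (c01.2 p p0 (e ▸ q1))
  have pr : p ≠ r := fun e => pa (c02.2 p p0 (e ▸ r2))
  have qr : q ≠ r := fun e => qa (c12.2 q q1 (e ▸ r2))
  obtain ⟨P, Pa, Pp, P0⟩ := (hv 0).exists_third h0 p0
  obtain ⟨Q, Qa, Qq, Q1⟩ := (hv 1).exists_third h1 q1
  obtain ⟨R, Ra, Rr, R2⟩ := (hv 2).exists_third h2 r2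
  have P3 : v 3 P = 0 := by by_contra e; exact Pp (pu P P0 e)
  have Q3 : v 3 Q = 0 := by by_contra e; exact Qq (qu Q Q1 e)
  have R3 : v 3 R = 0 := by by_contra e; exact Rr (ru R R2 e)
  have PQ : P ≠ Q := fun e => Pa (c01.2 P P0 (e ▸ Q1))
  have PR : P ≠ R := fun e => Pa (c02.2 P P0 (e ▸ R2))
  have QR : Q ≠ R := fun e => Qa (c12.2 Q Q1 (e ▸ R2))
  have Pq : P ≠ q := fun e => q3 (e ▸ P3)
  have Pr : P ≠ r := fun e => r3 (e ▸ P3)
  have Qp : Q ≠ p := fun e => p3 (e ▸ Q3)
  have Qr : Q ≠ r := fun e => r3 (e ▸ Q3)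
  have Rp : R ≠ p := fun e => p3 (e ▸ R3)
  have Rq : R ≠ q := fun e => q3 (e ▸ R3)
  set T : Finset ι := {a, p, P, q, Q, r, R} with hT
  let t : Fin 4 → GridCore.Pt := fun j =>
    ⟨v 0 a * w j a, v 0 p * w j p, v 0 P * w j P, v 1 q * w j q, v 1 Q * w j Q, v 2 r * w j r,
      v 2 R * w j R⟩
  have hsumT : ∀ f : ι → ℤ, ∑ x ∈ T, f x = f a + f p + f P + f q + f Q + f r + f R := by
    intro f
    rw [hT, Finset.sum_insert (by
        simp only [Finset.mem_insert, Finset.mem_singleton, not_or]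
        exact ⟨pa.symm, Pa.symm, qa.symm, Qa.symm, ra.symm, Ra.symm⟩),
      Finset.sum_insert (by
        simp only [Finset.mem_insert, Finset.mem_singleton, not_or]
        exact ⟨Pp.symm, pq, Qp.symm, pr, Rp.symm⟩),
      Finset.sum_insert (by
        simp only [Finset.mem_insert, Finset.mem_singleton, not_or]
        exact ⟨Pq, PQ, Pr, PR⟩),
      Finset.sum_insert (by
        simp only [Finset.mem_insert, Finset.mem_singleton, not_or]
        exact ⟨Qq.symm, qr, Rq.symm⟩),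
      Finset.sum_insert (by
        simp only [Finset.mem_insert, Finset.mem_singleton, not_or]
        exact ⟨Qr, QR⟩),
      Finset.sum_insert (by
        simp only [Finset.mem_singleton]
        exact Rr.symm), Finset.sum_singleton]
    ring
  have sa := (hv 0).sq h0
  have sp := (hv 0).sq p0
  have sP := (hv 0).sq P0
  have sq := (hv 1).sq q1
  have sQ := (hv 1).sq Q1
  have sr := (hv 2).sq r2
  have sR := (hv 2).sq R2
  have hdot : ∀ j l, GridCore.dot (t j) (t l) = ∑ x ∈ T, w j x * w l x := by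
    intro j l
    rw [hsumT]
    simp only [GridCore.dot, t]
    linear_combination (w j a * w l a) * sa + (w j p * w l p) * sp + (w j P * w l P) * sP +
      (w j q * w l q) * sq + (w j Q * w l Q) * sQ + (w j r * w l r) * sr + (w j R * w l R) * sR
  have e0 := (hv 0).ip_eq h0 p0 P0 pa.symm Pa.symm Pp.symm
  have e1 := (hv 1).ip_eq h1 q1 Q1 qa.symm Qa.symm Qq.symm
  have e2 := (hv 2).ip_eq h2 r2 R2 ra.symm Ra.symm Rr.symm
  have e3 := (hv 3).ip_eq p3 q3 r3 pq pr qr
  have hrow : ∀ j l, GridCore.row (t j) l = ip (v l) (w j) := by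
    intro j l
    fin_cases l
    · simp [GridCore.row, t, e0]
    · simp [GridCore.row, t, e1, c01.1]
    · simp [GridCore.row, t, e2, c02.1]
    · simp [GridCore.row, t, e3, hp, hq, hr]
  have hN : ∀ j, ∑ x ∈ T, w j x * w j x ≤ 3 := fun j => by
    rw [← (hw j).norm]
    exact Finset.sum_le_sum_of_subset_of_nonneg (Finset.subset_univ T) fun x _ _ => mul_self_nonneg _
  refine GridCore.core t (fun j => ⟨fun l => ?_, ?_, by rw [hdot]; exact hN j⟩) fun j l hjl => ?_
  · rw [hrow, hvw]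
    exact if_congr eq_comm rfl rfl
  · obtain ⟨x, hx, hx', hxu⟩ := share hd (hv j) (hw j) (by rw [hvw, if_pos rfl])
    have hz : ∀ y, v j y ≠ 0 → y ≠ x → w j y = 0 := fun y hy hyx => by
      by_contra e; exact hyx (hxu y hy e)
    have hsq : ∀ y, v j y ≠ 0 → ∀ c : ℤ, c * c = 1 →
        (c * w j y) * (c * w j y) = if y = x then 1 else 0 := fun y hy c hc => by
      rw [show (c * w j y) * (c * w j y) = (c * c) * (w j y * w j y) by ring, hc, one_mul]
      split_ifs with e
      · rw [e, hx', (hv j).sq hx]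
      · rw [hz y hy e, zero_mul]
    fin_cases j
    · have := (hv 0).eq_of_ne_zero h0 p0 P0 pa.symm Pa.symm Pp.symm hx
      simp only [GridCore.rowSq, t]
      rw [show (![_, _, _, _] : Fin 4 → ℤ) _ = _ from rfl, hsq a h0 _ sa, hsq p p0 _ sp,
        hsq P P0 _ sP]
      rcases this with e | e | e <;> rw [e] <;> simp [pa, Pa, Pp, pa.symm, Pa.symm, Pp.symm]
    · have := (hv 1).eq_of_ne_zero h1 q1 Q1 qa.symm Qa.symm Qq.symm hx
      simp only [GridCore.rowSq, t]
      rw [show (![_, _, _, _] : Fin 4 → ℤ) _ = _ from rfl, hsq a h1 _ sa, hsq q q1 _ sq,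
        hsq Q Q1 _ sQ]
      rcases this with e | e | e <;> rw [e] <;> simp [qa, Qa, Qq, qa.symm, Qa.symm, Qq.symm]
    · have := (hv 2).eq_of_ne_zero h2 r2 R2 ra.symm Ra.symm Rr.symm hx
      simp only [GridCore.rowSq, t]
      rw [show (![_, _, _, _] : Fin 4 → ℤ) _ = _ from rfl, hsq a h2 _ sa, hsq r r2 _ sr,
        hsq R R2 _ sR]
      rcases this with e | e | e <;> rw [e] <;> simp [ra, Ra, Rr, ra.symm, Ra.symm, Rr.symm]
    · have := (hv 3).eq_of_ne_zero p3 q3 r3 pq pr qr hx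
      simp only [GridCore.rowSq, t]
      rw [show (![_, _, _, _] : Fin 4 → ℤ) _ = _ from rfl, hsq p p3 _ sp, hsq q q3 _ sq,
        hsq r r3 _ sr]
      rcases this with e | e | e <;> rw [e] <;> simp [pq, pr, qr, pq.symm, pr.symm, qr.symm]
  · have hsplit : ∑ x ∈ T, w j x * w l x + ∑ x ∈ Finset.univ \ T, w j x * w l x = 1 := by
      rw [add_comm, Finset.sum_sdiff (Finset.subset_univ T)]
      exact hww j l hjl
    have hsj : ∀ k, ∑ x ∈ T, w k x * w k x + ∑ x ∈ Finset.univ \ T, w k x * w k x = 3 := fun k => by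
      rw [add_comm, Finset.sum_sdiff (Finset.subset_univ T)]
      exact (hw k).norm
    have hb : ∀ k k', ∑ x ∈ Finset.univ \ T, w k x * w k' x ≤ ∑ x ∈ Finset.univ \ T, w k x * w k x ∧
        -(∑ x ∈ Finset.univ \ T, w k x * w k' x) ≤ ∑ x ∈ Finset.univ \ T, w k x * w k x := by
      intro k k'
      rw [← Finset.sum_neg_distrib]
      constructor <;> refine Finset.sum_le_sum fun x _ => ?_ <;>
        rcases (hw k).cases x with e | e | e <;> rcases (hw k').cases x with e' | e' | e' <;>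
        simp [e, e']
    have b1 := hb j l
    have b2 := hb l j
    simp only [mul_comm (w l _) (w j _)] at b2
    have := hsj j
    have := hsj l
    refine ⟨?_, ?_, ?_, ?_⟩ <;> rw [hdot, hdot] <;> linarith

include hd in
/-- The configuration of six points with each in two of four vectors has no dual vector. -/
theorem config_parity (v : Fin 4 → ι → ℤ) (hv : ∀ j, Vec d (v j))
    (hvv : ∀ j l, j ≠ l → ip (v j) (v l) = 1)
    (h3 : ∀ x j k l, j ≠ k → j ≠ l → k ≠ l → v j x ≠ 0 → v k x ≠ 0 → v l x = 0)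
    (w : ι → ℤ) (h : ip (v 0) w + ip (v 1) w + ip (v 2) w + ip (v 3) w = 1) : False := by
  classical
  have key : ∀ x, (2 : ℤ) ∣ v 0 x + v 1 x + v 2 x + v 3 x := by
    intro x
    have hex : ∀ j, v j x ≠ 0 → ∃ k, k ≠ j ∧ v k x = v j x := by
      intro j hj
      choose f hf hf' _ using fun k : {k : Fin 4 // k ≠ j} =>
        share hd (hv j) (hv k.1) (hvv _ _ k.2.symm)
      have hinj : Function.Injective f := by
        intro k k' e
        by_contra hne
        refine hf k' ((hf' k').symm.trans ?_)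
        exact h3 (f k') j k.1 k'.1 k.2.symm k'.2.symm (fun h => hne (Subtype.ext h)) (hf k')
          (by rw [← e, hf' k]; exact hf k)
      have hsub : Finset.univ.image f ⊆ supp (v j) := fun z hz => by
        obtain ⟨k, -, rfl⟩ := Finset.mem_image.mp hz
        exact mem_supp.mpr (hf k)
      have hcard : (Finset.univ.image f).card = 3 := by
        rw [Finset.card_image_of_injective _ hinj, Finset.card_univ, Fintype.card_subtype_compl]
        simp
      have : x ∈ Finset.univ.image f := by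
        rw [Finset.eq_of_subset_of_card_le hsub (by rw [(hv j).card_supp, hcard])]
        exact mem_supp.mpr hj
      obtain ⟨k, -, rfl⟩ := Finset.mem_image.mp this
      exact ⟨k.1, k.2, hf' k⟩
    by_cases hall : ∀ j, v j x = 0
    · simp [hall]
    push Not at hall
    obtain ⟨j, hj⟩ := hall
    obtain ⟨k, hk, hkv⟩ := hex j hj
    have hz : ∀ l, l ≠ j → l ≠ k → v l x = 0 := fun l hl hl' =>
      h3 x j k l hk.symm hl.symm hl'.symm hj (hkv ▸ hj)
    refine ⟨v j x, ?_⟩
    have : ∑ l : Fin 4, v l x = v j x + v k x :=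
      Finset.sum_eq_add j k hk.symm (fun l _ hl => hz l hl.1 hl.2) (by simp) (by simp)
    rw [Fin.sum_univ_four] at this
    rw [this, hkv]
    ring
  have h2 : (2 : ℤ) ∣ ip (v 0) w + ip (v 1) w + ip (v 2) w + ip (v 3) w := by
    simp only [ip, ← Finset.sum_add_distrib, ← add_mul]
    exact Finset.dvd_sum fun x _ => Dvd.dvd.mul_right (key x) _
  rw [h] at h2
  omega

omit [Fintype ι] in
theorem fourth : ∀ p q r : Fin 4, p ≠ q → p ≠ r → q ≠ r →
    ∃ s : Fin 4, s ≠ p ∧ s ≠ q ∧ s ≠ r ∧ ∀ t, t = p ∨ t = q ∨ t = r ∨ t = s := by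
  decide

include hd in
/-- The vectors of a row have a common entry, provided there is a second row. -/
theorem row_center {κ : Type*} [Fintype κ] (hκ : 4 ≤ Fintype.card κ) (v w : κ → ι → ℤ)
    (hv : ∀ j, Vec d (v j)) (hw : ∀ j, Vec d (w j))
    (hvv : ∀ j l, j ≠ l → ip (v j) (v l) = 1) (hww : ∀ j l, j ≠ l → ip (w j) (w l) = 1)
    (hvw : ∀ j, ip (v j) (w j) = 1) (hvw0 : ∀ j l, j ≠ l → ip (v j) (w l) = 0) :
    ∃ a s, s ≠ 0 ∧ ∀ j, v j a = s := by
  classical
  have aux : ∀ e : Fin 4 → κ, Function.Injective e → ∀ x,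
      v (e 0) x ≠ 0 → v (e 1) x ≠ 0 → v (e 2) x ≠ 0 → v (e 3) x = 0 → False := by
    intro e he x
    refine config_center hd (v ∘ e) (w ∘ e) (fun j => hv _) (fun j => hw _)
      (fun j l h => hvv _ _ (he.ne h)) (fun j l h => hww _ _ (he.ne h)) fun j l => ?_
    split_ifs with h
    · exact h ▸ hvw _
    · exact hvw0 _ _ (he.ne h)
  obtain ⟨e⟩ : Nonempty (Fin 4 ↪ κ) := Function.Embedding.nonempty_of_card_le (by simpa using hκ)
  obtain ⟨a, ha, ha', -⟩ := share hd (hv (e 0)) (hv (e 1)) (hvv _ _ (e.injective.ne (by decide)))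
  by_cases hall : ∀ j, v j a ≠ 0
  · exact ⟨a, v (e 0) a, ha, fun j => by
      rcases eq_or_ne (e 0) j with rfl | hj
      · rfl
      · exact (share' hd (hv _) (hv j) (hvv _ _ hj) ha (hall j)).1⟩
  exfalso
  push Not at hall
  obtain ⟨k, hk⟩ := hall
  set i := e 0
  set j := e 1
  have hij : i ≠ j := e.injective.ne (by decide)
  have haj : v j a ≠ 0 := by rw [ha']; exact ha
  have hki : k ≠ i := fun h => ha (h ▸ hk)
  have hkj : k ≠ j := fun h => haj (h ▸ hk)
  obtain ⟨l, hli, hlj, hlk⟩ : ∃ l, l ≠ i ∧ l ≠ j ∧ l ≠ k := by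
    obtain ⟨l, hl⟩ : (Finset.univ \ ({i, j, k} : Finset κ)).Nonempty := by
      rw [← Finset.card_pos, Finset.card_univ_sdiff]
      have : ({i, j, k} : Finset κ).card ≤ 3 := Finset.card_le_three
      omega
    simp at hl
    exact ⟨l, hl.1, hl.2.1, hl.2.2⟩
  have inj : ∀ a b c d : κ, a ≠ b → a ≠ c → a ≠ d → b ≠ c → b ≠ d → c ≠ d →
      Function.Injective ![a, b, c, d] := by
    intro a b c d h1 h2 h3 h4 h5 h6 x y hxy
    fin_cases x <;> fin_cases y <;> simp_all [Ne.symm]
  have four : ∀ a b c e : κ, a ≠ b → a ≠ c → a ≠ e → b ≠ c → b ≠ e → c ≠ e → ∀ x,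
      v a x ≠ 0 → v b x ≠ 0 → v c x ≠ 0 → v e x ≠ 0 := fun a b c e h1 h2 h3 h4 h5 h6 x xa xb xc xe =>
    aux _ (inj a b c e h1 h2 h3 h4 h5 h6) x xa xb xc xe
  -- a point in three of the four vectors is in all of them
  refine config_parity hd (v ∘ ![i, j, k, l]) (fun _ => hv _)
    (fun x y hxy => hvv _ _ ((inj i j k l hij hki.symm hli.symm hkj.symm hlj.symm hlk.symm).ne hxy))
    ?_ (w i) ?_
  · intro x p q r hpq hpr hqr hp hq
    by_contra hr
    set g : Fin 4 → κ := ![i, j, k, l] with hg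
    have ginj : Function.Injective g := inj i j k l hij hki.symm hli.symm hkj.symm hlj.symm hlk.symm
    obtain ⟨s, hsp, hsq, hsr, hst⟩ := fourth p q r hpq hpr hqr
    have hs : v (g s) x ≠ 0 := four _ _ _ _ (ginj.ne hpq) (ginj.ne hpr) (ginj.ne hsp.symm)
      (ginj.ne hqr) (ginj.ne hsq.symm) (ginj.ne hsr.symm) x hp hq hr
    have hall4 : ∀ t, v (g t) x ≠ 0 := by
      intro t
      rcases hst t with rfl | rfl | rfl | rfl <;> assumption
    have hax : a = x := (share' hd (hv i) (hv j) (hvv _ _ hij) (hall4 0) (hall4 1)).2 a ha haj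
    exact hall4 2 (by simpa [hg, ← hax] using hk)
  · simp [hvw i, hvw0 j i hij.symm, hvw0 k i hki, hvw0 l i hli]

/-- The inner products of the functions induced from `(1 - φ)(1 - ψ)`, minus one. -/
structure IsGrid {κ₁ κ₂ : Type*} (d : ι → ℤ) (v : κ₁ → κ₂ → ι → ℤ) : Prop where
  vec : ∀ i j, Vec d (v i j)
  same_row : ∀ i j l, j ≠ l → ip (v i j) (v i l) = 1
  same_col : ∀ i k j, i ≠ k → ip (v i j) (v k j) = 1
  apart : ∀ i k j l, i ≠ k → j ≠ l → ip (v i j) (v k l) = 0

theorem IsGrid.swap {κ₁ κ₂ : Type*} {v : κ₁ → κ₂ → ι → ℤ} (h : IsGrid d v) :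
    IsGrid d fun j i => v i j :=
  ⟨fun _ _ => h.vec _ _, fun _ _ _ => h.same_col _ _ _, fun _ _ _ => h.same_row _ _ _,
    fun _ _ _ _ e e' => h.apart _ _ _ _ e' e⟩

open Classical in
/-- The conclusion: a sum of a row term, a column term and an entry term, all supports distinct. -/
def IsSplit {κ₁ κ₂ : Type*} (v : κ₁ → κ₂ → ι → ℤ) : Prop :=
  ∃ (f : κ₁ ⊕ κ₂ ⊕ (κ₁ × κ₂) → ι) (σ : κ₁ ⊕ κ₂ ⊕ (κ₁ × κ₂) → ℤ), Function.Injective f ∧
    (∀ z, σ z = 1 ∨ σ z = -1) ∧
    ∀ i j x, v i j x = (if x = f (.inl i) then σ (.inl i) else 0) +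
      (if x = f (.inr (.inl j)) then σ (.inr (.inl j)) else 0) +
      (if x = f (.inr (.inr (i, j))) then σ (.inr (.inr (i, j))) else 0)

omit [Fintype ι] in
theorem IsSplit.swap {κ₁ κ₂ : Type*} {v : κ₁ → κ₂ → ι → ℤ}
    (h : IsSplit fun j i => v i j) : IsSplit v := by
  obtain ⟨f, σ, hf, hσ, he⟩ := h
  let e : κ₁ ⊕ κ₂ ⊕ (κ₁ × κ₂) → κ₂ ⊕ κ₁ ⊕ (κ₂ × κ₁) := fun z => match z with
    | .inl i => .inr (.inl i)
    | .inr (.inl j) => .inl j
    | .inr (.inr (i, j)) => .inr (.inr (j, i))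
  refine ⟨f ∘ e, σ ∘ e, hf.comp ?_, fun z => hσ _, fun i j x => ?_⟩
  · rintro (i | j | ⟨i, j⟩) (i' | j' | ⟨i', j'⟩) h <;> simp [e] at h <;> simp [h]
  · simp only [he j i x, Function.comp_apply, e]
    ring

include hd in
/-- An array with a dual structure splits, if some factor has at least four members. -/
theorem exists_grid_aux {κ₁ κ₂ : Type*} [Fintype κ₁] [Fintype κ₂] {v : κ₁ → κ₂ → ι → ℤ}
    (h : IsGrid d v) (h₁ : 2 ≤ Fintype.card κ₁) (h₁' : Fintype.card κ₁ ≠ 3)
    (h₂ : 4 ≤ Fintype.card κ₂) : IsSplit v := by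
  classical
  have hrc : ∀ i, ∃ a s, s ≠ 0 ∧ ∀ j, v i j a = s := fun i => by
    obtain ⟨k, hk⟩ := Fintype.exists_ne_of_one_lt_card h₁ i
    exact row_center hd h₂ (v i) (v k) (h.vec i) (h.vec k) (h.same_row i) (h.same_row k)
      (fun j => h.same_col i k j hk.symm) fun j l e => h.apart i k j l hk.symm e
  choose a s hs ha using hrc
  have han : ∀ i j, v i j (a i) ≠ 0 := fun i j => by rw [ha]; exact hs i
  -- two vectors of one row meet in `a i` only
  have hrow : ∀ i j l x, j ≠ l → v i j x ≠ 0 → v i l x ≠ 0 → x = a i := fun i j l x e hx hx' =>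
    (share' hd (h.vec i j) (h.vec i l) (h.same_row i j l e) (han i j) (han i l)).2 x hx hx'
  -- the entry `a i` occurs in no other row
  have hother : ∀ i k l, i ≠ k → v k l (a i) = 0 := by
    intro i k l hik
    by_contra hne
    choose y hy hy1 hy2 using fun j : {j : κ₂ // j ≠ l} =>
      exists_other (h.apart i k j.1 l hik j.2) (han i j.1) hne
    have hinj : Function.Injective y := fun j j' e => Subtype.ext <| by
      by_contra hne'
      exact hy j (hrow i j.1 j'.1 _ hne' (hy1 j) (e ▸ hy1 j'))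
    have hsub : Finset.univ.image y ⊆ (supp (v k l)).erase (a i) := fun z hz => by
      obtain ⟨j, -, rfl⟩ := Finset.mem_image.mp hz
      exact Finset.mem_erase.mpr ⟨hy j, mem_supp.mpr (hy2 j)⟩
    have := Finset.card_le_card hsub
    rw [Finset.card_image_of_injective _ hinj, Finset.card_univ, Fintype.card_subtype_compl,
      Fintype.card_subtype_eq, Finset.card_erase_of_mem (mem_supp.mpr hne),
      (h.vec k l).card_supp] at this
    omega
  -- each column has a common entry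
  have hcol : ∀ j, ∃ c, ∀ i, v i j c ≠ 0 ∧ c ≠ a i := by
    intro j
    have hsh : ∀ i k, i ≠ k → ∃ x, v i j x ≠ 0 ∧ v k j x ≠ 0 ∧ x ≠ a i ∧ x ≠ a k ∧
        ∀ y, v i j y ≠ 0 → v k j y ≠ 0 → y = x := fun i k e => by
      obtain ⟨x, hx, hx', hu⟩ := share hd (h.vec i j) (h.vec k j) (h.same_col i k j e)
      have hx'' : v k j x ≠ 0 := by rw [hx']; exact hx
      exact ⟨x, hx, hx'', fun e' => hx'' (e' ▸ hother i k j e), fun e' => hx (e' ▸ hother k i j e.symm),
        hu⟩
    obtain ⟨i, k, hik⟩ := Fintype.exists_pair_of_one_lt_card (α := κ₁) h₁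
    obtain ⟨c, ci, ck, cai, cak, cu⟩ := hsh i k hik
    refine ⟨c, fun l => ?_⟩
    rcases eq_or_ne l i with rfl | hli
    · exact ⟨ci, cai⟩
    rcases eq_or_ne l k with rfl | hlk
    · exact ⟨ck, cak⟩
    suffices v l j c ≠ 0 from ⟨this, fun e => ci (e ▸ hother l i j hli)⟩
    intro hlc
    obtain ⟨l', hl'⟩ : (Finset.univ \ ({i, k, l} : Finset κ₁)).Nonempty := by
      rw [← Finset.card_pos, Finset.card_univ_sdiff]
      have e3 : ({i, k, l} : Finset κ₁).card = 3 :=
        Finset.card_eq_three.mpr ⟨i, k, l, hik, hli.symm, hlk.symm, rfl⟩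
      have := e3 ▸ Finset.card_le_univ ({i, k, l} : Finset κ₁)
      omega
    simp at hl'
    obtain ⟨hl'i, hl'k, hl'l⟩ := hl'
    obtain ⟨x, xi, xl, xai, xal, -⟩ := hsh i l hli.symm
    obtain ⟨y, yk, yl, yak, yal, -⟩ := hsh k l hlk.symm
    have xc : x ≠ c := fun e => xl (e ▸ hlc)
    have yc : y ≠ c := fun e => yl (e ▸ hlc)
    have xy : x ≠ y := fun e => xc (cu x xi (e ▸ yk))
    have hl : ∀ z, v l j z ≠ 0 → z ≠ a l → z = x ∨ z = y := fun z hz hza => by
      rcases (h.vec l j).eq_of_ne_zero (han l j) xl yl xal.symm yal.symm xy hz with e | e | e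
      · exact absurd e hza
      · exact Or.inl e
      · exact Or.inr e
    obtain ⟨u, ul, ul', ual, ual', uu⟩ := hsh l l' (Ne.symm hl'l)
    have hxl' : v l' j c = 0 := by
      by_contra e
      rcases hl u ul ual with rfl | rfl
      · obtain ⟨w, -, -, -, -, wu⟩ := hsh i l' (Ne.symm hl'i)
        exact xc ((wu u xi ul').trans (wu c ci e).symm)
      · obtain ⟨w, -, -, -, -, wu⟩ := hsh k l' (Ne.symm hl'k)
        exact yc ((wu u yk ul').trans (wu c ck e).symm)
    obtain ⟨z, zi, zl', zai, -, -⟩ := hsh i l' (Ne.symm hl'i)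
    obtain ⟨z', zk, zl'', zak, -, -⟩ := hsh k l' (Ne.symm hl'k)
    have zc : z ≠ c := fun e => zl' (e ▸ hxl')
    have zc' : z' ≠ c := fun e => zl'' (e ▸ hxl')
    have ez : z = x := by
      rcases (h.vec i j).eq_of_ne_zero (han i j) ci xi cai.symm xai.symm xc.symm zi with e | e | e
      · exact absurd e zai
      · exact absurd e zc
      · exact e
    have ez' : z' = y := by
      rcases (h.vec k j).eq_of_ne_zero (han k j) ck yk cak.symm yak.symm yc.symm zk with e | e | e
      · exact absurd e zak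
      · exact absurd e zc'
      · exact e
    exact xy ((uu x xl (ez ▸ zl')).trans (uu y yl (ez' ▸ zl'')).symm)
  choose c hc hca using hcol
  choose e hea hec he using fun i j => (h.vec i j).exists_third (han i j) (hc j i)
  have hac : ∀ i j, a i ≠ c j := fun i j e' => (hca j i) e'.symm
  have hcc : ∀ j l, c j = c l → j = l := fun j l e' => by
    by_contra hne
    obtain ⟨i⟩ : Nonempty κ₁ := Fintype.card_pos_iff.mp (by omega)
    exact hca j i (hrow i j l _ hne (hc j i) (e' ▸ hc l i))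
  have haa : ∀ i k, a i = a k → i = k := fun i k e' => by
    by_contra hne
    obtain ⟨j⟩ : Nonempty κ₂ := Fintype.card_pos_iff.mp (by omega)
    exact han k j (e' ▸ hother i k j hne)
  have hea' : ∀ i j k, e i j ≠ a k := fun i j k e' => by
    rcases eq_or_ne k i with rfl | hne
    · exact hea k j e'
    · exact he i j (e' ▸ hother k i j hne)
  have hec' : ∀ i j l, e i j ≠ c l := fun i j l e' => by
    rcases eq_or_ne l j with rfl | hne
    · exact hec i l e'
    · exact hca l i (hrow i j l _ hne.symm (e' ▸ he i j) (hc l i))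
  have hee : ∀ i j k l, e i j = e k l → i = k ∧ j = l := by
    intro i j k l e'
    rcases eq_or_ne i k with rfl | hik
    · refine ⟨rfl, ?_⟩
      by_contra hne
      exact hea i j (hrow i j l _ hne (he i j) (e' ▸ he i l))
    exfalso
    rcases eq_or_ne j l with rfl | hjl
    · exact hec i j ((share' hd (h.vec i j) (h.vec k j) (h.same_col i k j hik) (hc j i) (hc j k)).2 _
        (he i j) (e' ▸ he k j))
    obtain ⟨y, hy, hy1, hy2⟩ := exists_other (h.apart i k j l hik hjl) (he i j) (e' ▸ he k l)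
    rcases (h.vec i j).eq_of_ne_zero (han i j) (hc j i) (he i j) (hac i j) (hea i j).symm
      (hec i j).symm hy1 with rfl | rfl | rfl
    · exact hy2 (hother i k l hik)
    · rcases (h.vec k l).eq_of_ne_zero (han k l) (hc l k) (he k l) (hac k l) (hea k l).symm
        (hec k l).symm hy2 with e'' | e'' | e''
      · exact hac k j e''.symm
      · exact hjl (hcc _ _ e'')
      · exact hec' k l j e''.symm
    · exact hy rfl
  obtain ⟨i₀⟩ : Nonempty κ₁ := Fintype.card_pos_iff.mp (by omega)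
  obtain ⟨j₀⟩ : Nonempty κ₂ := Fintype.card_pos_iff.mp (by omega)
  let f : κ₁ ⊕ κ₂ ⊕ (κ₁ × κ₂) → ι := fun z => match z with
    | .inl i => a i
    | .inr (.inl j) => c j
    | .inr (.inr (i, j)) => e i j
  let σ : κ₁ ⊕ κ₂ ⊕ (κ₁ × κ₂) → ℤ := fun z => match z with
    | .inl i => s i
    | .inr (.inl j) => v i₀ j (c j)
    | .inr (.inr (i, j)) => v i j (e i j)
  have hσc : ∀ i j, v i j (c j) = v i₀ j (c j) := fun i j => by
    rcases eq_or_ne i i₀ with rfl | hne
    · rfl
    · exact (share' hd (h.vec i₀ j) (h.vec i j) (h.same_col i₀ i j hne.symm) (hc j i₀) (hc j i)).1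
  refine ⟨f, σ, ?_, ?_, fun i j x => ?_⟩
  · rintro (i | j | ⟨i, j⟩) (i' | j' | ⟨i', j'⟩) h' <;> simp only [f] at h'
    · rw [haa _ _ h']
    · exact absurd h' (hac _ _)
    · exact absurd h'.symm (hea' _ _ _)
    · exact absurd h'.symm (hac _ _)
    · rw [hcc _ _ h']
    · exact absurd h'.symm (hec' _ _ _)
    · exact absurd h' (hea' _ _ _)
    · exact absurd h' (hec' _ _ _)
    · obtain ⟨rfl, rfl⟩ := hee _ _ _ _ h'; rfl
  · rintro (i | j | ⟨i, j⟩)
    · simp only [σ, ← ha i j₀]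
      exact ((h.vec i j₀).cases (a i)).resolve_left (han i j₀)
    · exact ((h.vec i₀ j).cases (c j)).resolve_left (hc j i₀)
    · exact ((h.vec i j).cases (e i j)).resolve_left (he i j)
  · simp only [f, σ]
    by_cases hx : v i j x = 0
    · have h1 : x ≠ a i := fun e' => han i j (e' ▸ hx)
      have h2 : x ≠ c j := fun e' => hc j i (e' ▸ hx)
      have h3 : x ≠ e i j := fun e' => he i j (e' ▸ hx)
      simp [hx, h1, h2, h3]
    · rcases (h.vec i j).eq_of_ne_zero (han i j) (hc j i) (he i j) (hac i j) (hea i j).symm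
        (hec i j).symm hx with rfl | rfl | rfl
      · rw [if_pos rfl, if_neg (hac i j), if_neg (hea i j).symm, ha]; ring
      · rw [if_pos rfl, if_neg (hac i j).symm, if_neg (hec i j).symm, hσc]; ring
      · rw [if_pos rfl, if_neg (hea i j), if_neg (hec i j)]; ring

include hd in
theorem exists_grid {κ₁ κ₂ : Type*} [Fintype κ₁] [Fintype κ₂] {v : κ₁ → κ₂ → ι → ℤ}
    (h : IsGrid d v) (h₁ : 2 ≤ Fintype.card κ₁) (h₁' : Fintype.card κ₁ ≠ 3)
    (h₂ : 2 ≤ Fintype.card κ₂) (h₂' : Fintype.card κ₂ ≠ 3)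
    (h₄ : 4 ≤ Fintype.card κ₁ ∨ 4 ≤ Fintype.card κ₂) : IsSplit v :=
  h₄.elim (fun h4 => IsSplit.swap (exists_grid_aux hd h.swap h₂ h₂' h4))
    fun h4 => exists_grid_aux hd h h₁ h₁' h4

end CfsgLib.OddChar.GridVec
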