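import Cfsg.Agent.Lib.OddChar.CyclicTI
import Cfsg.Agent.Lib.OddChar.GridVec

/-!
# Existence of the family attached to a cyclic self-normalising subgroup `W₁ × W₂`

`exists_family`.
-/

namespace CfsgLib.OddChar.CTI

open CfsgLib.Char
open scoped ComplexConjugate

variable {G : Type*} [Group G] {W₁ W₂ : Subgroup G}

theorem card_ne_of_selfNormalizing [Finite G] (hW : Cfsg.IsSelfNormalizingCyclic W₁ W₂) :
    Nat.card W₁ ≠ Nat.card W₂ := by
  classical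
  intro h
  have := Fintype.ofFinite ↥(W₁ ⊔ W₂)
  obtain ⟨hne, -, hdisj, -, hcyc, -⟩ := hW
  let S : Finset ↥(W₁ ⊔ W₂) := Finset.univ.filter fun z => z ^ Nat.card W₁ = 1
  have key : ∀ A : Subgroup G, ∀ hA : A ≤ W₁ ⊔ W₂, Nat.card A = Nat.card W₁ →
      (Finset.univ.filter fun z : ↥(W₁ ⊔ W₂) => (z : G) ∈ A) = S := by
    intro A hA hc
    refine Finset.eq_of_subset_of_card_le (fun z hz => ?_) ?_
    · have hzA := (Finset.mem_filter.mp hz).2
      refine Finset.mem_filter.mpr ⟨Finset.mem_univ _, Subtype.ext ?_⟩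
      have e : (⟨(z : G), hzA⟩ : A) ^ Nat.card A = 1 := pow_card_eq_one'
      simpa [hc] using congrArg Subtype.val e
    · refine (IsCyclic.card_pow_eq_one_le Nat.card_pos).trans (le_of_eq ?_)
      rw [← hc, ← Fintype.card_subtype, ← Nat.card_eq_fintype_card]
      exact (Nat.card_congr (Subgroup.subgroupOfEquivOfLe hA).toEquiv).symm
  refine hne ((Subgroup.eq_bot_iff_forall _).mpr fun a ha => ?_)
  have hm : (⟨a, le_sup_left (a := W₁) ha⟩ : ↥(W₁ ⊔ W₂)) ∈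
      Finset.univ.filter fun z : ↥(W₁ ⊔ W₂) => (z : G) ∈ W₁ := by simp [ha]
  rw [key W₁ le_sup_left rfl, ← key W₂ le_sup_right h.symm] at hm
  have : a ∈ W₁ ⊓ W₂ := ⟨ha, by simpa using hm⟩
  rwa [hdisj] at this

/-- The linear characters of `W` trivial on `A`, other than the trivial one. -/
abbrev Nontriv (W₁ W₂ A : Subgroup G) : Type _ :=
  {φ : ↥(W₁ ⊔ W₂) →* ℂˣ // φ ≠ 1 ∧ ∀ w : ↥(W₁ ⊔ W₂), (w : G) ∈ A → φ w = 1}

theorem card_trivial [Finite G] (B A : Subgroup G) (hB : B ≤ W₁ ⊔ W₂)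
    (hcomm : ∀ a b : ↥(W₁ ⊔ W₂), a * b = b * a)
    (π : ↥(W₁ ⊔ W₂) →* ↥(W₁ ⊔ W₂)) (hπB : ∀ w, (π w : G) ∈ B)
    (hπ : ∀ w : ↥(W₁ ⊔ W₂), (w : G) ∈ B → π w = w)
    (hπA : ∀ w : ↥(W₁ ⊔ W₂), (w : G) ∈ A → π w = 1)
    (hker : ∀ φ : ↥(W₁ ⊔ W₂) →* ℂˣ, (∀ w : ↥(W₁ ⊔ W₂), (w : G) ∈ A → φ w = 1) → φ.comp π = φ) :
    Nat.card {φ : ↥(W₁ ⊔ W₂) →* ℂˣ // ∀ w : ↥(W₁ ⊔ W₂), (w : G) ∈ A → φ w = 1} = Nat.card B := by
  have hB' : ∀ a b : B, a * b = b * a := fun a b =>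
    Subtype.ext (by simpa using congrArg Subtype.val (hcomm ⟨a, hB a.2⟩ ⟨b, hB b.2⟩))
  rw [← card_hom hB']
  let p : ↥(W₁ ⊔ W₂) →* B :=
    MonoidHom.mk' (fun w => ⟨(π w : G), hπB w⟩) fun v w => Subtype.ext (by simp)
  refine Nat.card_congr
    { toFun := fun φ => φ.1.comp (Subgroup.inclusion hB)
      invFun := fun ν => ⟨ν.comp p, fun w hw => ?_⟩
      left_inv := fun φ => Subtype.ext ?_
      right_inv := fun ν => ?_ }
  · have : p w = 1 := Subtype.ext (by simp [p, hπA w hw])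
    simp [this]
  · conv_rhs => rw [← hker φ.1 φ.2]
    rfl
  · ext b
    have e : π (Subgroup.inclusion hB b) = Subgroup.inclusion hB b := hπ _ (by exact b.2)
    have : p (Subgroup.inclusion hB b) = b := Subtype.ext (by simp [p, e])
    simp [this]

theorem card_nontriv [Finite G] (B A : Subgroup G) (hB : B ≤ W₁ ⊔ W₂)
    (hcomm : ∀ a b : ↥(W₁ ⊔ W₂), a * b = b * a)
    (π : ↥(W₁ ⊔ W₂) →* ↥(W₁ ⊔ W₂)) (hπB : ∀ w, (π w : G) ∈ B)
    (hπ : ∀ w : ↥(W₁ ⊔ W₂), (w : G) ∈ B → π w = w)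
    (hπA : ∀ w : ↥(W₁ ⊔ W₂), (w : G) ∈ A → π w = 1)
    (hker : ∀ φ : ↥(W₁ ⊔ W₂) →* ℂˣ, (∀ w : ↥(W₁ ⊔ W₂), (w : G) ∈ A → φ w = 1) → φ.comp π = φ) :
    Nat.card (Nontriv W₁ W₂ A) + 1 = Nat.card B := by
  classical
  have := finite_hom hcomm
  rw [← card_trivial B A hB hcomm π hπB hπ hπA hker, ← Nat.card_unique (α := Unit), ← Nat.card_sum]
  refine Nat.card_congr (Equiv.ofBijective
    (Sum.elim (fun φ => ⟨φ.1, φ.2.2⟩) fun _ => ⟨1, fun _ _ => rfl⟩) ⟨?_, ?_⟩)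
  · rintro (φ | _) (φ' | _) h <;> simp at h
    · exact congrArg Sum.inl (Subtype.ext h)
    · exact absurd h φ.2.1
    · exact absurd h.symm φ'.2.1
    · rfl
  · rintro ⟨φ, hφ⟩
    by_cases h : φ = 1
    · exact ⟨Sum.inr (), Subtype.ext h.symm⟩
    · exact ⟨Sum.inl ⟨φ, h, hφ⟩, rfl⟩

variable [Fintype ↥(W₁ ⊔ W₂)]

/-- A function orthogonal to all the `(1 - φ)(1 - ψ)` vanishes outside `W₁ ∪ W₂`. -/
theorem eq_zero_of_orth (hcomm : ∀ a b : ↥(W₁ ⊔ W₂), a * b = b * a)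
    {π₁ π₂ : ↥(W₁ ⊔ W₂) →* ↥(W₁ ⊔ W₂)} (hπ : ∀ w, π₁ w * π₂ w = w)
    (hπ₁ : ∀ w, (π₁ w : G) ∈ W₁) (hπ₂ : ∀ w, (π₂ w : G) ∈ W₂) {θ : ↥(W₁ ⊔ W₂) → ℂ}
    (hF : ∀ ω : ↥(W₁ ⊔ W₂) →* ℂˣ, Cfsg.classInner (prod (ω.comp π₁) (ω.comp π₂)) θ = 0)
    {w : ↥(W₁ ⊔ W₂)} (hw₁ : (w : G) ∉ W₁) (hw₂ : (w : G) ∉ W₂) : θ w = 0 := by
  classical
  have := finite_hom hcomm
  have := Fintype.ofFinite (↥(W₁ ⊔ W₂) →* ℂˣ)
  have hind : ∀ x : ↥(W₁ ⊔ W₂),
      ∑ ω : ↥(W₁ ⊔ W₂) →* ℂˣ, lin ω w⁻¹ * prod (ω.comp π₁) (ω.comp π₂) x =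
        if x = w then (Nat.card ↥(W₁ ⊔ W₂) : ℂ) else 0 := by
    intro x
    have e : ∀ ω : ↥(W₁ ⊔ W₂) →* ℂˣ, lin ω w⁻¹ * prod (ω.comp π₁) (ω.comp π₂) x =
        lin ω w⁻¹ - lin ω (w⁻¹ * π₁ x) - lin ω (w⁻¹ * π₂ x) + lin ω (w⁻¹ * x) := by
      intro ω
      simp only [prod, lin, MonoidHom.comp_apply, map_mul, Units.val_mul]
      rw [show (ω x : ℂ) = (ω (π₁ x) : ℂ) * (ω (π₂ x) : ℂ) by rw [← Units.val_mul, ← map_mul, hπ]]
      ring
    rw [Finset.sum_congr rfl fun ω _ => e ω, Finset.sum_add_distrib, Finset.sum_sub_distrib,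
      Finset.sum_sub_distrib, sum_lin hcomm, sum_lin hcomm, sum_lin hcomm, sum_lin hcomm]
    rw [if_neg (show ¬ w⁻¹ = 1 from fun h => hw₁ (by rw [inv_eq_one.mp h]; exact W₁.one_mem)),
      if_neg (show ¬ w⁻¹ * π₁ x = 1 from fun h => hw₁ (by rw [inv_mul_eq_one.mp h]; exact hπ₁ x)),
      if_neg (show ¬ w⁻¹ * π₂ x = 1 from fun h => hw₂ (by rw [inv_mul_eq_one.mp h]; exact hπ₂ x))]
    simp only [inv_mul_eq_one, eq_comm (a := w) (b := x), sub_zero, zero_add]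
  have h0 : Cfsg.classInner (fun x : ↥(W₁ ⊔ W₂) => if x = w then (Nat.card ↥(W₁ ⊔ W₂) : ℂ) else 0)
      θ = 0 := by
    rw [show (fun x : ↥(W₁ ⊔ W₂) => if x = w then (Nat.card ↥(W₁ ⊔ W₂) : ℂ) else 0) =
      ∑ ω : ↥(W₁ ⊔ W₂) →* ℂˣ, lin ω w⁻¹ • prod (ω.comp π₁) (ω.comp π₂) from
      funext fun x => by simp [Finset.sum_apply, hind x], classInner_sum_left]
    simp [classInner_smul_left, hF]
  simpa [classInner_def, ite_mul, Nat.card_pos.ne'] using h0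

variable [Fintype G]

/-- The family exists. -/
theorem exists_family (hW : Cfsg.IsSelfNormalizingCyclic W₁ W₂)
    (hodd : Odd (Nat.card ↥(W₁ ⊔ W₂))) :
    ∃ χ : (↥(W₁ ⊔ W₂) →* ℂˣ) → (G → ℂ), Cfsg.IsCyclicTIFamily W₁ W₂ χ := by
  classical
  have hcomm := commute_of_mem hW
  have := finite_hom hcomm
  have := Fintype.ofFinite (↥(W₁ ⊔ W₂) →* ℂˣ)
  obtain ⟨π₁, π₂, hπ, hπ₁, hπ₂, h₁, h₂⟩ := exists_proj hW
  have t₁ : ∀ φ : ↥(W₁ ⊔ W₂) →* ℂˣ, (∀ w : ↥(W₁ ⊔ W₂), (w : G) ∈ W₂ → φ w = 1) →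
      φ.comp π₁ = φ ∧ φ.comp π₂ = 1 := by
    refine fun φ hφ => ⟨MonoidHom.ext fun w => ?_, MonoidHom.ext fun w => by simp [hφ _ (hπ₂ w)]⟩
    conv_rhs => rw [← hπ w]
    simp [hφ _ (hπ₂ w)]
  have t₂ : ∀ φ : ↥(W₁ ⊔ W₂) →* ℂˣ, (∀ w : ↥(W₁ ⊔ W₂), (w : G) ∈ W₁ → φ w = 1) →
      φ.comp π₂ = φ ∧ φ.comp π₁ = 1 := by
    refine fun φ hφ => ⟨MonoidHom.ext fun w => ?_, MonoidHom.ext fun w => by simp [hφ _ (hπ₁ w)]⟩
    conv_rhs => rw [← hπ w]
    simp [hφ _ (hπ₁ w)]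
  -- sizes
  have hc₁ := card_nontriv W₁ W₂ le_sup_left hcomm π₁ hπ₁ (fun w hw => (h₁ w hw).1)
    (fun w hw => (h₂ w hw).1) fun φ hφ => (t₁ φ hφ).1
  have hc₂ := card_nontriv W₂ W₁ le_sup_right hcomm π₂ hπ₂ (fun w hw => (h₂ w hw).2)
    (fun w hw => (h₁ w hw).2) fun φ hφ => (t₂ φ hφ).1
  set κ₁ := Nontriv W₁ W₂ W₂
  set κ₂ := Nontriv W₁ W₂ W₁
  have := Fintype.ofFinite κ₁
  have := Fintype.ofFinite κ₂
  rw [Nat.card_eq_fintype_card] at hc₁ hc₂
  have ho₁ : Odd (Nat.card W₁) := hodd.of_dvd_nat (Subgroup.card_dvd_of_le le_sup_left)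
  have ho₂ : Odd (Nat.card W₂) := hodd.of_dvd_nat (Subgroup.card_dvd_of_le le_sup_right)
  have hne := card_ne_of_selfNormalizing hW
  have hn₁ : Nat.card W₁ ≠ 1 := fun h => hW.1 (Subgroup.eq_bot_of_card_eq _ h)
  have hn₂ : Nat.card W₂ ≠ 1 := fun h => hW.2.1 (Subgroup.eq_bot_of_card_eq _ h)
  rw [Nat.odd_iff] at ho₁ ho₂
  -- the induced functions
  set T : Set G := {t | t ∈ W₁ ⊔ W₂ ∧ t ∉ W₁ ∧ t ∉ W₂} with hT
  have hTI : ∀ g : G, g ∉ W₁ ⊔ W₂ → ∀ t ∈ T, g * t * g⁻¹ ∈ T → t = 1 := fun g hg t ht h =>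
    absurd h.1 (ti_of_selfNormalizing hW g hg t ht)
  let F : κ₁ → κ₂ → ↥(W₁ ⊔ W₂) → ℂ := fun i j => prod i.1 j.1
  have hFT : ∀ i j, ∀ x : ↥(W₁ ⊔ W₂), (x : G) ∉ T → F i j x = 0 := fun i j x hx =>
    prod_eq_zero i.2.2 j.2.2 (by
      by_contra h
      rw [not_or] at h
      exact hx ⟨x.2, h.1, h.2⟩)
  have hF1 : ∀ i j, F i j 1 = 0 := fun i j => prod_eq_zero i.2.2 j.2.2 (Or.inl W₁.one_mem)
  have hFc : ∀ i j, Cfsg.IsClassFunction ↥(W₁ ⊔ W₂) (F i j) := fun i j =>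
    fun a b => by rw [hcomm b a, mul_inv_cancel_right]
  have hFg : ∀ i j, Cfsg.IsGeneralizedCharacter G (Cfsg.indFun (W₁ ⊔ W₂) (F i j)) := fun i j => by
    refine isGen_indFun _ ?_
    simp only [F, prod_eq]
    exact isGen_add (isGen_sub (isGen_sub (isGen_of_irr (isIrrCharacter_units_hom _))
      (isGen_of_irr (isIrrCharacter_units_hom _))) (isGen_of_irr (isIrrCharacter_units_hom _)))
      (isGen_of_irr (isIrrCharacter_units_hom _))
  let one : G → ℂ := fun _ => 1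
  have hone : Cfsg.IsIrrCharacter G one := isIrrCharacter_one
  let β : κ₁ → κ₂ → G → ℂ := fun i j => Cfsg.indFun (W₁ ⊔ W₂) (F i j) - one
  have hβg : ∀ i j, Cfsg.IsGeneralizedCharacter G (β i j) := fun i j => isGen_sub (hFg i j) isGen_one
  have hFone : ∀ i j, Cfsg.classInner (Cfsg.indFun (W₁ ⊔ W₂) (F i j)) one = 1 := fun i j => by
    rw [frobenius_reciprocity _ _ (isClassFunction_const 1)]
    have : (fun _ : ↥(W₁ ⊔ W₂) => (1 : ℂ)) = lin (1 * 1) := by funext w; simp [lin]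
    rw [this, classInner_prod_lin i.2.2 j.2.2 (fun _ _ => rfl) (fun _ _ => rfl)]
    simp [i.2.1.symm, j.2.1.symm]
  have honeF : ∀ i j, Cfsg.classInner one (Cfsg.indFun (W₁ ⊔ W₂) (F i j)) = 1 := fun i j => by
    rw [← classInner_conj_symm, hFone, map_one]
  have hip : ∀ i j k l, Cfsg.classInner (β i j) (β k l) =
      (if i = k then 1 else 0) + (if j = l then 1 else 0) +
        (if i = k then 1 else 0) * (if j = l then 1 else 0) := by
    intro i j k l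
    simp only [β, classInner_sub_left, classInner_sub_right]
    rw [hFone, honeF, classInner_irr_self hone,
      classInner_indFun_of_TI _ T hTI (hFc k l) (hFT i j) (hFT k l) (hF1 i j)]
    simp only [F]
    rw [classInner_prod_prod i.2.2 j.2.2 k.2.2 l.2.2 i.2.1 j.2.1 k.2.1 l.2.1]
    simp only [← Subtype.ext_iff]
    ring
  choose m hm using fun i j (χ : Cfsg.IrrCharacter G) =>
    classInner_gen_int (hβg i j) (isGen_of_irr χ.2)
  choose d hd0 hd using fun χ : Cfsg.IrrCharacter G => exists_degree_pos χ.2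
  have hipm : ∀ i j k l, (GridVec.ip (m i j) (m k l) : ℂ) = Cfsg.classInner (β i j) (β k l) := by
    intro i j k l
    rw [classInner_eq_sum (isClassFunction_of_isGen (hβg i j))]
    simp [GridVec.ip, hm]
  have hexp : ∀ i j, β i j = ∑ χ, (m i j χ : ℂ) • (χ : G → ℂ) := fun i j => by
    conv_lhs => rw [classFun_eq_sum (isClassFunction_of_isGen (hβg i j))]
    simp [hm]
  have hval : ∀ {z : ℤ} {i j k l}, Cfsg.classInner (β i j) (β k l) = (z : ℂ) →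
      GridVec.ip (m i j) (m k l) = z := fun h => by
    rw [← hipm] at h
    exact_mod_cast h
  have hgrid : GridVec.IsGrid (fun χ => (d χ : ℤ)) m := by
    refine ⟨fun i j => ⟨hval (by rw [hip]; norm_num), ?_⟩, fun i j l e => hval (by rw [hip]; simp [e]),
      fun i k j e => hval (by rw [hip]; simp [e]), fun i k j l e e' => hval (by rw [hip]; simp [e, e'])⟩
    have h1 := congrFun (hexp i j) 1
    have h2 : β i j 1 = -1 := by
      simp only [β, one, Pi.sub_apply, indFun_apply, mul_one, inv_mul_cancel]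
      rw [show Cfsg.extendByZero (W₁ ⊔ W₂) (F i j) (1 : G) = 0 from
        (extendByZero_coe (F i j) 1).trans (hF1 i j)]
      simp
    simp only [h2, Finset.sum_apply, Pi.smul_apply, smul_eq_mul, hd] at h1
    exact_mod_cast h1.symm
  obtain ⟨f, σ, hf, hσ, hsplit⟩ := GridVec.exists_grid
    (fun χ => by exact_mod_cast hd0 χ) hgrid (by omega) (by omega) (by omega) (by omega) (by omega)
  -- the family
  let Z := κ₁ ⊕ κ₂ ⊕ (κ₁ × κ₂)
  let sg : Z → ℤ := fun z => match z with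
    | .inl i => -σ (.inl i)
    | .inr (.inl j) => -σ (.inr (.inl j))
    | .inr (.inr p) => σ (.inr (.inr p))
  have hsg : ∀ z, sg z = 1 ∨ sg z = -1 := by
    rintro (i | j | p) <;> simp only [sg]
    · rcases hσ (.inl i) with e | e <;> simp [e]
    · rcases hσ (.inr (.inl j)) with e | e <;> simp [e]
    · exact hσ _
  obtain ⟨i₀⟩ : Nonempty κ₁ := Fintype.card_pos_iff.mp (by omega)
  obtain ⟨j₀⟩ : Nonempty κ₂ := Fintype.card_pos_iff.mp (by omega)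
  have hm0 : ∀ i j, m i j irrOne = 0 := fun i j => by
    have : (m i j irrOne : ℂ) = 0 := by
      rw [← hm i j irrOne]
      show Cfsg.classInner (β i j) one = 0
      simp only [β, classInner_sub_left]
      rw [hFone, classInner_irr_self hone, sub_self]
    exact_mod_cast this
  have hfne : ∀ z, f z ≠ irrOne := by
    intro z hz
    have key : ∃ i j, m i j (f z) = σ z := by
      rcases z with i | j | ⟨i, j⟩
      · exact ⟨i, j₀, by simp [hsplit, hf.eq_iff]⟩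
      · exact ⟨i₀, j, by simp [hsplit, hf.eq_iff]⟩
      · exact ⟨i, j, by simp [hsplit, hf.eq_iff]⟩
    obtain ⟨i, j, e⟩ := key
    rw [hz, hm0] at e
    rcases hσ z with h | h <;> omega
  let I : (↥(W₁ ⊔ W₂) →* ℂˣ) → Option Z := fun ω =>
    if h1 : ω.comp π₁ = 1 then
      if h2 : ω.comp π₂ = 1 then none
      else some (.inr (.inl ⟨ω.comp π₂, h2, fun w hw => by simp [(h₁ w hw).2]⟩))
    else
      if h2 : ω.comp π₂ = 1 then some (.inl ⟨ω.comp π₁, h1, fun w hw => by simp [(h₂ w hw).1]⟩)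
      else some (.inr (.inr (⟨ω.comp π₁, h1, fun w hw => by simp [(h₂ w hw).1]⟩,
        ⟨ω.comp π₂, h2, fun w hw => by simp [(h₁ w hw).2]⟩)))
  have hrec : ∀ ω : ↥(W₁ ⊔ W₂) →* ℂˣ, ω.comp π₁ * ω.comp π₂ = ω := fun ω => MonoidHom.ext fun w => by
    simp [← map_mul, hπ]
  let J : Option Z → (↥(W₁ ⊔ W₂) →* ℂˣ) := fun o => match o with
    | none => 1
    | some (.inl i) => i.1
    | some (.inr (.inl j)) => j.1
    | some (.inr (.inr p)) => p.1.1 * p.2.1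
  have hI : Function.Injective I := Function.LeftInverse.injective (g := J) fun ω => by
    have hr := hrec ω
    by_cases a : ω.comp π₁ = 1
    · rw [a, hom_one_mul] at hr
      by_cases b : ω.comp π₂ = 1
      · simp only [I, dif_pos a, dif_pos b, J]
        exact b.symm.trans hr
      · simp only [I, dif_pos a, dif_neg b, J]
        exact hr
    · by_cases b : ω.comp π₂ = 1
      · rw [b, hom_mul_one] at hr
        simp only [I, dif_neg a, dif_pos b, J]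
        exact hr
      · simp only [I, dif_neg a, dif_neg b, J]
        exact hr
  let val : Option Z → G → ℂ := fun o => match o with
    | none => one
    | some z => (sg z : ℂ) • ((f z : Cfsg.IrrCharacter G) : G → ℂ)
  let X : (↥(W₁ ⊔ W₂) →* ℂˣ) → G → ℂ := fun ω => val (I ω)
  have hsq : ∀ z, (sg z : ℂ) * conj (sg z : ℂ) = 1 := fun z => by
    rcases hsg z with e | e <;> simp [e]
  have hvalip : ∀ o o', Cfsg.classInner (val o) (val o') = if o = o' then 1 else 0 := by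
    have hne1 : ∀ z, ((f z : Cfsg.IrrCharacter G) : G → ℂ) ≠ one := fun z e =>
      hfne z (Subtype.ext e)
    rintro (_ | z) (_ | z') <;> simp only [val]
    · simp [classInner_irr_self hone]
    · simp [classInner_smul_right, classInner_irr_ne hone (f z').2 (hne1 z').symm]
    · simp [classInner_smul_left, classInner_irr_ne (f z).2 hone (hne1 z)]
    · rw [classInner_smul_left, classInner_smul_right, classInner_irrCharacter]
      by_cases e : z = z'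
      · subst e; rcases hsg z with h | h <;> simp [h]
      · simp [e, hf.ne e]
  have hX1 : X 1 = one := by simp [X, I, val]
  have hXφ : ∀ i : κ₁, X i.1 = -(σ (.inl i) : ℂ) • ((f (.inl i) : Cfsg.IrrCharacter G) : G → ℂ) := by
    intro i
    have : I i.1 = some (.inl i) := by simp [I, (t₁ i.1 i.2.2).1, (t₁ i.1 i.2.2).2, i.2.1]
    simp [X, this, val, sg]
  have hXψ : ∀ j : κ₂, X j.1 =
      -(σ (.inr (.inl j)) : ℂ) • ((f (.inr (.inl j)) : Cfsg.IrrCharacter G) : G → ℂ) := by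
    intro j
    have : I j.1 = some (.inr (.inl j)) := by simp [I, (t₂ j.1 j.2.2).1, (t₂ j.1 j.2.2).2, j.2.1]
    simp [X, this, val, sg]
  have hXe : ∀ (i : κ₁) (j : κ₂), X (i.1 * j.1) =
      (σ (.inr (.inr (i, j))) : ℂ) • ((f (.inr (.inr (i, j))) : Cfsg.IrrCharacter G) : G → ℂ) := by
    intro i j
    have e1 : (i.1 * j.1).comp π₁ = i.1 := by
      rw [MonoidHom.mul_comp, (t₁ i.1 i.2.2).1, (t₂ j.1 j.2.2).2, mul_one]
    have e2 : (i.1 * j.1).comp π₂ = j.1 := by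
      rw [MonoidHom.mul_comp, (t₁ i.1 i.2.2).2, (t₂ j.1 j.2.2).1, one_mul]
    have : I (i.1 * j.1) = some (.inr (.inr (i, j))) := by simp [I, e1, e2, i.2.1, j.2.1]
    simp [X, this, val, sg]
  have hind : ∀ (i : κ₁) (j : κ₂), Cfsg.indFun (W₁ ⊔ W₂) (F i j) =
      X 1 - X i.1 - X j.1 + X (i.1 * j.1) := by
    intro i j
    have e : Cfsg.indFun (W₁ ⊔ W₂) (F i j) = one + β i j := by simp [β]
    rw [e, hX1, hXφ, hXψ, hXe, hexp]
    simp only [hsplit, Int.cast_add, Int.cast_ite, Int.cast_zero, add_smul, ite_smul, zero_smul,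
      Finset.sum_add_distrib, Finset.sum_ite_eq', Finset.mem_univ, if_true, neg_smul]
    abel
  have horth : ∀ ω ω', Cfsg.classInner (X ω) (X ω') = if ω = ω' then 1 else 0 := fun ω ω' => by
    rw [hvalip]
    exact if_congr hI.eq_iff rfl rfl
  have hXc : ∀ ω, Cfsg.IsClassFunction G (X ω) := fun ω => by
    show Cfsg.IsClassFunction G (val (I ω))
    rcases I ω with _ | z
    · exact isClassFunction_const 1
    · exact isClassFunction_smul (isClassFunction_of_isIrr (f z).2) _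
  refine ⟨X, ⟨fun ω => ?_, fun ω ω' => by convert horth ω ω', hX1, fun ω w hw₁ hw₂ => ?_, fun φ ψ hφ hψ hφ' hψ' => ?_⟩⟩
  · show Cfsg.IsIrrCharacter G (val (I ω)) ∨ Cfsg.IsIrrCharacter G (-val (I ω))
    rcases I ω with _ | z
    · exact Or.inl hone
    · rcases hsg z with e | e
      · left; simpa [val, e] using (f z).2
      · right; simpa [val, e] using (f z).2
  · have h0 := eq_zero_of_orth hcomm hπ hπ₁ hπ₂
      (θ := (fun x : ↥(W₁ ⊔ W₂) => X ω x) - lin ω) (fun ν => ?_) hw₁ hw₂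
    · exact sub_eq_zero.mp h0
    have ha : ∀ v : ↥(W₁ ⊔ W₂), (v : G) ∈ W₂ → ν.comp π₁ v = 1 := fun v hv => by
      simp [(h₂ v hv).1]
    have hb : ∀ v : ↥(W₁ ⊔ W₂), (v : G) ∈ W₁ → ν.comp π₂ v = 1 := fun v hv => by
      simp [(h₁ v hv).2]
    by_cases n1 : ν.comp π₁ = 1
    · rw [show prod (ν.comp π₁) (ν.comp π₂) = 0 by funext v; simp [prod, n1], classInner_zero_left]
    by_cases n2 : ν.comp π₂ = 1
    · rw [show prod (ν.comp π₁) (ν.comp π₂) = 0 by funext v; simp [prod, n2], classInner_zero_left]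
    rw [classInner_sub_right, ← frobenius_reciprocity _ _ (hXc ω),
      show Cfsg.indFun (W₁ ⊔ W₂) (prod (ν.comp π₁) (ν.comp π₂)) =
        X 1 - X (ν.comp π₁) - X (ν.comp π₂) + X (ν.comp π₁ * ν.comp π₂) from
        hind ⟨_, n1, ha⟩ ⟨_, n2, hb⟩, prod_eq]
    simp only [classInner_add_left, classInner_sub_left, horth, classInner_lin, sub_self]
  · have := hind ⟨φ, hφ, hφ'⟩ ⟨ψ, hψ, hψ'⟩
    rw [hX1] at this
    exact this

end CfsgLib.OddChar.CTI
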