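import Cfsg.Agent.Lib.OddLocal.TypeP
import Cfsg.Agent.Lib.OddLocal.MaxBasic
import Cfsg.Agent.Lib.OddLocal.ActionTools
import Cfsg.Agent.Lib.OddLocal.S15Decomp
import Cfsg.Prelude.Def_OddOrderChar

/-!
# The sets A₁(M), A(M), A₀(M) and the Dade hypothesis

* `not_typeP_of_typeI`, `not_typeIII_IV_of_typeI`, `not_typeIII_IV_of_typeII`: exclusions;
* `typeA1_subset_typeA`, `conj_mem_sets`;
* `dade_of_tame`: the Dade hypothesis from the tame embedding properties (S1391);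
* `ti_of_centralizer`: TI from fusion and small centralisers;
* `centralizer_le_of_typeII`: centralisers of A₁(M) stay in M for Type II.
-/

set_option autoImplicit false

namespace CfsgLib.OddChar.TypeSets

open CfsgLib.OddLocal

universe u

variable {G : Type u} [Group G] [Finite G]

/-- The part of S1391 (and S1355) used for the Dade hypothesis. -/
def TameProp (G : Type u) [Group G] : Prop :=
  ∀ M : Subgroup G, IsCoatom M → ∀ X : Set G, (X = Cfsg.typeA M ∨ X = Cfsg.typeA0 M) →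
    (∀ x ∈ X, ∀ g : G, g * x * g⁻¹ ∈ X → ∃ m ∈ M, m * x * m⁻¹ = g * x * g⁻¹) ∧
      (∀ x ∈ X, ¬ Subgroup.centralizer ({x} : Set G) ≤ M → x ∈ Cfsg.typeA1 M ∧
        ∃! L : Subgroup G, IsCoatom L ∧ Subgroup.centralizer ({x} : Set G) ≤ L) ∧
      ∀ x ∈ X, ¬ Subgroup.centralizer ({x} : Set G) ≤ M → ∀ L : Subgroup G, IsCoatom L →
        Subgroup.centralizer ({x} : Set G) ≤ L →
        Subgroup.centralizer ({x} : Set G) ≤ Subgroup.normalizer
            ((Cfsg.fittingHallOf L ⊓ Subgroup.centralizer ({x} : Set G) : Subgroup G) : Set G) ∧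
        Cfsg.IsComplIn (Cfsg.fittingHallOf L ⊓ Subgroup.centralizer ({x} : Set G))
          (M ⊓ Subgroup.centralizer ({x} : Set G)) (Subgroup.centralizer ({x} : Set G)) ∧
        (∀ y ∈ X, (Nat.card (Cfsg.fittingHallOf L)).Coprime
          (Nat.card ↥(M ⊓ Subgroup.centralizer ({y} : Set G))))

omit [Finite G] in
/-- The derived subgroup is normalised. -/
theorem le_normalizer_derived (M : Subgroup G) :
    M ≤ Subgroup.normalizer ((⁅M, M⁆ : Subgroup G) : Set G) := by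
  rw [← Subgroup.map_subtype_commutator]
  exact le_normalizer_map_subtype M _

omit [Finite G] in
theorem typeP_W₂_le {M W₁ U W₂ : Subgroup G} (hP : Cfsg.IsTypePWith M W₁ U W₂) : W₂ ≤ M :=
  (hP.W₂_le.trans inf_le_left).trans (Subgroup.map_subtype_le _)

omit [Finite G] in
theorem typeP_W_le {M W₁ U W₂ : Subgroup G} (hP : Cfsg.IsTypePWith M W₁ U W₂) :
    W₁ ⊔ W₂ ≤ M :=
  sup_le hP.W₁_compl.2.1 (typeP_W₂_le hP)

omit [Finite G] in
theorem typeP_of_typeII {M : Subgroup G} (h : Cfsg.IsOfTypeII M) : Cfsg.IsOfTypeP M := by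
  obtain ⟨W₁, U, W₂, hP, -⟩ := h
  exact ⟨W₁, U, W₂, hP⟩

omit [Finite G] in
theorem typeP_of_typeIII_IV {M : Subgroup G} (h : Cfsg.IsOfTypeIII M ∨ Cfsg.IsOfTypeIV M) :
    Cfsg.IsOfTypeP M := by
  rcases h with h | h <;> obtain ⟨W₁, U, W₂, hP, -⟩ := h <;> exact ⟨W₁, U, W₂, hP⟩

omit [Finite G] in
theorem typeP_of_typeV {M : Subgroup G} (h : Cfsg.IsOfTypeV M) : Cfsg.IsOfTypeP M := by
  obtain ⟨W₁, U, W₂, hP, -⟩ := h
  exact ⟨W₁, U, W₂, hP⟩

/-- Type I and type P exclude each other. -/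
theorem not_typeP_of_typeI {M : Subgroup G} (hI : Cfsg.IsOfTypeI M) : ¬ Cfsg.IsOfTypeP M := by
  rintro ⟨W₁, U, W₂, hP⟩
  obtain ⟨⟨hsolv, -, -, -, V, -, hcompl, -, ⟨U₀, hU₀V, hexp, hfpf⟩⟩, -⟩ := hI
  have hW₁M : W₁ ≤ M := hP.W₁_compl.2.1
  have hne : Nat.card W₁ ≠ 1 := fun h => hP.W₁_ne (Subgroup.card_eq_one.mp h)
  obtain ⟨r, hr, hrW⟩ := Nat.exists_prime_and_dvd hne
  haveI : Fact r.Prime := ⟨hr⟩
  have hHM' : Cfsg.fittingHallOf M ≤ ⁅M, M⁆ := hP.U_compl.1
  have hcop : (Nat.card W₁).Coprime (Nat.card (Cfsg.fittingHallOf M)) := by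
    refine hP.W₁_hall.coprime_dvd_right ?_
    rw [(relIndex_of_isComplIn hP.W₁_compl).1]
    exact Subgroup.card_dvd_of_le hHM'
  have hrH : ¬ r ∣ Nat.card (Cfsg.fittingHallOf M) := fun h =>
    Nat.not_coprime_of_dvd_of_dvd hr.one_lt hrW h hcop
  have hrV : r ∣ Nat.card V := by
    have h1 : Nat.card (Cfsg.fittingHall M) * Nat.card V = Nat.card M := hcompl.card_mul_card
    have h2 : r ∣ Nat.card (Cfsg.fittingHall M) * Nat.card V :=
      h1 ▸ hrW.trans (Subgroup.card_dvd_of_le hW₁M)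
    rcases hr.dvd_mul.mp h2 with h | h
    · exact absurd (card_fittingHallOf M ▸ h) hrH
    · exact h
  obtain ⟨v, hv⟩ := exists_prime_orderOf_dvd_card' (G := V) r hrV
  have hrU₀ : r ∣ Nat.card U₀ := by
    refine dvd_trans ?_ (Group.exponent_dvd_nat_card (G := U₀))
    rw [hexp, ← hv]
    exact Monoid.order_dvd_exponent v
  obtain ⟨u, hu⟩ := exists_prime_orderOf_dvd_card' (G := U₀) r hrU₀
  have hu1 : (u : M) ≠ 1 := by
    intro h
    have : orderOf u = 1 := by rw [orderOf_eq_one_iff]; exact Subtype.ext h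
    exact hr.one_lt.ne' (hu ▸ this)
  set x : G := ((u : M) : G) with hx
  have hxM : x ∈ M := (u : M).2
  have hπ : Cfsg.IsPiHallOf {p | p ∣ Nat.card W₁} W₁ M :=
    ⟨hW₁M, fun _ _ h => h, fun _ hp h1 h2 =>
      Nat.not_coprime_of_dvd_of_dvd hp.one_lt h1 h2 hP.W₁_hall⟩
  obtain ⟨g, hg, hgle⟩ := exists_conj_le_piHall hsolv hπ
    (Subgroup.zpowers_le.mpr hxM : Subgroup.zpowers x ≤ M) (fun p hp hpd => by
      have ho : orderOf x = r := by
        rw [hx, Subgroup.orderOf_coe, Subgroup.orderOf_coe, hu]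
      rw [Nat.card_zpowers, ho] at hpd
      rw [(Nat.prime_dvd_prime_iff_eq hp hr).mp hpd]
      exact hrW)
  set w : G := g * x * g⁻¹ with hw
  have hwW : w ∈ W₁ := hgle ⟨x, Subgroup.mem_zpowers x, rfl⟩
  have hw1 : w ≠ 1 := by
    intro h
    apply hu1
    have : x = 1 := by simpa [hw] using h
    exact Subtype.ext this
  have hW₂ := hP.W₂_centralizer w hwW hw1
  obtain ⟨y, hyW₂, hy1⟩ :=
    (Subgroup.bot_or_exists_ne_one W₂).resolve_left hP.selfNormalizing.2.1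
  have hyH : y ∈ Cfsg.fittingHallOf M := (hP.W₂_le hyW₂).1
  have hyc : y * w = w * y := Subgroup.mem_centralizer_singleton_iff.mp
    ((hW₂.symm ▸ hyW₂ : y ∈ ⁅M, M⁆ ⊓ Subgroup.centralizer ({w} : Set G))).2
  obtain ⟨⟨y', hy'M⟩, hy', hyy⟩ := Subgroup.mem_map.mp hyH
  have hyy' : y' = y := hyy
  let g' : M := ⟨g, hg⟩
  let z : M := g'⁻¹ * ⟨y', hy'M⟩ * g'
  have hzH : z ∈ Cfsg.fittingHall M := by
    have := (inferInstance : (Cfsg.fittingHall M).Normal).conj_mem _ hy' g'⁻¹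
    simpa [z] using this
  have hzc : (u : M) * z = z * (u : M) := by
    apply Subtype.ext
    show x * (g⁻¹ * y' * g) = g⁻¹ * y' * g * x
    rw [hyy']
    calc x * (g⁻¹ * y * g) = g⁻¹ * (w * y) * g := by rw [hw]; group
      _ = g⁻¹ * (y * w) * g := by rw [hyc]
      _ = g⁻¹ * y * g * x := by rw [hw]; group
  have hz1 := hfpf u u.2 hu1 z hzH hzc
  apply hy1
  have h2 : g⁻¹ * y * g = 1 := by
    have := congrArg Subtype.val hz1
    simpa [z, g', hyy'] using this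
  calc y = g * (g⁻¹ * y * g) * g⁻¹ := by group
    _ = 1 := by rw [h2]; group

/-- Type I is neither of type III nor of type IV. -/
theorem not_typeIII_IV_of_typeI {M : Subgroup G} (hI : Cfsg.IsOfTypeI M) :
    ¬ (Cfsg.IsOfTypeIII M ∨ Cfsg.IsOfTypeIV M) := fun h =>
  not_typeP_of_typeI hI (typeP_of_typeIII_IV h)

omit [Finite G] in
theorem typeCore_eq_fittingHallOf {M : Subgroup G}
    (h : ¬ (Cfsg.IsOfTypeIII M ∨ Cfsg.IsOfTypeIV M)) :
    Cfsg.typeCore M = Cfsg.fittingHallOf M := if_neg h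

omit [Finite G] in
theorem typeCore_eq_derived {M : Subgroup G} (h : Cfsg.IsOfTypeIII M ∨ Cfsg.IsOfTypeIV M) :
    Cfsg.typeCore M = ⁅M, M⁆ := if_pos h

omit [Finite G] in
theorem typeCore_le (M : Subgroup G) : Cfsg.typeCore M ≤ M := by
  classical
  unfold Cfsg.typeCore
  split_ifs
  · exact Subgroup.commutator_le_self M
  · exact fittingHallOf_le M

omit [Finite G] in
theorem le_normalizer_typeCore (M : Subgroup G) :
    M ≤ Subgroup.normalizer (Cfsg.typeCore M : Set G) := by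
  classical
  unfold Cfsg.typeCore
  split_ifs
  · exact le_normalizer_derived M
  · exact le_normalizer_fittingHallOf M

omit [Finite G] in
theorem typeCore_ne_bot {M : Subgroup G} (hF : Cfsg.fittingHallOf M ≠ ⊥) :
    Cfsg.typeCore M ≠ ⊥ := by
  by_cases h : Cfsg.IsOfTypeIII M ∨ Cfsg.IsOfTypeIV M
  · rw [typeCore_eq_derived h]
    obtain ⟨W₁, U, W₂, hP⟩ := typeP_of_typeIII_IV h
    exact fun hb => hF (eq_bot_iff.mpr (hb ▸ hP.U_compl.1))
  · rwa [typeCore_eq_fittingHallOf h]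

omit [Finite G] in
/-- `typeCore M ≤ M'` when M is of type P. -/
theorem typeCore_le_derived {M : Subgroup G} (hP : Cfsg.IsOfTypeP M) :
    Cfsg.typeCore M ≤ ⁅M, M⁆ := by
  classical
  obtain ⟨W₁, U, W₂, hP⟩ := hP
  unfold Cfsg.typeCore
  split_ifs
  · exact le_rfl
  · exact hP.U_compl.1

/-- A₁(M) ⊆ A(M). -/
theorem typeA1_subset_typeA {M : Subgroup G} (hM : Cfsg.IsOfTypeI M ∨ Cfsg.IsOfTypeP M) :
    Cfsg.typeA1 M ⊆ Cfsg.typeA M := by
  classical
  rintro a ⟨ha, ha1⟩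
  have ha1' : a ≠ 1 := by simpa using ha1
  unfold Cfsg.typeA
  split_ifs with h
  · have he := typeCore_eq_fittingHallOf (not_typeIII_IV_of_typeI h)
    exact ⟨typeCore_le M ha, ha1', a, he ▸ ha, ha1', rfl⟩
  · exact ⟨typeCore_le_derived (hM.resolve_left h) ha, ha1', a, ha, ha1', rfl⟩

theorem typeA_subset (M : Subgroup G) : Cfsg.typeA M ⊆ (M : Set G) := by
  classical
  unfold Cfsg.typeA
  split_ifs
  · exact fun a ha => ha.1
  · exact fun a ha => Subgroup.commutator_le_self M ha.1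

theorem typeA0_subset (M : Subgroup G) : Cfsg.typeA0 M ⊆ (M : Set G) := by
  rintro a (ha | ⟨-, W₁, U, W₂, hP, m, hm, w, hw, -, -, rfl⟩)
  · exact typeA_subset M ha
  · exact mul_mem (mul_mem hm (typeP_W_le hP hw)) (inv_mem hm)

omit [Finite G] in
theorem one_notMem_typeA (M : Subgroup G) : (1 : G) ∉ Cfsg.typeA M := by
  classical
  unfold Cfsg.typeA
  split_ifs <;> exact fun h => h.2.1 rfl

omit [Finite G] in
theorem one_notMem_typeA0 (M : Subgroup G) : (1 : G) ∉ Cfsg.typeA0 M := by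
  rintro (h | ⟨-, W₁, U, W₂, -, m, -, w, -, hw, -, he⟩)
  · exact one_notMem_typeA M h
  · apply hw
    have : w = 1 := by simpa [eq_comm] using he
    rw [this]; exact one_mem _

omit [Finite G] in
theorem conj_mem_subgroup {H M : Subgroup G} (hn : M ≤ Subgroup.normalizer (H : Set G))
    {m a : G} (hm : m ∈ M) (ha : a ∈ H) : m * a * m⁻¹ ∈ H :=
  (Subgroup.mem_normalizer_iff.mp (hn hm) a).mp ha

omit [Finite G] in
theorem conj_comm {m a x : G} (h : a * x = x * a) :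
    m * a * m⁻¹ * (m * x * m⁻¹) = m * x * m⁻¹ * (m * a * m⁻¹) := by
  calc m * a * m⁻¹ * (m * x * m⁻¹) = m * (a * x) * m⁻¹ := by group
    _ = m * (x * a) * m⁻¹ := by rw [h]
    _ = m * x * m⁻¹ * (m * a * m⁻¹) := by group

omit [Finite G] in
theorem conj_ne_one {m a : G} (h : a ≠ 1) : m * a * m⁻¹ ≠ 1 := by simpa using h

omit [Finite G] in
/-- The three sets are invariant under M. -/
theorem conj_mem_sets (M : Subgroup G) {A : Set G}
    (hA : A = Cfsg.typeA1 M ∨ A = Cfsg.typeA M ∨ A = Cfsg.typeA0 M) :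
    ∀ m ∈ M, ∀ a ∈ A, m * a * m⁻¹ ∈ A := by
  classical
  intro m hm
  have hA' : ∀ a ∈ Cfsg.typeA M, m * a * m⁻¹ ∈ Cfsg.typeA M := by
    unfold Cfsg.typeA
    split_ifs
    · rintro a ⟨ha, ha1, x, hx, hx1, hc⟩
      exact ⟨mul_mem (mul_mem hm ha) (inv_mem hm), conj_ne_one ha1, m * x * m⁻¹,
        conj_mem_subgroup (le_normalizer_fittingHallOf M) hm hx, conj_ne_one hx1, conj_comm hc⟩
    · rintro a ⟨ha, ha1, x, hx, hx1, hc⟩
      exact ⟨conj_mem_subgroup (le_normalizer_derived M) hm ha, conj_ne_one ha1, m * x * m⁻¹,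
        conj_mem_subgroup (le_normalizer_typeCore M) hm hx, conj_ne_one hx1, conj_comm hc⟩
  rcases hA with rfl | rfl | rfl
  · rintro a ⟨ha, ha1⟩
    exact ⟨conj_mem_subgroup (le_normalizer_typeCore M) hm ha,
      by simpa using ha1⟩
  · exact hA'
  · rintro a (ha | ⟨hI, W₁, U, W₂, hP, k, hk, w, hw, h1, h2, rfl⟩)
    · exact Or.inl (hA' a ha)
    · exact Or.inr ⟨hI, W₁, U, W₂, hP, m * k, mul_mem hm hk, w, hw, h1, h2, by group⟩

omit [Finite G] in
theorem sets_subset_A0 (M : Subgroup G) : Cfsg.typeA M ⊆ Cfsg.typeA0 M := fun _ h => Or.inl h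

omit [Finite G] in
/-- The normaliser of a nonempty invariant set of non-identity elements of M is M. -/
theorem normalizer_eq (hG : Cfsg.IsMinSimpleOddOrder G) {M : Subgroup G} (hM : IsCoatom M)
    {A : Set G} (hAM : A ⊆ (M : Set G)) (h1 : (1 : G) ∉ A) (hne : A.Nonempty)
    (hinv : ∀ m ∈ M, ∀ a ∈ A, m * a * m⁻¹ ∈ A) : Subgroup.normalizer A = M := by
  have hle : M ≤ Subgroup.normalizer A := by
    intro m hm
    rw [Subgroup.mem_set_normalizer_iff]
    intro x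
    refine ⟨fun hx => hinv m hm x hx, fun hx => ?_⟩
    have := hinv m⁻¹ (inv_mem hm) _ hx
    have e : m⁻¹ * (m * x * m⁻¹) * m⁻¹⁻¹ = x := by group
    rwa [e] at this
  refine (hM.le_iff.1 hle).resolve_left fun htop => ?_
  haveI := minSimple_isSimple hG
  have hn : (Subgroup.normalClosure A) ≤ M := by
    unfold Subgroup.normalClosure
    rw [Subgroup.closure_le]
    intro x hx
    obtain ⟨a, ha, hc⟩ := Group.mem_conjugatesOfSet_iff.mp hx
    obtain ⟨c, rfl⟩ := isConj_iff.mp hc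
    exact hAM ((Subgroup.mem_set_normalizer_iff.mp (htop ▸ Subgroup.mem_top c) a).mp ha)
  obtain ⟨a, ha⟩ := hne
  rcases (Subgroup.normalClosure_normal (s := A)).eq_bot_or_eq_top with h | h
  · have := Subgroup.subset_normalClosure (s := A) ha
    rw [h] at this
    exact h1 (Subgroup.mem_bot.mp this ▸ ha)
  · exact hM.1 (top_le_iff.1 (h ▸ hn))

/-- The Dade hypothesis for a subset of a tamely embedded set. -/
theorem dade_of_tame_set {M : Subgroup G} {X A : Set G} (hXM : X ⊆ (M : Set G)) (hX1 : (1 : G) ∉ X)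
    (hfus : ∀ x ∈ X, ∀ g : G, g * x * g⁻¹ ∈ X → ∃ m ∈ M, m * x * m⁻¹ = g * x * g⁻¹)
    (hD : ∀ x ∈ X, ¬ Subgroup.centralizer ({x} : Set G) ≤ M → x ∈ Cfsg.typeA1 M ∧
        ∃! L : Subgroup G, IsCoatom L ∧ Subgroup.centralizer ({x} : Set G) ≤ L)
    (hL : ∀ x ∈ X, ¬ Subgroup.centralizer ({x} : Set G) ≤ M → ∀ L : Subgroup G, IsCoatom L →
        Subgroup.centralizer ({x} : Set G) ≤ L →
        Subgroup.centralizer ({x} : Set G) ≤ Subgroup.normalizer
            ((Cfsg.fittingHallOf L ⊓ Subgroup.centralizer ({x} : Set G) : Subgroup G) : Set G) ∧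
        Cfsg.IsComplIn (Cfsg.fittingHallOf L ⊓ Subgroup.centralizer ({x} : Set G))
          (M ⊓ Subgroup.centralizer ({x} : Set G)) (Subgroup.centralizer ({x} : Set G)) ∧
        (∀ y ∈ X, (Nat.card (Cfsg.fittingHallOf L)).Coprime
          (Nat.card ↥(M ⊓ Subgroup.centralizer ({y} : Set G)))))
    (hAX : A ⊆ X) (hinv : ∀ m ∈ M, ∀ a ∈ A, m * a * m⁻¹ ∈ A) :
    Cfsg.DadeHypothesis A M (Cfsg.supportR M) := by
  classical
  -- the two cases for R(a)
  have key : ∀ a ∈ A, (Subgroup.centralizer ({a} : Set G) ≤ M ∧ Cfsg.supportR M a = ⊥) ∨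
      (¬ Subgroup.centralizer ({a} : Set G) ≤ M ∧ ∃ L : Subgroup G, IsCoatom L ∧
        Subgroup.centralizer ({a} : Set G) ≤ L ∧
        Cfsg.supportR M a = Cfsg.fittingHallOf L ⊓ Subgroup.centralizer ({a} : Set G)) := by
    intro a ha
    by_cases hc : Subgroup.centralizer ({a} : Set G) ≤ M
    · exact Or.inl ⟨hc, dif_neg fun h => h.1 hc⟩
    · refine Or.inr ⟨hc, _, (Classical.choose_spec (hD a (hAX ha) hc).2.exists).1,
        (Classical.choose_spec (hD a (hAX ha) hc).2.exists).2, ?_⟩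
      exact dif_pos ⟨hc, (hD a (hAX ha) hc).2⟩
  refine ⟨fun h => hX1 (hAX h), hAX.trans hXM, hinv, fun a ha g hg => hfus a (hAX ha) g (hAX hg),
    ?_, ?_, ?_, ?_, ?_⟩
  · intro a ha
    rcases key a ha with ⟨-, e⟩ | ⟨-, L, -, -, e⟩ <;> rw [e]
    · exact bot_le
    · exact inf_le_right
  · intro a ha c hc u hu
    rcases key a ha with ⟨-, e⟩ | ⟨hn, L, hLc, hLle, e⟩ <;> rw [e] at hu ⊢
    · rw [Subgroup.mem_bot] at hu ⊢
      simp [hu]
    · exact conj_mem_subgroup (hL a (hAX ha) hn L hLc hLle).1 hc hu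
  · intro a ha
    rcases key a ha with ⟨-, e⟩ | ⟨hn, L, hLc, hLle, e⟩ <;> rw [e]
    · exact bot_inf_eq _
    · exact (hL a (hAX ha) hn L hLc hLle).2.1.2.2.1
  · intro a ha
    rcases key a ha with ⟨hc, e⟩ | ⟨hn, L, hLc, hLle, e⟩ <;> rw [e]
    · rw [bot_sup_eq, inf_eq_right.mpr hc]
    · refine le_antisymm (sup_le inf_le_right inf_le_right) fun c hc => ?_
      obtain ⟨r, hr, s, hs, rfl⟩ := (hL a (hAX ha) hn L hLc hLle).2.1.2.2.2 c hc
      exact Subgroup.mul_mem_sup hr hs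
  · intro a ha b hb
    rcases key a ha with ⟨-, e⟩ | ⟨hn, L, hLc, hLle, e⟩ <;> rw [e]
    · simp
    · exact ((hL a (hAX ha) hn L hLc hLle).2.2 b (hAX hb)).coprime_dvd_left
        (Subgroup.card_dvd_of_le inf_le_left)

/-- The Dade hypothesis for a subset of A(M) or of A₀(M). -/
theorem dade_of_tame (ht : TameProp G) {M : Subgroup G} (hM : IsCoatom M) {X A : Set G}
    (hX : X = Cfsg.typeA M ∨ X = Cfsg.typeA0 M) (hAX : A ⊆ X)
    (hinv : ∀ m ∈ M, ∀ a ∈ A, m * a * m⁻¹ ∈ A) :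
    Cfsg.DadeHypothesis A M (Cfsg.supportR M) := by
  obtain ⟨hfus, hD, hL⟩ := ht M hM X hX
  refine dade_of_tame_set ?_ ?_ hfus hD hL hAX hinv
  · rcases hX with rfl | rfl
    · exact typeA_subset M
    · exact typeA0_subset M
  · rcases hX with rfl | rfl
    · exact one_notMem_typeA M
    · exact one_notMem_typeA0 M

omit [Finite G] in
/-- TI from fusion and small centralisers. -/
theorem ti_of_centralizer {M : Subgroup G} {A : Set G}
    (hfus : ∀ x ∈ A, ∀ g : G, g * x * g⁻¹ ∈ A → ∃ m ∈ M, m * x * m⁻¹ = g * x * g⁻¹)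
    (hc : ∀ x ∈ A, Subgroup.centralizer ({x} : Set G) ≤ M)
    (hN : Subgroup.normalizer A = M) : Cfsg.IsTISubset A := by
  intro g hg x hx hgx
  exfalso
  obtain ⟨m, hm, he⟩ := hfus x hx g hgx
  have h1 : m⁻¹ * g ∈ Subgroup.centralizer ({x} : Set G) := by
    rw [Subgroup.mem_centralizer_singleton_iff]
    calc m⁻¹ * g * x = m⁻¹ * (g * x * g⁻¹) * g := by group
      _ = m⁻¹ * (m * x * m⁻¹) * g := by rw [he]
      _ = x * (m⁻¹ * g) := by group
  exact hg (hN ▸ (by simpa using mul_mem hm (hc x hx h1)))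

omit [Finite G] in
theorem centralizer_le_normalizer_of_ti {F : Subgroup G} (hF : Cfsg.IsTISubset (F : Set G))
    {x : G} (hx : x ∈ F) (hx1 : x ≠ 1) :
    Subgroup.centralizer ({x} : Set G) ≤ Subgroup.normalizer (F : Set G) := by
  intro g hg
  by_contra hgn
  refine hx1 (hF g hgn x hx ?_)
  rw [Subgroup.mem_centralizer_singleton_iff.mp hg, mul_inv_cancel_right]
  exact hx

/-- Complements of M_F in M' are conjugate under M. -/
theorem exists_conj_U {M W₁ U W₂ W₁' U' W₂' : Subgroup G} (hs : Group.IsSolvable M)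
    (hP : Cfsg.IsTypePWith M W₁ U W₂) (hP' : Cfsg.IsTypePWith M W₁' U' W₂') :
    ∃ g ∈ M, U'.map (MulAut.conj g).toMonoidHom = U := by
  set π : Set ℕ := {p | p ∣ Nat.card U}
  have hMM : ⁅M, M⁆ ≤ M := Subgroup.commutator_le_self M
  have hcard : ∀ {A B C : Subgroup G}, Cfsg.IsTypePWith M A B C →
      Nat.card (Cfsg.fittingHallOf M) * Nat.card B = Nat.card ↥⁅M, M⁆ := fun h =>
    (card_of_isComplIn h.U_compl).symm
  have e : Nat.card U' = Nat.card U :=
    mul_left_cancel₀ (Nat.card_pos (α := Cfsg.fittingHallOf M)).ne'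
      ((hcard hP').trans (hcard hP).symm)
  have hU : Cfsg.IsPiHallOf π U ⁅M, M⁆ := by
    refine ⟨hP.U_compl.2.1, fun _ _ h => h, fun p hp hpU hpi => ?_⟩
    have h3 : U.relIndex ⁅M, M⁆ = Nat.card (Cfsg.fittingHallOf M) :=
      (relIndex_of_isComplIn hP.U_compl).1
    exact Nat.not_coprime_of_dvd_of_dvd hp.one_lt (h3 ▸ hpi) hpU (typeP_coprime_U hP)
  have hs' : Group.IsSolvable ↥⁅M, M⁆ :=
    haveI := hs
    Group.isSolvable_of_isSolvable_injective (Subgroup.inclusion_injective hMM)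
  obtain ⟨g, hg, hle⟩ := exists_conj_le_piHall hs' hU hP'.U_compl.2.1
    (fun p _ h => by rw [e] at h; exact h)
  refine ⟨g, hMM hg, Subgroup.eq_of_le_of_card_ge hle ?_⟩
  rw [card_map_conj, e]

/-- Type II is neither of type III nor of type IV. -/
theorem not_typeIII_IV_of_typeII {M : Subgroup G} (hs : Group.IsSolvable M)
    (hII : Cfsg.IsOfTypeII M) : ¬ (Cfsg.IsOfTypeIII M ∨ Cfsg.IsOfTypeIV M) := by
  obtain ⟨W₁, U, W₂, hP, -, -, -, -, hN, -, -⟩ := hII
  intro h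
  obtain ⟨A, B, C, hP', hN'⟩ : ∃ A B C : Subgroup G, Cfsg.IsTypePWith M A B C ∧
      Subgroup.normalizer (B : Set G) ≤ M := by
    rcases h with ⟨A, B, C, h1, -, -, -, -, h2⟩ | ⟨A, B, C, h1, -, -, -, -, h2⟩
    exacts [⟨A, B, C, h1, h2⟩, ⟨A, B, C, h1, h2⟩]
  obtain ⟨g, hg, he⟩ := exists_conj_U hs hP hP'
  apply hN
  rw [← he, normalizer_map_conj]
  exact (Subgroup.map_mono hN').trans (map_conj_of_mem hg).le

/-- For Type II, centralisers of elements of A₁(M) stay in M. -/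
theorem centralizer_le_of_typeII (hG : Cfsg.IsMinSimpleOddOrder G) {M : Subgroup G}
    (hM : IsCoatom M) (hII : Cfsg.IsOfTypeII M) :
    ∀ x ∈ Cfsg.typeA1 M, Subgroup.centralizer ({x} : Set G) ≤ M := by
  rintro x ⟨hx, hx1⟩
  have hne : ¬ (Cfsg.IsOfTypeIII M ∨ Cfsg.IsOfTypeIV M) :=
    not_typeIII_IV_of_typeII (maximal_solvable hG hM) hII
  rw [SetLike.mem_coe, typeCore_eq_fittingHallOf hne] at hx
  obtain ⟨W₁, U, W₂, hP, -, -, hTI, -⟩ := hII
  have hFb : Cfsg.fittingOf M ≠ ⊥ := by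
    intro h
    have := fittingHallOf_le_fittingOf M hx
    rw [h] at this
    exact hx1 (by simpa using this)
  have hN := normalizer_eq_of_normal hG hM (fittingOf_le M) hFb (S15.le_normalizer_fittingOf M)
  exact hN ▸ centralizer_le_normalizer_of_ti hTI (fittingHallOf_le_fittingOf M hx)
    (by simpa using hx1)

end CfsgLib.OddChar.TypeSets
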