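import Cfsg.Agent.Lib.OddChar.TypeIProps
import Cfsg.Agent.Lib.OddChar.TypeSets
import Cfsg.Agent.Lib.OddLocal.S16Tame
import Cfsg.Agent.Lib.OddLocal.S16Exhaust

/-!
# The local facts used for Type I, from BG sections 15–16
-/

set_option autoImplicit false
set_option linter.unusedSectionVars false

namespace CfsgLib.OddChar.LocalProps

open CfsgLib.OddLocal

universe u

variable {G : Type u} [Group G] [Finite G] {M : Subgroup G}

theorem conj_mem_typeACore (hG : Cfsg.IsMinSimpleOddOrder G) (B : S15.S16Base G) (hM : IsCoatom M) :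
    ∀ m ∈ M, ∀ a ∈ S15.typeACore M, m * a * m⁻¹ ∈ S15.typeACore M := by
  obtain ⟨K, U, hKU⟩ := S15.exists_decomposition B.h1350 hM B.h1351 B.h1352
  intro m hm a ha
  rw [S15.typeACore_eq hG B hM hKU] at ha ⊢
  exact ⟨S15.conj_mem_sigmaA B.toBase hM hKU hm ha.1, fun h => ha.2 (conj_eq_one_iff.1 h)⟩

theorem typeACore_subset (hG : Cfsg.IsMinSimpleOddOrder G) (B : S15.S16Base G) (hM : IsCoatom M) :
    S15.typeACore M ⊆ (M : Set G) ∧ (1 : G) ∉ S15.typeACore M := by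
  obtain ⟨K, U, hKU⟩ := S15.exists_decomposition B.h1350 hM B.h1351 B.h1352
  rw [S15.typeACore_eq hG B hM hKU]
  exact ⟨fun a ha => ha.1.1.1, fun h => h.2 rfl⟩

/-- S1537 for `A(M)`. -/
theorem dadeA (hG : Cfsg.IsMinSimpleOddOrder G) (B : S15.S16Base G) :
    TypeICoherence.DadeAProp G := by
  intro M hM
  obtain ⟨h1, h2, h3⟩ := S15.tame_embedding hG B hM (X := S15.typeACore M) fun _ h => Or.inl h
  exact TypeSets.dade_of_tame_set (typeACore_subset hG B hM).1 (typeACore_subset hG B hM).2 h1 h2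
    (fun x hx hxM L hL hxL =>
      ⟨(h3 x hx hxM L hL hxL).2.1, (h3 x hx hxM L hL hxL).2.2.1, (h3 x hx hxM L hL hxL).2.2.2.1⟩)
    subset_rfl (conj_mem_typeACore hG B hM)

theorem typeI_core (hG : Cfsg.IsMinSimpleOddOrder G) (B : S15.S16Base G) (hM : IsCoatom M)
    (hI : S15.IsTypeICore M) :
    Cfsg.sigmaCore M = Cfsg.fittingHallOf M ∧ Cfsg.typeCore M = Cfsg.fittingHallOf M := by
  obtain ⟨K, U, hKU⟩ := S15.exists_decomposition B.h1350 hM B.h1351 B.h1352
  have hK := (S15.isTypeICore_iff hG B hM hKU).1 hI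
  have hF := S15.fittingHallOf_eq_of_not_both hG B.toBase hM hKU
    (S15.U_ne_bot_of_K_eq_bot hG B.toBase hM hKU hK)
  exact ⟨hF.symm, (S15.typeCore_eq hG B hM).trans hF.symm⟩

/-- The predecessors of S1540. -/
theorem props (hG : Cfsg.IsMinSimpleOddOrder G) (B : S15.S16Base G)
    (hdisj : ∀ M N : Subgroup G, IsCoatom M → IsCoatom N →
      (∀ g : G, N ≠ M.map (MulAut.conj g).toMonoidHom) →
      Cfsg.tildeOf M ((Cfsg.sigmaCore M : Set G) \ {1}) ∩
        Cfsg.tildeOf N ((Cfsg.sigmaCore N : Set G) \ {1}) = ∅)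
    (hP : TypeIProps.PTypeCentProp G) : TypeIProps.Props G where
  minSimple := hG
  dade := dadeA hG B
  compl M hM hI U hU := by
    obtain ⟨h1, h2, -⟩ := S15.typeI_II_complement hG B hM (Or.inl ⟨hI, hU⟩)
    exact ⟨h1, h2⟩
  tame M hM := by
    obtain ⟨-, h2, h3⟩ := S15.tame_embedding hG B hM (X := S15.typeACore M) fun _ h => Or.inl h
    refine ⟨h2, fun x hx hxM L hL hxL => ?_⟩
    obtain ⟨e1, -, -, -, e5, e6, e7⟩ := h3 x hx hxM L hL hxL
    exact ⟨e1, e5, e6, e7⟩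
  sigma_conj := B.h1378.2
  disjoint := hdisj
  sigma_hall M hM := ⟨(B.h1350 M hM).1, (B.h1350 M hM).2.1⟩
  fitting_le_sigma M hM := S15.fittingHallOf_le_sigmaCore B.h1350 hM hG
  centA M hM p hp hτ A hAM hA hcard := by
    haveI := Fact.mk hp
    exact (B.h1417 M hM p hτ A ⟨hAM, hA, hcard⟩).2.2.2.1
  typeI_core M hM hI := typeI_core hG B hM hI
  ptype_cent := hP

theorem tameAProp (hG : Cfsg.IsMinSimpleOddOrder G) (B : S15.S16Base G) :
    NotAllTypeI.TameAProp G := by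
  intro M hM
  obtain ⟨h1, h2, h3⟩ := S15.tame_embedding hG B hM (X := S15.typeACore M) fun _ h => Or.inl h
  refine ⟨h1, fun x hx hxM => ?_⟩
  obtain ⟨-, L, ⟨hL, hxL⟩, -⟩ := h2 x hx hxM
  exact ⟨L, hL, hxL, (h3 x hx hxM L hL hxL).2.2.2.2.1⟩

theorem sigmaPrimesProp (B : S15.S16Base G) : NotAllTypeI.SigmaPrimesProp G := B.h1378.1

theorem sigmaHallProp (B : S15.S16Base G) : NotAllTypeI.SigmaHallProp G := fun M hM =>
  (B.h1350 M hM).1

theorem sigmaTypeIProp (hG : Cfsg.IsMinSimpleOddOrder G) (B : S15.S16Base G) :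
    NotAllTypeI.SigmaTypeIProp G := fun _ hM hI => (typeI_core hG B hM hI).1.symm

end CfsgLib.OddChar.LocalProps
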