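import Cfsg.Agent.Lib.OddChar.DadeSets
import Cfsg.Agent.Lib.OddChar.LocalProps
import Cfsg.Agent.Lib.OddLocal.S16Discharge

/-!
# `A₁(M)`, `A(M)`, `A₀(M)` as defined from the types, compared with the sets read in `M_F`

The sets of the statements are contained in the sets `typeACore`, `typeA0Core`, so the tame
embedding gives `TameProp`, hence S1537 and S1538, without deciding when `M` is of type I.
-/

set_option autoImplicit false
set_option linter.unusedSectionVars false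

namespace CfsgLib.OddChar.SetsFrozen

open CfsgLib.OddLocal

universe u

variable {G : Type u} [Group G] [Finite G] {M : Subgroup G}

theorem typeA_subset_core (hG : Cfsg.IsMinSimpleOddOrder G) (hM : IsCoatom M) :
    Cfsg.typeA M ⊆ S15.typeACore M := by
  classical
  by_cases hI : Cfsg.IsOfTypeI M
  · rw [S15.typeACore_of_isOfTypeI hI]
  by_cases hc : S15.IsTypeICore M
  · obtain ⟨-, hcore⟩ := LocalProps.typeI_core hG (S15.s16Base hG) hM hc
    intro a ha
    rw [Cfsg.typeA, if_neg hI] at ha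
    obtain ⟨h1, h2, x, hx, h3⟩ := ha
    rw [S15.typeACore, if_pos hc]
    exact ⟨Subgroup.commutator_le_self M h1, h2, x, hcore ▸ hx, h3⟩
  · rw [S15.typeACore_of_not hc]

theorem typeA0_subset_core (hG : Cfsg.IsMinSimpleOddOrder G) (hM : IsCoatom M) :
    Cfsg.typeA0 M ⊆ S15.typeA0Core M := by
  have B := S15.s16Base hG
  rintro a (ha | ⟨-, W₁, V, W₂, hP, h⟩)
  · exact Or.inl (typeA_subset_core hG hM ha)
  · obtain ⟨K, U, hKU⟩ := S15.exists_decomposition B.h1350 hM B.h1351 B.h1352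
    exact Or.inr ⟨fun hc => S15.K_ne_bot_of_typeP hG B.toBase hM hKU hP
      ((S15.isTypeICore_iff hG B hM hKU).1 hc), W₁, V, W₂, hP, h⟩

/-- The part of S1391 used for the Dade hypothesis. -/
theorem tameProp (hG : Cfsg.IsMinSimpleOddOrder G) : TypeSets.TameProp G := by
  intro M hM X hX
  have hsub : X ⊆ S15.typeA0Core M := by
    rcases hX with rfl | rfl
    · exact fun a ha => typeA0_subset_core hG hM (Or.inl ha)
    · exact typeA0_subset_core hG hM
  obtain ⟨h1, h2, h3⟩ := S15.tame_embedding hG (S15.s16Base hG) hM hsub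
  exact ⟨h1, h2, fun x hx hxM L hL hxL =>
    ⟨(h3 x hx hxM L hL hxL).2.1, (h3 x hx hxM L hL hxL).2.2.1, (h3 x hx hxM L hL hxL).2.2.2.1⟩⟩

theorem coreProp (hG : Cfsg.IsMinSimpleOddOrder G) : TypeSets.CoreProp G := fun _ hM =>
  S15.fittingHallOf_ne_bot hG (S15.s16Base hG).toBase hM

/-- `A₁(M) ⊆ A(M)`. -/
theorem typeA1_subset_typeA (hG : Cfsg.IsMinSimpleOddOrder G) (hM : IsCoatom M) :
    Cfsg.typeA1 M ⊆ Cfsg.typeA M := by
  classical
  have B := S15.s16Base hG
  obtain ⟨K, U, hKU⟩ := S15.exists_decomposition B.h1350 hM B.h1351 B.h1352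
  rintro a ⟨ha, ha1⟩
  have ha1' : a ≠ 1 := by simpa using ha1
  unfold Cfsg.typeA
  split_ifs with h
  · have he := (LocalProps.typeI_core hG B hM (S15.isTypeICore_of_isOfTypeI h)).2
    exact ⟨TypeSets.typeCore_le M ha, ha1', a, he ▸ ha, ha1', rfl⟩
  · refine ⟨?_, ha1', a, ha, ha1', rfl⟩
    have : a ∈ Cfsg.sigmaCore M := S15.typeCore_eq hG B hM ▸ ha
    exact S15.sigmaCore_le_derived B.h1350 B.h1426 hM hKU this

/-- S1537. -/
theorem dade_sets (hG : Cfsg.IsMinSimpleOddOrder G) (hM : IsCoatom M) {A : Set G}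
    (hA : A = Cfsg.typeA1 M ∨ A = Cfsg.typeA M ∨ A = Cfsg.typeA0 M) :
    Subgroup.normalizer A = M ∧ Cfsg.DadeHypothesis A M (Cfsg.supportR M) := by
  obtain ⟨hsub, h1, hne⟩ : A ⊆ Cfsg.typeA0 M ∧ (1 : G) ∉ A ∧ A.Nonempty := by
    have h1 := typeA1_subset_typeA hG hM
    have hne : (Cfsg.typeA1 M).Nonempty := by
      obtain ⟨x, hx, hx1⟩ :=
        (Subgroup.bot_or_exists_ne_one _).resolve_left (TypeSets.typeCore_ne_bot (coreProp hG M hM))
      exact ⟨x, hx, hx1⟩
    rcases hA with rfl | rfl | rfl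
    · exact ⟨h1.trans (TypeSets.sets_subset_A0 M), fun h => h.2 rfl, hne⟩
    · exact ⟨TypeSets.sets_subset_A0 M, TypeSets.one_notMem_typeA M, hne.mono h1⟩
    · exact ⟨subset_rfl, TypeSets.one_notMem_typeA0 M, hne.mono (h1.trans (TypeSets.sets_subset_A0 M))⟩
  exact ⟨TypeSets.normalizer_eq hG hM (hsub.trans (TypeSets.typeA0_subset M)) h1 hne
    (TypeSets.conj_mem_sets M hA),
    TypeSets.dade_of_tame (tameProp hG) hM (Or.inr rfl) hsub (TypeSets.conj_mem_sets M hA)⟩

/-- S1538. -/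
theorem typeII_ti (hG : Cfsg.IsMinSimpleOddOrder G) (hM : IsCoatom M) (hII : Cfsg.IsOfTypeII M)
    {A : Set G} (hA : A = Cfsg.typeA1 M ∨ A = Cfsg.typeA M ∨ A = Cfsg.typeA0 M) :
    Cfsg.IsTISubset A ∧ Subgroup.normalizer A = M := by
  obtain ⟨hN, hD⟩ := dade_sets hG hM hA
  have hsub : A ⊆ Cfsg.typeA0 M := by
    rcases hA with rfl | rfl | rfl
    · exact (typeA1_subset_typeA hG hM).trans (TypeSets.sets_subset_A0 M)
    · exact TypeSets.sets_subset_A0 M
    · exact subset_rfl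
  refine ⟨TypeSets.ti_of_centralizer hD.fusion (fun x hx => ?_) hN, hN⟩
  by_contra hc
  exact hc (TypeSets.centralizer_le_of_typeII hG hM hII x
    ((tameProp hG M hM _ (Or.inr rfl)).2.1 x (hsub hx) hc).1)

end CfsgLib.OddChar.SetsFrozen
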