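import Cfsg.Agent.Lib.OddChar.KernelCoh

/-!
# The characters nontrivial on a central subgroup of the kernel

`diff_eq`, `sum_wt_diff`, `coherent_nontriv_center`.
-/

namespace CfsgLib.OddChar.Above

open CfsgLib.Char CfsgLib.CharNormal CfsgLib.OddChar.Coh

variable {L : Type*} [Group L] [Fintype L] {G : Type*} [Group G] [Fintype G]

/-- A function induced from a character nontrivial on `Z` is outside `S(Z)`. -/
theorem indFun_notMem_above (K : Subgroup L) [K.Normal] (Z : Subgroup L) [Z.Normal] {θ : K → ℂ}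
    (hθ : Cfsg.IsIrrCharacter K θ) (ht : ¬ Triv K Z θ) :
    Cfsg.indFun K θ ∉ Cfsg.inducedIrrAbove K Z := by
  classical
  have := Fintype.ofFinite K
  rintro ⟨θ', hθ', -, ht', he⟩
  obtain ⟨g, rfl⟩ := exists_conj_of_indFun_eq K hθ' hθ he
  exact ht (triv_conjFun K ht' g)

/-- If it consists of irreducible characters, `S ∖ S(Z)` is the set of those nontrivial on `Z`. -/
theorem diff_eq (K : Subgroup L) [K.Normal] (Z : Subgroup L) [Z.Normal] (hZK : Z ≤ K)
    (hirr : ∀ χ ∈ Cfsg.inducedIrrAbove K ⊥ \ Cfsg.inducedIrrAbove K Z, Cfsg.IsIrrCharacter L χ) :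
    Cfsg.inducedIrrAbove K ⊥ \ Cfsg.inducedIrrAbove K Z =
      {χ | Cfsg.IsIrrCharacter L χ ∧ ∃ z ∈ Z, χ z ≠ χ 1} := by
  classical
  have := Fintype.ofFinite K
  ext χ
  refine ⟨fun h => ⟨hirr χ h, ?_⟩, ?_⟩
  · by_contra hcon
    push Not at hcon
    have hχi := hirr χ h
    obtain ⟨⟨θ, hθ, h1, -, rfl⟩, hnot⟩ := h
    refine hnot ⟨θ, hθ, h1, fun a ha => triv_of_constituent K (isCharacter_of_isIrr hχi) hθ ?_
      (hcon a ha), rfl⟩
    rw [← frobenius_reciprocity' K θ (isClassFunction_of_isIrr hχi), classInner_irr_self hχi]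
    exact one_ne_zero
  · rintro ⟨hχi, z, hz, hne⟩
    have hχc := isCharacter_of_isIrr hχi
    obtain ⟨θ, hθ, h0⟩ := exists_constituent (isCharacter_res K hχc)
      (fun e => irr_one_ne_zero hχi (by simpa using congrFun e 1))
    have hc : Cfsg.classInner (Cfsg.indFun K θ) χ ≠ 0 := by
      rw [frobenius_reciprocity K θ (isClassFunction_of_isCharacter hχc), ← classInner_conj_symm]
      exact fun e => h0 (by simpa using e)
    have ht : ¬ Triv K Z θ := fun ht => by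
      refine hne (triv_of_classInner_ne (isCharacter_indFun K (isCharacter_of_isIrr hθ)) hχi hc ?_)
      rw [indFun_one, indFun_apply,
        Finset.sum_congr rfl (g := fun _ => θ 1) fun x _ => by
          have hm : x⁻¹ * z * x ∈ Z := by simpa using ‹Z.Normal›.conj_mem z hz x⁻¹
          rw [extendByZero_of_mem _ (hZK hm)]
          exact ht ⟨_, hZK hm⟩ hm,
        Finset.sum_const, Finset.card_univ, nsmul_eq_mul, ← Nat.card_eq_fintype_card,
        ← K.index_mul_card, Nat.cast_mul]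
      have := (Nat.cast_ne_zero (R := ℂ)).mpr (Nat.card_pos (α := K)).ne'
      field_simp
    have hmem : Cfsg.indFun K θ ∈ Cfsg.inducedIrrAbove K ⊥ \ Cfsg.inducedIrrAbove K Z :=
      ⟨⟨θ, hθ, fun e => ht fun a _ => by rw [e], triv_bot K θ, rfl⟩, indFun_notMem_above K Z hθ ht⟩
    have : Cfsg.indFun K θ = χ := by
      by_contra h
      exact hc (classInner_irr_ne (hirr _ hmem) hχi h)
    exact this ▸ hmem

open Classical in
/-- The weights of `S ∖ S(Z)`. -/
theorem sum_wt_diff (K : Subgroup L) [K.Normal] [Fintype K] (Z : Subgroup L) [Z.Normal] :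
    ∑ φ ∈ (above_finite K ⊥).toFinset \ (above_finite K Z).toFinset, wt φ =
      (K.index : ℝ) * ((Nat.card K : ℝ) - (Z.relIndex K : ℝ)) := by
  rw [Finset.sum_sdiff_eq_sub fun φ h => (Set.Finite.mem_toFinset _).mpr
    (above_le_bot K Z ((Set.Finite.mem_toFinset _).mp h)), sum_wt_above, sum_wt_above,
    Subgroup.relIndex_bot_left]
  ring

/-- The weight of an irreducible character is its squared degree. -/
theorem wt_irr {χ : L → ℂ} (h : Cfsg.IsIrrCharacter L χ) : wt χ = (deg χ : ℝ) ^ 2 := by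
  rw [wt, nrm_eq (n := 1) (by rw [classInner_irr_self h, Nat.cast_one]), Nat.cast_one, div_one]

/-- The degree bound from a central subgroup of a `p`-group kernel. -/
theorem two_mul_le_of_central (K : Subgroup L) [K.Normal] (Z : Subgroup L)
    (hZK : Z ≤ K) (hZc : ∀ z ∈ Z, ∀ k ∈ K, z * k = k * z) {p a k : ℕ} (hp : p.Prime)
    (hZ : Z.relIndex K = p ^ a) {φ : L → ℂ} (hφ : φ ∈ Cfsg.inducedIrrAbove K ⊥)
    (hk : deg φ = K.index * p ^ k) : 2 * k ≤ a := by
  classical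
  have := Fintype.ofFinite K
  obtain ⟨θ, hθ, -, -, rfl⟩ := hφ
  obtain ⟨n, hn⟩ := exists_degree (isCharacter_of_isIrr hθ)
  rw [deg_indFun K hn] at hk
  obtain rfl := Nat.eq_of_mul_eq_mul_left (Nat.pos_of_ne_zero K.index_ne_zero_of_finite) hk
  have h := sq_degree_le hθ (Z.subgroupOf K) (fun d hd c => by
    congr 1
    ext
    simp [hZc d hd c c.2]) hn
  rw [Nat.card_congr (Subgroup.subgroupOfEquivOfLe hZK).toEquiv] at h
  have h2 : Z.relIndex K * Nat.card Z = Nat.card K := by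
    rw [← Nat.card_congr (Subgroup.subgroupOfEquivOfLe hZK).toEquiv]
    exact (Z.subgroupOf K).index_mul_card
  rw [← h2, hZ, ← pow_mul, mul_comm k] at h
  exact (Nat.pow_le_pow_iff_right hp.one_lt).mp (Nat.le_of_mul_le_mul_right h Nat.card_pos)

/-- `S ∖ S(Z)` is coherent. -/
theorem coherent_nontriv_center (K : Subgroup L) [K.Normal] (hsolv : Group.IsSolvable K)
    {τ : (L → ℂ) → (G → ℂ)} {R : (L → ℂ) → Finset (G → ℂ)}
    (hS : Cfsg.IsCoherenceSystem (Cfsg.inducedIrrAbove K ⊥) τ R) (hodd : Odd (Nat.card L))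
    (hnil : Group.IsNilpotent K) (hH₁K : ⁅K, K⁆ < K) (hKL : K < ⊤)
    (hfrob : ∀ k ∈ K, k ∉ ⁅K, K⁆ → ∀ x : L, x * k * x⁻¹ * k⁻¹ ∈ ⁅K, K⁆ → x ∈ K)
    (Z : Subgroup L) [Z.Normal] (hZ1 : Z ≠ ⊥) (hZK : Z ≤ K)
    (hZc : ∀ z ∈ Z, ∀ k ∈ K, z * k = k * z)
    (hirr : ∀ χ ∈ Cfsg.inducedIrrAbove K ⊥ \ Cfsg.inducedIrrAbove K Z, Cfsg.IsIrrCharacter L χ) :
    Cfsg.IsCoherent (Cfsg.inducedIrrAbove K ⊥ \ Cfsg.inducedIrrAbove K Z) {1}ᶜ τ := by
  classical
  have := Fintype.ofFinite K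
  set T := (above_finite K ⊥).toFinset \ (above_finite K Z).toFinset with hT
  have hcoe : (↑T : Set (L → ℂ)) = Cfsg.inducedIrrAbove K ⊥ \ Cfsg.inducedIrrAbove K Z := by
    simp [hT]
  have hTS : ↑T ⊆ Cfsg.inducedIrrAbove K ⊥ := hcoe ▸ Set.sdiff_subset
  have hTirr : ∀ φ ∈ T, Cfsg.IsIrrCharacter L φ := fun φ h => hirr φ (hcoe ▸ h)
  have hTc : ∀ φ ∈ T, Cfsg.conjFun φ ∈ T := fun φ h => by
    rw [← Finset.mem_coe, hcoe] at h ⊢
    exact ⟨above_conj K ⊥ h.1, fun h' => h.2 (conjFun_conjFun φ ▸ above_conj K Z h')⟩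
  have he : (0 : ℝ) < (K.index : ℝ) := by exact_mod_cast Nat.pos_of_ne_zero K.index_ne_zero_of_finite
  have hZlt : Z.relIndex K < Nat.card K := by
    have h2 : Z.relIndex K * Nat.card Z = Nat.card K := by
      rw [← Nat.card_congr (Subgroup.subgroupOfEquivOfLe hZK).toEquiv]
      exact (Z.subgroupOf K).index_mul_card
    have : 1 < Nat.card Z := (Subgroup.one_lt_card_iff_ne_bot Z).mpr hZ1
    have : 0 < Z.relIndex K := Nat.pos_of_ne_zero (Z.subgroupOf K).index_ne_zero_of_finite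
    nlinarith
  have hne : T.Nonempty := by
    rw [Finset.nonempty_iff_ne_empty]
    intro e
    have := sum_wt_diff K Z
    rw [← hT, e, Finset.sum_empty] at this
    have h' : (Z.relIndex K : ℝ) < Nat.card K := by exact_mod_cast hZlt
    nlinarith [mul_pos he (sub_pos.mpr h')]
  rw [← hcoe]
  have : (⁅K, K⁆).Normal := Subgroup.commutator_normal K K
  have : ((⊥ : Subgroup L).subgroupOf K).Normal := inferInstance
  have hker := coherent_kernel K hsolv hS hodd ⊥ bot_le inferInstance ⁅K, K⁆ (sup_bot_eq _).symm hH₁K hKL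
    hfrob
  by_cases hpp : ∃ p n : ℕ, p.Prime ∧ (⊥ : Subgroup L).relIndex K = p ^ n
  swap
  · exact coherent_mono hS hTS subset_rfl hne hTc (hker (Or.inr (Or.inr (Or.inl hpp))))
  obtain ⟨p, n, hp, hpn⟩ := hpp
  rw [Subgroup.relIndex_bot_left] at hpn
  obtain ⟨a, -, ha⟩ := (Nat.dvd_prime_pow hp).mp (hpn ▸ Subgroup.index_dvd_card (Z.subgroupOf K) :
    Z.relIndex K ∣ p ^ n)
  have hdeg : ∀ φ ∈ T, ∃ l, deg φ = K.index * p ^ l := fun φ h =>
    (deg_above_prime_pow K ⊥ hp (by rw [Subgroup.relIndex_bot_left, hpn]) (hTS h)).imp fun _ h => h.2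
  -- `p` is odd and prime to the index
  obtain ⟨b, -, hb⟩ := (Nat.dvd_prime_pow hp).mp (hpn ▸
    Subgroup.index_dvd_card ((⁅K, K⁆).subgroupOf K) : (⁅K, K⁆).relIndex K ∣ p ^ n)
  have hb0 : b ≠ 0 := fun e => hH₁K.not_ge
    (Subgroup.relIndex_eq_one.mp (by rw [hb, e, pow_zero]))
  have hcop : Nat.Coprime K.index p := by
    have h := index_dvd_sub_one K ⁅K, K⁆ K hH₁K.le le_rfl le_rfl hfrob
    rw [hb] at h
    have h1 : Nat.Coprime K.index (p ^ b) := Nat.Coprime.coprime_dvd_left h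
      ((Nat.coprime_self_sub_left (Nat.one_le_pow _ _ hp.pos)).mpr (Nat.coprime_one_left _))
    exact h1.coprime_dvd_right (dvd_pow_self p hb0)
  have hn0 : n ≠ 0 := fun e => by
    rw [hpn, e, pow_zero] at hZlt
    exact (Z.subgroupOf K).index_ne_zero_of_finite (Nat.lt_one_iff.mp hZlt)
  have hp3 : 3 ≤ p := by
    have h : Odd p := (hodd.of_dvd_nat (Subgroup.card_subgroup_dvd_card K)).of_dvd_nat
      (hpn ▸ dvd_pow_self p hn0)
    rcases h with ⟨v, hv⟩
    have := hp.two_le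
    omega
  obtain ⟨χ₁, hχ₁, hmin⟩ := Finset.exists_min_image T deg hne
  obtain ⟨k₀, hk₀⟩ := hdeg χ₁ hχ₁
  refine coherent_chain hS T hTS hTc hχ₁ (fun φ hφ => ⟨hmin φ hφ, ?_⟩) (fun χ hχ hlt => ?_)
  · obtain ⟨l, hl⟩ := hdeg φ hφ
    have := hmin φ hφ
    rw [hk₀, hl] at this ⊢
    exact Nat.mul_dvd_mul_left _ (pow_dvd_pow p ((Nat.pow_le_pow_iff_right hp.one_lt).mp
      (Nat.le_of_mul_le_mul_left this (Nat.pos_of_ne_zero K.index_ne_zero_of_finite))))
  obtain ⟨k, hk⟩ := hdeg χ hχ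
  rw [hk, hk₀] at hlt ⊢
  have hkk : k₀ < k := (Nat.pow_lt_pow_iff_right hp.one_lt).mp (Nat.lt_of_mul_lt_mul_left hlt)
  have hka : 2 * k ≤ a := two_mul_le_of_central K Z hZK hZc hp ha (hTS hχ) hk
  obtain ⟨J, hJ⟩ := sum_large K T hTS (k := k) hp hdeg
  have hsum := Finset.sum_filter_add_sum_filter_not T (fun φ => deg φ < K.index * p ^ k) wt
  rw [hT, sum_wt_diff K Z, ← hT, hJ, hpn, ha] at hsum
  choose! l hl using hdeg
  set V : ℕ := ∑ φ ∈ T.filter (fun φ => deg φ < K.index * p ^ k), (p ^ l φ) ^ 2 with hV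
  have hA : ∑ φ ∈ T.filter (fun φ => deg φ < K.index * p ^ k), wt φ =
      (K.index : ℝ) ^ 2 * (V : ℝ) := by
    rw [hV, Nat.cast_sum, Finset.mul_sum]
    refine Finset.sum_congr rfl fun φ hφ => ?_
    have := (Finset.mem_filter.mp hφ).1
    rw [wt_irr (hTirr φ this), hl φ this]
    push_cast
    ring
  rw [hA] at hsum ⊢
  have hV0 : 0 < V := by
    refine lt_of_lt_of_le (by have := hp.pos; positivity : 0 < (p ^ l χ₁) ^ 2) ?_
    rw [hV]
    exact Finset.single_le_sum (f := fun φ => (p ^ l φ) ^ 2) (fun _ _ => Nat.zero_le _)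
      (Finset.mem_filter.mpr ⟨hχ₁, by rw [hk₀]; exact hlt⟩)
  have hdvd : p ^ (2 * k) ∣ K.index * V := by
    have h1 : (K.index : ℝ) * ((K.index * V + p ^ (2 * k) * J + p ^ a : ℕ) : ℝ) =
        (K.index : ℝ) * ((p ^ n : ℕ) : ℝ) := by push_cast at hsum ⊢; linear_combination hsum
    have h2 : K.index * V + p ^ (2 * k) * J + p ^ a = p ^ n := by
      exact_mod_cast mul_left_cancel₀ he.ne' h1
    have hd2 : p ^ (2 * k) ∣ p ^ n := pow_dvd_pow p (hka.trans (by
      have : p ^ a ≤ p ^ n := by omega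
      exact (Nat.pow_le_pow_iff_right hp.one_lt).mp this))
    rw [← h2] at hd2
    exact (Nat.dvd_add_left (dvd_mul_right _ J)).mp
      ((Nat.dvd_add_left (pow_dvd_pow p hka)).mp hd2)
  have hVge : p ^ (2 * k) ≤ V :=
    Nat.le_of_dvd hV0 ((Nat.Coprime.pow_left _ hcop.symm).dvd_of_dvd_mul_left hdvd)
  have hstep : 2 * p ^ k₀ < p ^ k := by
    have := Nat.mul_le_mul hp3 (le_refl (p ^ k₀))
    have := pow_pos hp.pos k₀
    have : p ^ (k₀ + 1) ≤ p ^ k := Nat.pow_le_pow_right hp.pos hkk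
    rw [pow_succ'] at this
    omega
  have h3 : 2 * (K.index * p ^ k) * (K.index * p ^ k₀) < K.index ^ 2 * V := by
    refine lt_of_lt_of_le ?_ (Nat.mul_le_mul_left _ hVge)
    calc 2 * (K.index * p ^ k) * (K.index * p ^ k₀) = K.index ^ 2 * p ^ k * (2 * p ^ k₀) := by ring
      _ < K.index ^ 2 * p ^ k * p ^ k := Nat.mul_lt_mul_of_pos_left hstep
          (by have := Nat.pos_of_ne_zero K.index_ne_zero_of_finite; have := hp.pos; positivity)
      _ = _ := by ring
  exact_mod_cast h3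

end CfsgLib.OddChar.Above
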