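import Cfsg.Agent.Lib.Char.Ito
import Cfsg.Agent.Lib.CharNormal.Clifford

/-!
# Induction from normal subgroups

* `res_indFun_normal`: the restriction of `Ind θ` is `|N|⁻¹ ∑ g, θ^g`;
* `sum_conjFun_eq`: that sum, grouped by the distinct conjugates;
* `indFun_conjFun`: conjugate functions induce the same function.
-/

namespace CfsgLib.OddChar

open CfsgLib.Char CfsgLib.CharNormal
open scoped ComplexConjugate

variable {G : Type*} [Group G] [Fintype G] (N : Subgroup G) [hN : N.Normal]

theorem res_indFun_normal (θ : N → ℂ) :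
    (fun n : N => Cfsg.indFun N θ n) = (Nat.card N : ℂ)⁻¹ • ∑ g : G, conjFun N g θ := by
  funext n
  rw [Pi.smul_apply, Finset.sum_apply, smul_eq_mul, indFun_apply]
  congr 1
  refine Fintype.sum_equiv (Equiv.inv G) _ _ fun g => ?_
  have hm : g⁻¹ * n * g ∈ N := by simpa using hN.conj_mem n n.2 g⁻¹
  rw [extendByZero_of_mem θ hm, conjFun_apply]
  congr 1
  ext
  simp

theorem sum_conjFun_eq (θ : N → ℂ) :
    ∑ g : G, conjFun N g θ =
      (Nat.card {g : G // conjFun N g θ = θ} : ℂ) •
        ∑ᶠ ψ ∈ {ψ : N → ℂ | ∃ g : G, ψ = conjFun N g θ}, ψ := by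
  classical
  have hset : {ψ : N → ℂ | ∃ g : G, ψ = conjFun N g θ} =
      ↑(Finset.univ.image fun g : G => conjFun N g θ) := by
    ext ψ; simp [eq_comm]
  rw [hset, finsum_mem_coe_finset, Finset.smul_sum,
    ← Finset.sum_fiberwise_of_maps_to (g := fun g : G => conjFun N g θ)
      (t := Finset.univ.image fun g : G => conjFun N g θ)
      (fun g _ => Finset.mem_image_of_mem _ (Finset.mem_univ g))]
  refine Finset.sum_congr rfl fun ψ hψ => ?_
  obtain ⟨g₀, -, rfl⟩ := Finset.mem_image.mp hψ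
  rw [Finset.sum_congr rfl fun g hg => (Finset.mem_filter.mp hg).2, Finset.sum_const,
    ← Nat.cast_smul_eq_nsmul ℂ]
  congr 2
  rw [← Nat.card_eq_finsetCard]
  refine Nat.card_congr ((Equiv.subtypeEquivRight fun g => Finset.mem_filter.trans
    (and_iff_right (Finset.mem_univ g))).trans (Equiv.subtypeEquiv (Equiv.mulRight g₀⁻¹) fun g => ?_))
  rw [Equiv.coe_mulRight, ← conjFun_conjFun]
  constructor
  · intro h
    rw [h, conjFun_inv_conjFun]
  · intro h
    conv_rhs => rw [← h]
    rw [conjFun_conjFun_inv]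

theorem indFun_conjFun (g : G) (θ : N → ℂ) :
    Cfsg.indFun N (conjFun N g θ) = Cfsg.indFun N θ := by
  funext a
  rw [indFun_apply, indFun_apply]
  congr 1
  refine Fintype.sum_equiv (Equiv.mulRight g⁻¹) _ _ fun x => ?_
  by_cases hx : x⁻¹ * a * x ∈ N
  · have hx' : (x * g⁻¹)⁻¹ * a * (x * g⁻¹) ∈ N := by
      have := hN.conj_mem _ hx g
      simpa [mul_assoc] using this
    rw [extendByZero_of_mem _ hx, Equiv.coe_mulRight, extendByZero_of_mem _ hx', conjFun_apply]
    congr 1
    ext
    simp [mul_assoc]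
  · have hx' : (x * g⁻¹)⁻¹ * a * (x * g⁻¹) ∉ N := fun h => hx (by
      have := hN.conj_mem _ h g⁻¹
      simpa [mul_assoc] using this)
    rw [extendByZero_of_notMem _ hx, Equiv.coe_mulRight, extendByZero_of_notMem _ hx']

end CfsgLib.OddChar
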