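import Cfsg.Agent.Lib.Char.Ito
import Cfsg.Agent.Lib.Char.Extension
import Cfsg.Agent.Lib.CharNormal.AbelianQuotient
import Cfsg.Agent.S0867

/-!
# Inertia groups with abelian quotient

* `transfer` lemmas between `H` and `H.subgroupOf T`;
* `indFun_irr_of_inertia`, `indFun_injOn_of_inertia`: the Clifford correspondence;
* `exists_constituents_invariant`: an invariant character with abelian quotient;
* `exists_constituents_inertia`: the general form;
* `multiplicity_eq_one`: the coprime case.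
-/

namespace CfsgLib.OddChar

open CfsgLib.Char CfsgLib.CharNormal
open scoped ComplexConjugate

variable {G : Type*} [Group G] [Fintype G]

section Sub

variable (H T : Subgroup G) (hHT : H ≤ T)

/-- A function on `H`, seen on `H.subgroupOf T`. -/
def toSub (θ : H → ℂ) : H.subgroupOf T → ℂ := fun x =>
  θ ⟨(x : T), Subgroup.mem_subgroupOf.mp x.2⟩

include hHT

omit [Fintype G] in
theorem toSub_eq (θ : H → ℂ) :
    toSub H T θ = θ ∘ (Subgroup.subgroupOfEquivOfLe hHT) := rfl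

omit [Fintype G] in
theorem isIrr_toSub [Fintype H] [Fintype (H.subgroupOf T)] {θ : H → ℂ}
    (hθ : Cfsg.IsIrrCharacter H θ) : Cfsg.IsIrrCharacter (H.subgroupOf T) (toSub H T θ) :=
  isIrr_comp_mulEquiv hθ (Subgroup.subgroupOfEquivOfLe hHT)

omit [Fintype G] in
theorem classInner_toSub [Fintype H] [Fintype (H.subgroupOf T)] (θ : H → ℂ) (ψ : T → ℂ) :
    Cfsg.classInner (fun x : H.subgroupOf T => ψ x) (toSub H T θ) =
      Cfsg.classInner (fun n : H => ψ ⟨n, hHT n.2⟩) θ := by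
  rw [← classInner_comp_mulEquiv (Subgroup.subgroupOfEquivOfLe hHT)
    (fun n : H => ψ ⟨n, hHT n.2⟩) θ]
  rfl

omit [Fintype G] in
theorem classInner_indFun_toSub [Fintype T] [Fintype H] (θ : H → ℂ) {ψ : T → ℂ}
    (hψ : Cfsg.IsClassFunction T ψ) :
    Cfsg.classInner (Cfsg.indFun (H.subgroupOf T) (toSub H T θ)) ψ =
      conj (Cfsg.classInner (fun n : H => ψ ⟨n, hHT n.2⟩) θ) := by
  have := Fintype.ofFinite (H.subgroupOf T)
  rw [frobenius_reciprocity _ _ hψ, ← classInner_conj_symm, classInner_toSub H T hHT]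

end Sub

section Clifford

variable (H T : Subgroup G) [hN : H.Normal] [Fintype T] [Fintype H] {θ : H → ℂ}
  (hθ : Cfsg.IsIrrCharacter H θ) (hT : ∀ g : G, g ∈ T ↔ CfsgLib.CharNormal.conjFun H g θ = θ)
  (hHT : H ≤ T)

include hθ hT hHT

/-- A constituent over `θ` is the only one inducing a character containing it. -/
theorem eq_of_over {χ : G → ℂ} (hχ : Cfsg.IsIrrCharacter G χ) {ψ₀ ψ : T → ℂ}
    (hψ₀ : Cfsg.IsIrrCharacter T ψ₀) (he : Cfsg.indFun T ψ₀ = χ)
    (hmul : Cfsg.classInner (fun n : H => ψ₀ ⟨n, hHT n.2⟩) θ =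
      Cfsg.classInner (fun n : H => χ n) θ)
    (hψ : Cfsg.IsIrrCharacter T ψ)
    (hχψ : Cfsg.classInner (fun t : T => χ t) ψ ≠ 0)
    (hψθ : Cfsg.classInner (fun n : H => ψ ⟨n, hHT n.2⟩) θ ≠ 0) : ψ = ψ₀ := by
  classical
  by_contra hne
  obtain ⟨m, hm, hmi⟩ := char_decomp (isCharacter_res T (isCharacter_of_isIrr hχ))
  choose k hk using fun μ : Cfsg.IrrCharacter T => classInner_char_nat
    (isCharacter_comp (isCharacter_of_isIrr μ.2) (Subgroup.inclusion hHT))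
    (isCharacter_of_isIrr hθ)
  have hk' : ∀ μ : Cfsg.IrrCharacter T,
      Cfsg.classInner (fun n : H => (μ : T → ℂ) ⟨n, hHT n.2⟩) θ = k μ := hk
  have hm0 : m ⟨ψ₀, hψ₀⟩ = 1 := by
    have h1 := hmi ⟨ψ₀, hψ₀⟩
    rw [← frobenius_reciprocity' T ψ₀ (isClassFunction_of_isIrr hχ), he, classInner_irr_self hχ] at h1
    exact_mod_cast h1.symm
  have h1 : Cfsg.classInner (fun n : H => χ n) θ = ∑ μ, (m μ : ℂ) * k μ := by
    have : (fun n : H => χ n) =
        ∑ μ : Cfsg.IrrCharacter T, (m μ : ℂ) • fun n : H => (μ : T → ℂ) ⟨n, hHT n.2⟩ :=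
      funext fun n => by simpa [Finset.sum_apply] using congrFun hm ⟨n, hHT n.2⟩
    rw [this, classInner_sum_left]
    exact Finset.sum_congr rfl fun μ _ => by rw [classInner_smul_left, hk']
  rw [← hmul, hk' ⟨ψ₀, hψ₀⟩] at h1
  have h2 : k ⟨ψ₀, hψ₀⟩ = ∑ μ, m μ * k μ := by exact_mod_cast h1
  rw [← Finset.add_sum_erase _ _ (Finset.mem_univ (⟨ψ₀, hψ₀⟩ : Cfsg.IrrCharacter T)), hm0,
    one_mul, left_eq_add, Finset.sum_eq_zero_iff] at h2
  rcases Nat.mul_eq_zero.mp (h2 ⟨ψ, hψ⟩ (Finset.mem_erase.mpr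
    ⟨fun e => hne (congrArg Subtype.val e), Finset.mem_univ _⟩)) with h3 | h3
  · exact hχψ (by rw [hmi ⟨ψ, hψ⟩, h3, Nat.cast_zero])
  · exact hψθ (by rw [hk' ⟨ψ, hψ⟩, h3, Nat.cast_zero])

theorem indFun_irr_of_inertia {ψ : T → ℂ} (hψ : Cfsg.IsIrrCharacter T ψ)
    (hψθ : Cfsg.classInner (fun n : H => ψ ⟨n, hHT n.2⟩) θ ≠ 0) :
    Cfsg.IsIrrCharacter G (Cfsg.indFun T ψ) ∧
      ∀ ψ' : T → ℂ, Cfsg.IsIrrCharacter T ψ' →
        Cfsg.classInner (fun n : H => ψ' ⟨n, hHT n.2⟩) θ ≠ 0 →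
        Cfsg.indFun T ψ' = Cfsg.indFun T ψ → ψ' = ψ := by
  classical
  have hind := isCharacter_indFun T (isCharacter_of_isIrr hψ)
  obtain ⟨χ, hχ, h0⟩ := exists_constituent hind fun h => irr_one_ne_zero hψ (by
    have h1 := congrFun h 1
    rw [indFun_one, Pi.zero_apply, mul_eq_zero, Nat.cast_eq_zero] at h1
    exact h1.resolve_left Subgroup.index_ne_zero_of_finite)
  have hχψ : Cfsg.classInner (fun t : T => χ t) ψ ≠ 0 := by
    rw [← frobenius_reciprocity' T ψ (isClassFunction_of_isIrr hχ), ← classInner_conj_symm]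
    exact (map_ne_zero _).mpr h0
  have hχθ : Cfsg.classInner (fun n : H => χ n) θ ≠ 0 := by
    obtain ⟨m, hm, hmi⟩ := char_decomp (isCharacter_res T (isCharacter_of_isIrr hχ))
    choose k hk using fun μ : Cfsg.IrrCharacter T => classInner_char_nat
      (isCharacter_comp (isCharacter_of_isIrr μ.2) (Subgroup.inclusion hHT))
      (isCharacter_of_isIrr hθ)
    have hk' : ∀ μ : Cfsg.IrrCharacter T,
        Cfsg.classInner (fun n : H => (μ : T → ℂ) ⟨n, hHT n.2⟩) θ = k μ := hk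
    intro h
    have : (fun n : H => χ n) =
        ∑ μ : Cfsg.IrrCharacter T, (m μ : ℂ) • fun n : H => (μ : T → ℂ) ⟨n, hHT n.2⟩ :=
      funext fun n => by simpa [Finset.sum_apply] using congrFun hm ⟨n, hHT n.2⟩
    rw [this, classInner_sum_left] at h
    simp only [classInner_smul_left, hk'] at h
    have h' : ∑ μ, m μ * k μ = 0 := by exact_mod_cast h
    rcases Nat.mul_eq_zero.mp (Finset.sum_eq_zero_iff.mp h' ⟨ψ, hψ⟩ (Finset.mem_univ _)) with h3 | h3
    · exact hχψ (by rw [hmi ⟨ψ, hψ⟩, h3, Nat.cast_zero])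
    · exact hψθ (by rw [hk' ⟨ψ, hψ⟩, h3, Nat.cast_zero])
  obtain ⟨ψ₀, hψ₀, he, hmul⟩ := clifford_correspondence H hθ T hT hHT hχ hχθ
  have hψ' : ψ = ψ₀ := eq_of_over H T hθ hT hHT hχ hψ₀ he hmul hψ hχψ hψθ
  subst hψ'
  refine ⟨he ▸ hχ, fun ψ' hψ' hψ'θ he' => eq_of_over H T hθ hT hHT hχ hψ he hmul hψ' ?_ hψ'θ⟩
  rw [← frobenius_reciprocity' T ψ' (isClassFunction_of_isIrr hχ), he', he, classInner_irr_self hχ]
  exact one_ne_zero

end Clifford

section Abelian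

variable (N : Subgroup G) [hN : N.Normal] [Fintype N]

open Classical in
theorem exists_constituents_invariant (hab : ∀ a b : G ⧸ N, a * b = b * a) {θ : N → ℂ}
    (hθ : Cfsg.IsIrrCharacter N θ) (hinv : ∀ g : G, CfsgLib.CharNormal.conjFun N g θ = θ) :
    ∃ (e : ℕ) (C : Finset (Cfsg.IrrCharacter G)), 0 < e ∧ e ^ 2 * C.card = N.index ∧
      Cfsg.indFun N θ = (e : ℂ) • ∑ χ ∈ C, (χ : G → ℂ) ∧
      ∀ χ ∈ C, (χ : G → ℂ) 1 = (e : ℂ) * θ 1 ∧
        Cfsg.classInner (fun n : N => (χ : G → ℂ) n) θ = e := by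
  obtain ⟨m, hm, hmi⟩ := char_decomp (isCharacter_indFun N (isCharacter_of_isIrr hθ))
  have hmres : ∀ χ : Cfsg.IrrCharacter G,
      Cfsg.classInner (fun n : N => (χ : G → ℂ) n) θ = m χ := fun χ => by
    rw [← classInner_conj_symm, ← frobenius_reciprocity N θ (isClassFunction_of_isIrr χ.2), hmi,
      map_natCast]
  set C := Finset.univ.filter fun χ => m χ ≠ 0 with hC
  obtain ⟨χ₀, hχ₀⟩ : ∃ χ₀, m χ₀ ≠ 0 := by
    by_contra hall
    push Not at hall
    have h1 := congrFun hm 1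
    rw [indFun_one] at h1
    simp [hall, irr_one_ne_zero hθ, Subgroup.index_ne_zero_of_finite] at h1
  have hres : ∀ χ : Cfsg.IrrCharacter G, m χ ≠ 0 →
      (fun n : N => (χ : G → ℂ) n) = (m χ : ℂ) • θ := fun χ hχ => by
    have h := res_eq_smul_of_invariant N χ.2 hθ hinv
      (by rw [hmres]; exact_mod_cast hχ)
    rw [hmres] at h
    exact h
  have hall : ∀ χ : Cfsg.IrrCharacter G, m χ ≠ 0 → m χ = m χ₀ := by
    intro χ hχ
    obtain ⟨l, hl⟩ := exists_eq_linear_mul_of_over N hab χ₀.2 χ.2 hθ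
      (by rw [hmres]; exact_mod_cast hχ₀) (by rw [hmres]; exact_mod_cast hχ)
    have h1 := congrFun (hres χ hχ) 1
    have h0 := congrFun (hres χ₀ hχ₀) 1
    simp only [OneMemClass.coe_one, Pi.smul_apply, smul_eq_mul] at h1 h0
    rw [congrFun hl 1, h0] at h1
    simp only [QuotientGroup.mk_one, map_one, Units.val_one, one_mul] at h1
    exact_mod_cast (mul_right_cancel₀ (irr_one_ne_zero hθ) h1).symm
  have hdeg : ∀ χ ∈ C, (χ : G → ℂ) 1 = (m χ₀ : ℂ) * θ 1 := fun χ hχ => by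
    have hχ' := (Finset.mem_filter.mp hχ).2
    have h1 := congrFun (hres χ hχ') 1
    simp only [OneMemClass.coe_one, Pi.smul_apply, smul_eq_mul] at h1
    rw [h1, hall χ hχ']
  have hind : Cfsg.indFun N θ = (m χ₀ : ℂ) • ∑ χ ∈ C, (χ : G → ℂ) := by
    rw [hm, Finset.smul_sum, hC, Finset.sum_filter]
    refine Finset.sum_congr rfl fun χ _ => ?_
    by_cases hχ : m χ = 0
    · simp [hχ]
    · rw [if_pos hχ, hall χ hχ]
  refine ⟨m χ₀, C, Nat.pos_of_ne_zero hχ₀, ?_, hind, fun χ hχ => ⟨hdeg χ hχ, by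
    rw [hmres, hall χ (Finset.mem_filter.mp hχ).2]⟩⟩
  have h1 := congrFun hind 1
  rw [indFun_one, Pi.smul_apply, smul_eq_mul, Finset.sum_apply, Finset.sum_congr rfl hdeg,
    Finset.sum_const, nsmul_eq_mul, ← mul_assoc, ← mul_assoc] at h1
  have h2 := mul_right_cancel₀ (irr_one_ne_zero hθ) h1
  have h3 : N.index = m χ₀ * C.card * m χ₀ := by exact_mod_cast h2
  rw [h3]; ring

open Classical in
/-- In the coprime case the multiplicity is one. -/
theorem multiplicity_eq_one (hab : ∀ a b : G ⧸ N, a * b = b * a) {θ : N → ℂ}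
    (hθ : Cfsg.IsIrrCharacter N θ) (hinv : ∀ g : G, CfsgLib.CharNormal.conjFun N g θ = θ)
    (hcop : Nat.Coprime (Nat.card N) N.index) {χ : G → ℂ} (hχ : Cfsg.IsIrrCharacter G χ)
    {e : ℕ} (he : e ≠ 0) (hχe : Cfsg.classInner (fun n : N => χ n) θ = e) : e = 1 := by
  obtain ⟨d, hd0, hd⟩ := exists_degree_pos hθ
  have hord : Cfsg.detOrder θ ∣ Nat.card N := by
    obtain ⟨k, ρ, -, hρ⟩ := id hθ
    rw [Cfsg.detOrder, ← hρ, detChar_eq_detHom]
    show orderOf (linFun (detHom ρ)) ∣ _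
    rw [orderOf_linFun]
    refine orderOf_dvd_of_pow_eq_one (MonoidHom.ext fun n => ?_)
    rw [MonoidHom.pow_apply, ← map_pow, pow_card_eq_one', map_one]
    rfl
  have hdN : d ∣ Nat.card N := degree_dvd_card hθ hd
  have hc : Nat.Coprime N.index (Cfsg.detOrder θ * d) :=
    (hcop.coprime_dvd_left hord).symm.mul_right (hcop.coprime_dvd_left hdN).symm
  obtain ⟨η, ⟨hη, hηN, -⟩, -⟩ := Cfsg.Agent.S0867.result N θ hθ
    (fun g n => congrFun (hinv g) n) d hd hc
  have hηN' : (fun n : N => η n) = θ := funext hηN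
  obtain ⟨l, hl⟩ := exists_eq_linear_mul_of_over N hab hη hχ hθ
    (by rw [hηN', classInner_irr_self hθ]; exact one_ne_zero)
    (by rw [hχe]; exact_mod_cast he)
  have hres : (fun n : N => χ n) = θ := by
    funext n
    rw [congrFun hl n, hηN n, (QuotientGroup.eq_one_iff (n : G)).mpr n.2, map_one, Units.val_one,
      one_mul]
  rw [hres, classInner_irr_self hθ] at hχe
  exact_mod_cast hχe.symm

end Abelian

open Classical in
/-- The constituents of `Ind θ` when the inertia group has abelian quotient over `H`. -/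
theorem exists_constituents_inertia (H T : Subgroup G) [hN : H.Normal] [Fintype T] [Fintype H]
    {θ : H → ℂ} (hθ : Cfsg.IsIrrCharacter H θ)
    (hT : ∀ g : G, g ∈ T ↔ CfsgLib.CharNormal.conjFun H g θ = θ)
    (hab : ∀ x ∈ T, ∀ y ∈ T, x * y * x⁻¹ * y⁻¹ ∈ H) :
    ∃ (e : ℕ) (C : Finset (G → ℂ)), 0 < e ∧ (∀ χ ∈ C, Cfsg.IsIrrCharacter G χ) ∧
      e ^ 2 * C.card = H.relIndex T ∧ Cfsg.indFun H θ = (e : ℂ) • ∑ χ ∈ C, χ ∧
      (∀ χ ∈ C, χ 1 = (T.index : ℂ) * e * θ 1) ∧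
      (Nat.Coprime (Nat.card H) (H.relIndex T) → e = 1) := by
  have hHT : H ≤ T := fun h hh =>
    (hT h).mpr (conjFun_of_mem H (isClassFunction_of_isIrr hθ) hh)
  set N := H.subgroupOf T with hNdef
  have := Fintype.ofFinite N
  have hq : ∀ a b : T ⧸ N, a * b = b * a := by
    intro a b
    obtain ⟨x, rfl⟩ := QuotientGroup.mk_surjective a
    obtain ⟨y, rfl⟩ := QuotientGroup.mk_surjective b
    rw [← QuotientGroup.mk_mul, ← QuotientGroup.mk_mul, QuotientGroup.eq, Subgroup.mem_subgroupOf]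
    have := hab (y : G)⁻¹ (T.inv_mem y.2) (x : G)⁻¹ (T.inv_mem x.2)
    simpa [mul_assoc] using this
  have hθ' := isIrr_toSub H T hHT hθ
  have hinv : ∀ t : T, CfsgLib.CharNormal.conjFun N t (toSub H T θ) = toSub H T θ := fun t =>
    funext fun n => congrFun ((hT t).mp t.2) (Subgroup.subgroupOfEquivOfLe hHT n)
  obtain ⟨e, C, he, hcard, hind, hC⟩ := exists_constituents_invariant N hq hθ' hinv
  have hover : ∀ ψ ∈ C, Cfsg.classInner (fun n : H => (ψ : T → ℂ) ⟨n, hHT n.2⟩) θ ≠ 0 := by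
    intro ψ hψ
    rw [← classInner_toSub H T hHT, (hC ψ hψ).2]
    exact_mod_cast he.ne'
  have hinj : Set.InjOn (fun ψ : Cfsg.IrrCharacter T => Cfsg.indFun T (ψ : T → ℂ)) C :=
    fun a ha b hb h => Subtype.ext
      ((indFun_irr_of_inertia H T hθ hT hHT b.2 (hover b hb)).2 a a.2 (hover a ha) h)
  refine ⟨e, C.image fun ψ : Cfsg.IrrCharacter T => Cfsg.indFun T (ψ : T → ℂ), he, ?_, ?_, ?_, ?_, ?_⟩
  · intro χ hχ
    obtain ⟨ψ, hψ, rfl⟩ := Finset.mem_image.mp hχ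
    exact (indFun_irr_of_inertia H T hθ hT hHT ψ.2 (hover ψ hψ)).1
  · rw [Finset.card_image_of_injOn hinj]
    exact hcard
  · rw [Finset.sum_image hinj, ← indFun_sum, ← indFun_smul, ← hind]
    exact (indFun_trans H hHT θ).symm
  · intro χ hχ
    obtain ⟨ψ, hψ, rfl⟩ := Finset.mem_image.mp hχ
    show Cfsg.indFun T (ψ : T → ℂ) 1 = _
    rw [indFun_one, (hC ψ hψ).1]
    show (T.index : ℂ) * ((e : ℂ) * θ ⟨(1 : G), _⟩) = _
    rw [show (⟨(1 : G), H.one_mem⟩ : H) = 1 from rfl]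
    ring
  · intro hcop
    obtain ⟨ψ, hψ⟩ : C.Nonempty := by
      rw [← Finset.card_pos]
      have : 0 < N.index := Nat.pos_of_ne_zero Subgroup.index_ne_zero_of_finite
      rw [← hcard] at this
      exact Nat.pos_of_mul_pos_left this
    refine multiplicity_eq_one N hq hθ' hinv ?_ ψ.2 he.ne' (hC ψ hψ).2
    rw [Nat.card_congr (Subgroup.subgroupOfEquivOfLe hHT).toEquiv]
    exact hcop

end CfsgLib.OddChar
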