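import Cfsg.Agent.Lib.OddChar.IrrKernel

/-!
# Coherence for a self-centralizing TI subgroup

`card_relevant_one`, `elementary_of_card`, `trichotomy`.
-/

namespace CfsgLib.OddChar.Above

open CfsgLib.Char CfsgLib.CharNormal CfsgLib.OddChar.Coh

variable {L : Type*} [Group L] [Fintype L] (K : Subgroup L) [K.Normal]
  (hC : ∀ k ∈ K, k ≠ 1 → Subgroup.centralizer ({k} : Set L) ≤ K)

include hC

open Classical in
/-- With `|K| = e + 1` there is exactly one character nontrivial on the kernel. -/
theorem card_relevant_one (hsolv : Group.IsSolvable K) (hK1 : K ≠ ⊥) (he : Nat.card K = K.index + 1) :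
    Nat.card {χ : L → ℂ // Cfsg.IsIrrCharacter L χ ∧ ∃ k ∈ K, χ k ≠ χ 1} = 1 := by
  have := Fintype.ofFinite K
  obtain ⟨φ, hφ, hd⟩ := exists_deg_index K ⊥ hsolv (bot_lt_iff_ne_bot.mpr hK1)
  have hsum := sum_deg_above K ⊥ fun φ h => irr_of_above K hC h
  rw [Subgroup.relIndex_bot_left, he, Nat.add_sub_cancel] at hsum
  have huniq : ∀ ψ ∈ Cfsg.inducedIrrAbove K ⊥, ψ = φ := by
    intro ψ hψ
    by_contra hne
    have h2 : deg φ ^ 2 + deg ψ ^ 2 ≤ K.index * K.index := by
      rw [← hsum, ← Finset.sum_pair (f := fun x => deg x ^ 2) (Ne.symm hne)]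
      refine Finset.sum_le_sum_of_subset fun x hx => (Set.Finite.mem_toFinset _).mpr ?_
      rcases Finset.mem_insert.mp hx with rfl | hx
      · exact hφ
      · rwa [Finset.mem_singleton.mp hx]
    have hψ1 := irr_one_ne_zero (irr_of_above K hC hψ)
    have hψ2 := deg_spec (isCharacter_of_isIrr (irr_of_above K hC hψ))
    have hψpos : 0 < deg ψ := Nat.pos_of_ne_zero fun e => hψ1 (by rw [hψ2, e, Nat.cast_zero])
    rw [hd] at h2
    nlinarith
  rw [Nat.card_eq_one_iff_exists]
  have hset := above_eq_relevant K hC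
  rw [hset] at hφ
  refine ⟨⟨φ, hφ⟩, fun χ => Subtype.ext (huniq χ.1 ?_)⟩
  rw [hset]; exact χ.2

/-- With `|K| = e + 1` the kernel is elementary abelian. -/
theorem elementary_of_card (hK1 : K ≠ ⊥) (he : Nat.card K = K.index + 1) :
    ∃ p : ℕ, p.Prime ∧ Cfsg.IsElementaryAbelian p K := by
  classical
  have hclass : ∀ x ∈ K, x ≠ 1 → Subgroup.centralizer ({x} : Set L) = K ∧
      (ConjClasses.mk x).carrier = (K : Set L) \ {1} := by
    intro x hx hx1
    have hle := hC x hx hx1
    have hcard : (ConjClasses.mk x).carrier.ncard = (Subgroup.centralizer {x}).index := by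
      rw [← ConjAct.orbit_eq_carrier_conjClasses, ← MulAction.index_stabilizer,
        Subgroup.centralizer_eq_comap_stabilizer]
      exact (Subgroup.index_comap_of_surjective (MulAction.stabilizer (ConjAct L) x)
        (f := (ConjAct.toConjAct : L ≃* ConjAct L).toMonoidHom) ConjAct.toConjAct.surjective).symm
    have hsub : (ConjClasses.mk x).carrier ⊆ (K : Set L) \ {1} := by
      intro y hy
      rw [ConjClasses.mem_carrier_iff_mk_eq, ConjClasses.mk_eq_mk_iff_isConj] at hy
      obtain ⟨g, rfl⟩ := isConj_iff.mp hy.symm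
      exact ⟨‹K.Normal›.conj_mem x hx g, fun h => hx1 (conj_eq_one_iff.mp h)⟩
    have hK' : ((K : Set L) \ {1}).ncard = K.index := by
      rw [Set.ncard_sdiff_singleton_of_mem (show (1 : L) ∈ (K : Set L) from K.one_mem),
        ← Nat.card_coe_set_eq]
      show Nat.card K - 1 = _
      rw [he, Nat.add_sub_cancel]
    have h1 : K.index ≤ (Subgroup.centralizer {x}).index :=
      Nat.le_of_dvd (Nat.pos_of_ne_zero (Subgroup.centralizer {x}).index_ne_zero_of_finite)
        (Subgroup.index_dvd_of_le hle)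
    have h2 := Set.ncard_le_ncard hsub
    rw [hcard, hK'] at h2
    refine ⟨?_, Set.eq_of_subset_of_ncard_le hsub (by rw [hcard, hK']; exact h1)⟩
    refine Subgroup.eq_of_le_of_card_ge hle (le_of_eq ?_)
    have e1 := K.index_mul_card
    rw [← (Subgroup.centralizer {x}).index_mul_card, ← le_antisymm h1 h2] at e1
    exact Nat.eq_of_mul_eq_mul_left (Nat.pos_of_ne_zero K.index_ne_zero_of_finite) e1
  have hcomm : IsMulCommutative K := ⟨⟨fun a b => by
    by_cases ha : (a : L) = 1
    · exact Subtype.ext (by simp [ha])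
    · exact Subtype.ext (Subgroup.mem_centralizer_singleton_iff.mp
        ((hclass a a.2 ha).1.symm ▸ b.2 : (b : L) ∈ Subgroup.centralizer {(a : L)})).symm⟩⟩
  have : Nontrivial K := K.nontrivial_iff_ne_bot.mpr hK1
  obtain ⟨p, hp, hpd⟩ := Nat.exists_prime_and_dvd (Finite.one_lt_card (α := K)).ne'
  have := Fact.mk hp
  obtain ⟨x, hx⟩ := exists_prime_orderOf_dvd_card' (G := K) p hpd
  have hx1 : (x : L) ≠ 1 := fun e => hp.ne_one (by rw [← hx, ← Subgroup.orderOf_coe, e, orderOf_one])
  refine ⟨p, hp, hcomm, fun a ha => ?_⟩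
  rcases eq_or_ne a 1 with rfl | ha1
  · exact one_pow p
  have hmem : a ∈ (ConjClasses.mk (x : L)).carrier := by
    rw [(hclass x x.2 hx1).2]; exact ⟨ha, ha1⟩
  rw [ConjClasses.mem_carrier_iff_mk_eq, ConjClasses.mk_eq_mk_iff_isConj] at hmem
  obtain ⟨g, rfl⟩ := isConj_iff.mp hmem.symm
  rw [conj_pow, ← hx, ← Subgroup.orderOf_coe, pow_orderOf_eq_one, mul_one, mul_inv_cancel]

end CfsgLib.OddChar.Above

namespace CfsgLib.OddChar.Above

open CfsgLib.Char CfsgLib.CharNormal CfsgLib.OddChar.Coh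

variable {G : Type*} [Group G] [Fintype G]

/-- A self-centralizing TI subgroup: the exceptions or coherence. -/
theorem trichotomy (H : Subgroup G) (hH1 : H ≠ ⊥) (hTI : Cfsg.IsTISubset (H : Set G))
    (hlt : H < Subgroup.normalizer (H : Set G))
    (hC : ∀ k ∈ H, k ≠ 1 → Subgroup.centralizer ({k} : Set G) ≤ H)
    [Fintype ↥(Subgroup.normalizer (H : Set G))] :
    (Nat.card {χ : ↥(Subgroup.normalizer (H : Set G)) → ℂ //
          Cfsg.IsIrrCharacter ↥(Subgroup.normalizer (H : Set G)) χ ∧
            ∃ k : ↥(Subgroup.normalizer (H : Set G)), (k : G) ∈ H ∧ χ k ≠ χ 1} = 1 ∧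
        Nat.card H = (H.subgroupOf (Subgroup.normalizer (H : Set G))).index + 1 ∧
        ∃ p : ℕ, p.Prime ∧ Cfsg.IsElementaryAbelian p H) ∨
      (Nat.card H = 2 ^ (Nat.card G).factorization 2 ∧
        (⁅H, H⁆.subgroupOf H).index < 4 * (H.subgroupOf (Subgroup.normalizer (H : Set G))).index ^ 2) ∨
      Cfsg.IsCoherent {χ : ↥(Subgroup.normalizer (H : Set G)) → ℂ |
          Cfsg.IsIrrCharacter ↥(Subgroup.normalizer (H : Set G)) χ ∧
            ∃ k : ↥(Subgroup.normalizer (H : Set G)), (k : G) ∈ H ∧ χ k ≠ χ 1} {1}ᶜ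
        (fun α => Cfsg.indFun (Subgroup.normalizer (H : Set G)) α) := by
  classical
  obtain ⟨hn, hnt, hKlt, hCL⟩ := kernel_setting H hH1 hlt hC
  have e := Subgroup.subgroupOfEquivOfLe hlt.le
  have := Fintype.ofFinite (H.subgroupOf (Subgroup.normalizer (H : Set G)))
  have hset := above_eq_relevant (H.subgroupOf (Subgroup.normalizer (H : Set G))) hCL
  simp only [Subgroup.mem_subgroupOf] at hset
  have hnil := nilpotent_kernel (H.subgroupOf (Subgroup.normalizer (H : Set G))) hKlt.ne hCL
  have hsolv : Group.IsSolvable (H.subgroupOf (Subgroup.normalizer (H : Set G))) := inferInstance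
  have hcard : Nat.card (H.subgroupOf (Subgroup.normalizer (H : Set G))) = Nat.card H :=
    Nat.card_congr e.toEquiv
  by_cases he : Nat.card (H.subgroupOf (Subgroup.normalizer (H : Set G))) =
      (H.subgroupOf (Subgroup.normalizer (H : Set G))).index + 1
  · refine Or.inl ⟨?_, hcard ▸ he, ?_⟩
    · have := card_relevant_one _ hCL hsolv hnt he
      simpa only [Subgroup.mem_subgroupOf] using this
    · obtain ⟨p, hp, hab, hpow⟩ := elementary_of_card _ hCL hnt he
      refine ⟨p, hp, ⟨⟨fun a b => ?_⟩⟩, fun a ha => ?_⟩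
      · have := hab.is_comm.comm (e.symm a) (e.symm b)
        rw [← map_mul, ← map_mul] at this
        exact e.symm.injective this
      · exact congrArg Subtype.val (hpow ⟨a, hlt.le ha⟩ ha)
  have hiso := indFun_isometry H (Subgroup.normalizer (H : Set G)) rfl hTI
    (Cfsg.inducedIrrAbove (H.subgroupOf (Subgroup.normalizer (H : Set G))) ⊥)
    (fun φ h => isGen_of_irr (irr_of_above _ hCL h)) (fun φ h x hx => above_support _ h hx)
  rcases coherent_irr_kernel hCL hnt hKlt.ne he hiso.1 hiso.2 with h | ⟨p, hp, ⟨m, hm⟩, hna, hsmall⟩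
  · exact Or.inr (Or.inr (hset ▸ h))
  have hodde := index_odd_of_not_comm _ hCL hna
  rcases eq_or_ne p 2 with rfl | hp2
  · refine Or.inr (Or.inl ?_)
    have := Fact.mk hp
    obtain ⟨P, hP⟩ := subgroup_eq_sylow H (Subgroup.normalizer (H : Set G))
      ((IsPGroup.of_card (hcard ▸ hm) : IsPGroup 2 H)) rfl
      (Nat.coprime_two_left.mpr hodde)
    refine ⟨by rw [← hP]; exact P.card_eq_multiplicity, ?_⟩
    have hidx : (⁅H.subgroupOf (Subgroup.normalizer (H : Set G)),
        H.subgroupOf (Subgroup.normalizer (H : Set G))⁆.subgroupOf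
          (H.subgroupOf (Subgroup.normalizer (H : Set G)))).index = (⁅H, H⁆.subgroupOf H).index := by
      show Subgroup.relIndex _ _ = Subgroup.relIndex _ _
      rw [← Subgroup.relIndex_map_map_of_injective _ _ (Subgroup.normalizer (H : Set G)).subtype_injective,
        Subgroup.map_commutator, Subgroup.subgroupOf_map_subtype, inf_eq_left.mpr hlt.le]
    rw [← hidx]
    obtain ⟨j, -, hj⟩ := (Nat.dvd_prime_pow hp).mp (hm ▸ Subgroup.index_dvd_card
      (⁅H.subgroupOf (Subgroup.normalizer (H : Set G)),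
        H.subgroupOf (Subgroup.normalizer (H : Set G))⁆.subgroupOf
          (H.subgroupOf (Subgroup.normalizer (H : Set G)))))
    rw [hj] at hsmall ⊢
    set i := (H.subgroupOf (Subgroup.normalizer (H : Set G))).index
    have hi1 : i ≠ 1 := fun h => hKlt.ne (Subgroup.index_eq_one.mp h)
    rcases lt_or_ge (2 ^ j) (4 * i ^ 2) with h | h
    · exact h
    exfalso
    rcases j with _ | j
    · simp at h
      nlinarith [hodde.pos]
    rcases (show 2 ^ (j + 1) = 4 * i ^ 2 ∨ 2 ^ (j + 1) = 4 * i ^ 2 + 1 by omega) with h2 | h2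
    · have hd : i ∣ 2 ^ (j + 1) := ⟨4 * i, by rw [h2]; ring⟩
      obtain ⟨k, -, hk⟩ := (Nat.dvd_prime_pow Nat.prime_two).mp hd
      rcases k with _ | k
      · exact hi1 (by rw [hk, pow_zero])
      · rw [hk, pow_succ'] at hodde
        exact (Nat.not_odd_iff_even.mpr (even_two_mul _)) hodde
    · rw [pow_succ'] at h2
      omega
  · refine Or.inr (Or.inr ?_)
    have hoddN : Odd (Nat.card (Subgroup.normalizer (H : Set G))) := by
      rw [← (H.subgroupOf (Subgroup.normalizer (H : Set G))).index_mul_card, hm]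
      exact hodde.mul (hp.odd_of_ne_two hp2).pow
    exact hset ▸ coherent_TI H (Subgroup.normalizer (H : Set G)) hoddN hCL hnt hKlt hnil hlt.le rfl hTI

end CfsgLib.OddChar.Above
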