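import Cfsg.Agent.Lib.CharNormal.CongrP
import Cfsg.Agent.Lib.Char.Generalized
import Mathlib.FieldTheory.Finite.Basic
import Mathlib.Algebra.CharP.Lemmas

/-!
# `p`th powers of character values modulo `p`

* `congr_add_pow`, `congr_sum_pow`: `(∑ x)^p ≡ ∑ x^p`;
* `congr_char_pow`: `ψ(g)^p ≡ ψ(g^p)` for generalized characters;
* `congr_mul_of_pow_eq_one`: `ψ(x y)^p ≡ ψ(y)^p` if `x^p = 1` commutes with `y`;
* `int_dvd_of_congr_pow`: `a^p ≡ b^p` forces `p ∣ a - b` for integers.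
-/

set_option autoImplicit false

namespace CfsgLib.OddChar.PowCongr

open CfsgLib.Char CfsgLib.CharNormal

variable {p : ℕ} [hp : Fact p.Prime]

theorem congr_add_pow {a b : ℂ} (ha : IsIntegral ℤ a) (hb : IsIntegral ℤ b) :
    CongrP p ((a + b) ^ p) (a ^ p + b ^ p) := by
  let a' : integralClosure ℤ ℂ := ⟨a, ha⟩
  let b' : integralClosure ℤ ℂ := ⟨b, hb⟩
  obtain ⟨r, hr⟩ := exists_add_pow_prime_eq hp.out a' b'
  refine ⟨((a' * b' * r : integralClosure ℤ ℂ) : ℂ), (a' * b' * r).2, ?_⟩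
  have h := congrArg (fun z : integralClosure ℤ ℂ => (z : ℂ)) hr
  simp only [AddMemClass.coe_add, SubmonoidClass.coe_pow, MulMemClass.coe_mul,
    SubringClass.coe_natCast] at h
  rw [show ((a : ℂ) + b) ^ p = _ from h]
  simp only [MulMemClass.coe_mul, a', b']
  ring

theorem congr_sum_pow {ι : Type*} (s : Finset ι) {f : ι → ℂ}
    (hf : ∀ i ∈ s, IsIntegral ℤ (f i)) : CongrP p ((∑ i ∈ s, f i) ^ p) (∑ i ∈ s, f i ^ p) := by
  classical
  induction s using Finset.induction_on with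
  | empty => simp [hp.out.ne_zero]; exact .refl _
  | insert a s has ih =>
    rw [Finset.sum_insert has, Finset.sum_insert has]
    refine (congr_add_pow (hf a (Finset.mem_insert_self a s))
      (IsIntegral.sum _ fun i hi => hf i (Finset.mem_insert_of_mem hi))).trans ?_
    exact (CongrP.refl _).add (ih fun i hi => hf i (Finset.mem_insert_of_mem hi))

variable {G : Type*} [Group G] [Finite G]

theorem congr_character_pow {χ : G → ℂ} (hχ : Cfsg.IsCharacter G χ) (g : G) :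
    CongrP p (χ g ^ p) (χ (g ^ p)) := by
  obtain ⟨n, ρ, rfl⟩ := hχ
  obtain ⟨z, hz, hzk⟩ := exists_roots_char_pow ρ g
  have h1 := hzk 1
  simp only [pow_one] at h1
  rw [h1, hzk p]
  exact congr_sum_pow _ fun i _ => IsIntegral.of_pow (orderOf_pos g) (by
    rw [hz i]; exact isIntegral_one)

theorem isIntegral_gen {ψ : G → ℂ} (hψ : Cfsg.IsGeneralizedCharacter G ψ) (g : G) :
    IsIntegral ℤ (ψ g) := by
  obtain ⟨χ, χ', hχ, hχ', rfl⟩ := hψ
  exact (char_isIntegral hχ g).sub (char_isIntegral hχ' g)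

theorem congr_char_pow {ψ : G → ℂ} (hψ : Cfsg.IsGeneralizedCharacter G ψ) (g : G) :
    CongrP p (ψ g ^ p) (ψ (g ^ p)) := by
  obtain ⟨χ, χ', hχ, hχ', rfl⟩ := hψ
  have hi : IsIntegral ℤ (χ g - χ' g) := (char_isIntegral hχ g).sub (char_isIntegral hχ' g)
  have h := congr_add_pow (p := p) hi (char_isIntegral hχ' g)
  rw [sub_add_cancel] at h
  show CongrP p ((χ g - χ' g) ^ p) (χ (g ^ p) - χ' (g ^ p))
  have h1 := (h.symm.trans (congr_character_pow hχ g)).add
    (((congr_character_pow (p := p) hχ' g).symm).trans (CongrP.refl _))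
  obtain ⟨t, ht, he⟩ := h1
  exact ⟨t, ht, by linear_combination he⟩

theorem congr_mul_of_pow_eq_one {ψ : G → ℂ} (hψ : Cfsg.IsGeneralizedCharacter G ψ) {x y : G}
    (hc : Commute x y) (hx : x ^ p = 1) : CongrP p (ψ (x * y) ^ p) (ψ y ^ p) := by
  have h := congr_char_pow (p := p) hψ (x * y)
  rw [hc.mul_pow, hx, one_mul] at h
  exact h.trans (congr_char_pow hψ y).symm

theorem int_dvd_of_congr_pow {a b : ℤ} (h : CongrP p ((a : ℂ) ^ p) ((b : ℂ) ^ p)) :
    (p : ℤ) ∣ a - b := by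
  have h' : CongrP p ((a ^ p : ℤ) : ℂ) ((b ^ p : ℤ) : ℂ) := by simpa using h
  have h1 := h'.int_dvd
  rw [← ZMod.intCast_zmod_eq_zero_iff_dvd] at h1 ⊢
  push_cast at h1 ⊢
  rwa [ZMod.pow_card, ZMod.pow_card] at h1

end CfsgLib.OddChar.PowCongr
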