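import Cfsg.Agent.Lib.OddChar.KernelCoh
import Cfsg.Agent.Lib.OddChar.NormalInd
import Cfsg.Agent.Lib.Char.TI
import Cfsg.Agent.Lib.Char.PermLemma
import Cfsg.Agent.Lib.Solvable.CoprimeAction
import Cfsg.Agent.Lib.Solvable.FrobeniusComplement
import Cfsg.Agent.Lib.Solvable.UniqueSubgroup
import Cfsg.Agent.S1536
import Cfsg.Agent.S1514
import Mathlib.GroupTheory.SchurZassenhaus

/-!
# The characters induced from the kernel of a Frobenius group of odd order

For a normal subgroup `K` of `L` containing the centralisers of its non-identity elements: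
* `isIrr_indFun_kernel`: the induced functions of non-principal characters are irreducible;
* `isGen_zspan`, `zspan_apply_eq_zero`, `conj_ne`: first properties of `S(1)` and its span;
* `frobenius_mod_derived`: `L/[K,K]` is again a Frobenius group;
* `index_dvd_of_exponent_dvd`: `[L:K]` is the exponent of the complement;
* `coherent_frobenius`: coherence of `S(1)` for nilpotent `K`.
-/

set_option autoImplicit false

namespace CfsgLib.OddChar.FrobeniusKernelChars

open CfsgLib.Char CfsgLib.CharNormal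
open scoped ComplexConjugate commutatorElement

universe u

variable {L : Type u} [Group L] [Fintype L] (K : Subgroup L) [hK : K.Normal]

/-- Induced functions of non-principal irreducible characters are irreducible. -/
theorem isIrr_indFun_kernel (hC : ∀ k ∈ K, k ≠ 1 → Subgroup.centralizer ({k} : Set L) ≤ K)
    {θ : K → ℂ} (hθ : Cfsg.IsIrrCharacter K θ) (h1 : θ ≠ fun _ => 1) :
    Cfsg.IsIrrCharacter L (Cfsg.indFun K θ) := by
  classical
  have := Fintype.ofFinite K
  have hT : ∀ g : L, CfsgLib.CharNormal.conjFun K g θ = θ → g ∈ K := by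
    intro g hg
    obtain ⟨h, hh, h1', hc⟩ := (Cfsg.Agent.S1536.result K
      (coprime_card_index_of_centralizer_le K hC) g).mp ⟨θ, hθ, h1, hg⟩
    exact hC h hh h1' (Subgroup.mem_centralizer_singleton_iff.mpr hc)
  have hcl : ∀ g ∈ K, CfsgLib.CharNormal.conjFun K g θ = θ := fun g hg =>
    conjFun_of_mem K (isClassFunction_of_isIrr hθ) hg
  refine irr_of_norm_one (isCharacter_indFun K (isCharacter_of_isIrr hθ)) ?_
  rw [frobenius_reciprocity K θ (isClassFunction_indFun K θ),
    show (fun h : K => Cfsg.indFun K θ h) = (Nat.card K : ℂ)⁻¹ •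
      ∑ g : L, CfsgLib.CharNormal.conjFun K g θ from res_indFun_normal K θ]
  rw [classInner_smul_right, classInner_sum_right]
  have hterm : ∀ g : L, Cfsg.classInner θ (CfsgLib.CharNormal.conjFun K g θ) =
      if g ∈ K then 1 else 0 := fun g => by
    split_ifs with hg
    · rw [hcl g hg, classInner_irr_self hθ]
    · exact classInner_irr_ne hθ (isIrr_conjFun K hθ g) fun e => hg (hT g e.symm)
  simp only [hterm]
  rw [Finset.sum_boole, map_inv₀, map_natCast, ← Fintype.card_subtype,
    ← Nat.card_eq_fintype_card]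
  exact inv_mul_cancel₀ (by exact_mod_cast (Nat.card_pos (α := K)).ne')

/-- The members of the span are generalized characters. -/
theorem isGen_zspan {S : Set (L → ℂ)} (hS : ∀ χ ∈ S, Cfsg.IsCharacter L χ) {α : L → ℂ}
    (hα : α ∈ Cfsg.zspan S) : Cfsg.IsGeneralizedCharacter L α := by
  change α ∈ Submodule.span ℤ S at hα
  induction hα using Submodule.span_induction with
  | mem x hx => exact isGen_of_char (hS x hx)
  | zero => exact isGen_zero
  | add x y _ _ hx hy => exact isGen_add hx hy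
  | smul n x _ hx =>
    rw [show n • x = (n : ℂ) • x from (Int.cast_smul_eq_zsmul ℂ n x).symm]
    exact isGen_intCast_smul hx n

/-- The members of the span vanish outside `K`. -/
theorem zspan_apply_eq_zero (A : Subgroup L) {α : L → ℂ}
    (hα : α ∈ Cfsg.zspan (Cfsg.inducedIrrAbove K A)) {x : L} (hx : x ∉ K) : α x = 0 := by
  change α ∈ Submodule.span ℤ _ at hα
  induction hα using Submodule.span_induction with
  | mem χ hχ =>
    obtain ⟨θ, -, -, -, rfl⟩ := hχ
    refine indFun_eq_zero_of_forall K fun y => ?_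
    intro h
    exact absurd (by simpa [mul_assoc] using hK.conj_mem _ h y) hx
  | zero => rfl
  | add a b _ _ ha hb => simp [ha, hb]
  | smul n a _ ha => simp [ha]

theorem isIrr_of_mem (hC : ∀ k ∈ K, k ≠ 1 → Subgroup.centralizer ({k} : Set L) ≤ K)
    {A : Subgroup L} {χ : L → ℂ} (hχ : χ ∈ Cfsg.inducedIrrAbove K A) :
    Cfsg.IsIrrCharacter L χ := by
  obtain ⟨θ, hθ, h1, -, rfl⟩ := hχ
  exact isIrr_indFun_kernel K hC hθ h1

/-- In odd order no member of `S(A)` is real. -/
theorem conj_ne (hC : ∀ k ∈ K, k ≠ 1 → Subgroup.centralizer ({k} : Set L) ≤ K)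
    (hodd : Odd (Nat.card L)) {A : Subgroup L} {χ : L → ℂ}
    (hχ : χ ∈ Cfsg.inducedIrrAbove K A) : Cfsg.conjFun χ ≠ χ := by
  intro e
  have hirr := isIrr_of_mem K hC hχ
  have h1 : χ = fun _ => 1 := by
    have h := irr_real_eq_one hodd (χ := ⟨χ, hirr⟩) (Subtype.ext e)
    exact congrArg (fun ψ : Cfsg.IrrCharacter L => (ψ : L → ℂ)) h
  obtain ⟨θ, hθ, hne, -, he⟩ := hχ
  have := Fintype.ofFinite K
  have h0 : Cfsg.classInner (Cfsg.indFun K θ) (fun _ : L => (1 : ℂ)) = 0 := by
    rw [frobenius_reciprocity K θ (isClassFunction_of_isIrr isIrrCharacter_one)]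
    exact classInner_irr_ne hθ isIrrCharacter_one hne
  rw [← he, h1, classInner_irr_self isIrrCharacter_one] at h0
  exact one_ne_zero h0

/-- `L/[K,K]` is a Frobenius group with kernel `K/[K,K]`. -/
theorem frobenius_mod_derived
    (hC : ∀ k ∈ K, k ≠ 1 → Subgroup.centralizer ({k} : Set L) ≤ K) :
    ∀ k ∈ K, k ∉ ⁅K, K⁆ → ∀ x : L, x * k * x⁻¹ * k⁻¹ ∈ ⁅K, K⁆ → x ∈ K := by
  intro k hk hk' x hx
  by_contra hxK
  haveI : (⁅K, K⁆).Normal := Subgroup.commutator_normal K K
  have hcop := coprime_card_index_of_centralizer_le K hC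
  let T : Subgroup L := (Subgroup.centralizer ({(k : L ⧸ ⁅K, K⁆)} : Set (L ⧸ ⁅K, K⁆))).comap
    (QuotientGroup.mk' _)
  have hT : ∀ y : L, y ∈ T ↔ y * k * y⁻¹ * k⁻¹ ∈ ⁅K, K⁆ := fun y => by
    rw [← QuotientGroup.eq_one_iff (y * k * y⁻¹ * k⁻¹)]
    simp only [T, Subgroup.mem_comap, QuotientGroup.mk'_apply,
      Subgroup.mem_centralizer_singleton_iff, QuotientGroup.mk_mul, QuotientGroup.mk_inv]
    rw [mul_inv_eq_one, mul_inv_eq_iff_eq_mul]
  set y := x ^ Nat.card K with hy
  have hyT : y ∈ T := pow_mem ((hT x).mpr hx) _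
  have hye : orderOf y ∣ K.index := by
    refine orderOf_dvd_of_pow_eq_one ?_
    rw [hy, ← pow_mul, Subgroup.card_mul_index, pow_card_eq_one']
  have hyK : y ∉ K := by
    intro h
    refine hxK ?_
    have h1 : (x : L ⧸ K) ^ Nat.card K = 1 := by
      rw [← QuotientGroup.mk_pow]; exact (QuotientGroup.eq_one_iff _).mpr h
    have h2 : (x : L ⧸ K) ^ K.index = 1 := by
      rw [Subgroup.index_eq_card]; exact pow_card_eq_one'
    have h3 := orderOf_dvd_of_pow_eq_one h1
    have h4 := orderOf_dvd_of_pow_eq_one h2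
    exact (QuotientGroup.eq_one_iff x).mp
      (orderOf_eq_one_iff.mp (Nat.eq_one_of_dvd_coprimes hcop h3 h4))
  set A := Subgroup.zpowers y with hA
  have hAN : A ≤ Subgroup.normalizer (⁅K, K⁆ : Subgroup L) := by
    rw [Subgroup.normalizer_eq_top]; exact le_top
  have hAcop : (Nat.card A).Coprime (Nat.card (⁅K, K⁆ : Subgroup L)) := by
    rw [hA, Nat.card_zpowers]
    exact (hcop.symm.coprime_dvd_left hye).coprime_dvd_right
      (Subgroup.card_dvd_of_le (Subgroup.commutator_le_self K))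
  haveI : IsCyclic A := Subgroup.isCyclic_zpowers y
  have hu : ∀ a ∈ A, ⁅a, k⁆ ∈ (⁅K, K⁆ : Subgroup L) := fun a ha =>
    (hT a).mp (Subgroup.zpowers_le.mpr hyT ha)
  obtain ⟨n, hn, hnk⟩ := CfsgLib.Solvable.exists_mul_mem_centralizer A ⁅K, K⁆ hAN hAcop
    (Or.inl (Group.isSolvable_of_comm fun a b => IsCyclic.commGroup.mul_comm a b)) k hu
  have hnkK : n * k ∈ K := mul_mem (Subgroup.commutator_le_self K hn) hk
  refine hyK (hC (n * k) hnkK (fun e => hk' ?_) ?_)
  · rw [mul_eq_one_iff_inv_eq.mp e |>.symm]; exact inv_mem hn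
  · rw [Subgroup.mem_centralizer_singleton_iff]
    exact Subgroup.mem_centralizer_iff.mp hnk y (Subgroup.mem_zpowers y)

/-- A Frobenius complement of odd order has order equal to its exponent. -/
theorem index_dvd_of_exponent_dvd
    (hC : ∀ k ∈ K, k ≠ 1 → Subgroup.centralizer ({k} : Set L) ≤ K) (hK1 : K ≠ ⊥)
    (hodd : Odd (Nat.card L)) {n : ℕ} (hn : Monoid.exponent (L ⧸ K) ∣ n) : K.index ∣ n := by
  classical
  obtain ⟨E, hE⟩ := Subgroup.exists_right_complement'_of_coprime (N := K)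
    (coprime_card_index_of_centralizer_le K hC)
  rw [hE.symm.index_eq_card]
  refine dvd_trans ?_ hn
  have hinj : Function.Injective ((QuotientGroup.mk' K).comp E.subtype) := by
    rw [injective_iff_map_eq_one]
    intro e he
    have h : (e : L) ∈ K ⊓ E := ⟨(QuotientGroup.eq_one_iff _).mp he, e.2⟩
    rw [hE.disjoint.eq_bot, Subgroup.mem_bot] at h
    exact Subtype.ext h
  have hnorm : E ≤ Subgroup.normalizer (K : Set L) := by
    rw [Subgroup.normalizer_eq_top]; exact le_top
  have hfpf : ∀ a ∈ E, a ≠ 1 → K ⊓ Subgroup.centralizer {a} = ⊥ := by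
    intro a ha ha1
    rw [eq_bot_iff]
    rintro k ⟨hk, hka⟩
    rw [Subgroup.mem_bot]
    by_contra hk1
    have h1 : a ∈ K := hC k hk hk1 (Subgroup.mem_centralizer_singleton_iff.mpr
      (Subgroup.mem_centralizer_singleton_iff.mp hka).symm)
    have h : a ∈ K ⊓ E := ⟨h1, ha⟩
    rw [hE.disjoint.eq_bot, Subgroup.mem_bot] at h
    exact ha1 h
  rw [← Nat.factorization_prime_le_iff_dvd Nat.card_pos.ne' Monoid.exponent_ne_zero_of_finite]
  intro q hq
  haveI := Fact.mk hq
  obtain ⟨Q⟩ : Nonempty (Sylow q E) := inferInstance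
  set Q' := (Q : Subgroup E).map E.subtype
  have hQp : IsPGroup q Q' := Q.2.map _
  have hq2 : q ∣ Nat.card E → q ≠ 2 := fun h e => by
    subst e
    exact (Nat.not_even_iff_odd.mpr hodd) (even_iff_two_dvd.mpr
      (h.trans (Subgroup.card_subgroup_dvd_card E)))
  by_cases hqE : q ∣ Nat.card E
  swap
  · rw [Nat.factorization_eq_zero_of_not_dvd hqE]; exact Nat.zero_le _
  have hle : Q' ≤ E := Subgroup.map_subtype_le _
  have hcyc : IsCyclic Q' := (CfsgLib.Solvable.isCyclic_or_quaternion hQp fun x y hx hy =>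
      CfsgLib.Solvable.mem_zpowers_of_fpf_pGroup hK1 (hle.trans hnorm)
        (fun a ha => hfpf a (hle ha)) hQp hx hy).resolve_right fun h => hq2 hqE h.1
  obtain ⟨g, hg⟩ := hcyc.exists_generator
  have ho : orderOf g = Nat.card Q' := orderOf_eq_card_of_forall_mem_zpowers hg
  have hcard : Nat.card Q' = q ^ (Nat.card E).factorization q := by
    rw [Subgroup.card_map_of_injective E.subtype_injective, Q.card_eq_multiplicity]
  have hdvd : q ^ (Nat.card E).factorization q ∣ Monoid.exponent (L ⧸ K) := by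
    rw [← hcard, ← ho, ← Subgroup.orderOf_coe,
      ← Subgroup.orderOf_mk (g : L) (hle g.2),
      ← orderOf_injective _ hinj (⟨(g : L), hle g.2⟩ : E)]
    exact Monoid.order_dvd_exponent _
  exact (hq.pow_dvd_iff_le_factorization Monoid.exponent_ne_zero_of_finite).mp hdvd

variable {G : Type*} [Group G] [Fintype G]

/-- Coherence of `S(1)` for a nilpotent Frobenius kernel, unless it is a non-abelian `p`-group with
`[L:K]` not dividing `p - 1`. -/
theorem coherent_frobenius (hC : ∀ k ∈ K, k ≠ 1 → Subgroup.centralizer ({k} : Set L) ≤ K)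
    (hK1 : K ≠ ⊥) (hKtop : K < ⊤) (hnil : Group.IsNilpotent K) (hodd : Odd (Nat.card L))
    (τ : (L → ℂ) → (G → ℂ))
    (hτ : Cfsg.IsLinearIsometryOn (Cfsg.zspanOn (Cfsg.inducedIrrAbove K ⊥) {1}ᶜ) τ)
    (hτ1 : ∀ α ∈ Cfsg.zspanOn (Cfsg.inducedIrrAbove K ⊥) {1}ᶜ, τ α 1 = 0)
    (hgood : (¬ ∃ p m : ℕ, p.Prime ∧ Nat.card K = p ^ m) ∨ ⁅K, K⁆ = ⊥ ∨
      ∃ p m : ℕ, p.Prime ∧ Nat.card K = p ^ m ∧ K.index ∣ p - 1) :
    Cfsg.IsCoherent (Cfsg.inducedIrrAbove K ⊥) {1}ᶜ τ := by
  classical
  have := Fintype.ofFinite K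
  haveI := hnil
  have hne : (Cfsg.inducedIrrAbove K ⊥).Nonempty := by
    haveI : Nontrivial K := (Subgroup.nontrivial_iff_ne_bot K).mpr hK1
    obtain ⟨θ, hθ⟩ : ∃ θ : Cfsg.IrrCharacter K, θ ≠ irrOne := by
      by_contra h
      push Not at h
      obtain ⟨k, hk⟩ := exists_ne (1 : K)
      exact hk (isConj_one_left.mp ((isConj_iff_forall_irr k 1).mpr fun χ => by
        rw [h χ]
        rfl))
    exact ⟨_, (θ : K → ℂ), θ.2, fun e => hθ (Subtype.ext e),
      Above.triv_bot K (θ : K → ℂ), rfl⟩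
  obtain ⟨R, hR⟩ := Cfsg.Agent.S1514.result (Cfsg.inducedIrrAbove K ⊥) hne
    (fun χ h => isIrr_of_mem K hC h)
    (fun χ h => ⟨Above.above_conj K ⊥ h, conj_ne K hC hodd h⟩) τ hτ hτ1
  haveI : ((⊥ : Subgroup L).subgroupOf K).Normal := by rw [Subgroup.bot_subgroupOf]; infer_instance
  have hH₁K : ⁅K, K⁆ < K := by
    refine lt_of_le_of_ne (Subgroup.commutator_le_self K) fun e => ?_
    have hs : Group.IsSolvable K := inferInstance
    have h : commutator K = ⊤ := by
      apply Subgroup.map_injective K.subtype_injective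
      rw [Subgroup.map_subtype_commutator, ← MonoidHom.range_eq_map, Subgroup.range_subtype, e]
    haveI : Nontrivial K := (Subgroup.nontrivial_iff_ne_bot K).mpr hK1
    exact (Group.IsSolvable.commutator_lt_top_of_nontrivial (G := K)).ne h
  refine Above.coherent_kernel K inferInstance hR hodd ⊥ bot_le ?_ ⁅K, K⁆
    (sup_bot_eq _).symm hH₁K hKtop (frobenius_mod_derived K hC) ?_
  · exact Group.nilpotent_quotient_of_nilpotent _
  · rw [Subgroup.relIndex_bot_left]
    rcases hgood with h | h | h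
    · exact Or.inr (Or.inr (Or.inl h))
    · exact Or.inr (Or.inr (Or.inr (Or.inl h.le)))
    · exact Or.inr (Or.inr (Or.inr (Or.inr h)))

end CfsgLib.OddChar.FrobeniusKernelChars
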