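import Cfsg.Agent.Lib.OddChar.TICoherent

/-!
# A TI subgroup containing the centralizers of its nonidentity elements

`kernel_setting`, `index_odd_of_not_comm`.
-/

namespace CfsgLib.OddChar.Above

variable {G : Type*} [Group G] [Finite G] (H : Subgroup G)

omit [Finite G] in
/-- The basic facts on `H` as a subgroup of its normalizer. -/
theorem kernel_setting (hH1 : H ≠ ⊥) (hlt : H < Subgroup.normalizer (H : Set G))
    (hC : ∀ k ∈ H, k ≠ 1 → Subgroup.centralizer ({k} : Set G) ≤ H) :
    (H.subgroupOf (Subgroup.normalizer (H : Set G))).Normal ∧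
      H.subgroupOf (Subgroup.normalizer (H : Set G)) ≠ ⊥ ∧
      H.subgroupOf (Subgroup.normalizer (H : Set G)) < ⊤ ∧
      ∀ k ∈ H.subgroupOf (Subgroup.normalizer (H : Set G)), k ≠ 1 →
        Subgroup.centralizer ({k} : Set (Subgroup.normalizer (H : Set G))) ≤
          H.subgroupOf (Subgroup.normalizer (H : Set G)) := by
  set N := Subgroup.normalizer (H : Set G)
  refine ⟨⟨fun a ha g => ?_⟩, fun h => hH1 ?_, lt_top_iff_ne_top.mpr fun h =>
    hlt.not_ge (Subgroup.subgroupOf_eq_top.mp h), fun k hk hk1 x hx => ?_⟩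
  · have hg : (g : G) ∈ Subgroup.normalizer (H : Set G) := g.2
    exact (Subgroup.mem_normalizer_iff.mp hg (a : G)).mp ha
  · rwa [Subgroup.subgroupOf_eq_bot, disjoint_iff, inf_eq_left.mpr hlt.le] at h
  · refine hC (k : G) hk (fun e => hk1 (Subtype.ext e)) ?_
    exact Subgroup.mem_centralizer_singleton_iff.mpr
      (congrArg Subtype.val (Subgroup.mem_centralizer_singleton_iff.mp hx))

/-- A nonabelian such subgroup has odd index in its normalizer. -/
theorem index_odd_of_not_comm {L : Type*} [Group L] [Finite L] (K : Subgroup L) [hK : K.Normal]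
    (hC : ∀ k ∈ K, k ≠ 1 → Subgroup.centralizer ({k} : Set L) ≤ K) (hna : ¬ IsMulCommutative K) :
    Odd K.index := by
  by_contra hev
  rw [Nat.not_odd_iff_even] at hev
  have hcop := CfsgLib.Char.coprime_card_index_of_centralizer_le K hC
  have := Fact.mk Nat.prime_two
  obtain ⟨t, ht⟩ := exists_prime_orderOf_dvd_card' (G := L) 2
    ((even_iff_two_dvd.mp hev).trans (Subgroup.index_dvd_card K))
  have htK : t ∉ K := fun h => by
    have h1 : 2 ∣ Nat.card K := ht ▸ Subgroup.orderOf_dvd_natCard K h
    have := Nat.dvd_gcd h1 (even_iff_two_dvd.mp hev)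
    rw [hcop.gcd_eq_one] at this
    omega
  let f : K →* K := ((MulAut.conjNormal t : MulAut K) : K →* K)
  have hff : MonoidHom.FixedPointFree f := fun a ha => by
    by_contra h1
    refine htK (hC a a.2 (fun e => h1 (Subtype.ext e)) ?_)
    have h2 : t * (a : L) * t⁻¹ = a := congrArg Subtype.val ha
    exact Subgroup.mem_centralizer_singleton_iff.mpr (mul_inv_eq_iff_eq_mul.mp h2)
  have hinv : Function.Involutive f := fun a => by
    have h2 : t * t = 1 := by rw [← pow_two, ← ht, pow_orderOf_eq_one]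
    refine Subtype.ext ?_
    show t * (t * (a : L) * t⁻¹) * t⁻¹ = a
    rw [show t * (t * (a : L) * t⁻¹) * t⁻¹ = (t * t) * a * (t * t)⁻¹ by group, h2]
    simp
  exact hna ⟨⟨fun a b => hff.commute_all_of_involutive hinv a b⟩⟩

end CfsgLib.OddChar.Above
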