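import Cfsg.Agent.Lib.OddChar.IrrExtend
import Cfsg.Agent.Lib.OddChar.SelfCentral
import Cfsg.Agent.Lib.Solvable.Nilpotent
import Cfsg.Agent.Lib.FGS.ThompsonKernel

/-!
# Coherence of the characters nontrivial on a Frobenius kernel, for any parity

* `irr_coherent_equal`, `irr_coherent_mono`, `irr_extend_all`: coherence of sets of irreducible characters;
* `nilpotent_kernel`, `prime_dvd_center`, `index_dvd_central_section`;
* `descend_irr`, `coherent_irr_big`, `coherent_irr_two_primes`, `coherent_irr_kernel`.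
-/

namespace CfsgLib.OddChar.Coh

open CfsgLib.Char

variable {N : Type*} [Group N] [Fintype N] {G : Type*} [Group G] [Fintype G]

open Classical in
/-- At least two irreducible characters of equal degree form a coherent set. -/
theorem irr_coherent_equal {S : Set (N → ℂ)} {τ : (N → ℂ) → (G → ℂ)}
    (hirr : ∀ φ ∈ S, Cfsg.IsIrrCharacter N φ)
    (hτ : Cfsg.IsLinearIsometryOn (Cfsg.zspanOn S {1}ᶜ) τ)
    (hτ1 : ∀ α ∈ Cfsg.zspanOn S {1}ᶜ, τ α 1 = 0) {φ₀ φ₁ : N → ℂ} (h₀ : φ₀ ∈ S) (h₁ : φ₁ ∈ S)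
    (hne : φ₀ ≠ φ₁) (hd : ∀ φ ∈ S, φ 1 = φ₀ 1) : Cfsg.IsCoherent S {1}ᶜ τ := by
  obtain ⟨hadd, hsmul, hinner, hgen⟩ := hτ
  have horth : ∀ φ ∈ S, ∀ φ' ∈ S, φ ≠ φ' → Cfsg.classInner φ φ' = 0 := fun φ h φ' h' he =>
    classInner_irr_ne (hirr φ h) (hirr φ' h') he
  have hfin : S.Finite := finite_of_orthogonal horth fun φ h => irr_ne_zero (hirr φ h)
  have hm : ∀ φ ∈ S, φ - φ₀ ∈ Cfsg.zspanOn S {1}ᶜ := fun φ h =>
    mem_zspanOn_one (Submodule.sub_mem _ (mem_zspan h) (mem_zspan h₀)) (by simp [hd φ h])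
  have h0 : τ (0 : N → ℂ) = 0 := by
    have hz : (0 : N → ℂ) ∈ Cfsg.zspanOn S {1}ᶜ := mem_zspanOn_one (Submodule.zero_mem _) rfl
    have := hsmul 0 hz 0
    rwa [zero_smul, zero_smul] at this
  obtain ⟨ε, hε, μ, hμ, hμi, hμτ⟩ := coherent_of_gram (⟨φ₀, h₀⟩ : S) (fun i => τ ((i : N → ℂ) - φ₀))
    (by show τ (φ₀ - φ₀) = 0; rw [sub_self, h0]) (fun i => hgen _ (hm i i.2)) (fun i => hτ1 _ (hm i i.2))
    (fun i j hi hj => by
      show Cfsg.classInner (τ _) (τ _) = _
      rw [hinner _ (hm i i.2) _ (hm j j.2)]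
      simp only [classInner_sub_left, classInner_sub_right, classInner_irr_self (hirr φ₀ h₀),
        horth _ i.2 _ h₀ fun e => hi (Subtype.ext e),
        horth _ h₀ _ j.2 fun e => hj (Subtype.ext e.symm)]
      split_ifs with h
      · subst h; rw [classInner_irr_self (hirr _ i.2)]; norm_num
      · rw [horth _ i.2 _ j.2 fun e => h (Subtype.ext e)]; norm_num)
  have hεε : ε * (starRingEnd ℂ) ε = 1 := by rcases hε with rfl | rfl <;> simp
  obtain ⟨f, hf, hiso⟩ := exists_isometry hfin horth (fun φ h => irr_ne_zero (hirr φ h))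
    (fun φ => if h : φ ∈ S then ε • μ ⟨φ, h⟩ else 0)
    (fun φ h => by
      rw [dif_pos h]
      rcases hε with rfl | rfl
      · rw [one_smul]; exact isGen_of_irr (hμ _)
      · rw [neg_one_smul]; exact isGen_neg (isGen_of_irr (hμ _)))
    (fun φ h φ' h' => by
      rw [dif_pos h, dif_pos h', classInner_smul_left, classInner_smul_right, ← mul_assoc, hεε, one_mul]
      by_cases he : φ = φ'
      · subst he; rw [classInner_irr_self (hμ _), classInner_irr_self (hirr φ h)]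
      · rw [classInner_irr_ne (hμ _) (hμ _) fun e => he (congrArg Subtype.val (hμi e)), horth φ h φ' h' he])
  refine ⟨⟨φ₁ - φ₀, hm φ₁ h₁, sub_ne_zero.mpr hne.symm⟩, f, hiso, fun y hy => ?_⟩
  have key : ∀ y ∈ Cfsg.zspan S, ∃ a ∈ Cfsg.zspanOn S {1}ᶜ, ∃ s : ℤ,
      y = a + s • φ₀ ∧ f a = τ a := by
    intro y hy
    induction hy using Submodule.span_induction with
    | mem φ hφ =>
      refine ⟨φ - φ₀, hm φ hφ, 1, by simp, ?_⟩
      rw [map_sub, hf φ hφ, hf φ₀ h₀, dif_pos hφ, dif_pos h₀, ← smul_sub]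
      exact (hμτ ⟨φ, hφ⟩).symm
    | zero => exact ⟨0, mem_zspanOn_one (Submodule.zero_mem _) rfl, 0, by simp, by rw [map_zero, h0]⟩
    | add x y _ _ hx hy =>
      obtain ⟨a, ha, s, rfl, hfa⟩ := hx
      obtain ⟨b, hb, t, rfl, hfb⟩ := hy
      exact ⟨a + b, mem_zspanOn_one (Submodule.add_mem _ ha.1 hb.1)
        (by simp [apply_one_of_mem ha, apply_one_of_mem hb]), s + t, by rw [add_smul]; abel,
        by rw [map_add, hfa, hfb, hadd a ha b hb]⟩
    | smul k x _ hx =>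
      obtain ⟨a, ha, s, rfl, hfa⟩ := hx
      exact ⟨k • a, mem_zspanOn_one (Submodule.smul_mem _ _ ha.1) (by simp [apply_one_of_mem ha]),
        k * s, by rw [smul_add, mul_smul], by rw [map_zsmul, hfa, hsmul a ha k]⟩
  obtain ⟨a, ha, s, rfl, hfa⟩ := key y hy.1
  have h1 := apply_one_of_mem hy
  have hs : s = 0 := by
    simpa [apply_one_of_mem ha, irr_one_ne_zero (hirr φ₀ h₀)] using h1
  subst hs
  simpa using hfa

/-- A subset of a coherent set of irreducible characters. -/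
theorem irr_coherent_mono {S₁ S₂ : Set (N → ℂ)} {τ : (N → ℂ) → (G → ℂ)} (h12 : S₁ ⊆ S₂)
    (h0 : ∃ α ∈ Cfsg.zspanOn S₁ {1}ᶜ, α ≠ 0) (hcoh : Cfsg.IsCoherent S₂ {1}ᶜ τ) :
    Cfsg.IsCoherent S₁ {1}ᶜ τ := by
  obtain ⟨-, σ, ⟨ha, hs, hi, hg⟩, hag⟩ := hcoh
  exact ⟨h0, σ,
    ⟨fun a ha' b hb => ha a (zspan_mono h12 ha') b (zspan_mono h12 hb),
      fun a ha' => hs a (zspan_mono h12 ha'),
      fun a ha' b hb => hi a (zspan_mono h12 ha') b (zspan_mono h12 hb),
      fun a ha' => hg a (zspan_mono h12 ha')⟩,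
    fun a ha' => hag a (zspanOn_mono h12 _ ha')⟩

open Classical in
/-- Adjoining irreducible characters to a coherent set. -/
theorem irr_extend_all {S : Set (N → ℂ)} {τ : (N → ℂ) → (G → ℂ)}
    (hirr : ∀ φ ∈ S, Cfsg.IsIrrCharacter N φ)
    (hτ : Cfsg.IsLinearIsometryOn (Cfsg.zspanOn S {1}ᶜ) τ)
    (hτ1 : ∀ α ∈ Cfsg.zspanOn S {1}ᶜ, τ α 1 = 0) (S₁ T : Finset (N → ℂ)) (h1 : ↑S₁ ⊆ S)
    (hT : ↑T ⊆ S) (hcoh : Cfsg.IsCoherent (↑S₁ : Set (N → ℂ)) {1}ᶜ τ) {χ₁ : N → ℂ} (hχ₁ : χ₁ ∈ S₁)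
    (hb : ∀ χ ∈ T, χ ∉ S₁ → deg χ₁ ∣ deg χ ∧ 2 * deg χ₁ * deg χ < ∑ φ ∈ S₁, deg φ ^ 2) :
    Cfsg.IsCoherent (↑(S₁ ∪ T) : Set (N → ℂ)) {1}ᶜ τ := by
  suffices ∀ F ⊆ T, Cfsg.IsCoherent (↑(S₁ ∪ F) : Set (N → ℂ)) {1}ᶜ τ from this T subset_rfl
  intro F hF
  induction F using Finset.induction_on with
  | empty => simpa using hcoh
  | @insert χ F _ ih =>
    have ih' := ih ((Finset.subset_insert _ _).trans hF)
    rw [Finset.union_insert]
    by_cases hχ : χ ∈ S₁ ∪ F
    · rwa [Finset.insert_eq_of_mem hχ]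
    have hsub : (↑(insert χ (S₁ ∪ F)) : Set (N → ℂ)) ⊆ S := fun φ hφ => by
      rcases Finset.mem_insert.mp hφ with rfl | h
      · exact hT (hF (Finset.mem_insert_self _ _))
      · rcases Finset.mem_union.mp h with h | h
        exacts [h1 h, hT (hF (Finset.mem_insert_of_mem h))]
    obtain ⟨hdvd, hlt⟩ := hb χ (hF (Finset.mem_insert_self _ _)) fun h => hχ (Finset.mem_union_left _ h)
    have hsub' := zspanOn_mono hsub ({1}ᶜ : Set N)
    exact extend_irr (S₁ ∪ F) χ (fun φ h => hirr φ (hsub (Finset.mem_insert_of_mem h)))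
      (hirr χ (hsub (Finset.mem_insert_self _ _))) hχ deg
      (fun φ h => deg_spec (isCharacter_of_isIrr (hirr φ (hsub h)))) τ
      ⟨fun a ha b hb => hτ.1 a (hsub' ha) b (hsub' hb), fun a ha => hτ.2.1 a (hsub' ha),
        fun a ha b hb => hτ.2.2.1 a (hsub' ha) b (hsub' hb), fun a ha => hτ.2.2.2 a (hsub' ha)⟩
      (fun a ha => hτ1 a (hsub' ha)) ih' χ₁ (Finset.mem_union_left _ hχ₁) hdvd
      (hlt.trans_le (Finset.sum_le_sum_of_subset (f := fun φ => deg φ ^ 2) Finset.subset_union_left))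

end CfsgLib.OddChar.Coh

namespace CfsgLib.OddChar.Above

open CfsgLib.Char CfsgLib.CharNormal CfsgLib.OddChar.Coh

variable {L : Type*} [Group L] [Fintype L] {G : Type*} [Group G] [Fintype G]

omit [Fintype L] in
/-- The kernel is nilpotent (Thompson). -/
theorem nilpotent_kernel [Finite L] (K : Subgroup L) [K.Normal] (hKL : K ≠ ⊤)
    (hC : ∀ k ∈ K, k ≠ 1 → Subgroup.centralizer ({k} : Set L) ≤ K) : Group.IsNilpotent K := by
  obtain ⟨r, hr, hrd⟩ := Nat.exists_prime_and_dvd (fun e => hKL (Subgroup.index_eq_one.mp e) :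
    K.index ≠ 1)
  have := Fact.mk hr
  obtain ⟨t, ht⟩ := exists_prime_orderOf_dvd_card' (G := L) r (hrd.trans (Subgroup.index_dvd_card K))
  have htK : t ∉ K := fun h => by
    have := Nat.dvd_gcd (ht ▸ Subgroup.orderOf_dvd_natCard K h : r ∣ Nat.card K) hrd
    rw [(coprime_card_index_of_centralizer_le K hC).gcd_eq_one] at this
    exact hr.not_dvd_one this
  refine CfsgLib.FGS.isNilpotent_of_fpf_element K hr ht fun n hn hc => ?_
  by_contra h1
  exact htK (hC n hn h1 (Subgroup.mem_centralizer_singleton_iff.mpr hc.symm))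

/-- A nilpotent group has every prime divisor of its order in that of its centre. -/
theorem prime_dvd_center {Q : Type*} [Group Q] [Finite Q] [Group.IsNilpotent Q] {q : ℕ}
    (hq : q.Prime) (hd : q ∣ Nat.card Q) : q ∣ Nat.card (Subgroup.center Q) := by
  have := Fact.mk hq
  obtain ⟨P⟩ := (inferInstance : Nonempty (Sylow q Q))
  have hne : (P : Subgroup Q) ⊓ Subgroup.center Q ≠ ⊥ :=
    CfsgLib.Solvable.inf_center_ne_bot_of_isNilpotent (P.ne_bot_of_dvd_card hd)
  have hp : IsPGroup q ↥((P : Subgroup Q) ⊓ Subgroup.center Q) := P.isPGroup'.to_le inf_le_left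
  obtain ⟨n, hn0, hn⟩ := hp.nontrivial_iff_card.mp ((Subgroup.nontrivial_iff_ne_bot _).mpr hne)
  exact (dvd_pow_self q hn0.ne').trans (hn.symm.dvd.trans (Subgroup.card_dvd_of_le inf_le_right))

variable (K : Subgroup L) [K.Normal] (hC : ∀ k ∈ K, k ≠ 1 → Subgroup.centralizer ({k} : Set L) ≤ K)

include hC in
omit [Fintype L] in
/-- `[L:K]` divides `[D:A] - 1` for a section `D/A` central in `K`. -/
theorem index_dvd_central_section [Finite L] (A D : Subgroup L) [A.Normal] [D.Normal] (hAD : A ≤ D)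
    (hDK : D ≤ K) (hcomm : ⁅D, K⁆ ≤ A) : K.index ∣ A.relIndex D - 1 := by
  classical
  set π := QuotientGroup.mk' A
  have hsur : Function.Surjective π := QuotientGroup.mk'_surjective A
  have : (D.map π).Normal := Subgroup.Normal.map inferInstance π hsur
  have hc : Nat.card (D.map π) = A.relIndex D := by
    rw [← Subgroup.relIndex_bot_left, ← Subgroup.relIndex_comap, MonoidHom.comap_bot,
      QuotientGroup.ker_mk']
  rw [← hc]
  refine dvd_card_sub_one (D.map π) K.index fun x hx hx1 => ?_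
  obtain ⟨k, hk, rfl⟩ := hx
  have hkA : k ∉ A := fun h => hx1 ((QuotientGroup.eq_one_iff k).mpr h)
  have hcen : (Subgroup.centralizer {π k}).comap π = K := by
    ext y
    rw [Subgroup.mem_comap, Subgroup.mem_centralizer_singleton_iff]
    constructor
    · intro hy
      refine mem_of_comm_mem K hC A (hAD.trans hDK) k (hDK hk) hkA y
        ((QuotientGroup.eq_one_iff _).mp ?_)
      show π (y * k * y⁻¹ * k⁻¹) = 1
      simp [map_mul, map_inv, hy]
    · intro hy
      have h1 : π (k * y * k⁻¹ * y⁻¹) = 1 := (QuotientGroup.eq_one_iff _).mpr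
        (hcomm (Subgroup.commutator_mem_commutator hk hy))
      simp only [map_mul, map_inv] at h1
      rw [mul_inv_eq_one, mul_inv_eq_iff_eq_mul] at h1
      exact h1.symm
  conv_rhs => rw [← hcen, Subgroup.index_comap_of_surjective _ hsur]

open Classical in
/-- The squared degrees of `S(A)` when its members are irreducible. -/
theorem sum_deg_above (A : Subgroup L) [A.Normal]
    (hirr : ∀ φ ∈ Cfsg.inducedIrrAbove K A, Cfsg.IsIrrCharacter L φ) :
    ∑ φ ∈ (above_finite K A).toFinset, deg φ ^ 2 = K.index * (A.relIndex K - 1) := by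
  have := Fintype.ofFinite K
  have h := sum_wt_above K A
  rw [Finset.sum_congr rfl (g := fun φ => ((deg φ ^ 2 : ℕ) : ℝ)) fun φ hφ => by
    rw [wt_irr (hirr φ ((Set.Finite.mem_toFinset _).mp hφ))]; push_cast; rfl, ← Nat.cast_sum] at h
  have h1 : 1 ≤ A.relIndex K := Nat.pos_of_ne_zero (A.subgroupOf K).index_ne_zero_of_finite
  rw [← Nat.cast_one, ← Nat.cast_sub h1, ← Nat.cast_mul] at h
  exact_mod_cast h

variable {K}

/-- Coherence descends from `S(H₁)` to `S(⊥)` if each central step has small degrees. -/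
theorem descend_irr (hsolv : Group.IsSolvable K) (hnil : Group.IsNilpotent K)
    (hirr : ∀ φ ∈ Cfsg.inducedIrrAbove K ⊥, Cfsg.IsIrrCharacter L φ) {τ : (L → ℂ) → (G → ℂ)}
    (hτ : Cfsg.IsLinearIsometryOn (Cfsg.zspanOn (Cfsg.inducedIrrAbove K ⊥) {1}ᶜ) τ)
    (hτ1 : ∀ α ∈ Cfsg.zspanOn (Cfsg.inducedIrrAbove K ⊥) {1}ᶜ, τ α 1 = 0)
    (H₁ : Subgroup L) [H₁.Normal] (hH₁K : H₁ < K)
    (hcoh : Cfsg.IsCoherent (Cfsg.inducedIrrAbove K H₁) {1}ᶜ τ)
    (hstep : ∀ A B : Subgroup L, A.Normal → B.Normal → A ≤ H₁ → B < A → ⁅A, K⁆ ≤ B →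
      (∀ C : Subgroup L, C.Normal → B ≤ C → C < A → C ≤ B) →
      ∀ χ ∈ Cfsg.inducedIrrAbove K B, 2 * deg χ + 1 < A.relIndex K) :
    Cfsg.IsCoherent (Cfsg.inducedIrrAbove K ⊥) {1}ᶜ τ := by
  classical
  have := Fintype.ofFinite K
  obtain ⟨A, ⟨hAH₁, hAn, hAcoh⟩, hAmin⟩ := Set.Finite.exists_minimal
    (Set.toFinite {A : Subgroup L | A ≤ H₁ ∧ A.Normal ∧
      Cfsg.IsCoherent (Cfsg.inducedIrrAbove K A) {1}ᶜ τ})
    ⟨H₁, le_rfl, inferInstance, hcoh⟩
  rcases (bot_le : (⊥ : Subgroup L) ≤ A).eq_or_lt with rfl | hbot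
  · exact hAcoh
  exfalso
  obtain ⟨B, ⟨hBA, hBn⟩, hBmax⟩ := Set.Finite.exists_maximal
    (Set.toFinite {B : Subgroup L | B < A ∧ B.Normal}) ⟨⊥, hbot, inferInstance⟩
  have hAK : A < K := hAH₁.trans_lt hH₁K
  have hle : ⁅A, K⁆ ⊔ B ≤ A := sup_le (Subgroup.commutator_le_left A K) hBA.le
  have : ((⊥ : Subgroup L).subgroupOf K).Normal := inferInstance
  have hcent : ⁅A, K⁆ ≤ B := by
    rcases hle.eq_or_lt with h | h
    · exact absurd (le_of_commutator_sup_eq (M := ⊥) inferInstance bot_le hAK.le h.ge) hBA.not_ge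
    · exact le_sup_left.trans (hBmax ⟨h, inferInstance⟩ le_sup_right)
  obtain ⟨χ₁, hχ₁, hd₁⟩ := exists_deg_index K A hsolv hAK
  have hmemA : ∀ {φ}, φ ∈ (above_finite K A).toFinset ↔ φ ∈ Cfsg.inducedIrrAbove K A :=
    fun {φ} => Set.Finite.mem_toFinset _
  have h := irr_extend_all hirr hτ hτ1 (above_finite K A).toFinset (above_finite K B).toFinset
    (by rw [Set.Finite.coe_toFinset]; exact above_le_bot K A)
    (by rw [Set.Finite.coe_toFinset]; exact above_le_bot K B)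
    (by rw [Set.Finite.coe_toFinset]; exact hAcoh) (hmemA.mpr hχ₁) (fun χ hχ _ => ?_)
  · refine hBA.not_ge (hAmin ⟨hBA.le.trans hAH₁, hBn, ?_⟩ hBA.le)
    obtain ⟨α, hα, hα0⟩ := hAcoh.1
    refine irr_coherent_mono ?_ ⟨α, zspanOn_mono (above_mono K fun a ha _ => hBA.le ha) _ hα, hα0⟩ h
    intro φ hφ
    exact Finset.mem_union_right _ ((Set.Finite.mem_toFinset _).mpr hφ)
  have hχB := (Set.Finite.mem_toFinset _).mp hχ
  rw [sum_deg_above K A fun φ h => hirr φ (above_le_bot K A h), hd₁]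
  obtain ⟨θ, hθ, -, -, rfl⟩ := hχB
  obtain ⟨n, hn⟩ := exists_degree (isCharacter_of_isIrr hθ)
  have hs := hstep A B hAn hBn hAH₁ hBA hcent (fun C hC hBC hCA => hBmax ⟨hCA, hC⟩ hBC)
    _ ((Set.Finite.mem_toFinset _).mp hχ)
  rw [deg_indFun K hn] at hs ⊢
  refine ⟨Dvd.intro n rfl, ?_⟩
  have hepos : 0 < K.index := Nat.pos_of_ne_zero K.index_ne_zero_of_finite
  calc 2 * K.index * (K.index * n) = K.index * (2 * (K.index * n)) := by ring
    _ < K.index * (A.relIndex K - 1) := Nat.mul_lt_mul_of_pos_left (by omega) hepos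

/-- Descent when `[K:H₁]` is large. -/
theorem step_big {A B : Subgroup L} (hcent : ⁅A, K⁆ ≤ B) (hAK : A ≤ K)
    (hbig : 4 * K.index ^ 2 + 1 < A.relIndex K) {χ : L → ℂ}
    (hχ : χ ∈ Cfsg.inducedIrrAbove K B) : 2 * deg χ + 1 < A.relIndex K := by
  have h := (sq_deg_le K K A hAK le_rfl
    (fun x hx y hy => hcent (Subgroup.commutator_mem_commutator hx hy)) hχ).2
  by_contra hle
  push Not at hle
  generalize A.relIndex K = X at *
  generalize deg χ = d at *
  generalize K.index = e at *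
  obtain ⟨Y, rfl⟩ : ∃ Y, X = Y + 1 := ⟨X - 1, by omega⟩
  have h1 : Y * Y ≤ (2 * d) * (2 * d) := Nat.mul_le_mul (by omega) (by omega)
  have h2 : (4 * e ^ 2 + 1) * Y ≤ Y * Y := Nat.mul_le_mul_right Y (by omega)
  nlinarith

include hC in
/-- Descent when two primes divide `[K:K']`. -/
theorem step_two_primes (hnil : Group.IsNilpotent K) {H₁ A B : Subgroup L} [A.Normal] [B.Normal]
    (hH₁K : H₁ ≤ K) (hAH₁ : A ≤ H₁) (hBA : B < A) (hcent : ⁅A, K⁆ ≤ B)
    (hmax : ∀ C : Subgroup L, C.Normal → B ≤ C → C < A → C ≤ B) {q r : ℕ} (hq : q.Prime)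
    (hr : r.Prime) (hne : q ≠ r) (hqd : q ∣ H₁.relIndex K) (hrd : r ∣ H₁.relIndex K)
    (hX : (K.index + 1) * (2 * K.index + 1) ≤ H₁.relIndex K) {χ : L → ℂ}
    (hχ : χ ∈ Cfsg.inducedIrrAbove K B) : 2 * deg χ + 1 < A.relIndex K := by
  classical
  have hAK : A ≤ K := hAH₁.trans hH₁K
  have hBK : B ≤ K := hBA.le.trans hAK
  set π := QuotientGroup.mk' B
  have hsur : Function.Surjective π := QuotientGroup.mk'_surjective B
  have hone : ∀ x, π x = 1 ↔ x ∈ B := fun x => QuotientGroup.eq_one_iff x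
  -- the centre of `K/B`
  set D : Subgroup L := K ⊓ (Subgroup.centralizer (K.map π : Set (L ⧸ B))).comap π with hD
  have : (K.map π).Normal := Subgroup.Normal.map inferInstance π hsur
  have hAD : A ≤ D := le_inf hAK fun a ha => by
    rw [Subgroup.mem_comap, Subgroup.mem_centralizer_iff]
    rintro _ ⟨k, hk, rfl⟩
    have h1 := (hone _).mpr (hcent (Subgroup.commutator_mem_commutator ha hk))
    simp only [commutatorElement_def, map_mul, map_inv] at h1
    rw [mul_inv_eq_one, mul_inv_eq_iff_eq_mul] at h1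
    exact h1.symm
  have hDK : D ≤ K := inf_le_left
  have hDcomm : ⁅D, K⁆ ≤ B := Subgroup.commutator_le.mpr fun d hd k hk => (hone _).mp (by
    have := Subgroup.mem_centralizer_iff.mp hd.2 (π k) ⟨k, hk, rfl⟩
    simp [commutatorElement_def, ← this])
  have hnilQ : Group.IsNilpotent (K.map π) :=
    Group.nilpotent_of_surjective (π.subgroupMap K) (π.subgroupMap_surjective K)
  have hZcard : Nat.card (Subgroup.center (K.map π)) ∣ B.relIndex D := by
    have hc : Nat.card (D.map π) = B.relIndex D := by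
      rw [← Subgroup.relIndex_bot_left, ← Subgroup.relIndex_comap, MonoidHom.comap_bot,
        QuotientGroup.ker_mk']
    rw [← hc, Nat.card_congr ((Subgroup.center (K.map π)).equivMapOfInjective (K.map π).subtype
      (K.map π).subtype_injective).toEquiv]
    refine Subgroup.card_dvd_of_le ?_
    rintro _ ⟨⟨_, k, hk, rfl⟩, hz, rfl⟩
    refine ⟨k, ⟨hk, Subgroup.mem_centralizer_iff.mpr ?_⟩, rfl⟩
    rintro _ ⟨k', hk', rfl⟩
    exact congrArg Subtype.val (Subgroup.mem_center_iff.mp hz ⟨π k', ⟨k', hk', rfl⟩⟩)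
  have hcardQ : Nat.card (K.map π) = B.relIndex K := by
    rw [← Subgroup.relIndex_bot_left, ← Subgroup.relIndex_comap, MonoidHom.comap_bot,
      QuotientGroup.ker_mk']
  have hdK : ∀ s, s ∣ H₁.relIndex K → s ∣ B.relIndex K := fun s h =>
    h.trans (Subgroup.relIndex_dvd_of_le_left K (hBA.le.trans hAH₁))
  have hlt : A < D := by
    refine lt_of_le_of_ne hAD fun e => ?_
    have hd : ∀ s, s.Prime → s ∣ H₁.relIndex K → s ∣ B.relIndex A := fun s hs h => by
      rw [e]; exact (prime_dvd_center hs (hcardQ ▸ hdK s h)).trans hZcard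
    obtain ⟨C, hCn, hBC, hCA⟩ := exists_between_of_two_primes A B hBA.le
      ((Subgroup.commutator_mono le_rfl hAK).trans hcent) hq hr hne (hd q hq hqd) (hd r hr hrd)
    exact hBC.not_ge (hmax C hCn hBC.le hCA)
  have hdvd := index_dvd_central_section K hC A D hAD hDK (hDcomm.trans hBA.le)
  have hc1 : 1 < A.relIndex D := by
    have h0 : A.relIndex D ≠ 0 := (A.subgroupOf D).index_ne_zero_of_finite
    have : A.relIndex D ≠ 1 := fun h => hlt.not_ge (Subgroup.relIndex_eq_one.mp h)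
    omega
  have hc2 : K.index + 1 ≤ A.relIndex D := by
    have := Nat.le_of_dvd (by omega) hdvd
    omega
  have h := (sq_deg_le K K D hDK le_rfl
    (fun x hx y hy => hDcomm (Subgroup.commutator_mem_commutator hx hy)) hχ).2
  have hmul : A.relIndex D * D.relIndex K = A.relIndex K := Subgroup.relIndex_mul_relIndex A D K hAD hDK
  have hXA : H₁.relIndex K ≤ A.relIndex K :=
    Nat.le_of_dvd (Nat.pos_of_ne_zero (A.subgroupOf K).index_ne_zero_of_finite)
      (Subgroup.relIndex_dvd_of_le_left K hAH₁)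
  by_contra hle
  push Not at hle
  have h3 : deg χ ^ 2 * (K.index + 1) ≤ K.index ^ 2 * A.relIndex K :=
    calc deg χ ^ 2 * (K.index + 1) ≤ K.index ^ 2 * D.relIndex K * A.relIndex D := Nat.mul_le_mul h hc2
      _ = _ := by rw [← hmul]; ring
  have hepos : 0 < K.index := Nat.pos_of_ne_zero K.index_ne_zero_of_finite
  have hXe := hX.trans hXA
  generalize A.relIndex K = X at *
  generalize deg χ = d at *
  generalize K.index = e at *
  obtain ⟨Y, rfl⟩ : ∃ Y, X = Y + 1 := ⟨X - 1, by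
    have : 1 ≤ (e + 1) * (2 * e + 1) := by nlinarith
    omega⟩
  have h4 : Y * Y ≤ (2 * d) * (2 * d) := Nat.mul_le_mul (by omega) (by omega)
  have h5 : Y * Y * (e + 1) ≤ 4 * (e ^ 2 * (Y + 1)) := by nlinarith
  have h6 : (2 * e ^ 2 + 3 * e) * Y ≤ Y * Y := Nat.mul_le_mul_right Y (by nlinarith)
  have h7 : (2 * e ^ 2 + 3 * e) * Y * (e + 1) ≤ Y * Y * (e + 1) := Nat.mul_le_mul_right _ h6
  nlinarith [sq_nonneg e, mul_pos hepos hepos]

include hC in
/-- Coherence of the characters nontrivial on the kernel, outside small nonabelian `p`-groups. -/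
theorem coherent_irr_kernel (hK1 : K ≠ ⊥) (hK2 : K ≠ ⊤) (he : Nat.card K ≠ K.index + 1)
    {τ : (L → ℂ) → (G → ℂ)}
    (hτ : Cfsg.IsLinearIsometryOn (Cfsg.zspanOn (Cfsg.inducedIrrAbove K ⊥) {1}ᶜ) τ)
    (hτ1 : ∀ α ∈ Cfsg.zspanOn (Cfsg.inducedIrrAbove K ⊥) {1}ᶜ, τ α 1 = 0) :
    Cfsg.IsCoherent (Cfsg.inducedIrrAbove K ⊥) {1}ᶜ τ ∨ ∃ p : ℕ, p.Prime ∧
      (∃ m : ℕ, Nat.card K = p ^ m) ∧ ¬ IsMulCommutative K ∧
      (⁅K, K⁆.subgroupOf K).index ≤ 4 * K.index ^ 2 + 1 := by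
  classical
  have := Fintype.ofFinite K
  have hnil := nilpotent_kernel K hK2 hC
  have hsolv : Group.IsSolvable K := inferInstance
  have := Subgroup.commutator_normal K K
  have : Nontrivial K := K.nontrivial_iff_ne_bot.mpr hK1
  set H₁ := ⁅K, K⁆ with hH₁
  have hH₁K : H₁ < K := by
    refine lt_of_le_of_ne (Subgroup.commutator_le_left K K) fun e => ?_
    refine (Group.IsSolvable.commutator_lt_top_of_nontrivial K).ne
      (Subgroup.map_injective K.subtype_injective ?_)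
    rw [commutator_def, Subgroup.map_commutator, ← MonoidHom.range_eq_map, K.range_subtype]
    exact e
  have hirr : ∀ φ ∈ Cfsg.inducedIrrAbove K ⊥, Cfsg.IsIrrCharacter L φ := fun φ h => irr_of_above K hC h
  have hepos : 0 < K.index := Nat.pos_of_ne_zero K.index_ne_zero_of_finite
  have hdvd1 := index_dvd_sub_one K H₁ K hH₁K.le le_rfl le_rfl (mem_of_comm_mem K hC H₁ hH₁K.le)
  -- equal degrees
  have hbase : H₁.relIndex K ≠ K.index + 1 → Cfsg.IsCoherent (Cfsg.inducedIrrAbove K H₁) {1}ᶜ τ := by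
    intro hne
    obtain ⟨φ₀, hφ₀, hd₀⟩ := exists_deg_index K H₁ hsolv hH₁K
    have hsub := above_le_bot K H₁
    have hex : ∃ φ₁ ∈ Cfsg.inducedIrrAbove K H₁, φ₀ ≠ φ₁ := by
      by_contra hcon
      push Not at hcon
      have h := sum_deg_above K H₁ fun φ h => hirr φ (hsub h)
      rw [show (above_finite K H₁).toFinset = {φ₀} from Finset.eq_singleton_iff_unique_mem.mpr
        ⟨(Set.Finite.mem_toFinset _).mpr hφ₀, fun φ h => (hcon φ ((Set.Finite.mem_toFinset _).mp h)).symm⟩,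
        Finset.sum_singleton, hd₀, sq] at h
      have := Nat.eq_of_mul_eq_mul_left hepos h
      omega
    obtain ⟨φ₁, hφ₁, hne'⟩ := hex
    refine irr_coherent_equal (fun φ h => hirr φ (hsub h))
      ⟨fun a ha b hb => hτ.1 a (zspanOn_mono hsub _ ha) b (zspanOn_mono hsub _ hb),
        fun a ha => hτ.2.1 a (zspanOn_mono hsub _ ha),
        fun a ha b hb => hτ.2.2.1 a (zspanOn_mono hsub _ ha) b (zspanOn_mono hsub _ hb),
        fun a ha => hτ.2.2.2 a (zspanOn_mono hsub _ ha)⟩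
      (fun a ha => hτ1 a (zspanOn_mono hsub _ ha)) hφ₀ hφ₁ hne' fun φ h => ?_
    rw [deg_spec (isCharacter_of_isIrr (hirr φ (hsub h))),
      deg_spec (isCharacter_of_isIrr (hirr φ₀ (hsub hφ₀))), deg_above_linear K H₁ le_rfl h, hd₀]
  by_cases hab : H₁ = ⊥
  · left
    have := hbase (by rw [hab, Subgroup.relIndex_bot_left]; exact he)
    rwa [hab] at this
  by_cases hbig : 4 * K.index ^ 2 + 1 < H₁.relIndex K
  · left
    refine descend_irr hsolv hnil hirr hτ hτ1 H₁ hH₁K (hbase (by nlinarith)) fun A B _ _ hAH₁ _ hcent _ χ hχ =>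
      step_big hcent (hAH₁.trans hH₁K.le) (hbig.trans_le ?_) hχ
    exact Nat.le_of_dvd (Nat.pos_of_ne_zero (A.subgroupOf K).index_ne_zero_of_finite)
      (Subgroup.relIndex_dvd_of_le_left K hAH₁)
  by_cases hpp : ∃ p m : ℕ, p.Prime ∧ Nat.card K = p ^ m
  · right
    obtain ⟨p, m, hp, hm⟩ := hpp
    refine ⟨p, hp, ⟨m, hm⟩, fun h => hab ?_, not_lt.mp hbig⟩
    exact Subgroup.commutator_eq_bot_iff_le_centralizer.mpr fun x hx =>
      Subgroup.mem_centralizer_iff.mpr fun y hy =>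
        congrArg Subtype.val (h.is_comm.comm (⟨y, hy⟩ : K) ⟨x, hx⟩)
  left
  -- two primes
  have : ((⊥ : Subgroup L).subgroupOf K).Normal := inferInstance
  have hK0 : Nat.card K ≠ 1 := Finite.one_lt_card.ne'
  obtain ⟨q, hq, hqd⟩ := Nat.exists_prime_and_dvd hK0
  obtain ⟨r, hr, hrd, hne⟩ : ∃ r, r.Prime ∧ r ∣ Nat.card K ∧ q ≠ r := by
    by_contra hcon
    push Not at hcon
    exact hpp ⟨q, _, hq, Nat.eq_prime_pow_of_unique_prime_dvd Nat.card_pos.ne'
      fun {d} hd hdd => (hcon d hd hdd).symm⟩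
  have hprime : ∀ s, s.Prime → s ∣ Nat.card K → s ∣ H₁.relIndex K := fun s hs h => by
    have := prime_dvd_relIndex K ⊥ bot_le inferInstance hs (by rwa [Subgroup.relIndex_bot_left])
    rwa [sup_bot_eq] at this
  have hq' := hprime q hq hqd
  have hr' := hprime r hr hrd
  obtain ⟨N, hNn, hN1, hN2, hNr⟩ := exists_between_not_dvd K H₁ hH₁K.le le_rfl hq hr hne hq' hr'
  have hu := index_dvd_sub_one K H₁ N hN1.le hN2.le le_rfl (mem_of_comm_mem K hC H₁ hH₁K.le)
  have hv := index_dvd_central_section K hC N K hN2.le le_rfl hN1.le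
  have huv := Subgroup.relIndex_mul_relIndex H₁ N K hN1.le hN2.le
  have hu1 : 1 < H₁.relIndex N := Nat.one_lt_iff_ne_zero_and_ne_one.mpr
    ⟨(H₁.subgroupOf N).index_ne_zero_of_finite, fun h => hN1.not_ge (Subgroup.relIndex_eq_one.mp h)⟩
  have hv1 : 1 < N.relIndex K := Nat.one_lt_iff_ne_zero_and_ne_one.mpr
    ⟨(N.subgroupOf K).index_ne_zero_of_finite, fun h => hN2.not_ge (Subgroup.relIndex_eq_one.mp h)⟩
  have hruv : r ∣ N.relIndex K := (hr.dvd_mul.mp (huv ▸ hr')).resolve_left hNr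
  have hX : (K.index + 1) * (2 * K.index + 1) ≤ H₁.relIndex K := by
    rw [← huv]
    obtain ⟨a, ha⟩ := hu
    obtain ⟨b, hb⟩ := hv
    have hne' : a ≠ b := fun e => hNr (by
      have : H₁.relIndex N = N.relIndex K := by subst e; omega
      rwa [this])
    have ha1 : 1 ≤ a := Nat.pos_of_ne_zero fun e => by rw [e, mul_zero] at ha; omega
    have hb1 : 1 ≤ b := Nat.pos_of_ne_zero fun e => by rw [e, mul_zero] at hb; omega
    have hu' : H₁.relIndex N = K.index * a + 1 := by omega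
    have hv' : N.relIndex K = K.index * b + 1 := by omega
    rw [hu', hv']
    rcases lt_or_gt_of_ne hne' with h | h
    · exact Nat.mul_le_mul (by nlinarith) (by nlinarith)
    · rw [mul_comm (K.index * a + 1)]; exact Nat.mul_le_mul (by nlinarith) (by nlinarith)
  refine descend_irr hsolv hnil hirr hτ hτ1 H₁ hH₁K (hbase (by nlinarith))
    fun A B hAn hBn hAH₁ hBA hcent hmax χ hχ => ?_
  exact step_two_primes hC hnil hH₁K.le hAH₁ hBA hcent hmax hq hr hne hq' hr' hX hχ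

end CfsgLib.OddChar.Above
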