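import Cfsg.Agent.Lib.OddChar.CohExtend
import Cfsg.Agent.Lib.OddChar.NormalInd
import Cfsg.Agent.Lib.CharNormal.Kernel
import Cfsg.Agent.Lib.OddChar.CyclicTI
import Cfsg.Agent.Lib.Char.PermLemma

/-!
# The sets `S(A)` of functions induced from characters of a normal subgroup

* `above_conj`, `above_mono`, `above_finite`, `exists_deg_index`;
* `sum_wt_above`: `∑ d² / n = [L:K] ([K:A] - 1)`;
* `triv_of_constituent`, `sq_degree_le`, `degree_le_of_central`: degree bounds.
-/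

namespace CfsgLib.OddChar.Above

open CfsgLib.Char CfsgLib.CharNormal CfsgLib.OddChar.Coh
open scoped ComplexConjugate

section Bounds

variable {G : Type*} [Group G] [Fintype G]

/-- A constituent of a character is trivial where the character is. -/
theorem triv_of_classInner_ne {ψ : G → ℂ} (hψ : Cfsg.IsCharacter G ψ) {η : G → ℂ}
    (hη : Cfsg.IsIrrCharacter G η) (h0 : Cfsg.classInner ψ η ≠ 0) {b : G} (hb : ψ b = ψ 1) :
    η b = η 1 := by
  classical
  obtain ⟨m, hdec, hm⟩ := char_decomp hψ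
  have hm0 : m ⟨η, hη⟩ ≠ 0 := fun e => h0 (by rw [hm ⟨η, hη⟩, e, Nat.cast_zero])
  have h1 := congrFun hdec b
  have h2 := congrFun hdec 1
  simp only [Finset.sum_apply, Pi.smul_apply, smul_eq_mul] at h1 h2
  rw [hb, h2] at h1
  have h3 := congrArg Complex.re h1
  simp only [Complex.re_sum, Complex.mul_re, Complex.natCast_re,
    Complex.natCast_im, zero_mul, sub_zero] at h3
  have hle : ∀ θ : Cfsg.IrrCharacter G, ((θ : G → ℂ) b).re ≤ ((θ : G → ℂ) 1).re := fun θ =>
    (Complex.re_le_norm _).trans (norm_char_le (isCharacter_of_isIrr θ.2) b)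
  have h4 := (Finset.sum_eq_sum_iff_of_le fun θ _ =>
    mul_le_mul_of_nonneg_left (hle θ) (Nat.cast_nonneg (m θ))).mp h3.symm ⟨η, hη⟩ (Finset.mem_univ _)
  have h5 : (η b).re = (η 1).re := mul_left_cancel₀ (Nat.cast_ne_zero.mpr hm0) h4
  have hn := norm_char_le (isCharacter_of_isIrr hη) b
  have him : (η b).im = 0 := by
    have := Complex.sq_norm_sub_sq_re (η b)
    nlinarith [Complex.re_le_norm (η b), norm_nonneg (η b), sq_nonneg (η b).im]
  obtain ⟨n, hn1⟩ := exists_degree (isCharacter_of_isIrr hη)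
  apply Complex.ext
  · exact h5
  · rw [him, hn1, Complex.natCast_im]

/-- A constituent of a restriction is trivial where the character is. -/
theorem triv_of_constituent (H : Subgroup G) [Fintype H] {χ : G → ℂ} (hχ : Cfsg.IsCharacter G χ)
    {η : H → ℂ} (hη : Cfsg.IsIrrCharacter H η)
    (h0 : Cfsg.classInner (fun h : H => χ h) η ≠ 0) {b : H} (hb : χ b = χ 1) : η b = η 1 :=
  triv_of_classInner_ne (isCharacter_res H hχ) hη h0 (by simpa using hb)

/-- The degree bound from a subgroup central modulo the kernel. -/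
theorem sq_degree_le {η : G → ℂ} (hη : Cfsg.IsIrrCharacter G η) (D : Subgroup G)
    (hD : ∀ d ∈ D, ∀ c : G, η (d * c * d⁻¹ * c⁻¹) = η 1) {n : ℕ} (hn : η 1 = n) :
    n ^ 2 * Nat.card D ≤ Nat.card G := by
  classical
  obtain ⟨m, ρ, hirr, rfl⟩ := hη
  have hfr : n = Module.finrank ℂ (Fin m → ℂ) := by
    have : ((n : ℕ) : ℂ) = (Module.finrank ℂ (Fin m → ℂ) : ℂ) := hn ▸ ρ.char_one
    exact_mod_cast this
  have hnorm : ∀ d ∈ D, ‖ρ.character d‖ = (n : ℝ) := by
    intro d hd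
    rw [hfr]
    refine (norm_character_eq_iff ρ d).mpr (exists_eq_smul_id ρ (ρ d) fun c => ?_)
    have h1 : ρ (d * c * d⁻¹ * c⁻¹) = LinearMap.id :=
      (character_eq_degree_iff ρ _).mp (by rw [hD d hd c]; exact ρ.char_one)
    have h2 : ρ (d * c) = ρ (c * d) := by
      rw [show d * c = (d * c * d⁻¹ * c⁻¹) * (c * d) by group, map_mul, h1]
      rfl
    rw [← Module.End.mul_eq_comp, ← Module.End.mul_eq_comp, ← map_mul, ← map_mul, h2]
  have hsum := classInner_self_eq ρ.character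
  rw [classInner_irr_self ⟨m, ρ, hirr, rfl⟩] at hsum
  have hs : ∑ x : G, ‖ρ.character x‖ ^ 2 = (Nat.card G : ℝ) := by
    have h1 : (1 : ℝ) = (Nat.card G : ℝ)⁻¹ * ∑ x : G, ‖ρ.character x‖ ^ 2 := by exact_mod_cast hsum
    have hc : (Nat.card G : ℝ) ≠ 0 := by exact_mod_cast Nat.card_pos.ne'
    field_simp at h1
    linarith
  have hle : ∑ x ∈ Finset.univ.filter (fun x : G => x ∈ D), ‖ρ.character x‖ ^ 2 ≤
      ∑ x : G, ‖ρ.character x‖ ^ 2 :=
    Finset.sum_le_sum_of_subset_of_nonneg (Finset.subset_univ _) fun x _ _ => by positivity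
  rw [Finset.sum_congr rfl fun x hx => by rw [hnorm x (Finset.mem_filter.mp hx).2], hs,
    Finset.sum_const, ← Fintype.card_subtype, ← Nat.card_eq_fintype_card, nsmul_eq_mul] at hle
  have : ((n ^ 2 * Nat.card D : ℕ) : ℝ) ≤ ((Nat.card G : ℕ) : ℝ) := by push_cast; linarith
  exact_mod_cast this

/-- The degree bound through a normal subgroup `C` with `D` central in `C` modulo the kernel. -/
theorem degree_le_of_central {θ : G → ℂ} (hθ : Cfsg.IsIrrCharacter G θ) (C D : Subgroup G) [C.Normal]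
    (hDC : D ≤ C) (hker : ∀ d ∈ D, ∀ c ∈ C, θ (d * c * d⁻¹ * c⁻¹) = θ 1) {n : ℕ} (hn : θ 1 = n) :
    n ^ 2 ≤ C.index ^ 2 * D.relIndex C := by
  classical
  have := Fintype.ofFinite C
  have hθc := isCharacter_of_isIrr hθ
  obtain ⟨η, hη, h0⟩ := exists_constituent (isCharacter_res C hθc)
    (fun e => irr_one_ne_zero hθ (by simpa using congrFun e 1))
  obtain ⟨e, he0, he⟩ := exists_degree_pos hη
  have h1 : e ^ 2 * Nat.card (D.subgroupOf C) ≤ Nat.card C :=
    sq_degree_le hη (D.subgroupOf C) (fun d hd c => triv_of_constituent C hθc hη h0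
      (b := d * c * d⁻¹ * c⁻¹) (by simpa using hker d hd c c.2)) he
  rw [Nat.card_congr (Subgroup.subgroupOfEquivOfLe hDC).toEquiv] at h1
  have h2 : D.relIndex C * Nat.card D = Nat.card C := by
    rw [← Nat.card_congr (Subgroup.subgroupOfEquivOfLe hDC).toEquiv]
    exact (D.subgroupOf C).index_mul_card
  rw [← h2] at h1
  have h3 : e ^ 2 ≤ D.relIndex C := Nat.le_of_mul_le_mul_right h1 Nat.card_pos
  -- Frobenius reciprocity
  choose k hk using fun χ : Cfsg.IrrCharacter G =>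
    classInner_char_nat (isCharacter_res C (isCharacter_of_isIrr χ.2)) (isCharacter_of_isIrr hη)
  choose dχ _ hdχ using fun χ : Cfsg.IrrCharacter G => exists_degree_pos χ.2
  have h4 := sum_degree_mul_classInner_res C hη
  simp only [hk, hdχ, he] at h4
  have h5 : ∑ χ, dχ χ * k χ = C.index * e := by exact_mod_cast h4
  have hk1 : 1 ≤ k ⟨θ, hθ⟩ := by
    rcases Nat.eq_zero_or_pos (k ⟨θ, hθ⟩) with h | h
    · exact absurd (by rw [hk ⟨θ, hθ⟩, h, Nat.cast_zero]) h0
    · exact h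
  have hd' : dχ ⟨θ, hθ⟩ = n := by
    have : ((dχ ⟨θ, hθ⟩ : ℕ) : ℂ) = n := (hdχ ⟨θ, hθ⟩).symm.trans hn
    exact_mod_cast this
  have h6 : n ≤ C.index * e := by
    rw [← h5]
    calc n = dχ ⟨θ, hθ⟩ * 1 := by rw [hd', mul_one]
      _ ≤ dχ ⟨θ, hθ⟩ * k ⟨θ, hθ⟩ := Nat.mul_le_mul_left _ hk1
      _ ≤ _ := Finset.single_le_sum (f := fun χ => dχ χ * k χ) (fun _ _ => Nat.zero_le _)
        (Finset.mem_univ _)
  calc n ^ 2 ≤ (C.index * e) ^ 2 := Nat.pow_le_pow_left h6 2
    _ = C.index ^ 2 * e ^ 2 := mul_pow _ _ _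
    _ ≤ _ := Nat.mul_le_mul_left _ h3

end Bounds

variable {L : Type*} [Group L] [Fintype L] (K : Subgroup L)

/-- `θ` is trivial on `A ⊓ K`. -/
def Triv (A : Subgroup L) (θ : K → ℂ) : Prop := ∀ a : K, (a : L) ∈ A → θ a = θ 1

omit [Fintype L] in
theorem triv_bot (θ : K → ℂ) : Triv K ⊥ θ := fun a ha => by
  rw [show a = 1 from Subtype.ext (Subgroup.mem_bot.mp ha)]

theorem conjFun_indFun (θ : K → ℂ) :
    Cfsg.conjFun (Cfsg.indFun K θ) = Cfsg.indFun K (Cfsg.conjFun θ) := by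
  classical
  funext g
  simp only [Cfsg.conjFun, indFun_apply, map_mul, map_sum, map_inv₀, map_natCast]
  congr 1
  refine Finset.sum_congr rfl fun x _ => ?_
  by_cases hx : x⁻¹ * g * x ∈ K
  · rw [extendByZero_of_mem _ hx, extendByZero_of_mem _ hx]
    rfl
  · rw [extendByZero_of_notMem _ hx, extendByZero_of_notMem _ hx, map_zero]

theorem above_mono {A B : Subgroup L} (h : ∀ a ∈ A, a ∈ K → a ∈ B) :
    Cfsg.inducedIrrAbove K B ⊆ Cfsg.inducedIrrAbove K A := by
  rintro φ ⟨θ, hθ, h1, ht, rfl⟩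
  exact ⟨θ, hθ, h1, fun a ha => ht a (h a ha a.2), rfl⟩

theorem above_le_bot (A : Subgroup L) :
    Cfsg.inducedIrrAbove K A ⊆ Cfsg.inducedIrrAbove K ⊥ :=
  above_mono K fun a ha _ => by rw [Subgroup.mem_bot.mp ha]; exact A.one_mem

variable [Fintype K]

theorem above_conj (A : Subgroup L) {φ : L → ℂ} (h : φ ∈ Cfsg.inducedIrrAbove K A) :
    Cfsg.conjFun φ ∈ Cfsg.inducedIrrAbove K A := by
  obtain ⟨θ, hθ, h1, ht, rfl⟩ := h
  refine ⟨Cfsg.conjFun θ, (irrConj ⟨θ, hθ⟩).2, fun e => h1 ?_, fun a ha => ?_, conjFun_indFun K θ⟩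
  · funext a
    have := congrFun e a
    simpa [Cfsg.conjFun] using congrArg conj this
  · simp only [Cfsg.conjFun, ht a ha]

theorem above_finite (A : Subgroup L) : (Cfsg.inducedIrrAbove K A).Finite :=
  (Set.finite_range fun θ : Cfsg.IrrCharacter K => Cfsg.indFun K (θ : K → ℂ)).subset (by
    rintro φ ⟨θ, hθ, -, -, rfl⟩
    exact ⟨⟨θ, hθ⟩, rfl⟩)

theorem deg_indFun {θ : K → ℂ} {n : ℕ} (hn : θ 1 = n) :
    deg (Cfsg.indFun K θ) = K.index * n :=
  deg_eq (by rw [indFun_one, hn, Nat.cast_mul])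

theorem exists_deg_index [hK : K.Normal] (A : Subgroup L) [A.Normal] (hsolv : Group.IsSolvable K)
    (hA : A < K) : ∃ φ ∈ Cfsg.inducedIrrAbove K A, deg φ = K.index := by
  classical
  set A' := A.subgroupOf K
  have : Nontrivial (K ⧸ A') := by
    rw [QuotientGroup.nontrivial_iff, Ne, Subgroup.subgroupOf_eq_top]
    exact fun h => hA.not_ge h
  have hQ : Group.IsSolvable (K ⧸ A') := inferInstance
  have hlt : commutator (K ⧸ A') < ⊤ := Group.IsSolvable.commutator_lt_top_of_nontrivial _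
  have : Nontrivial (Abelianization (K ⧸ A')) := by
    rw [Abelianization, QuotientGroup.nontrivial_iff]
    exact hlt.ne
  have := CTI.finite_hom (W := Abelianization (K ⧸ A')) mul_comm
  have : Nontrivial (Abelianization (K ⧸ A') →* ℂˣ) := by
    rw [← Finite.one_lt_card_iff_nontrivial, CTI.card_hom mul_comm]
    exact Finite.one_lt_card
  obtain ⟨μ, hμ⟩ := exists_ne (1 : Abelianization (K ⧸ A') →* ℂˣ)
  let l : K →* ℂˣ := (μ.comp Abelianization.of).comp (QuotientGroup.mk' A')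
  refine ⟨Cfsg.indFun K fun k => (l k : ℂ), ⟨_, isIrrCharacter_units_hom l, fun e => hμ ?_,
    fun a ha => ?_, rfl⟩, ?_⟩
  · refine Abelianization.hom_ext _ _ (MonoidHom.ext fun x => ?_)
    obtain ⟨k, rfl⟩ := QuotientGroup.mk_surjective x
    exact Units.ext (congrFun e k)
  · have : QuotientGroup.mk' A' a = 1 := (QuotientGroup.eq_one_iff a).mpr ha
    simp only [l, MonoidHom.comp_apply, this, map_one]
  · rw [deg_indFun K (n := 1) (by simp), mul_one]

variable [hK : K.Normal]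

theorem exists_conj_of_indFun_eq {θ θ' : K → ℂ} (hθ : Cfsg.IsIrrCharacter K θ)
    (hθ' : Cfsg.IsIrrCharacter K θ') (h : Cfsg.indFun K θ' = Cfsg.indFun K θ) :
    ∃ g : L, conjFun K g θ = θ' := by
  have hc := card_mul_classInner_indFun_normal K hθ' hθ
  rw [h] at hc
  have hne : Cfsg.classInner (Cfsg.indFun K θ) (Cfsg.indFun K θ) ≠ 0 := fun e => by
    have := congrFun (eq_zero_of_classInner_self_eq_zero e) 1
    rw [indFun_one, Pi.zero_apply, mul_eq_zero, Nat.cast_eq_zero] at this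
    exact this.elim K.index_ne_zero_of_finite (irr_one_ne_zero hθ)
  have hpos : Nat.card {g : L // conjFun K g θ = θ'} ≠ 0 := fun e => by
    rw [e, Nat.cast_zero] at hc
    exact mul_ne_zero (Nat.cast_ne_zero.mpr Nat.card_pos.ne') hne hc
  obtain ⟨⟨g, hg⟩⟩ := (Nat.card_ne_zero.mp hpos).1
  exact ⟨g, hg⟩

theorem triv_conjFun {A : Subgroup L} [hA : A.Normal] {θ : K → ℂ} (h : Triv K A θ) (g : L) :
    Triv K A (conjFun K g θ) := fun a ha => by
  rw [conjFun_apply_one, conjFun_apply]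
  exact h _ (hA.conj_mem _ ha g)

open Classical in
/-- The weight of an induced function. -/
theorem wt_indFun (θ : Cfsg.IrrCharacter K) :
    (wt (Cfsg.indFun K (θ : K → ℂ)) : ℂ) =
      (K.index : ℂ) * ∑ ψ ∈ orbit K θ, (ψ : K → ℂ) 1 ^ 2 := by
  obtain ⟨m, hm⟩ := exists_degree (isCharacter_of_isIrr θ.2)
  have hc := card_mul_classInner_indFun_normal K θ.2 θ.2
  have hnr := nrm_spec (isCharacter_indFun K (isCharacter_of_isIrr θ.2))
  rw [hnr] at hc
  have hI : Nat.card {g : L // conjFun K g (θ : K → ℂ) = θ} = Nat.card (inertia K (θ : K → ℂ)) :=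
    Nat.card_congr (Equiv.subtypeEquivRight fun g => (mem_inertia K).symm)
  rw [hI] at hc
  have hsum : ∑ ψ ∈ orbit K θ, (ψ : K → ℂ) 1 ^ 2 = ((orbit K θ).card : ℂ) * (m : ℂ) ^ 2 := by
    rw [← nsmul_eq_mul, ← Finset.sum_const]
    refine Finset.sum_congr rfl fun ψ hψ => ?_
    obtain ⟨g, hg⟩ := (mem_orbit K).mp hψ
    rw [← hg, conjFun_apply_one, hm]
  rw [hsum, wt, deg_indFun K hm, card_orbit_eq_index]
  set n := nrm (Cfsg.indFun K (θ : K → ℂ))
  set I := inertia K (θ : K → ℂ)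
  have e1 : Nat.card K * n = Nat.card I := by exact_mod_cast hc
  have e2 : K.index * Nat.card K = I.index * Nat.card I := by
    rw [K.index_mul_card, I.index_mul_card]
  have e3 : K.index = I.index * n := by
    refine Nat.eq_of_mul_eq_mul_right (Nat.card_pos (α := K)) ?_
    rw [e2, ← e1]; ring
  have hn0 : (n : ℂ) ≠ 0 := by
    refine Nat.cast_ne_zero.mpr fun e => ?_
    rw [e, mul_zero] at e1
    exact Nat.card_pos.ne' e1.symm
  push_cast
  rw [e3]
  push_cast
  field_simp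

open Classical in
/-- The weights of `S(A)` add up to `[L:K] ([K:A] - 1)`. -/
theorem sum_wt_above (A : Subgroup L) [A.Normal] :
    ∑ φ ∈ (above_finite K A).toFinset, wt φ =
      (K.index : ℝ) * ((A.relIndex K : ℝ) - 1) := by
  set Θ := Finset.univ.filter fun θ : Cfsg.IrrCharacter K =>
    (θ : K → ℂ) ≠ (fun _ => 1) ∧ Triv K A θ with hΘ
  have himg : (above_finite K A).toFinset = Θ.image fun θ : Cfsg.IrrCharacter K => Cfsg.indFun K (θ : K → ℂ) := by
    ext φ
    simp only [Set.Finite.mem_toFinset, Finset.mem_image, hΘ, Finset.mem_filter, Finset.mem_univ,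
      true_and]
    exact ⟨fun ⟨θ, hθ, h1, ht, e⟩ => ⟨⟨θ, hθ⟩, ⟨h1, ht⟩, e.symm⟩,
      fun ⟨θ, ⟨h1, ht⟩, e⟩ => ⟨θ, θ.2, h1, ht, e.symm⟩⟩
  have hfib : ∀ θ ∈ Θ, Θ.filter (fun ψ : Cfsg.IrrCharacter K => Cfsg.indFun K (ψ : K → ℂ) = Cfsg.indFun K (θ : K → ℂ)) =
      orbit K θ := by
    intro θ hθ
    obtain ⟨h1, ht⟩ := (Finset.mem_filter.mp hθ).2
    ext ψ
    rw [Finset.mem_filter, mem_orbit]
    refine ⟨fun h => exists_conj_of_indFun_eq K θ.2 ψ.2 h.2, ?_⟩
    rintro ⟨g, hg⟩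
    refine ⟨Finset.mem_filter.mpr ⟨Finset.mem_univ _, ?_, hg ▸ triv_conjFun K ht g⟩,
      hg ▸ indFun_conjFun K g _⟩
    intro e
    refine h1 (conjFun_injective K g ?_)
    rw [hg, e, conjFun_const]
  have hC : (∑ φ ∈ (above_finite K A).toFinset, (wt φ : ℂ)) =
      (K.index : ℂ) * ((A.relIndex K : ℂ) - 1) := by
    rw [himg, Finset.sum_congr rfl (g := fun φ => (K.index : ℂ) *
        ∑ ψ ∈ Θ.filter (fun ψ : Cfsg.IrrCharacter K => Cfsg.indFun K (ψ : K → ℂ) = φ), (ψ : K → ℂ) 1 ^ 2) fun φ hφ => ?_,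
      ← Finset.mul_sum, Finset.sum_fiberwise_of_maps_to fun θ hθ => Finset.mem_image_of_mem _ hθ]
    · congr 1
      set A' := A.subgroupOf K
      have := Fintype.ofFinite (K ⧸ A')
      have hall : ∑ θ ∈ Finset.univ.filter (fun θ : Cfsg.IrrCharacter K => Triv K A θ),
          (θ : K → ℂ) 1 ^ 2 = (A.relIndex K : ℂ) := by
        rw [Subgroup.relIndex, Subgroup.index_eq_card, ← sum_degree_sq (G := K ⧸ A'),
          Finset.sum_subtype (p := fun θ : Cfsg.IrrCharacter K =>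
            ∀ n ∈ A', (θ : K → ℂ) n = (θ : K → ℂ) 1) _ (fun θ => by
            simp only [Finset.mem_filter, Finset.mem_univ, true_and]
            exact ⟨fun h n hn => h n hn, fun h a ha => h a ha⟩)]
        exact (Fintype.sum_equiv (inflEquiv A') _ _ fun ψ => rfl).symm
      have hmem : (⟨fun _ => 1, isIrrCharacter_one⟩ : Cfsg.IrrCharacter K) ∈
          Finset.univ.filter (fun θ : Cfsg.IrrCharacter K => Triv K A θ) :=
        Finset.mem_filter.mpr ⟨Finset.mem_univ _, fun _ _ => rfl⟩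
      rw [← hall, ← Finset.add_sum_erase _ _ hmem, one_pow, add_sub_cancel_left]
      refine Finset.sum_congr ?_ fun _ _ => rfl
      ext θ
      simp only [hΘ, Finset.mem_filter, Finset.mem_univ, true_and, Finset.mem_erase, Ne, Subtype.ext_iff]
    · obtain ⟨θ, hθ, rfl⟩ := Finset.mem_image.mp hφ
      rw [wt_indFun, hfib θ hθ]
  have h := congrArg Complex.re hC
  simp only [Complex.re_sum, Complex.ofReal_re, Complex.mul_re, Complex.sub_re, Complex.natCast_re,
    Complex.one_re, Complex.natCast_im, zero_mul, sub_zero] at h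
  exact h

end CfsgLib.OddChar.Above
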