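import Cfsg.Agent.Lib.OddChar.Coherence
import Cfsg.Agent.S1515

/-!
# Consequences of a coherence system

* `finite`, `ne_zero`, `exists_norm`, `card_R`, `R_orth`;
* `component_ge`: the component of `τ (χ - ψ)` along `R χ`;
* `eq_proj`: values of an extension lie in the span of `R φ`.
-/

namespace CfsgLib.OddChar.Coh

open CfsgLib.Char
open scoped ComplexConjugate

variable {L : Type*} [Group L] [Fintype L] {G : Type*} [Group G] [Fintype G]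
  {S : Set (L → ℂ)} {τ : (L → ℂ) → (G → ℂ)} {R : (L → ℂ) → Finset (G → ℂ)}
  (hS : Cfsg.IsCoherenceSystem S τ R)
include hS

theorem ne_zero {χ : L → ℂ} (hχ : χ ∈ S) : χ ≠ 0 := fun h =>
  hS.conj_ne χ hχ (by subst h; funext x; simp [Cfsg.conjFun])

theorem finite : S.Finite := finite_of_orthogonal hS.orthogonal fun _ => ne_zero hS

theorem exists_norm {χ : L → ℂ} (hχ : χ ∈ S) :
    ∃ n : ℕ, Cfsg.classInner χ χ = n ∧ Cfsg.classInner (Cfsg.conjFun χ) (Cfsg.conjFun χ) = n := by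
  obtain ⟨n, hn⟩ := classInner_char_nat (hS.isCharacter χ hχ) (hS.isCharacter χ hχ)
  exact ⟨n, hn, by rw [classInner_conjFun, hn, map_natCast]⟩

theorem orth_conj {χ : L → ℂ} (hχ : χ ∈ S) : Cfsg.classInner χ (Cfsg.conjFun χ) = 0 :=
  hS.orthogonal χ hχ _ (hS.conj_mem χ hχ) (Ne.symm (hS.conj_ne χ hχ))

theorem conj_orth {χ : L → ℂ} (hχ : χ ∈ S) : Cfsg.classInner (Cfsg.conjFun χ) χ = 0 :=
  hS.orthogonal _ (hS.conj_mem χ hχ) χ hχ (hS.conj_ne χ hχ)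

theorem conj_one {χ : L → ℂ} (hχ : χ ∈ S) : Cfsg.conjFun χ 1 = χ 1 :=
  char_conj_one (hS.isCharacter χ hχ)

theorem sub_conj_mem {S₁ : Set (L → ℂ)} {χ : L → ℂ} (hχS : χ ∈ S) (hχ : χ ∈ S₁)
    (hc : Cfsg.conjFun χ ∈ S₁) : χ - Cfsg.conjFun χ ∈ Cfsg.zspanOn S₁ {1}ᶜ :=
  mem_zspanOn_one (Submodule.sub_mem _ (mem_zspan hχ) (mem_zspan hc))
    (by rw [Pi.sub_apply, conj_one hS hχS, sub_self])

theorem sum_R_inner {χ : L → ℂ} (hχ : χ ∈ S) {a : L → ℂ} (ha : a ∈ Cfsg.zspanOn S {1}ᶜ) :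
    Cfsg.classInner (τ a) (∑ α ∈ R χ, α) =
      Cfsg.classInner a χ - Cfsg.classInner a (Cfsg.conjFun χ) := by
  rw [← hS.sum_eq χ hχ, hS.isometry.2.2.1 a ha _ (sub_conj_mem hS hχ hχ (hS.conj_mem χ hχ)),
    classInner_sub_right]

theorem card_R {χ : L → ℂ} (hχ : χ ∈ S) {n : ℕ} (hn : Cfsg.classInner χ χ = n) :
    (R χ).card = 2 * n := by
  classical
  have h := sum_R_inner hS hχ (sub_conj_mem hS hχ hχ (hS.conj_mem χ hχ))
  rw [hS.sum_eq χ hχ, classInner_sum_left] at h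
  rw [Finset.sum_congr rfl (g := fun _ => (1 : ℂ)) fun α hα => by
      rw [classInner_sum_right, Finset.sum_eq_single α
        (fun β hβ hne => by rw [hS.orthonormal χ hχ α hα β hβ, if_neg (Ne.symm hne)])
        (fun h => absurd hα h), hS.orthonormal χ hχ α hα α hα, if_pos rfl],
    classInner_sub_left, classInner_sub_left, classInner_conjFun χ χ, hn, orth_conj hS hχ,
    conj_orth hS hχ, map_natCast] at h
  simp only [Finset.sum_const, nsmul_eq_mul, mul_one] at h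
  have : ((R χ).card : ℂ) = ((2 * n : ℕ) : ℂ) := by rw [h]; push_cast; ring
  exact_mod_cast this

/-- `R φ` is orthogonal to `R χ` unless `φ` is `χ` or its conjugate. -/
theorem R_orth {χ φ : L → ℂ} (hχ : χ ∈ S) (hφ : φ ∈ S) (h1 : φ ≠ χ) (h2 : φ ≠ Cfsg.conjFun χ) :
    ∀ α ∈ R φ, ∀ β ∈ R χ, Cfsg.classInner α β = 0 :=
  hS.disjoint χ hχ φ hφ (hS.orthogonal φ hφ χ hχ h1)
    (hS.orthogonal φ hφ _ (hS.conj_mem χ hχ) h2)

theorem isometry_pair {χ ψ : L → ℂ} (hχ : χ ∈ S) (hψ : ψ ∈ Cfsg.zspan S) (h1 : χ 1 = ψ 1) :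
    Cfsg.IsLinearIsometryOn (Cfsg.zspan {χ - ψ, χ - Cfsg.conjFun χ}) τ := by
  have hsub : Cfsg.zspan {χ - ψ, χ - Cfsg.conjFun χ} ⊆ Cfsg.zspanOn S {1}ᶜ := by
    intro a ha
    induction ha using Submodule.span_induction with
    | mem x hx =>
      rcases hx with rfl | rfl
      · exact mem_zspanOn_one (Submodule.sub_mem _ (mem_zspan hχ) hψ) (by simp [h1])
      · exact sub_conj_mem hS hχ hχ (hS.conj_mem χ hχ)
    | zero => exact mem_zspanOn_one (Submodule.zero_mem _) rfl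
    | add x y _ _ hx hy =>
      exact mem_zspanOn_one (Submodule.add_mem _ hx.1 hy.1)
        (by simp [apply_one_of_mem hx, apply_one_of_mem hy])
    | smul n x _ hx =>
      exact mem_zspanOn_one (Submodule.smul_mem _ n hx.1) (by simp [apply_one_of_mem hx])
  obtain ⟨a, b, c, d⟩ := hS.isometry
  exact ⟨fun x hx y hy => a x (hsub hx) y (hsub hy), fun x hx => b x (hsub hx),
    fun x hx y hy => c x (hsub hx) y (hsub hy), fun x hx => d x (hsub hx)⟩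

theorem component_ge {χ ψ : L → ℂ} (hχ : χ ∈ S) (hψ : ψ ∈ Cfsg.zspan S) (h1 : χ 1 = ψ 1)
    (ho : Cfsg.classInner χ ψ = 0) (ho' : Cfsg.classInner (Cfsg.conjFun χ) ψ = 0) :
    nsq χ ≤ ∑ α ∈ R χ, ‖Cfsg.classInner (τ (χ - ψ)) α‖ ^ 2 ∧
      (nsq ψ ≤ nsq (τ (χ - ψ)) - ∑ α ∈ R χ, ‖Cfsg.classInner (τ (χ - ψ)) α‖ ^ 2 →
        ∑ α ∈ R χ, ‖Cfsg.classInner (τ (χ - ψ)) α‖ ^ 2 = nsq χ ∧
          ∀ α ∈ R χ, Cfsg.classInner (τ (χ - ψ)) α = 0 ∨ Cfsg.classInner (τ (χ - ψ)) α = 1) :=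
  Cfsg.Agent.S1515.result S τ R hS χ hχ ψ hψ ho ho' τ (isometry_pair hS hχ hψ h1) fun _ => rfl

/-- A value of an extension lies in the span of `R φ`. -/
theorem eq_proj {S₁ : Set (L → ℂ)} {σ : (L → ℂ) → (G → ℂ)}
    (hσ : Cfsg.IsLinearIsometryOn (Cfsg.zspan S₁) σ)
    (hag : ∀ a ∈ Cfsg.zspanOn S₁ {1}ᶜ, σ a = τ a) {φ : L → ℂ} (hφS : φ ∈ S) (hφ : φ ∈ S₁)
    (hc : Cfsg.conjFun φ ∈ S₁) : σ φ = proj (R φ) (σ φ) := by
  classical
  obtain ⟨a, b, c, d⟩ := hσ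
  have hsub : Cfsg.zspan {φ - 0, φ - Cfsg.conjFun φ} ⊆ Cfsg.zspan S₁ := by
    intro x hx
    refine (Submodule.span_le.mpr ?_) hx
    rintro y (rfl | rfl)
    · rw [sub_zero]; exact mem_zspan hφ
    · exact Submodule.sub_mem _ (mem_zspan hφ) (mem_zspan hc)
  have h := (Cfsg.Agent.S1515.result S τ R hS φ hφS 0 (Submodule.zero_mem _) classInner_zero_right
    classInner_zero_right σ ⟨fun x hx y hy => a x (hsub hx) y (hsub hy), fun x hx => b x (hsub hx),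
      fun x hx y hy => c x (hsub hx) y (hsub hy), fun x hx => d x (hsub hx)⟩ fun n => hag _
        (mem_zspanOn_one (Submodule.smul_mem _ n (sub_conj_mem hS hφS hφ hc).1)
          (by simp [apply_one_of_mem (sub_conj_mem hS hφS hφ hc)]))).1
  rw [sub_zero, ← c φ (mem_zspan hφ) φ (mem_zspan hφ)] at h
  have h2 := nsq_eq_add (hS.orthonormal φ hφS) (σ φ)
  have h0 : nsq (σ φ - proj (R φ) (σ φ)) = 0 :=
    le_antisymm (by have : nsq (σ φ) ≤ _ := h; linarith) (nsq_nonneg _)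
  exact sub_eq_zero.mp (eq_zero_of_nsq h0)

end CfsgLib.OddChar.Coh
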