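import Cfsg.Agent.Lib.OddChar.CohSystem
import Cfsg.Agent.S1516
import Cfsg.Agent.S1517

/-!
# Growing coherent subsets of a coherence system

* `deg`, `nrm`, `wt`: degree, squared norm, `d² / n`;
* `subsystem`, `coherent_equal`, `coherent_mono`, `extend_all`, `coherent_chain`.
-/

namespace CfsgLib.OddChar.Coh

open CfsgLib.Char
open scoped ComplexConjugate

section Defs

variable {L : Type*} [Group L] [Fintype L]

open Classical in
/-- The degree as a natural number. -/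
noncomputable def deg (φ : L → ℂ) : ℕ := if h : ∃ n : ℕ, φ 1 = n then h.choose else 0

open Classical in
/-- The squared norm as a natural number. -/
noncomputable def nrm (φ : L → ℂ) : ℕ :=
  if h : ∃ n : ℕ, Cfsg.classInner φ φ = n then h.choose else 0

/-- The weight `d² / n`. -/
noncomputable def wt (φ : L → ℂ) : ℝ := (deg φ : ℝ) ^ 2 / (nrm φ : ℝ)

omit [Fintype L] in
theorem deg_spec {φ : L → ℂ} (h : Cfsg.IsCharacter L φ) : φ 1 = (deg φ : ℂ) := by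
  rw [deg, dif_pos (exists_degree h)]
  exact (exists_degree h).choose_spec

omit [Fintype L] in
theorem deg_eq {φ : L → ℂ} {n : ℕ} (h : φ 1 = (n : ℂ)) : deg φ = n := by
  have h' : ∃ n : ℕ, φ 1 = n := ⟨n, h⟩
  rw [deg, dif_pos h']
  exact_mod_cast h'.choose_spec.symm.trans h

theorem nrm_spec {φ : L → ℂ} (h : Cfsg.IsCharacter L φ) :
    Cfsg.classInner φ φ = (nrm φ : ℂ) := by
  rw [nrm, dif_pos (classInner_char_nat h h)]
  exact (classInner_char_nat h h).choose_spec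

theorem nrm_eq {φ : L → ℂ} {n : ℕ} (h : Cfsg.classInner φ φ = (n : ℂ)) : nrm φ = n := by
  have h' : ∃ n : ℕ, Cfsg.classInner φ φ = n := ⟨n, h⟩
  rw [nrm, dif_pos h']
  exact_mod_cast h'.choose_spec.symm.trans h

theorem wt_nonneg (φ : L → ℂ) : 0 ≤ wt φ := by unfold wt; positivity

omit [Fintype L] in
theorem deg_conjFun {φ : L → ℂ} (h : Cfsg.IsCharacter L φ) : deg (Cfsg.conjFun φ) = deg φ :=
  deg_eq (by rw [Cfsg.conjFun, deg_spec h, map_natCast])

theorem wt_conjFun {φ : L → ℂ} (h : Cfsg.IsCharacter L φ) : wt (Cfsg.conjFun φ) = wt φ := by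
  rw [wt, wt, deg_conjFun h,
    nrm_eq (n := nrm φ) (by rw [classInner_conjFun, nrm_spec h, map_natCast])]

end Defs

variable {L : Type*} [Group L] [Fintype L] {G : Type*} [Group G] [Fintype G]
  {S : Set (L → ℂ)} {τ : (L → ℂ) → (G → ℂ)} {R : (L → ℂ) → Finset (G → ℂ)}

/-- A nonempty conjugation-closed subset of a coherence system is one. -/
theorem subsystem (hS : Cfsg.IsCoherenceSystem S τ R) {S' : Set (L → ℂ)} (hsub : S' ⊆ S)
    (hne : S'.Nonempty) (hc : ∀ φ ∈ S', Cfsg.conjFun φ ∈ S') : Cfsg.IsCoherenceSystem S' τ R :=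
  have hsub' := zspanOn_mono hsub ({1}ᶜ : Set L)
  ⟨hne, fun φ h => hS.isCharacter φ (hsub h), hc, fun φ h => hS.conj_ne φ (hsub h),
    ⟨fun a ha b hb => hS.isometry.1 a (hsub' ha) b (hsub' hb),
      fun a ha => hS.isometry.2.1 a (hsub' ha),
      fun a ha b hb => hS.isometry.2.2.1 a (hsub' ha) b (hsub' hb),
      fun a ha => hS.isometry.2.2.2 a (hsub' ha)⟩,
    fun a ha => hS.map_one a (hsub' ha),
    fun χ hχ φ hφ => hS.orthogonal χ (hsub hχ) φ (hsub hφ),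
    fun χ hχ => hS.orthonormal χ (hsub hχ), fun χ hχ => hS.virtual χ (hsub hχ),
    fun χ hχ => hS.sum_eq χ (hsub hχ), fun χ hχ φ hφ => hS.disjoint χ (hsub hχ) φ (hsub hφ)⟩

/-- A conjugation-closed set of members of equal degree is coherent. -/
theorem coherent_equal (hS : Cfsg.IsCoherenceSystem S τ R) {S' : Set (L → ℂ)} (hsub : S' ⊆ S)
    (hne : S'.Nonempty) (hc : ∀ φ ∈ S', Cfsg.conjFun φ ∈ S') {d : ℕ}
    (hd : ∀ φ ∈ S', deg φ = d) : Cfsg.IsCoherent S' {1}ᶜ τ :=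
  Cfsg.Agent.S1517.result S' τ R (subsystem hS hsub hne hc) fun φ hφ ψ hψ => by
    rw [deg_spec (hS.isCharacter φ (hsub hφ)), deg_spec (hS.isCharacter ψ (hsub hψ)), hd φ hφ, hd ψ hψ]

/-- A nonempty conjugation-closed subset of a coherent set is coherent. -/
theorem coherent_mono (hS : Cfsg.IsCoherenceSystem S τ R) {S₁ S₂ : Set (L → ℂ)} (h12 : S₁ ⊆ S₂)
    (hsub : S₂ ⊆ S) (hne : S₁.Nonempty) (hc : ∀ φ ∈ S₁, Cfsg.conjFun φ ∈ S₁)
    (hcoh : Cfsg.IsCoherent S₂ {1}ᶜ τ) : Cfsg.IsCoherent S₁ {1}ᶜ τ := by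
  obtain ⟨-, σ, ⟨ha, hs, hi, hg⟩, hag⟩ := hcoh
  obtain ⟨χ, hχ⟩ := hne
  exact ⟨⟨χ - Cfsg.conjFun χ, sub_conj_mem hS (hsub (h12 hχ)) hχ (hc χ hχ),
      sub_ne_zero.mpr (Ne.symm (hS.conj_ne χ (hsub (h12 hχ))))⟩, σ,
    ⟨fun a ha' b hb => ha a (zspan_mono h12 ha') b (zspan_mono h12 hb),
      fun a ha' => hs a (zspan_mono h12 ha'),
      fun a ha' b hb => hi a (zspan_mono h12 ha') b (zspan_mono h12 hb),
      fun a ha' => hg a (zspan_mono h12 ha')⟩,
    fun a ha' => hag a (zspanOn_mono h12 _ ha')⟩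

open Classical in
/-- Adjoining all members of `T` to a coherent `S₁`. -/
theorem extend_all (hS : Cfsg.IsCoherenceSystem S τ R) (S₁ T : Finset (L → ℂ))
    (h1 : ↑S₁ ⊆ S) (hT : ↑T ⊆ S) (h1c : ∀ φ ∈ S₁, Cfsg.conjFun φ ∈ S₁)
    (hTc : ∀ φ ∈ T, Cfsg.conjFun φ ∈ T) (hcoh : Cfsg.IsCoherent (↑S₁ : Set (L → ℂ)) {1}ᶜ τ)
    {χ₁ : L → ℂ} (hχ₁ : χ₁ ∈ S₁)
    (hb : ∀ χ ∈ T, χ ∉ S₁ → deg χ₁ ∣ deg χ ∧
      (2 * deg χ * deg χ₁ : ℝ) < ∑ φ ∈ S₁, wt φ) :
    Cfsg.IsCoherent (↑(S₁ ∪ T) : Set (L → ℂ)) {1}ᶜ τ := by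
  suffices ∀ F ⊆ T, ∃ U : Finset (L → ℂ), S₁ ∪ F ⊆ U ∧ U ⊆ S₁ ∪ T ∧
      (∀ φ ∈ U, Cfsg.conjFun φ ∈ U) ∧ Cfsg.IsCoherent (↑U : Set (L → ℂ)) {1}ᶜ τ by
    obtain ⟨U, hU, hU', -, hUc⟩ := this T subset_rfl
    rwa [Finset.Subset.antisymm hU' hU] at hUc
  intro F hF
  induction F using Finset.induction_on with
  | empty => exact ⟨S₁, by simp, Finset.subset_union_left, h1c, hcoh⟩
  | @insert χ F _ ih =>
    obtain ⟨U, hU, hU', hUc, hUcoh⟩ := ih ((Finset.subset_insert _ _).trans hF)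
    have hχT : χ ∈ T := hF (Finset.mem_insert_self _ _)
    by_cases hχU : χ ∈ U
    · refine ⟨U, ?_, hU', hUc, hUcoh⟩
      rw [Finset.union_insert]
      exact Finset.insert_subset hχU hU
    have hcU : Cfsg.conjFun χ ∉ U := fun h => hχU (by simpa [conjFun_conjFun] using hUc _ h)
    have h1U : S₁ ⊆ U := Finset.subset_union_left.trans hU
    have hUS : ↑U ⊆ S := fun φ hφ => by
      rcases Finset.mem_union.mp (hU' hφ) with h | h
      exacts [h1 h, hT h]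
    obtain ⟨hdvd, hlt⟩ := hb χ hχT fun h => hχU (h1U h)
    have hnew := Cfsg.Agent.S1516.result S τ R hS deg nrm
      (fun φ h => deg_spec (hS.isCharacter φ h)) (fun φ h => nrm_spec (hS.isCharacter φ h))
      U hUS hUc hUcoh χ (hT hχT) hχU hcU χ₁ (h1U hχ₁) hdvd
      (hlt.trans_le (Finset.sum_le_sum_of_subset_of_nonneg h1U fun φ _ _ => wt_nonneg φ))
    refine ⟨U ∪ {χ, Cfsg.conjFun χ}, ?_, ?_, ?_, ?_⟩
    · rw [Finset.union_insert]
      exact Finset.insert_subset (by simp) (hU.trans Finset.subset_union_left)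
    · refine Finset.union_subset hU' ?_
      intro φ hφ
      rcases Finset.mem_insert.mp hφ with rfl | hφ
      · exact Finset.mem_union_right _ hχT
      · rw [Finset.mem_singleton.mp hφ]; exact Finset.mem_union_right _ (hTc _ hχT)
    · intro φ hφ
      rcases Finset.mem_union.mp hφ with h | h
      · exact Finset.mem_union_left _ (hUc _ h)
      · rcases Finset.mem_insert.mp h with rfl | h
        · simp
        · rw [Finset.mem_singleton.mp h, conjFun_conjFun]; simp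
    · simpa using hnew

open Classical in
/-- Coherence by induction on the degree. -/
theorem coherent_chain (hS : Cfsg.IsCoherenceSystem S τ R) (T : Finset (L → ℂ)) (hT : ↑T ⊆ S)
    (hTc : ∀ φ ∈ T, Cfsg.conjFun φ ∈ T) {χ₁ : L → ℂ} (hχ₁ : χ₁ ∈ T)
    (hmin : ∀ φ ∈ T, deg χ₁ ≤ deg φ ∧ deg χ₁ ∣ deg φ)
    (hb : ∀ χ ∈ T, deg χ₁ < deg χ →
      (2 * deg χ * deg χ₁ : ℝ) < ∑ φ ∈ T.filter (fun φ => deg φ < deg χ), wt φ) :
    Cfsg.IsCoherent (↑T : Set (L → ℂ)) {1}ᶜ τ := by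
  have hch : ∀ φ ∈ T, Cfsg.IsCharacter L φ := fun φ hφ => hS.isCharacter φ (hT hφ)
  suffices ∀ k, deg χ₁ ≤ k →
      Cfsg.IsCoherent (↑(T.filter fun φ => deg φ ≤ k) : Set (L → ℂ)) {1}ᶜ τ by
    have := this (∑ φ ∈ T, deg φ) (Finset.single_le_sum (f := deg) (fun _ _ => Nat.zero_le _) hχ₁)
    rwa [Finset.filter_true_of_mem fun φ hφ =>
      Finset.single_le_sum (f := deg) (fun _ _ => Nat.zero_le _) hφ] at this
  intro k hk
  induction k, hk using Nat.le_induction with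
  | base =>
    refine coherent_equal hS (fun φ hφ => hT (Finset.mem_filter.mp hφ).1)
      ⟨χ₁, Finset.mem_filter.mpr ⟨hχ₁, le_rfl⟩⟩
      (fun φ hφ => ?_) (d := deg χ₁) fun φ hφ =>
        le_antisymm (Finset.mem_filter.mp hφ).2 (hmin φ (Finset.mem_filter.mp hφ).1).1
    obtain ⟨h1, h2⟩ := Finset.mem_filter.mp hφ
    exact Finset.mem_filter.mpr ⟨hTc φ h1, by rw [deg_conjFun (hch φ h1)]; exact h2⟩
  | succ k hk ih =>
    have hcl : ∀ j, ∀ φ ∈ T.filter (fun φ => deg φ ≤ j),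
        Cfsg.conjFun φ ∈ T.filter (fun φ => deg φ ≤ j) := fun j φ hφ => by
      obtain ⟨h1, h2⟩ := Finset.mem_filter.mp hφ
      exact Finset.mem_filter.mpr ⟨hTc φ h1, by rw [deg_conjFun (hch φ h1)]; exact h2⟩
    have := extend_all hS _ (T.filter fun φ => deg φ ≤ k + 1)
      (fun φ hφ => hT (Finset.mem_filter.mp hφ).1) (fun φ hφ => hT (Finset.mem_filter.mp hφ).1)
      (hcl k) (hcl (k + 1)) ih (χ₁ := χ₁) (Finset.mem_filter.mpr ⟨hχ₁, hk⟩) (fun χ hχ hnot => ?_)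
    · rwa [Finset.union_eq_right.mpr fun φ hφ =>
        Finset.mem_filter.mpr ⟨(Finset.mem_filter.mp hφ).1, (Finset.mem_filter.mp hφ).2.trans
          (Nat.le_succ k)⟩] at this
    obtain ⟨hχT, hχd⟩ := Finset.mem_filter.mp hχ
    have hgt : k < deg χ := by
      by_contra h
      exact hnot (Finset.mem_filter.mpr ⟨hχT, not_lt.mp h⟩)
    refine ⟨(hmin χ hχT).2, ?_⟩
    have := hb χ hχT (lt_of_le_of_lt hk hgt)
    rwa [Finset.filter_congr (q := fun φ => deg φ ≤ k) fun φ _ => by omega] at this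

end CfsgLib.OddChar.Coh
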