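import Cfsg.Agent.Lib.Char.Generalized
import Cfsg.Prelude.Def_OddOrderChar

/-!
# Coherence bookkeeping

* `nsq`, `proj`, `nsq_eq_add`: norms and projections on orthonormal finite sets;
* `finite_of_orthogonal`: orthogonal nonzero functions form a finite set;
* `eqOn_span`: additive maps agreeing on generators;
* `exists_isometry`, `coherent_of_images`: isometries from images of an orthogonal family;
* `conj` lemmas.
-/

namespace CfsgLib.OddChar.Coh

open CfsgLib.Char
open scoped ComplexConjugate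

variable {X : Type*} [Group X] [Fintype X]

/-- The squared norm. -/
noncomputable def nsq (f : X → ℂ) : ℝ := (Cfsg.classInner f f).re

theorem classInner_self_eq (f : X → ℂ) :
    Cfsg.classInner f f = (((Nat.card X : ℝ)⁻¹ * ∑ x : X, ‖f x‖ ^ 2 : ℝ) : ℂ) := by
  rw [classInner_def]
  push_cast
  congr 1
  exact Finset.sum_congr rfl fun x _ => Complex.mul_conj' (f x)

theorem nsq_nonneg (f : X → ℂ) : 0 ≤ nsq f := by
  rw [nsq, classInner_self_eq, Complex.ofReal_re]
  positivity

theorem nsq_coe (f : X → ℂ) : (nsq f : ℂ) = Cfsg.classInner f f := by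
  rw [nsq, classInner_self_eq, Complex.ofReal_re]

theorem eq_zero_of_nsq {f : X → ℂ} (h : nsq f = 0) : f = 0 :=
  eq_zero_of_classInner_self_eq_zero (by rw [← nsq_coe, h, Complex.ofReal_zero])

theorem nsq_add (f g : X → ℂ) :
    nsq (f + g) = nsq f + nsq g + 2 * (Cfsg.classInner f g).re := by
  simp only [nsq, classInner_add_left, classInner_add_right, Complex.add_re]
  rw [← classInner_conj_symm g f, Complex.conj_re]
  ring

open Classical in
/-- Orthonormality of a finite set. -/
def ON (R : Finset (X → ℂ)) : Prop :=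
  ∀ α ∈ R, ∀ β ∈ R, Cfsg.classInner α β = if α = β then 1 else 0

/-- The projection on the span of an orthonormal set. -/
noncomputable def proj (R : Finset (X → ℂ)) (D : X → ℂ) : X → ℂ :=
  ∑ α ∈ R, Cfsg.classInner D α • α

variable {R : Finset (X → ℂ)} (hR : ON R) (D : X → ℂ)

theorem proj_orth {f : X → ℂ} (h : ∀ α ∈ R, Cfsg.classInner α f = 0) :
    Cfsg.classInner (proj R D) f = 0 := by
  rw [proj, classInner_sum_left]
  exact Finset.sum_eq_zero fun α hα => by rw [classInner_smul_left, h α hα, mul_zero]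

include hR

theorem proj_inner {β : X → ℂ} (hβ : β ∈ R) :
    Cfsg.classInner (proj R D) β = Cfsg.classInner D β := by
  classical
  rw [proj, classInner_sum_left, Finset.sum_eq_single β]
  · rw [classInner_smul_left, hR β hβ β hβ, if_pos rfl, mul_one]
  · intro α hα hne
    rw [classInner_smul_left, hR α hα β hβ, if_neg hne, mul_zero]
  · exact fun h => absurd hβ h

theorem sub_proj_orth {β : X → ℂ} (hβ : β ∈ R) :
    Cfsg.classInner (D - proj R D) β = 0 := by
  rw [classInner_sub_left, proj_inner hR D hβ, sub_self]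

theorem nsq_proj : nsq (proj R D) = ∑ α ∈ R, ‖Cfsg.classInner D α‖ ^ 2 := by
  have : Cfsg.classInner (proj R D) (proj R D) =
      ((∑ α ∈ R, ‖Cfsg.classInner D α‖ ^ 2 : ℝ) : ℂ) := by
    conv_lhs => arg 2; unfold proj
    rw [classInner_sum_right]
    push_cast
    refine Finset.sum_congr rfl fun α hα => ?_
    rw [classInner_smul_right, proj_inner hR D hα, mul_comm, Complex.mul_conj']
  rw [nsq, this, Complex.ofReal_re]

theorem nsq_eq_add : nsq D = ∑ α ∈ R, ‖Cfsg.classInner D α‖ ^ 2 + nsq (D - proj R D) := by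
  conv_lhs => rw [← add_sub_cancel (proj R D) D]
  rw [nsq_add, nsq_proj hR,
    proj_orth D fun α hα => by rw [← classInner_conj_symm, sub_proj_orth hR D hα, map_zero]]
  simp

omit hR

theorem isGen_proj (hgen : ∀ α ∈ R, Cfsg.IsGeneralizedCharacter X α)
    (hD : Cfsg.IsGeneralizedCharacter X D) : Cfsg.IsGeneralizedCharacter X (proj R D) := by
  refine isGen_sum _ fun α hα => ?_
  obtain ⟨z, hz⟩ := classInner_gen_int hD (hgen α hα)
  rw [hz]
  exact isGen_intCast_smul (hgen α hα) z

omit D in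
theorem classInner_conjFun (f g : X → ℂ) :
    Cfsg.classInner (Cfsg.conjFun f) (Cfsg.conjFun g) = conj (Cfsg.classInner f g) := by
  simp [classInner_def, Cfsg.conjFun, map_sum]

omit [Group X] [Fintype X] D in
theorem conjFun_conjFun (f : X → ℂ) : Cfsg.conjFun (Cfsg.conjFun f) = f := by
  funext x; simp [Cfsg.conjFun]

section Span

variable {G : Type*} [Group G] [Fintype G]

omit [Group X] [Fintype X] [Group G] [Fintype G] D in
/-- Additive maps that agree on generators agree on the span. -/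
theorem eqOn_span {E : Set (X → ℂ)} {σ : (X → ℂ) → (G → ℂ)} (f : (X → ℂ) →ₗ[ℂ] (G → ℂ))
    (hadd : ∀ a ∈ Cfsg.zspan E, ∀ b ∈ Cfsg.zspan E, σ (a + b) = σ a + σ b)
    (hsmul : ∀ a ∈ Cfsg.zspan E, ∀ n : ℤ, σ (n • a) = n • σ a)
    (h : ∀ e ∈ E, f e = σ e) : ∀ a ∈ Cfsg.zspan E, f a = σ a := by
  intro a ha
  induction ha using Submodule.span_induction with
  | mem x hx => exact h x hx
  | zero =>
    have h0 := hsmul 0 (Submodule.zero_mem _) 0
    rw [zero_smul, zero_smul] at h0
    rw [map_zero, h0]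
  | add x y hx hy hfx hfy => rw [map_add, hfx, hfy, hadd x hx y hy]
  | smul n x hx hfx => rw [map_zsmul, hfx, hsmul x hx n]

omit D in
theorem finite_of_orthogonal {S : Set (X → ℂ)}
    (horth : ∀ φ ∈ S, ∀ ψ ∈ S, φ ≠ ψ → Cfsg.classInner φ ψ = 0) (h0 : ∀ φ ∈ S, φ ≠ 0) :
    S.Finite := by
  classical
  have hli : LinearIndependent ℂ (fun φ : S => (φ : X → ℂ)) := by
    rw [linearIndependent_iff']
    intro s c hc i hi
    have h := congrArg (fun f => Cfsg.classInner f (i : X → ℂ)) hc
    simp only [classInner_sum_left, classInner_zero_left, classInner_smul_left] at h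
    rw [Finset.sum_eq_single i (fun j _ hj => by
      rw [horth j j.2 i i.2 fun e => hj (Subtype.ext e), mul_zero]) (fun h => absurd hi h)] at h
    exact (mul_eq_zero.mp h).resolve_right fun e => h0 i i.2 (eq_zero_of_classInner_self_eq_zero e)
  exact Set.finite_coe_iff.mp hli.finite

omit [Group X] [Fintype X] D in
theorem zspan_mono {S S' : Set (X → ℂ)} (h : S ⊆ S') : Cfsg.zspan S ⊆ Cfsg.zspan S' :=
  fun _ ha => Submodule.span_mono h ha

omit [Group X] [Fintype X] D in
theorem zspanOn_mono {S S' : Set (X → ℂ)} (h : S ⊆ S') (A : Set X) :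
    Cfsg.zspanOn S A ⊆ Cfsg.zspanOn S' A :=
  fun _ ha => ⟨zspan_mono h ha.1, ha.2⟩

omit [Fintype X] D in
theorem mem_zspanOn_one {S : Set (X → ℂ)} {a : X → ℂ} (ha : a ∈ Cfsg.zspan S) (h1 : a 1 = 0) :
    a ∈ Cfsg.zspanOn S {1}ᶜ :=
  ⟨ha, fun x hx => by
    have : x = 1 := by simpa using hx
    rw [this, h1]⟩

omit [Fintype X] D in
theorem apply_one_of_mem {S : Set (X → ℂ)} {a : X → ℂ} (ha : a ∈ Cfsg.zspanOn S {1}ᶜ) : a 1 = 0 :=
  ha.2 1 (by simp)

omit [Group X] [Fintype X] D in
theorem mem_zspan {S : Set (X → ℂ)} {φ : X → ℂ} (h : φ ∈ S) : φ ∈ Cfsg.zspan S :=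
  Submodule.subset_span h

omit D in
/-- The linear map with prescribed values on a finite orthogonal family. -/
theorem exists_isometry {S : Set (X → ℂ)} (hS : S.Finite)
    (horth : ∀ φ ∈ S, ∀ ψ ∈ S, φ ≠ ψ → Cfsg.classInner φ ψ = 0) (h0 : ∀ φ ∈ S, φ ≠ 0)
    (T : (X → ℂ) → (G → ℂ)) (hgen : ∀ φ ∈ S, Cfsg.IsGeneralizedCharacter G (T φ))
    (hT : ∀ φ ∈ S, ∀ ψ ∈ S, Cfsg.classInner (T φ) (T ψ) = Cfsg.classInner φ ψ) :
    ∃ f : (X → ℂ) →ₗ[ℂ] (G → ℂ), (∀ φ ∈ S, f φ = T φ) ∧
      Cfsg.IsLinearIsometryOn (Cfsg.zspan S) f := by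
  classical
  let f : (X → ℂ) →ₗ[ℂ] (G → ℂ) :=
    ∑ φ ∈ hS.toFinset, ((Cfsg.classInner φ φ)⁻¹ • innerₗ φ).smulRight (T φ)
  have hf : ∀ φ ∈ S, f φ = T φ := by
    intro φ hφ
    simp only [f, LinearMap.sum_apply, LinearMap.smulRight_apply, LinearMap.smul_apply, innerₗ_apply,
      smul_eq_mul]
    rw [Finset.sum_eq_single φ]
    · rw [inv_mul_cancel₀ fun e => h0 φ hφ (eq_zero_of_classInner_self_eq_zero e), one_smul]
    · intro ψ hψ hne
      rw [horth φ hφ ψ (hS.mem_toFinset.mp hψ) (Ne.symm hne), mul_zero, zero_smul]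
    · exact fun h => absurd (hS.mem_toFinset.mpr hφ) h
  refine ⟨f, hf, fun a _ b _ => f.map_add a b, fun a _ n => map_zsmul f n a, ?_, ?_⟩
  · intro a ha b hb
    induction ha using Submodule.span_induction with
    | mem x hx =>
      induction hb using Submodule.span_induction with
      | mem y hy => rw [hf x hx, hf y hy, hT x hx y hy]
      | zero => rw [map_zero, classInner_zero_right, classInner_zero_right]
      | add y z _ _ hy hz => rw [map_add, classInner_add_right, classInner_add_right, hy, hz]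
      | smul n y _ hy =>
        rw [map_zsmul, ← Int.cast_smul_eq_zsmul ℂ, ← Int.cast_smul_eq_zsmul ℂ, classInner_smul_right,
          classInner_smul_right, hy]
    | zero => rw [map_zero, classInner_zero_left, classInner_zero_left]
    | add x y _ _ hx hy => rw [map_add, classInner_add_left, classInner_add_left, hx, hy]
    | smul n x _ hx =>
      rw [map_zsmul, ← Int.cast_smul_eq_zsmul ℂ, ← Int.cast_smul_eq_zsmul ℂ, classInner_smul_left,
        classInner_smul_left, hx]
  · intro a ha
    induction ha using Submodule.span_induction with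
    | mem x hx => rw [hf x hx]; exact hgen x hx
    | zero => rw [map_zero]; exact isGen_zero
    | add x y _ _ hx hy => rw [map_add]; exact isGen_add hx hy
    | smul n x _ hx =>
      rw [map_zsmul, ← Int.cast_smul_eq_zsmul ℂ]
      exact isGen_intCast_smul hx n

end Span

end CfsgLib.OddChar.Coh
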