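import Cfsg.Agent.Lib.OddChar.TypeSets

/-!
# S1537 and S1538 from the tame embedding

* `dade_hypothesis_sets`: S1537 from `TameProp` (S1391), `ExhaustProp`, `CoreProp` (S1355);
* `typeII_sets_ti`: S1538 from the same;
* `exhaust_of_decomposition`: `ExhaustProp` from S1351, S1352, S1355, S1380–S1383.
-/

set_option autoImplicit false

namespace CfsgLib.OddChar.TypeSets

open CfsgLib.OddLocal

universe u

variable {G : Type u} [Group G] [Finite G]

/-- The first part of S1355. -/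
def CoreProp (G : Type u) [Group G] : Prop :=
  ∀ M : Subgroup G, IsCoatom M → Cfsg.fittingHallOf M ≠ ⊥

/-- Every maximal subgroup is of Type I or of type P. -/
def ExhaustProp (G : Type u) [Group G] : Prop :=
  ∀ M : Subgroup G, IsCoatom M → Cfsg.IsOfTypeI M ∨ Cfsg.IsOfTypeP M

omit [Finite G] in
/-- `ExhaustProp` from the standard factorisation and the type characterisations. -/
theorem exhaust_of_decomposition
    (h51 : ∀ M : Subgroup G, IsCoatom M → ∃ K U : Subgroup G, Cfsg.IsSigmaDecomposition M K U)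
    (h55 : ∀ M : Subgroup G, IsCoatom M → Cfsg.sigmaCore M < M)
    (h80 : ∀ M : Subgroup G, IsCoatom M → ∀ K U : Subgroup G, Cfsg.IsSigmaDecomposition M K U →
      (Cfsg.IsOfTypeI M ↔ (K = ⊥ ∧ U ≠ ⊥)) ∧
      (Cfsg.IsOfTypeII M ↔ (K ≠ ⊥ ∧ U ≠ ⊥)) ∧
      ((Cfsg.IsOfTypeIII M ∨ Cfsg.IsOfTypeIV M) ↔
        (K ≠ ⊥ ∧ U = ⊥ ∧ Cfsg.fittingHallOf M ≠ Cfsg.sigmaCore M)) ∧
      (Cfsg.IsOfTypeV M ↔ (K ≠ ⊥ ∧ U = ⊥ ∧ Cfsg.fittingHallOf M = Cfsg.sigmaCore M))) :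
    ExhaustProp G := by
  intro M hM
  obtain ⟨K, U, hKU⟩ := h51 M hM
  obtain ⟨h1, h2, h34, h5⟩ := h80 M hM K U hKU
  by_cases hK : K = ⊥ <;> by_cases hU : U = ⊥
  · exfalso
    have := hKU.compl
    rw [hK, hU, bot_sup_eq] at this
    refine (h55 M hM).not_ge fun m hm => ?_
    obtain ⟨a, ha, b, hb, rfl⟩ := this.2.2.2 m hm
    rw [Subgroup.mem_bot] at ha
    simpa [ha] using hb
  · exact Or.inl (h1.mpr ⟨hK, hU⟩)
  · by_cases hF : Cfsg.fittingHallOf M = Cfsg.sigmaCore M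
    · exact Or.inr (typeP_of_typeV (h5.mpr ⟨hK, hU, hF⟩))
    · exact Or.inr (typeP_of_typeIII_IV (h34.mpr ⟨hK, hU, hF⟩))
  · exact Or.inr (typeP_of_typeII (h2.mpr ⟨hK, hU⟩))

theorem sets_basic (hcore : CoreProp G) (hex : ExhaustProp G) {M : Subgroup G} (hM : IsCoatom M)
    {A : Set G} (hA : A = Cfsg.typeA1 M ∨ A = Cfsg.typeA M ∨ A = Cfsg.typeA0 M) :
    A ⊆ Cfsg.typeA0 M ∧ (1 : G) ∉ A ∧ A.Nonempty := by
  have h1 := typeA1_subset_typeA (hex M hM)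
  have hne : (Cfsg.typeA1 M).Nonempty := by
    obtain ⟨x, hx, hx1⟩ :=
      (Subgroup.bot_or_exists_ne_one _).resolve_left (typeCore_ne_bot (hcore M hM))
    exact ⟨x, hx, hx1⟩
  rcases hA with rfl | rfl | rfl
  · exact ⟨h1.trans (sets_subset_A0 M), fun h => h.2 rfl, hne⟩
  · exact ⟨sets_subset_A0 M, one_notMem_typeA M, hne.mono h1⟩
  · exact ⟨subset_rfl, one_notMem_typeA0 M, hne.mono (h1.trans (sets_subset_A0 M))⟩

/-- S1537. -/
theorem dade_hypothesis_sets (hG : Cfsg.IsMinSimpleOddOrder G) (ht : TameProp G)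
    (hcore : CoreProp G) (hex : ExhaustProp G) {M : Subgroup G} (hM : IsCoatom M) {A : Set G}
    (hA : A = Cfsg.typeA1 M ∨ A = Cfsg.typeA M ∨ A = Cfsg.typeA0 M) :
    Subgroup.normalizer A = M ∧ Cfsg.DadeHypothesis A M (Cfsg.supportR M) := by
  obtain ⟨hsub, h1, hne⟩ := sets_basic hcore hex hM hA
  refine ⟨normalizer_eq hG hM (hsub.trans (typeA0_subset M)) h1 hne (conj_mem_sets M hA), ?_⟩
  exact dade_of_tame ht hM (Or.inr rfl) hsub (conj_mem_sets M hA)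

/-- S1538. -/
theorem typeII_sets_ti (hG : Cfsg.IsMinSimpleOddOrder G) (ht : TameProp G)
    (hcore : CoreProp G) (hex : ExhaustProp G) {M : Subgroup G} (hM : IsCoatom M)
    (hII : Cfsg.IsOfTypeII M) :
    (Cfsg.IsTISubset (Cfsg.typeA0 M) ∧ Subgroup.normalizer (Cfsg.typeA0 M) = M) ∧
      (Cfsg.IsTISubset (Cfsg.typeA M) ∧ Subgroup.normalizer (Cfsg.typeA M) = M) ∧
      (Cfsg.IsTISubset (Cfsg.typeA1 M) ∧ Subgroup.normalizer (Cfsg.typeA1 M) = M) := by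
  have key : ∀ A : Set G, A = Cfsg.typeA1 M ∨ A = Cfsg.typeA M ∨ A = Cfsg.typeA0 M →
      Cfsg.IsTISubset A ∧ Subgroup.normalizer A = M := by
    intro A hA
    obtain ⟨hN, hD⟩ := dade_hypothesis_sets hG ht hcore hex hM hA
    refine ⟨ti_of_centralizer hD.fusion (fun x hx => ?_) hN, hN⟩
    by_contra hc
    exact hc (centralizer_le_of_typeII hG hM hII x
      ((ht M hM _ (Or.inr rfl)).2.1 x ((sets_basic hcore hex hM hA).1 hx) hc).1)
  exact ⟨key _ (Or.inr (Or.inr rfl)), key _ (Or.inr (Or.inl rfl)), key _ (Or.inl rfl)⟩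

end CfsgLib.OddChar.TypeSets
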