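import Cfsg.Agent.Lib.OddChar.Above

/-!
# Coherence descends along central steps

`descend_central`: from `S(A)` coherent to `S(B)` coherent.
-/

namespace CfsgLib.OddChar.Above

open CfsgLib.Char CfsgLib.CharNormal CfsgLib.OddChar.Coh

variable {L : Type*} [Group L] [Fintype L] {G : Type*} [Group G] [Fintype G]

/-- The members of `S(B)` have degree at most `[L:C] √[C:D]` for `D` central in `C` modulo `B`. -/
theorem sq_deg_le (K : Subgroup L) {B : Subgroup L} (C D : Subgroup L) [C.Normal] (hDC : D ≤ C)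
    (hCK : C ≤ K) (hcent : ∀ x ∈ D, ∀ y ∈ C, x * y * x⁻¹ * y⁻¹ ∈ B) {φ : L → ℂ}
    (hφ : φ ∈ Cfsg.inducedIrrAbove K B) :
    K.index ∣ deg φ ∧ deg φ ^ 2 ≤ C.index ^ 2 * D.relIndex C := by
  classical
  have := Fintype.ofFinite K
  obtain ⟨θ, hθ, -, ht, rfl⟩ := hφ
  obtain ⟨n, hn⟩ := exists_degree (isCharacter_of_isIrr hθ)
  rw [deg_indFun K hn]
  refine ⟨Dvd.intro n rfl, ?_⟩
  have h := degree_le_of_central hθ (C.subgroupOf K) (D.subgroupOf K)
    (fun x hx => hDC hx) (fun d hd c hc => ht _ (hcent d hd c hc)) hn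
  rw [Subgroup.relIndex_subgroupOf hCK] at h
  calc (K.index * n) ^ 2 = K.index ^ 2 * n ^ 2 := mul_pow _ _ _
    _ ≤ K.index ^ 2 * ((C.subgroupOf K).index ^ 2 * D.relIndex C) := Nat.mul_le_mul_left _ h
    _ = (C.relIndex K * K.index) ^ 2 * D.relIndex C := by
      rw [show (C.subgroupOf K).index = C.relIndex K from rfl]; ring
    _ = _ := by rw [Subgroup.relIndex_mul_index hCK]

/-- A central step. -/
theorem descend_central (K : Subgroup L) [K.Normal] (hsolv : Group.IsSolvable K)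
    {τ : (L → ℂ) → (G → ℂ)} {R : (L → ℂ) → Finset (G → ℂ)}
    (hS : Cfsg.IsCoherenceSystem (Cfsg.inducedIrrAbove K ⊥) τ R) (A B C D : Subgroup L)
    [A.Normal] [B.Normal] [C.Normal] (hAK : A < K) (hBK : B < K) (hDC : D ≤ C) (hCK : C ≤ K)
    (hcent : ∀ x ∈ D, ∀ y ∈ C, x * y * x⁻¹ * y⁻¹ ∈ B)
    (hA : Cfsg.IsCoherent (Cfsg.inducedIrrAbove K A) {1}ᶜ τ)
    (hlt : 4 * C.index ^ 2 * D.relIndex C < (A.relIndex K - 1) ^ 2) :
    Cfsg.IsCoherent (Cfsg.inducedIrrAbove K B) {1}ᶜ τ := by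
  classical
  have := Fintype.ofFinite K
  obtain ⟨χ₁, hχ₁, hd₁⟩ := exists_deg_index K A hsolv hAK
  obtain ⟨φ₀, hφ₀, -⟩ := exists_deg_index K B hsolv hBK
  have h := extend_all hS (above_finite K A).toFinset (above_finite K B).toFinset
    (by rw [Set.Finite.coe_toFinset]; exact above_le_bot K A)
    (by rw [Set.Finite.coe_toFinset]; exact above_le_bot K B)
    (fun φ h => (Set.Finite.mem_toFinset _).mpr (above_conj K A ((Set.Finite.mem_toFinset _).mp h)))
    (fun φ h => (Set.Finite.mem_toFinset _).mpr (above_conj K B ((Set.Finite.mem_toFinset _).mp h)))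
    (by rw [Set.Finite.coe_toFinset]; exact hA) (χ₁ := χ₁) ((Set.Finite.mem_toFinset _).mpr hχ₁)
    (fun χ hχ _ => ?_)
  · exact coherent_mono hS (Set.subset_union_right) (Set.union_subset (above_le_bot K A) (above_le_bot K B))
      ⟨φ₀, hφ₀⟩ (fun φ => above_conj K B) (by simpa using h)
  obtain ⟨hdvd, hle⟩ := sq_deg_le K C D hDC hCK hcent ((Set.Finite.mem_toFinset _).mp hχ)
  rw [hd₁]
  refine ⟨hdvd, ?_⟩
  rw [sum_wt_above K A]
  have ha : 2 * deg χ + 1 < A.relIndex K := by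
    have h4 : (2 * deg χ) ^ 2 < (A.relIndex K - 1) ^ 2 := by nlinarith
    have := lt_of_pow_lt_pow_left' 2 h4
    omega
  have ha' : (2 * (deg χ : ℝ) + 1) < (A.relIndex K : ℝ) := by exact_mod_cast ha
  have he : (0 : ℝ) < (K.index : ℝ) := by exact_mod_cast Nat.pos_of_ne_zero K.index_ne_zero_of_finite
  nlinarith [mul_lt_mul_of_pos_left ha' he]

end CfsgLib.OddChar.Above

namespace CfsgLib.OddChar.Above

open CfsgLib.OddChar.Coh

variable {L : Type*} [Group L] [Fintype L] {G : Type*} [Group G] [Fintype G]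

omit [Fintype L] in
/-- In a nilpotent section every subgroup is moved down by commutation. -/
theorem le_of_commutator_sup_eq {M A B H : Subgroup L} [H.Normal] [B.Normal] [(M.subgroupOf H).Normal]
    (hnil : Group.IsNilpotent (↥H ⧸ M.subgroupOf H)) (hMB : M ≤ B) (hAH : A ≤ H)
    (h : A ≤ ⁅A, H⁆ ⊔ B) : A ≤ B := by
  obtain ⟨n, hn⟩ := Subgroup.nilpotent_iff_lowerCentralSeries.mp hnil
  have hM : H.lowerCentralSeries n ≤ M := by
    rw [← Subgroup.top_subtype_lowerCentralSeries, Subgroup.map_le_iff_le_comap]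
    intro x hx
    have : QuotientGroup.mk' (M.subgroupOf H) x ∈
        ((⊤ : Subgroup H).lowerCentralSeries n).map (QuotientGroup.mk' (M.subgroupOf H)) :=
      Subgroup.mem_map_of_mem _ hx
    rw [Subgroup.map_lowerCentralSeries,
      Subgroup.map_top_of_surjective _ (QuotientGroup.mk'_surjective _), hn, Subgroup.mem_bot] at this
    exact (QuotientGroup.eq_one_iff (N := M.subgroupOf H) x).mp this
  suffices ∀ k, A ≤ H.lowerCentralSeries k ⊔ B from
    (this n).trans (sup_le (hM.trans hMB) le_rfl)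
  intro k
  induction k with
  | zero => exact hAH.trans le_sup_left
  | succ k ih =>
    refine h.trans (sup_le ?_ le_sup_right)
    have : ∀ j, (H.lowerCentralSeries j).Normal := fun j => by
      induction j with
      | zero => assumption
      | succ j ihj => have := ihj; exact Subgroup.commutator_normal _ _
    have := this (k + 1)
    refine (Subgroup.commutator_mono ih le_rfl).trans ?_
    set N := H.lowerCentralSeries (k + 1) ⊔ B
    rw [← QuotientGroup.ker_mk' N, ← Subgroup.map_eq_bot_iff, Subgroup.map_commutator,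
      Subgroup.commutator_eq_bot_iff_le_centralizer, Subgroup.map_sup]
    refine sup_le ?_ ?_
    · rw [← Subgroup.commutator_eq_bot_iff_le_centralizer, ← Subgroup.map_commutator,
        Subgroup.map_eq_bot_iff, QuotientGroup.ker_mk']
      exact le_sup_left
    · rw [(Subgroup.map_eq_bot_iff B).mpr (by rw [QuotientGroup.ker_mk']; exact le_sup_right)]
      exact bot_le

/-- Descent through a nilpotent section. -/
theorem descend_nilpotent (K : Subgroup L) [K.Normal] (hsolv : Group.IsSolvable K)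
    {τ : (L → ℂ) → (G → ℂ)} {R : (L → ℂ) → Finset (G → ℂ)}
    (hS : Cfsg.IsCoherenceSystem (Cfsg.inducedIrrAbove K ⊥) τ R) (M H₁ H : Subgroup L)
    [M.Normal] [H₁.Normal] [H.Normal] [(M.subgroupOf H).Normal] (hMH₁ : M ≤ H₁) (hH₁H : H₁ ≤ H)
    (hHK : H ≤ K) (hnil : Group.IsNilpotent (↥H ⧸ M.subgroupOf H))
    (hcoh : Cfsg.IsCoherent (Cfsg.inducedIrrAbove K H₁) {1}ᶜ τ)
    (hbig : 4 * K.index ^ 2 + 1 < H₁.relIndex H) :
    Cfsg.IsCoherent (Cfsg.inducedIrrAbove K M) {1}ᶜ τ := by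
  classical
  obtain ⟨A, ⟨hMA, hAH₁, hAn, hAcoh⟩, hAmin⟩ := Set.Finite.exists_minimal
    (Set.toFinite {A : Subgroup L | M ≤ A ∧ A ≤ H₁ ∧ A.Normal ∧
      Cfsg.IsCoherent (Cfsg.inducedIrrAbove K A) {1}ᶜ τ})
    ⟨H₁, hMH₁, le_rfl, inferInstance, hcoh⟩
  rcases hMA.eq_or_lt with rfl | hMA'
  · exact hAcoh
  exfalso
  obtain ⟨B, ⟨hMB, hBA, hBn⟩, hBmax⟩ := Set.Finite.exists_maximal
    (Set.toFinite {B : Subgroup L | M ≤ B ∧ B < A ∧ B.Normal}) ⟨M, le_rfl, hMA', inferInstance⟩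
  have hAH : A ≤ H := hAH₁.trans hH₁H
  have hle : ⁅A, H⁆ ⊔ B ≤ A := sup_le (Subgroup.commutator_le_left A H) hBA.le
  have hcent : ⁅A, H⁆ ≤ B := by
    rcases hle.eq_or_lt with h | h
    · exact absurd (le_of_commutator_sup_eq hnil hMB hAH h.ge) hBA.not_ge
    · exact le_sup_left.trans (hBmax ⟨hMB.trans le_sup_right, h, inferInstance⟩ le_sup_right)
  have hH₁H' : H₁ < H := lt_of_le_of_ne hH₁H fun e => by
    rw [e, Subgroup.relIndex_self] at hbig; omega
  have hAK : A < K := (hAH₁.trans_lt hH₁H').trans_le hHK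
  refine hBA.not_ge (hAmin ⟨hMB, hBA.le.trans hAH₁, hBn, descend_central K hsolv hS A B H A hAK
    (hBA.trans hAK) hAH hHK (fun x hx y hy => hcent (Subgroup.commutator_mem_commutator hx hy))
    hAcoh ?_⟩ hBA.le)
  rw [← Subgroup.relIndex_mul_index hHK, ← Subgroup.relIndex_mul_relIndex A H K hAH hHK]
  have hk : H₁.relIndex H ≤ A.relIndex H :=
    Nat.le_of_dvd (Nat.pos_of_ne_zero (A.subgroupOf H).index_ne_zero_of_finite)
      (Subgroup.relIndex_dvd_of_le_left H hAH₁)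
  have hr : 1 ≤ H.relIndex K := Nat.pos_of_ne_zero (H.subgroupOf K).index_ne_zero_of_finite
  obtain ⟨j, hj⟩ : ∃ j, A.relIndex H = 4 * K.index ^ 2 + 2 + j :=
    ⟨A.relIndex H - (4 * K.index ^ 2 + 2), by omega⟩
  obtain ⟨r, hr⟩ : ∃ r, H.relIndex K = r + 1 := ⟨H.relIndex K - 1, by omega⟩
  rw [hj, hr]
  generalize K.index = e
  have h1 : (4 * e ^ 2 + 2 + j) * (r + 1) - 1 ≥ (r + 1) * (4 * e ^ 2 + 1 + j) := by
    have : (4 * e ^ 2 + 2 + j) * (r + 1) = (r + 1) * (4 * e ^ 2 + 1 + j) + (r + 1) := by ring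
    omega
  refine lt_of_lt_of_le ?_ (Nat.pow_le_pow_left h1 2)
  have h2 : 4 * e ^ 2 * (4 * e ^ 2 + 2 + j) < (4 * e ^ 2 + 1 + j) ^ 2 := by nlinarith
  calc 4 * ((r + 1) * e) ^ 2 * (4 * e ^ 2 + 2 + j)
      = (r + 1) ^ 2 * (4 * e ^ 2 * (4 * e ^ 2 + 2 + j)) := by ring
    _ < (r + 1) ^ 2 * (4 * e ^ 2 + 1 + j) ^ 2 := Nat.mul_lt_mul_of_pos_left h2 (by positivity)
    _ = _ := by ring

end CfsgLib.OddChar.Above
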