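import Mathlib

/-!
# Modules for an abelian group with a fixed-point-free operator group

`finrank_eq_mul`: if `E` acts fixed-point-freely on the abelian group `A` and `W` is a coprime
`A ⋊ E`-module without fixed points of `A`, then `dim W = |E| * dim C_W(E)`.
-/

namespace CfsgLib.OddChar.FreeModule

variable {A E : Type*} [CommGroup A] [Fintype A] [Group E] [Fintype E]

theorem sum_hom_eq_zero {R : Type*} [CommRing R] [IsDomain R] (φ : A →* Rˣ) (h : φ ≠ 1) :
    ∑ a : A, (φ a : R) = 0 := by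
  obtain ⟨b, hb⟩ : ∃ b, φ b ≠ 1 := by
    by_contra hne
    push Not at hne
    exact h (MonoidHom.ext hne)
  have e : (φ b : R) * ∑ a : A, (φ a : R) = ∑ a : A, (φ a : R) := by
    rw [Finset.mul_sum]
    exact Fintype.sum_equiv (Equiv.mulLeft b) _ _ fun a => by simp
  rcases eq_or_ne (∑ a : A, (φ a : R)) 0 with h0 | h0
  · exact h0
  · exact absurd (Units.ext (mul_eq_right₀ h0 |>.mp e)) hb

section Closed

variable {K V : Type*} [Field K] [AddCommGroup V] [Module K V] [FiniteDimensional K V]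
  [HasEnoughRootsOfUnity K (Monoid.exponent A)]

theorem sum_inv_eq_zero [Fintype (A →* Kˣ)] {a : A} (ha : a ≠ 1) :
    ∑ φ : A →* Kˣ, (((φ a)⁻¹ : Kˣ) : K) = 0 := by
  obtain ⟨μ, hμ⟩ := CommGroup.exists_apply_ne_one_of_hasEnoughRootsOfUnity A K ha
  have e : ((μ a)⁻¹ : Kˣ) * (∑ φ : A →* Kˣ, (((φ a)⁻¹ : Kˣ) : K)) = ∑ φ : A →* Kˣ, (((φ a)⁻¹ : Kˣ) : K) := by
    rw [Finset.mul_sum]
    exact Fintype.sum_equiv (Equiv.mulLeft μ) _ _ fun φ => by simp [mul_comm]
  rcases eq_or_ne (∑ φ : A →* Kˣ, (((φ a)⁻¹ : Kˣ) : K)) 0 with h0 | h0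
  · exact h0
  · exact absurd (inv_eq_one.mp (Units.ext (mul_eq_right₀ h0 |>.mp e))) hμ

/-- The eigenprojection. -/
noncomputable def proj (ρ : A →* Module.End K V) (φ : A →* Kˣ) : Module.End K V :=
  (Fintype.card A : K)⁻¹ • ∑ a : A, (((φ a)⁻¹ : Kˣ) : K) • ρ a

theorem finrank_eq_mul_closed (α : E →* MulAut A) (hfpf : ∀ g, g ≠ 1 → ∀ a, α g a = a → a = 1)
    (hA : (Fintype.card A : K) ≠ 0)
    (ρA : A →* Module.End K V) (ρE : E →* Module.End K V)
    (hcompat : ∀ g a, ρE g * ρA a = ρA (α g a) * ρE g) (h0 : ∑ a, ρA a = 0) :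
    Module.finrank K V = Fintype.card E * Module.finrank K (LinearMap.range (∑ g, ρE g)) := by
  classical
  have := Fintype.ofFinite (A →* Kˣ)
  let smulC : E → (A →* Kˣ) → (A →* Kˣ) := fun g φ => φ.comp (α g⁻¹).toMonoidHom
  let act : MulAction E (A →* Kˣ) :=
    { smul := smulC
      one_smul := fun φ => MonoidHom.ext fun a => show φ (α (1 : E)⁻¹ a) = φ a by simp
      mul_smul := fun g h φ => MonoidHom.ext fun a =>
        show φ (α (g * h)⁻¹ a) = φ (α h⁻¹ (α g⁻¹ a)) by rw [mul_inv_rev, map_mul]; rfl }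
  have hsm : ∀ (g : E) (φ : A →* Kˣ) (a : A), (g • φ) a = φ (α g⁻¹ a) := fun _ _ _ => rfl
  have hfree : ∀ (g : E) (φ : A →* Kˣ), g • φ = φ → φ ≠ 1 → g = 1 := by
    intro g φ hg hφ
    by_contra hg1
    refine hφ (MonoidHom.ext fun b => ?_)
    have hbij : Function.Bijective fun a : A => a⁻¹ * α g⁻¹ a := by
      refine Finite.injective_iff_bijective.mp fun a a' e => ?_
      have e' : a⁻¹ * α g⁻¹ a = a'⁻¹ * α g⁻¹ a' := e
      refine div_eq_one.mp (hfpf g⁻¹ (inv_ne_one.mpr hg1) _ ?_)
      rw [map_div, div_eq_div_iff_mul_eq_mul]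
      calc α g⁻¹ a * a' = (a⁻¹ * α g⁻¹ a) * (a * a') := by
            rw [mul_mul_mul_comm, inv_mul_cancel, one_mul]
        _ = (a'⁻¹ * α g⁻¹ a') * (a' * a) := by rw [e', mul_comm a a']
        _ = a * α g⁻¹ a' := by rw [mul_mul_mul_comm, inv_mul_cancel, one_mul, mul_comm]
    obtain ⟨a, ha⟩ := hbij.2 b
    rw [← ha, map_mul, map_inv, ← hsm, hg, inv_mul_cancel, MonoidHom.one_apply]
  -- the projections
  have horth : ∀ φ μ : A →* Kˣ, proj ρA φ * proj ρA μ = if φ = μ then proj ρA φ else 0 := by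
    intro φ μ
    have e : (∑ a : A, (((φ a)⁻¹ : Kˣ) : K) • ρA a) * (∑ b : A, (((μ b)⁻¹ : Kˣ) : K) • ρA b) =
        (∑ a : A, (((φ⁻¹ * μ) a : Kˣ) : K)) • ∑ c : A, (((μ c)⁻¹ : Kˣ) : K) • ρA c := by
      rw [Finset.sum_mul, Finset.sum_smul]
      refine Finset.sum_congr rfl fun a _ => ?_
      rw [Finset.mul_sum, Finset.smul_sum]
      refine Fintype.sum_equiv (Equiv.mulLeft a) _ _ fun b => ?_
      rw [Algebra.smul_mul_assoc, Algebra.mul_smul_comm, smul_smul, smul_smul, ← map_mul]
      simp only [Equiv.coe_mulLeft, MonoidHom.mul_apply, MonoidHom.inv_apply, map_mul, mul_inv,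
        Units.val_mul]
      congr 1
      rw [mul_assoc, ← mul_assoc ((μ a : Kˣ) : K), Units.mul_inv, one_mul]
    simp only [proj, Algebra.smul_mul_assoc, Algebra.mul_smul_comm, e, smul_smul]
    split_ifs with h
    · subst h
      simp [hA]
    · rw [sum_hom_eq_zero _ (fun h' => h (inv_mul_eq_one.mp h'))]
      simp
  have hone : ∑ φ : A →* Kˣ, proj ρA φ = 1 := by
    simp only [proj, ← Finset.smul_sum]
    rw [Finset.sum_comm]
    simp only [← Finset.sum_smul]
    rw [Finset.sum_eq_single (1 : A) (fun a _ ha => by rw [sum_inv_eq_zero ha, zero_smul]) (by simp)]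
    have hc : Fintype.card (A →* Kˣ) = Fintype.card A := by
      simpa [Nat.card_eq_fintype_card] using CommGroup.card_monoidHom_of_hasEnoughRootsOfUnity A K
    simp [hc, smul_smul, hA]
  have hP1 : proj ρA 1 = 0 := by simp [proj, h0]
  have hconj : ∀ g φ, ρE g * proj ρA φ = proj ρA (g • φ) * ρE g := by
    intro g φ
    simp only [proj, Algebra.smul_mul_assoc, Algebra.mul_smul_comm]
    congr 1
    rw [Finset.mul_sum, Finset.sum_mul]
    refine Fintype.sum_equiv (α g).toEquiv _ _ fun a => ?_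
    rw [Algebra.mul_smul_comm, Algebra.smul_mul_assoc, hcompat]
    simp [hsm]
  -- representatives
  let R : Finset (A →* Kˣ) := (Finset.univ.filter fun φ => φ ≠ 1).image fun φ =>
    (Quotient.out (Quotient.mk (MulAction.orbitRel E (A →* Kˣ)) φ))
  have hR1 : ∀ r ∈ R, r ≠ 1 := by
    intro r hr e
    obtain ⟨φ, hφ, rfl⟩ := Finset.mem_image.mp hr
    have h2 : (Quotient.out (Quotient.mk (MulAction.orbitRel E (A →* Kˣ)) φ)) ∈ MulAction.orbit E φ :=
      MulAction.orbitRel_apply.mp (Quotient.exact (Quotient.out_eq _))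
    obtain ⟨g, hg⟩ := h2
    simp only at hg
    rw [e] at hg
    refine (Finset.mem_filter.mp hφ).2 ?_
    rw [← inv_smul_smul g φ, hg]
    exact MonoidHom.ext fun a => rfl
  have huniq : ∀ r ∈ R, ∀ r' ∈ R, ∀ g : E, g • r = r' → g = 1 ∧ r = r' := by
    intro r hr r' hr' g hg
    have heq : r = r' := by
      obtain ⟨φ, -, rfl⟩ := Finset.mem_image.mp hr
      obtain ⟨φ', -, rfl⟩ := Finset.mem_image.mp hr'
      have : Quotient.mk (MulAction.orbitRel E (A →* Kˣ)) φ = Quotient.mk _ φ' := by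
        rw [← Quotient.out_eq (Quotient.mk (MulAction.orbitRel E (A →* Kˣ)) φ),
          ← Quotient.out_eq (Quotient.mk (MulAction.orbitRel E (A →* Kˣ)) φ'), ← hg]
        exact (Quotient.sound (MulAction.orbitRel_apply.mpr (MulAction.mem_orbit _ g))).symm
      rw [this]
    subst heq
    exact ⟨hfree g r hg (hR1 r hr), rfl⟩
  set Q := ∑ r ∈ R, proj ρA r with hQ
  have hQQ : ∀ g : E, Q * (ρE g * Q) = if g = 1 then Q else 0 := by
    intro g
    have e : ρE g * Q = (∑ r ∈ R, proj ρA (g • r)) * ρE g := by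
      rw [hQ, Finset.mul_sum, Finset.sum_mul]
      exact Finset.sum_congr rfl fun r _ => hconj g r
    rw [e, ← mul_assoc, hQ, Finset.sum_mul_sum]
    split_ifs with hg
    · subst hg
      simp only [one_smul, map_one, mul_one, horth]
      exact Finset.sum_congr rfl fun r hr => by simp [hr]
    · rw [Finset.sum_eq_zero fun r hr => Finset.sum_eq_zero fun r' hr' => ?_, zero_mul]
      rw [horth, if_neg]
      exact fun h => hg (huniq r' hr' r hr g h.symm).1
  have hsum : ∑ g : E, ρE g * Q * ρE g⁻¹ = 1 := by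
    have e : ∀ g : E, ρE g * Q * ρE g⁻¹ = ∑ r ∈ R, proj ρA (g • r) := by
      intro g
      rw [hQ, Finset.mul_sum, Finset.sum_mul]
      refine Finset.sum_congr rfl fun r _ => ?_
      rw [hconj, mul_assoc, ← map_mul, mul_inv_cancel, map_one, mul_one]
    rw [Finset.sum_congr rfl fun g _ => e g, ← hone, ← Finset.sum_product']
    rw [← Finset.add_sum_erase _ (fun φ => proj ρA φ) (Finset.mem_univ (1 : A →* Kˣ)), hP1, zero_add]
    refine Finset.sum_bij (fun x _ => x.1 • x.2) (fun x hx => ?_) (fun x hx y hy e => ?_)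
      (fun φ hφ => ?_) (fun _ _ => rfl)
    · have hx2 := hR1 _ (Finset.mem_product.mp hx).2
      refine Finset.mem_erase.mpr ⟨fun e => hx2 ?_, Finset.mem_univ _⟩
      rw [← inv_smul_smul x.1 x.2, e]
      exact MonoidHom.ext fun a => rfl
    · obtain ⟨h1, h2⟩ := huniq _ (Finset.mem_product.mp hx).2 _ (Finset.mem_product.mp hy).2
        (y.1⁻¹ * x.1) (by rw [mul_smul, e, inv_smul_smul])
      exact Prod.ext (inv_mul_eq_one.mp h1).symm h2
    · have hφ1 : φ ≠ 1 := (Finset.mem_erase.mp hφ).1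
      obtain ⟨g, hg⟩ : φ ∈ MulAction.orbit E
          (Quotient.out (Quotient.mk (MulAction.orbitRel E (A →* Kˣ)) φ)) :=
        MulAction.orbitRel_apply.mp (Quotient.exact (Quotient.out_eq _).symm)
      exact ⟨(g, _), Finset.mem_product.mpr ⟨Finset.mem_univ _,
        Finset.mem_image.mpr ⟨φ, Finset.mem_filter.mpr ⟨Finset.mem_univ _, hφ1⟩, rfl⟩⟩, hg⟩
  set T := ∑ g : E, ρE g with hT
  have hTg : ∀ h : E, ρE h * T = T := fun h => by
    rw [hT, Finset.mul_sum]
    exact Fintype.sum_equiv (Equiv.mulLeft h) _ _ fun g => by simp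
  have hQTQ : Q * T * Q = Q := by
    rw [hT, Finset.mul_sum Finset.univ (fun g => ρE g) Q,
      Finset.sum_mul Finset.univ (fun g => Q * ρE g) Q,
      Finset.sum_congr rfl fun g _ => (mul_assoc Q (ρE g) Q).trans (hQQ g)]
    simp
  have hfix : ∀ g, ∀ c ∈ LinearMap.range T, ρE g c = c := by
    rintro g _ ⟨w, rfl⟩
    exact LinearMap.congr_fun (hTg g) w
  have hTQc : ∀ c ∈ LinearMap.range T, T (Q c) = c := by
    intro c hc
    have := LinearMap.congr_fun hsum c
    simp only [LinearMap.coe_sum, Finset.sum_apply, Module.End.mul_apply, Module.End.one_apply,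
      hfix _ c hc] at this
    rw [hT, LinearMap.coe_sum, Finset.sum_apply]
    exact this
  let toV : (E → LinearMap.range T) →ₗ[K] V :=
    ∑ g : E, ((ρE g * Q) ∘ₗ (LinearMap.range T).subtype ∘ₗ LinearMap.proj g)
  let ofV : V →ₗ[K] (E → LinearMap.range T) :=
    LinearMap.pi fun g => T.rangeRestrict ∘ₗ (Q * ρE g⁻¹)
  have hto : ∀ c : E → LinearMap.range T, toV c = ∑ g : E, ρE g (Q (c g : V)) := fun c => by
    simp [toV, LinearMap.coe_sum, Finset.sum_apply, Module.End.mul_apply]
  have hof : ∀ w g, ((ofV w g : LinearMap.range T) : V) = T (Q (ρE g⁻¹ w)) := fun w g => rfl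
  have h1 : ∀ w, toV (ofV w) = w := by
    intro w
    rw [hto]
    have := LinearMap.congr_fun hsum w
    simp only [LinearMap.coe_sum, Finset.sum_apply, Module.End.mul_apply, Module.End.one_apply] at this
    refine (Finset.sum_congr rfl fun g _ => ?_).trans this
    rw [hof]
    exact congrArg (ρE g) (LinearMap.congr_fun hQTQ (ρE g⁻¹ w))
  have h2 : ∀ c, ofV (toV c) = c := by
    intro c
    refine funext fun h => Subtype.ext ?_
    rw [hof, hto, map_sum, map_sum, map_sum, Finset.sum_eq_single h]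
    · have e : ρE h⁻¹ (ρE h (Q (c h : V))) = Q (c h : V) := by
        rw [← Module.End.mul_apply, ← map_mul, inv_mul_cancel, map_one, Module.End.one_apply]
      rw [e]
      have := LinearMap.congr_fun (hQQ 1) (c h : V)
      simp only [map_one, Module.End.mul_apply, Module.End.one_apply, if_true] at this
      rw [this]
      exact hTQc _ (c h).2
    · intro g _ hg
      have e : Q (ρE h⁻¹ (ρE g (Q (c g : V)))) = 0 := by
        have := LinearMap.congr_fun (hQQ (h⁻¹ * g)) (c g : V)
        rw [if_neg (by rwa [inv_mul_eq_one, eq_comm])] at this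
        simpa [Module.End.mul_apply, map_mul] using this
      rw [e, map_zero]
    · simp
  rw [← LinearEquiv.finrank_eq (LinearEquiv.ofLinearMap toV ofV (LinearMap.ext h1) (LinearMap.ext h2)),
    Module.finrank_pi_fintype, Finset.sum_const, Finset.card_univ, smul_eq_mul]

end Closed

open scoped TensorProduct in
theorem finrank_eq_mul {p : ℕ} [Fact p.Prime] {W : Type*} [AddCommGroup W] [Module (ZMod p) W]
    [FiniteDimensional (ZMod p) W] (α : E →* MulAut A)
    (hfpf : ∀ g, g ≠ 1 → ∀ a, α g a = a → a = 1)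
    (hA : ¬ p ∣ Fintype.card A) (hE : ¬ p ∣ Fintype.card E)
    (ρA : A →* Module.End (ZMod p) W) (ρE : E →* Module.End (ZMod p) W)
    (hcompat : ∀ g a, ρE g * ρA a = ρA (α g a) * ρE g) (h0 : ∑ a, ρA a = 0)
    (C : Submodule (ZMod p) W) (hC : ∀ w, w ∈ C ↔ ∀ g, ρE g w = w) :
    Module.finrank (ZMod p) W = Fintype.card E * Module.finrank (ZMod p) C := by
  classical
  let K := AlgebraicClosure (ZMod p)
  have : CharP K p := charP_of_injective_algebraMap (algebraMap (ZMod p) K).injective p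
  have hcast : ∀ n : ℕ, ¬ p ∣ n → (n : K) ≠ 0 := fun n hn h => hn ((CharP.cast_eq_zero_iff K p n).mp h)
  have hexp : NeZero (Monoid.exponent A : K) :=
    ⟨hcast _ fun h => hA (h.trans (by
      rw [← Nat.card_eq_fintype_card]; exact Group.exponent_dvd_nat_card))⟩
  have : NeZero (Monoid.exponent A : AlgebraicClosure (ZMod p)) := hexp
  let β := Module.End.baseChangeHom (ZMod p) K W
  have key := finrank_eq_mul_closed (K := K) (V := K ⊗[ZMod p] W) α hfpf (hcast _ hA)
    (β.toMonoidHom.comp ρA) (β.toMonoidHom.comp ρE)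
    (fun g a => by
      show β (ρE g) * β (ρA a) = β (ρA (α g a)) * β (ρE g)
      rw [← map_mul, hcompat, map_mul])
    (by
      show ∑ a, β (ρA a) = 0
      rw [← map_sum, h0, map_zero])
  rw [Module.finrank_baseChange] at key
  rw [key]
  congr 1
  set T := ∑ g : E, ρE g with hT
  have hTK : (∑ g : E, (β.toMonoidHom.comp ρE) g) = LinearMap.baseChange K T := by
    show ∑ g : E, β (ρE g) = β T
    rw [map_sum]
  rw [hTK]
  have hTC : ∀ w, T w ∈ C := fun w => (hC _).mpr fun h => by
    have e : ρE h * T = T := by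
      rw [hT, Finset.mul_sum]
      exact Fintype.sum_equiv (Equiv.mulLeft h) _ _ fun g => by simp
    exact LinearMap.congr_fun e w
  let π : W →ₗ[ZMod p] C := LinearMap.codRestrict C T hTC
  have hsurj : Function.Surjective π := by
    intro c
    have hne : (Fintype.card E : ZMod p) ≠ 0 := fun h => hE ((CharP.cast_eq_zero_iff (ZMod p) p _).mp h)
    refine ⟨(Fintype.card E : ZMod p)⁻¹ • (c : W), Subtype.ext ?_⟩
    show T ((Fintype.card E : ZMod p)⁻¹ • (c : W)) = c
    rw [map_smul, hT, LinearMap.coe_sum, Finset.sum_apply,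
      Finset.sum_congr rfl fun g _ => (hC _).mp c.2 g, Finset.sum_const, Finset.card_univ,
      ← Nat.cast_smul_eq_nsmul (ZMod p), smul_smul, inv_mul_cancel₀ hne, one_smul]
  have hfac : T = C.subtype ∘ₗ π := LinearMap.ext fun _ => rfl
  rw [hfac, LinearMap.baseChange_comp, LinearMap.range_comp,
    LinearMap.range_eq_top.mpr (show Function.Surjective (LinearMap.baseChange K π) from
      LinearMap.lTensor_surjective K hsurj), Submodule.map_top]
  have hinj : Function.Injective (LinearMap.baseChange K C.subtype) :=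
    Module.Flat.lTensor_preserves_injective_linearMap (M := K) C.subtype C.injective_subtype
  rw [LinearMap.finrank_range_of_inj hinj, Module.finrank_baseChange]

end CfsgLib.OddChar.FreeModule
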