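import Cfsg.Agent.Lib.OddChar.Descend
import Cfsg.Agent.Lib.Char.Integral
import Mathlib.GroupTheory.Nilpotent

/-!
# A nilpotent section `K/M` with `L/[K,K]M` Frobenius

* `dvd_card_sub_one`, `index_modEq_one`: orbit counting;
* `prime_dvd_abel`, `exists_between_of_not_isPrimePow`;
* `deg_above_linear`, `coherent_above_linear`, `deg_above_prime_pow`, `wt_above_dvd`.
-/

namespace CfsgLib.OddChar.Above

open CfsgLib.Char CfsgLib.CharNormal CfsgLib.OddChar.Coh

open Classical in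
/-- A normal subgroup whose nontrivial elements all have centralizers of index `e`. -/
theorem dvd_card_sub_one {Q : Type*} [Group Q] [Finite Q] (B : Subgroup Q) [hB : B.Normal] (e : ℕ)
    (h : ∀ x ∈ B, x ≠ 1 → (Subgroup.centralizer {x}).index = e) : e ∣ Nat.card B - 1 := by
  have := Fintype.ofFinite Q
  set X : Finset Q := Finset.univ.filter fun x => x ∈ B ∧ x ≠ 1 with hX
  have hcard : Nat.card B - 1 = X.card := by
    rw [show X = (Finset.univ.filter (· ∈ B)).erase 1 by ext; simp [hX, and_comm],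
      Finset.card_erase_of_mem (by simp), ← Fintype.card_subtype, Nat.card_eq_fintype_card]
  rw [hcard, Finset.card_eq_sum_card_image ConjClasses.mk X]
  refine Finset.dvd_sum fun c hc => ?_
  obtain ⟨x, hx, rfl⟩ := Finset.mem_image.mp hc
  obtain ⟨-, hxB, hx1⟩ := Finset.mem_filter.mp hx
  refine dvd_of_eq ?_
  have hidx : (Subgroup.centralizer {x}).index = (MulAction.stabilizer (ConjAct Q) x).index := by
    rw [Subgroup.centralizer_eq_comap_stabilizer]
    exact Subgroup.index_comap_of_surjective (MulAction.stabilizer (ConjAct Q) x)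
      (f := (ConjAct.toConjAct : Q ≃* ConjAct Q).toMonoidHom) ConjAct.toConjAct.surjective
  rw [← h x hxB hx1, hidx, MulAction.index_stabilizer,
    ConjAct.orbit_eq_carrier_conjClasses, ← Set.ncard_coe_finset]
  congr 1
  ext y
  simp only [Finset.coe_filter, Set.mem_setOf_eq, ConjClasses.mem_carrier_iff_mk_eq, hX,
    Finset.mem_filter, Finset.mem_univ, true_and]
  refine ⟨fun hy => ⟨?_, hy⟩, fun hy => hy.2⟩
  obtain ⟨g, hg⟩ := isConj_iff.mp (ConjClasses.mk_eq_mk_iff_isConj.mp hy.symm)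
  subst hg
  exact ⟨hB.conj_mem x hxB g, fun e => hx1 (by simpa [mul_assoc] using congrArg (fun t => g⁻¹ * t * g) e)⟩

variable {L : Type*} [Group L] [Fintype L] {G : Type*} [Group G] [Fintype G]

/-- `[L:K]` divides `[B:H₁] - 1` in a Frobenius section. -/
theorem index_dvd_sub_one (K H₁ B : Subgroup L) [K.Normal] [H₁.Normal] [B.Normal]
    (hB : H₁ ≤ B) (hBK : B ≤ K) (hcomm : ⁅K, K⁆ ≤ H₁)
    (hfrob : ∀ k ∈ K, k ∉ H₁ → ∀ x : L, x * k * x⁻¹ * k⁻¹ ∈ H₁ → x ∈ K) :
    K.index ∣ H₁.relIndex B - 1 := by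
  classical
  set π := QuotientGroup.mk' H₁
  have hsur : Function.Surjective π := QuotientGroup.mk'_surjective H₁
  have hker : π.ker = H₁ := QuotientGroup.ker_mk' H₁
  have : (B.map π).Normal := Subgroup.Normal.map inferInstance π hsur
  have hc : Nat.card (B.map π) = H₁.relIndex B := by
    rw [← Subgroup.relIndex_bot_left, ← Subgroup.relIndex_comap, MonoidHom.comap_bot, hker]
  rw [← hc]
  refine dvd_card_sub_one (B.map π) K.index fun x hx hx1 => ?_
  obtain ⟨k, hk, rfl⟩ := hx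
  have hk' : k ∉ H₁ := fun h => hx1 ((QuotientGroup.eq_one_iff k).mpr h)
  have hcen : (Subgroup.centralizer {π k}).comap π = K := by
    ext y
    rw [Subgroup.mem_comap, Subgroup.mem_centralizer_singleton_iff]
    constructor
    · intro hy
      refine hfrob k (hBK hk) hk' y ((QuotientGroup.eq_one_iff _).mp ?_)
      show π (y * k * y⁻¹ * k⁻¹) = 1
      simp [map_mul, map_inv, hy]
    · intro hy
      have h1 : π (y * k * y⁻¹ * k⁻¹) = 1 := (QuotientGroup.eq_one_iff _).mpr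
        (hcomm (Subgroup.commutator_mem_commutator hy (hBK hk)))
      simp only [map_mul, map_inv] at h1
      rwa [mul_inv_eq_one, mul_inv_eq_iff_eq_mul] at h1
  conv_rhs => rw [← hcen, Subgroup.index_comap_of_surjective _ hsur]

/-- In odd order `[B:A] ≡ 1` modulo `2[L:K]`, in the form `2[L:K] + 1 ≤ [B:A]`. -/
theorem two_index_lt (K H₁ A B : Subgroup L) [K.Normal] [H₁.Normal] [A.Normal] [B.Normal]
    (hA : H₁ ≤ A) (hAB : A < B) (hBK : B ≤ K) (hcomm : ⁅K, K⁆ ≤ H₁) (hodd : Odd (Nat.card L))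
    (hfrob : ∀ k ∈ K, k ∉ H₁ → ∀ x : L, x * k * x⁻¹ * k⁻¹ ∈ H₁ → x ∈ K) :
    2 * K.index + 1 ≤ A.relIndex B := by
  have h1 := index_dvd_sub_one K H₁ A hA (hAB.le.trans hBK) hcomm hfrob
  have h2 := index_dvd_sub_one K H₁ B (hA.trans hAB.le) hBK hcomm hfrob
  have h3 := Subgroup.relIndex_mul_relIndex H₁ A B hA hAB.le
  set a := H₁.relIndex A
  set c := A.relIndex B
  have ha : 1 ≤ a := Nat.pos_of_ne_zero (H₁.subgroupOf A).index_ne_zero_of_finite
  have hc : 1 < c := by
    have h0 : c ≠ 0 := (A.subgroupOf B).index_ne_zero_of_finite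
    have : c ≠ 1 := fun h => hAB.not_ge (Subgroup.relIndex_eq_one.mp h)
    omega
  have hdc : K.index ∣ c - 1 := by
    rw [← h3] at h2
    obtain ⟨u, hu⟩ := h1
    obtain ⟨v, hv⟩ := h2
    have hac : 1 ≤ a * c := by nlinarith
    refine Int.natCast_dvd_natCast.mp ⟨(v : ℤ) - u * c, ?_⟩
    have hu' : (a : ℤ) - 1 = K.index * u := by rw [← Nat.cast_mul, ← hu, Nat.cast_sub ha]; rfl
    have hv' : (a : ℤ) * c - 1 = K.index * v := by
      rw [← Nat.cast_mul K.index, ← hv, Nat.cast_sub hac]; push_cast; ring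
    rw [Nat.cast_sub hc.le]
    linear_combination hv' - (c : ℤ) * hu'
  have hoe : Odd K.index := hodd.of_dvd_nat (Subgroup.index_dvd_card K)
  have hoc : Odd c := hodd.of_dvd_nat ((Subgroup.index_dvd_card (A.subgroupOf B)).trans
    (Subgroup.card_subgroup_dvd_card B))
  obtain ⟨w, hw⟩ := hdc
  obtain ⟨s, hs⟩ := hoc
  have hw2 : 2 ∣ K.index * w := ⟨s, by omega⟩
  rcases (Nat.prime_two.dvd_mul.mp hw2) with h | h
  · exact absurd h hoe.not_two_dvd_nat
  · obtain ⟨j, rfl⟩ := h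
    rcases Nat.eq_zero_or_pos j with rfl | hj
    · omega
    · have : K.index * 2 ≤ K.index * (2 * j) := Nat.mul_le_mul_left _ (by omega)
      omega

/-- A nilpotent group has every prime divisor of its order in that of its abelianization. -/
theorem prime_dvd_abel {Q : Type*} [Group Q] [Finite Q] [hQ : Group.IsNilpotent Q] {q : ℕ}
    (hq : q.Prime) (hd : q ∣ Nat.card Q) : q ∣ Nat.card (Abelianization Q) := by
  classical
  have := Fact.mk hq
  have hn : ∀ {p : ℕ} [Fact p.Prime] (P : Sylow p Q), (P : Subgroup Q).Normal :=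
    fun {p hp} P => inferInstance
  obtain ⟨P, hPdef⟩ : ∃ P : Sylow q Q, P = default := ⟨default, rfl⟩
  let f : Q →* (P : Subgroup Q) :=
    ((Pi.evalMonoidHom (fun P : Sylow q Q => (P : Subgroup Q)) P).comp
      (Pi.evalMonoidHom (fun p : (Nat.card Q).primeFactors => ∀ P : Sylow p Q, P)
        ⟨q, Nat.mem_primeFactors.mpr ⟨hq, hd, Nat.card_pos.ne'⟩⟩)).comp
      (Sylow.directProductOfNormal hn).symm.toMonoidHom
  have hf : Function.Surjective f := fun x => by
    set i : (Nat.card Q).primeFactors :=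
      ⟨q, Nat.mem_primeFactors.mpr ⟨hq, hd, Nat.card_pos.ne'⟩⟩
    obtain ⟨y, hy⟩ : ∃ y : ∀ p : (Nat.card Q).primeFactors, ∀ P : Sylow p Q, (P : Subgroup Q),
        y i P = x :=
      ⟨Function.update (fun _ _ => 1) i (Function.update (β := fun P : Sylow q Q => (P : Subgroup Q))
        (fun _ => 1) P x), by
        rw [Function.update_self]; exact Function.update_self (β := fun P : Sylow q Q => (P : Subgroup Q)) _ _ _⟩
    exact ⟨Sylow.directProductOfNormal hn y, by simpa [f] using hy⟩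
  have : Nontrivial P := by
    rw [Subgroup.nontrivial_iff_ne_bot]
    exact P.ne_bot_of_dvd_card hd
  have : Group.IsNilpotent P := P.isPGroup'.isNilpotent
  have hlt : commutator P < ⊤ := Group.IsSolvable.commutator_lt_top_of_nontrivial _
  have hp : IsPGroup q (Abelianization P) := P.isPGroup'.to_quotient (commutator P)
  have : Nontrivial (Abelianization P) := by
    rw [Abelianization, QuotientGroup.nontrivial_iff]; exact hlt.ne
  obtain ⟨n, hn0, hn'⟩ := hp.nontrivial_iff_card.mp this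
  have hsur : Function.Surjective (Abelianization.map f) := fun y => by
    obtain ⟨x, rfl⟩ := QuotientGroup.mk_surjective y
    obtain ⟨z, rfl⟩ := hf x
    exact ⟨Abelianization.of z, rfl⟩
  exact ((dvd_pow_self q hn0.ne').trans hn'.symm.dvd).trans (Subgroup.card_dvd_of_surjective _ hsur)

/-- If `K/M` is nilpotent, a prime of `[K:M]` divides `[K:H₁]` for `H₁ = [K,K]M`. -/
theorem prime_dvd_relIndex (K M : Subgroup L) [K.Normal] [(M.subgroupOf K).Normal] (hMK : M ≤ K)
    (hnil : Group.IsNilpotent (↥K ⧸ M.subgroupOf K)) {q : ℕ} (hq : q.Prime)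
    (hd : q ∣ M.relIndex K) : q ∣ (⁅K, K⁆ ⊔ M).relIndex K := by
  classical
  have h := prime_dvd_abel (hQ := hnil) hq (by rwa [← Subgroup.index_eq_card])
  rw [Abelianization, ← Subgroup.index_eq_card, commutator_def,
    ← Subgroup.map_top_of_surjective _ (QuotientGroup.mk'_surjective (M.subgroupOf K)),
    ← Subgroup.map_commutator, Subgroup.index_map, QuotientGroup.ker_mk',
    MonoidHom.range_eq_top.mpr (QuotientGroup.mk'_surjective _), Subgroup.index_top, mul_one] at h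
  refine h.trans (dvd_of_eq ?_)
  show _ = ((⁅K, K⁆ ⊔ M).subgroupOf K).index
  congr 1
  refine Subgroup.map_injective K.subtype_injective ?_
  rw [Subgroup.map_sup, Subgroup.map_commutator, ← MonoidHom.range_eq_map, K.range_subtype,
    Subgroup.subgroupOf_map_subtype, Subgroup.subgroupOf_map_subtype, inf_eq_left.mpr hMK,
    inf_eq_left.mpr (sup_le (Subgroup.commutator_le_left K K) hMK)]

/-- A non prime power section has a proper intermediate normal subgroup of `r'`-index over it. -/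
theorem exists_between_not_dvd (K H₁ : Subgroup L) [K.Normal] [H₁.Normal] (hH₁ : H₁ ≤ K)
    (hcomm : ⁅K, K⁆ ≤ H₁) {q r : ℕ} (hq : q.Prime) (hr : r.Prime) (hne : q ≠ r)
    (hqd : q ∣ H₁.relIndex K) (hrd : r ∣ H₁.relIndex K) :
    ∃ N : Subgroup L, N.Normal ∧ H₁ < N ∧ N < K ∧ ¬ r ∣ H₁.relIndex N := by
  classical
  set π := QuotientGroup.mk' H₁
  have hone : ∀ x, π x = 1 ↔ x ∈ H₁ := fun x => QuotientGroup.eq_one_iff x
  have hcom : ∀ x ∈ K, ∀ y ∈ K, Commute (π x) (π y) := fun x hx y hy => by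
    have h1 := (hone _).mpr (hcomm (Subgroup.commutator_mem_commutator hx hy))
    simp only [commutatorElement_def, map_mul, map_inv] at h1
    rw [mul_inv_eq_one, mul_inv_eq_iff_eq_mul] at h1
    exact h1
  let N : Subgroup L :=
    { carrier := {x | x ∈ K ∧ π x ^ q = 1}
      one_mem' := ⟨K.one_mem, by simp⟩
      mul_mem' := fun {x y} hx hy => ⟨K.mul_mem hx.1 hy.1, by
        rw [map_mul, (hcom x hx.1 y hy.1).mul_pow, hx.2, hy.2, one_mul]⟩
      inv_mem' := fun {x} hx => ⟨K.inv_mem hx.1, by rw [map_inv, inv_pow, hx.2, inv_one]⟩ }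
  have hcard : Nat.card (K.map π) = H₁.relIndex K := by
    rw [← Subgroup.relIndex_bot_left, ← Subgroup.relIndex_comap, MonoidHom.comap_bot,
      QuotientGroup.ker_mk']
  obtain ⟨⟨_, a, ha, rfl⟩, hao⟩ :=
    exists_prime_orderOf_dvd_card' (hp := ⟨hq⟩) (G := K.map π) q (hcard ▸ hqd)
  obtain ⟨⟨_, b, hb, rfl⟩, hbo⟩ :=
    exists_prime_orderOf_dvd_card' (hp := ⟨hr⟩) (G := K.map π) r (hcard ▸ hrd)
  rw [← Subgroup.orderOf_coe] at hao hbo
  simp only at hao hbo
  refine ⟨N, ⟨fun x hx g => ⟨‹K.Normal›.conj_mem x hx.1 g, ?_⟩⟩, ?_, ?_, fun hd => ?_⟩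
  · rw [map_mul, map_mul, map_inv, conj_pow, hx.2, mul_one, mul_inv_cancel]
  · refine SetLike.lt_iff_le_and_exists.mpr ⟨fun x hx => ⟨hH₁ hx, by rw [(hone x).mpr hx, one_pow]⟩,
      a, (show a ∈ K ∧ π a ^ q = 1 from ⟨ha, hao ▸ pow_orderOf_eq_one _⟩), fun h => ?_⟩
    rw [(hone a).mpr h, orderOf_one] at hao
    exact hq.one_lt.ne hao
  · refine SetLike.lt_iff_le_and_exists.mpr ⟨fun x hx => hx.1, b, hb, fun h => hne ?_⟩
    exact ((Nat.prime_dvd_prime_iff_eq hr hq).mp (hbo ▸ orderOf_dvd_of_pow_eq_one h.2)).symm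
  · have hcN : Nat.card (N.map π) = H₁.relIndex N := by
      rw [← Subgroup.relIndex_bot_left, ← Subgroup.relIndex_comap, MonoidHom.comap_bot,
        QuotientGroup.ker_mk']
    obtain ⟨⟨_, c, hc, rfl⟩, hco⟩ :=
      exists_prime_orderOf_dvd_card' (hp := ⟨hr⟩) (G := N.map π) r (hcN ▸ hd)
    rw [← Subgroup.orderOf_coe] at hco
    simp only at hco
    exact hne ((Nat.prime_dvd_prime_iff_eq hr hq).mp (hco ▸ orderOf_dvd_of_pow_eq_one hc.2)).symm

/-- A non prime power section has a proper intermediate normal subgroup. -/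
theorem exists_between_of_two_primes (K H₁ : Subgroup L) [K.Normal] [H₁.Normal] (hH₁ : H₁ ≤ K)
    (hcomm : ⁅K, K⁆ ≤ H₁) {q r : ℕ} (hq : q.Prime) (hr : r.Prime) (hne : q ≠ r)
    (hqd : q ∣ H₁.relIndex K) (hrd : r ∣ H₁.relIndex K) :
    ∃ N : Subgroup L, N.Normal ∧ H₁ < N ∧ N < K :=
  (exists_between_not_dvd K H₁ hH₁ hcomm hq hr hne hqd hrd).imp fun _ h => ⟨h.1, h.2.1, h.2.2.1⟩

/-- The members of `S(A)` have degree `[L:K]` if `K/A` is abelian. -/
theorem deg_above_linear (K A : Subgroup L) (hA : ⁅K, K⁆ ≤ A) {φ : L → ℂ}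
    (hφ : φ ∈ Cfsg.inducedIrrAbove K A) : deg φ = K.index := by
  classical
  have := Fintype.ofFinite K
  obtain ⟨θ, hθ, -, ht, rfl⟩ := hφ
  obtain ⟨n, hn0, hn⟩ := exists_degree_pos hθ
  have h := sq_degree_le hθ ⊤ (fun d _ c => ht _ (hA (Subgroup.commutator_mem_commutator d.2 c.2))) hn
  rw [Subgroup.card_top] at h
  have hn1 : n ^ 2 ≤ 1 := Nat.le_of_mul_le_mul_right (by rwa [one_mul]) Nat.card_pos
  rw [deg_indFun K hn, show n = 1 by nlinarith, mul_one]

/-- `S(A)` is coherent if `K/A` is abelian and nontrivial. -/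
theorem coherent_above_linear (K : Subgroup L) [K.Normal] (hsolv : Group.IsSolvable K)
    {τ : (L → ℂ) → (G → ℂ)} {R : (L → ℂ) → Finset (G → ℂ)}
    (hS : Cfsg.IsCoherenceSystem (Cfsg.inducedIrrAbove K ⊥) τ R) (A : Subgroup L) [A.Normal]
    (hA : ⁅K, K⁆ ≤ A) (hAK : A < K) : Cfsg.IsCoherent (Cfsg.inducedIrrAbove K A) {1}ᶜ τ := by
  classical
  have := Fintype.ofFinite K
  obtain ⟨φ, hφ, -⟩ := exists_deg_index K A hsolv hAK
  exact coherent_equal hS (above_le_bot K A) ⟨φ, hφ⟩ (fun _ => above_conj K A)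
    fun φ h => deg_above_linear K A hA h

/-- In a section of `p`-power order the degrees are `[L:K]` times a power of `p`. -/
theorem deg_above_prime_pow (K M : Subgroup L) [(M.subgroupOf K).Normal] {p m : ℕ} (hp : p.Prime)
    (hm : M.relIndex K = p ^ m) {φ : L → ℂ} (hφ : φ ∈ Cfsg.inducedIrrAbove K M) :
    ∃ k, k ≤ m ∧ deg φ = K.index * p ^ k := by
  classical
  have := Fintype.ofFinite K
  have := Fintype.ofFinite (K ⧸ M.subgroupOf K)
  obtain ⟨θ, hθ, -, ht, rfl⟩ := hφ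
  obtain ⟨n, hn⟩ := exists_degree (isCharacter_of_isIrr hθ)
  obtain ⟨ψ, hψ, rfl⟩ := exists_irr_eq_comp_mk' (N := M.subgroupOf K) hθ fun a ha => ht a ha
  have hn' : ψ 1 = n := by simpa using hn
  have hd := degree_dvd_card hψ hn'
  rw [← Subgroup.index_eq_card] at hd
  obtain ⟨k, hk, rfl⟩ := (Nat.dvd_prime_pow hp).mp (hm ▸ hd : n ∣ p ^ m)
  exact ⟨k, hk, deg_indFun K hn⟩

open Classical in
/-- The weights are `[L:K]` times multiples of the squared degrees. -/
theorem wt_above_dvd (K : Subgroup L) [K.Normal] {φ : L → ℂ}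
    (hφ : φ ∈ Cfsg.inducedIrrAbove K ⊥) {n : ℕ} (hn : deg φ = K.index * n) :
    ∃ j : ℕ, 0 < j ∧ wt φ = (K.index : ℝ) * ((n ^ 2 * j : ℕ) : ℝ) := by
  have := Fintype.ofFinite K
  obtain ⟨θ, hθ, -, -, rfl⟩ := hφ
  obtain ⟨n', hn'⟩ := exists_degree (isCharacter_of_isIrr hθ)
  rw [deg_indFun K hn'] at hn
  obtain rfl : n' = n := Nat.eq_of_mul_eq_mul_left (Nat.pos_of_ne_zero K.index_ne_zero_of_finite) hn
  refine ⟨(orbit K ⟨θ, hθ⟩).card, Finset.card_pos.mpr ⟨_, self_mem_orbit K _⟩, ?_⟩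
  have h := wt_indFun K ⟨θ, hθ⟩
  rw [Finset.sum_congr rfl (g := fun _ => ((n' : ℂ)) ^ 2) (fun ψ hψ => by
    obtain ⟨g, hg⟩ := (mem_orbit K).mp hψ
    rw [← hg, conjFun_apply_one]; exact congrArg (· ^ 2) hn'), Finset.sum_const, nsmul_eq_mul] at h
  have h2 : (wt (Cfsg.indFun K θ) : ℂ) =
      (((K.index : ℝ) * ((n' ^ 2 * (orbit K ⟨θ, hθ⟩).card : ℕ) : ℝ) : ℝ) : ℂ) := by
    rw [h]; push_cast; ring
  exact_mod_cast h2

end CfsgLib.OddChar.Above
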