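import Cfsg.Agent.Lib.OddChar.CentralCoh
import Cfsg.Agent.Lib.Char.FrobeniusKernel
import Cfsg.Agent.Lib.Char.TI
import Cfsg.Agent.Lib.Char.PermLemma

/-!
# Frobenius kernels given by centralizers, and induction from the normalizer of a TI set

* `mem_of_comm_mem`: the Frobenius property passes to quotients;
* `isIrr_indFun`, `above_eq_relevant`, `above_conj_ne`;
* `indFun_isometry`: induction is an isometry on the degree-zero span.
-/

namespace CfsgLib.OddChar.Above

open CfsgLib.Char CfsgLib.CharNormal CfsgLib.OddChar.Coh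

variable {L : Type*} [Group L] [Fintype L] (K : Subgroup L) [hK : K.Normal]
  (hC : ∀ k ∈ K, k ≠ 1 → Subgroup.centralizer ({k} : Set L) ≤ K)

include hC

omit [Fintype L] in
/-- The Frobenius property passes to the quotient by a normal subgroup inside the kernel. -/
theorem mem_of_comm_mem [Finite L] (A : Subgroup L) [A.Normal] (hAK : A ≤ K) :
    ∀ k ∈ K, k ∉ A → ∀ x : L, x * k * x⁻¹ * k⁻¹ ∈ A → x ∈ K := by
  intro k hk hkA x hx
  by_contra hxK
  let f : K → K := fun u => ⟨(u : L) * x * (u : L)⁻¹ * x⁻¹, by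
    have := K.mul_mem u.2 (hK.conj_mem _ (K.inv_mem u.2) x)
    simpa [mul_assoc] using this⟩
  have hinj : Function.Injective f := by
    intro u v huv
    have h : (u : L) * x * (u : L)⁻¹ * x⁻¹ = (v : L) * x * (v : L)⁻¹ * x⁻¹ := congrArg Subtype.val huv
    by_contra hne
    refine hxK (hC ((v : L)⁻¹ * u) (K.mul_mem (K.inv_mem v.2) u.2)
      (fun e => hne (Subtype.ext (inv_mul_eq_one.mp e).symm)) ?_)
    rw [Subgroup.mem_centralizer_singleton_iff]
    calc x * ((v : L)⁻¹ * u) = (v : L)⁻¹ * ((v : L) * x * (v : L)⁻¹ * x⁻¹) * x * u := by group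
      _ = _ := by rw [← h]; group
  let g : A → A := fun a => ⟨(a : L) * x * (a : L)⁻¹ * x⁻¹, by
    have := A.mul_mem a.2 (‹A.Normal›.conj_mem _ (A.inv_mem a.2) x)
    simpa [mul_assoc] using this⟩
  have hgi : Function.Injective g := fun a b hab => by
    have h := hinj (a₁ := ⟨a, hAK a.2⟩) (a₂ := ⟨b, hAK b.2⟩) (Subtype.ext (congrArg Subtype.val hab :
      (a : L) * x * (a : L)⁻¹ * x⁻¹ = (b : L) * x * (b : L)⁻¹ * x⁻¹))
    exact Subtype.ext (congrArg Subtype.val h :)
  have hmem : k * x * k⁻¹ * x⁻¹ ∈ A := by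
    have := A.inv_mem hx
    simpa [mul_assoc] using this
  obtain ⟨a, ha⟩ := Finite.surjective_of_injective hgi ⟨_, hmem⟩
  have h := hinj (a₁ := ⟨a, hAK a.2⟩) (a₂ := ⟨k, hk⟩)
    (Subtype.ext (congrArg Subtype.val ha : (a : L) * x * (a : L)⁻¹ * x⁻¹ = k * x * k⁻¹ * x⁻¹))
  have hak : (a : L) = k := congrArg Subtype.val h
  exact hkA (hak ▸ a.2)

variable [Fintype K]

/-- A nonprincipal character of the kernel induces an irreducible one. -/
theorem isIrr_indFun {θ : K → ℂ} (hθ : Cfsg.IsIrrCharacter K θ) (h1 : θ ≠ fun _ => 1) :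
    Cfsg.IsIrrCharacter L (Cfsg.indFun K θ) := by
  refine irr_of_norm_one (isCharacter_indFun K (isCharacter_of_isIrr hθ)) ?_
  have hI : inertia K θ = K :=
    le_antisymm (inertia_le_of_centralizer_le K hC hθ h1)
      (le_inertia K (isClassFunction_of_isIrr hθ))
  have hc := card_mul_classInner_indFun_normal K hθ hθ
  rw [Nat.card_congr (Equiv.subtypeEquivRight (q := fun g => g ∈ K)
    fun g => (mem_inertia K (θ := θ)).symm.trans (by rw [hI]))] at hc
  exact mul_left_cancel₀ (Nat.cast_ne_zero.mpr Nat.card_pos.ne') (hc.trans (mul_one _).symm)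

theorem irr_of_above {A : Subgroup L} {χ : L → ℂ} (h : χ ∈ Cfsg.inducedIrrAbove K A) :
    Cfsg.IsIrrCharacter L χ := by
  obtain ⟨θ, hθ, h1, -, rfl⟩ := h
  exact isIrr_indFun K hC hθ h1

/-- The set `S` is the set of irreducible characters nontrivial on the kernel. -/
theorem above_eq_relevant :
    Cfsg.inducedIrrAbove K ⊥ = {χ | Cfsg.IsIrrCharacter L χ ∧ ∃ k ∈ K, χ k ≠ χ 1} := by
  ext χ
  constructor
  · intro h
    refine ⟨irr_of_above K hC h, ?_⟩
    by_contra hcon
    push Not at hcon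
    obtain ⟨θ, hθ, h1, -, rfl⟩ := h
    have hi := isIrr_indFun K hC hθ h1
    have ht : ∀ a : K, θ a = θ 1 := fun a =>
      triv_of_constituent K (isCharacter_of_isIrr hi) hθ (by
        rw [← frobenius_reciprocity' K θ (isClassFunction_of_isIrr hi), classInner_irr_self hi]
        exact one_ne_zero) (hcon a a.2)
    obtain ⟨n, hn0, hn⟩ := exists_degree_pos hθ
    have h2 := classInner_self_eq θ
    rw [classInner_irr_self hθ] at h2
    have h3 : (1 : ℝ) = (n : ℝ) ^ 2 := by
      have : ∑ x : K, ‖θ x‖ ^ 2 = (Nat.card K : ℝ) * (n : ℝ) ^ 2 := by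
        rw [Finset.sum_congr rfl fun x _ => by rw [ht x, hn, Complex.norm_natCast],
          Finset.sum_const, Finset.card_univ, nsmul_eq_mul, Nat.card_eq_fintype_card]
      have h4 : (1 : ℝ) = (Nat.card K : ℝ)⁻¹ * ∑ x : K, ‖θ x‖ ^ 2 := by exact_mod_cast h2
      rw [this, ← mul_assoc, inv_mul_cancel₀ (by exact_mod_cast Nat.card_pos.ne'), one_mul] at h4
      exact h4
    have hn1 : n = 1 := by
      have : (1 : ℕ) = n ^ 2 := by exact_mod_cast h3
      nlinarith
    exact h1 (funext fun a => by rw [ht a, hn, hn1, Nat.cast_one])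
  · rintro ⟨hχ, hrel⟩
    obtain ⟨θ, hθ, rfl⟩ := exists_eq_indFun_of_relevant K hC hχ hrel
    refine ⟨θ, hθ, ?_, triv_bot K θ, rfl⟩
    rintro rfl
    obtain ⟨k, hk, hne⟩ := hrel
    refine hne ?_
    rw [indFun_one, indFun_apply, Finset.sum_congr rfl (g := fun _ => (1 : ℂ)) fun x _ => by
        rw [extendByZero_of_mem _ (show x⁻¹ * k * x ∈ K by simpa using hK.conj_mem k hk x⁻¹)],
      Finset.sum_const, Finset.card_univ, nsmul_eq_mul, ← Nat.card_eq_fintype_card,
      ← K.index_mul_card, Nat.cast_mul]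
    have := (Nat.cast_ne_zero (R := ℂ)).mpr (Nat.card_pos (α := K)).ne'
    field_simp

/-- In odd order no member of `S` is real. -/
theorem above_conj_ne (hodd : Odd (Nat.card L)) {χ : L → ℂ}
    (h : χ ∈ Cfsg.inducedIrrAbove K ⊥) : Cfsg.conjFun χ ≠ χ := by
  intro e
  rw [above_eq_relevant K hC] at h
  obtain ⟨hχ, k, hk, hne⟩ := h
  have h1 := irr_real_eq_one hodd (χ := ⟨χ, hχ⟩) (Subtype.ext e)
  have h2 : χ = (irrOne (G := L) : L → ℂ) := congrArg Subtype.val h1
  exact hne (by rw [h2, irrOne_apply, irrOne_apply])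

omit hC [Fintype K] in
/-- A member of `S` is supported on the kernel. -/
theorem above_support {A : Subgroup L} {χ : L → ℂ} (h : χ ∈ Cfsg.inducedIrrAbove K A) {x : L}
    (hx : x ∉ K) : χ x = 0 := by
  obtain ⟨θ, -, -, -, rfl⟩ := h
  refine indFun_eq_zero_of_forall _ fun y hy => absurd ?_ hx
  simpa [mul_assoc] using hK.conj_mem _ hy y

end CfsgLib.OddChar.Above

namespace CfsgLib.OddChar.Above

open CfsgLib.Char

variable {G : Type*} [Group G] [Fintype G]

/-- Induction from the normalizer of a TI set is an isometry on the degree-zero span of virtual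
characters supported on the set. -/
theorem indFun_isometry (H L : Subgroup G) [Fintype L] (hN : Subgroup.normalizer (H : Set G) = L)
    (hTI : Cfsg.IsTISubset (H : Set G)) (S : Set (L → ℂ))
    (hgen : ∀ φ ∈ S, Cfsg.IsGeneralizedCharacter L φ)
    (hsupp : ∀ φ ∈ S, ∀ x : L, (x : G) ∉ H → φ x = 0) :
    Cfsg.IsLinearIsometryOn (Cfsg.zspanOn S {1}ᶜ) (fun α : L → ℂ => Cfsg.indFun L α) ∧
      ∀ α ∈ Cfsg.zspanOn S {1}ᶜ, Cfsg.indFun L α 1 = 0 := by
  have hg : ∀ α ∈ Cfsg.zspan S, Cfsg.IsGeneralizedCharacter L α ∧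
      ∀ x : L, (x : G) ∉ H → α x = 0 := by
    intro α hα
    induction hα using Submodule.span_induction with
    | mem φ hφ => exact ⟨hgen φ hφ, hsupp φ hφ⟩
    | zero => exact ⟨⟨_, _, isCharacter_one, isCharacter_one, (sub_self _).symm⟩, fun _ _ => rfl⟩
    | add a b _ _ ha hb => exact ⟨isGen_add ha.1 hb.1, fun x hx => by simp [ha.2 x hx, hb.2 x hx]⟩
    | smul n a _ ha =>
      refine ⟨?_, fun x hx => by simp [ha.2 x hx]⟩
      rw [← Int.cast_smul_eq_zsmul ℂ]
      exact isGen_intCast_smul ha.1 n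
  have hTI' : ∀ g : G, g ∉ L → ∀ t ∈ (H : Set G), g * t * g⁻¹ ∈ (H : Set G) → t = 1 :=
    fun g hg => hTI g (hN ▸ hg)
  refine ⟨⟨fun a _ b _ => indFun_add L a b, fun a _ n => ?_, fun a ha b hb => ?_,
    fun a ha => isGen_indFun L (hg a ha.1).1⟩, fun α hα => ?_⟩
  · show Cfsg.indFun L (n • a) = n • Cfsg.indFun L a
    rw [← Int.cast_smul_eq_zsmul ℂ, indFun_smul, Int.cast_smul_eq_zsmul]
  · exact classInner_indFun_of_TI L (H : Set G) hTI' (isClassFunction_of_isGen (hg b hb.1).1)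
      (hg a ha.1).2 (hg b hb.1).2 (CfsgLib.OddChar.Coh.apply_one_of_mem ha)
  · show Cfsg.indFun L α 1 = 0
    rw [indFun_one, CfsgLib.OddChar.Coh.apply_one_of_mem hα, mul_zero]

end CfsgLib.OddChar.Above
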