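import Mathlib

/-!
# A grid lemma

`grid_cases`: a table `r i + c j` with few nonzero entries.
-/

namespace CfsgLib.OddChar

open Classical in
theorem grid_cases {ι κ : Type*} [Fintype ι] [Fintype κ] {M : Type*} [AddCommGroup M]
    (r : ι → M) (c : κ → M) (hm : 3 ≤ Fintype.card ι) (hmn : Fintype.card ι + 2 ≤ Fintype.card κ)
    (hfew : (Finset.univ.filter fun p : ι × κ => r p.1 + c p.2 ≠ 0).card < 2 * Fintype.card ι) :
    (∀ i j, r i + c j = 0) ∨
      (∃ j₀ a, ∀ i j, r i + c j = if j = j₀ then a else 0) ∨
      (∃ i₀ a, ∀ i j, r i + c j = if i = i₀ then a else 0) := by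
  set m := Fintype.card ι
  set n := Fintype.card κ
  let col : κ → Finset ι := fun j => Finset.univ.filter fun i => r i + c j ≠ 0
  have htot : (Finset.univ.filter fun p : ι × κ => r p.1 + c p.2 ≠ 0).card = ∑ j, (col j).card := by
    rw [Finset.card_filter, Fintype.sum_prod_type, Finset.sum_comm]
    exact Finset.sum_congr rfl fun j _ => (Finset.card_filter _ _).symm
  rw [htot] at hfew
  obtain ⟨i₁⟩ : Nonempty ι := Fintype.card_pos_iff.mp (by omega)
  obtain ⟨j₁⟩ : Nonempty κ := Fintype.card_pos_iff.mp (by omega)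
  by_cases hr : ∀ i, r i = r i₁
  · -- at most one column is nonzero
    set J := Finset.univ.filter fun j => r i₁ + c j ≠ 0 with hJ
    have hJc : J.card * m < 2 * m := by
      refine lt_of_le_of_lt ?_ hfew
      rw [← smul_eq_mul, ← Finset.sum_const (ι := κ)]
      refine le_trans (le_of_eq (Finset.sum_congr rfl fun j hj => ?_))
        (Finset.sum_le_sum_of_subset (Finset.subset_univ J))
      rw [show m = (Finset.univ : Finset ι).card from rfl]
      exact congrArg Finset.card (Finset.filter_true_of_mem fun i _ => by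
        rw [hr i]; exact (Finset.mem_filter.mp hj).2).symm
    have hJ1 : J.card ≤ 1 := Nat.lt_succ_iff.mp (Nat.lt_of_mul_lt_mul_right hJc)
    rcases J.eq_empty_or_nonempty with h | ⟨j₀, hj₀⟩
    · left
      intro i j
      by_contra hne
      exact Finset.notMem_empty j (h ▸ Finset.mem_filter.mpr ⟨Finset.mem_univ _, hr i ▸ hne⟩)
    · right; left
      refine ⟨j₀, r i₁ + c j₀, fun i j => ?_⟩
      split_ifs with hj
      · rw [hj, hr i]
      · by_contra hne
        exact hj (Finset.card_le_one.mp hJ1 j
          (Finset.mem_filter.mpr ⟨Finset.mem_univ _, hr i ▸ hne⟩) j₀ hj₀)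
  by_cases hc : ∀ j, c j = c j₁
  · -- at most one row is nonzero
    set I := Finset.univ.filter fun i => r i + c j₁ ≠ 0 with hI
    have hIc : n * I.card < 2 * m := by
      refine lt_of_le_of_lt (le_of_eq ?_) hfew
      rw [← smul_eq_mul, show n = (Finset.univ : Finset κ).card from rfl, ← Finset.sum_const]
      exact Finset.sum_congr rfl fun j _ => congrArg Finset.card (by simp [col, hI, hc j])
    have hI1 : I.card ≤ 1 := by
      by_contra h
      have : n * 2 ≤ n * I.card := Nat.mul_le_mul_left n (by omega)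
      omega
    rcases I.eq_empty_or_nonempty with h | ⟨i₀, hi₀⟩
    · left
      intro i j
      by_contra hne
      exact Finset.notMem_empty i (h ▸ Finset.mem_filter.mpr ⟨Finset.mem_univ _, hc j ▸ hne⟩)
    · right; right
      refine ⟨i₀, r i₀ + c j₁, fun i j => ?_⟩
      split_ifs with hi
      · rw [hi, hc j]
      · by_contra hne
        exact hi (Finset.card_le_one.mp hI1 i
          (Finset.mem_filter.mpr ⟨Finset.mem_univ _, hc j ▸ hne⟩) i₀ hi₀)
  -- otherwise there are too many nonzero entries
  exfalso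
  have hge : ∀ j, 1 ≤ (col j).card := by
    intro j
    rw [Finset.one_le_card]
    by_contra h
    rw [Finset.not_nonempty_iff_eq_empty, Finset.filter_eq_empty_iff] at h
    refine hr fun i => ?_
    have a1 := not_not.mp (h (Finset.mem_univ i))
    have a2 := not_not.mp (h (Finset.mem_univ i₁))
    exact add_right_cancel (a1.trans a2.symm)
  by_cases hone : ∀ j, 2 ≤ (col j).card
  · have : ∑ _j : κ, 2 ≤ ∑ j, (col j).card := Finset.sum_le_sum fun j _ => hone j
    rw [Finset.sum_const, smul_eq_mul, Finset.card_univ] at this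
    omega
  push Not at hone
  obtain ⟨j₀, hj₀⟩ := hone
  obtain ⟨i₀, hi₀⟩ := Finset.card_eq_one.mp (le_antisymm (Nat.lt_succ_iff.mp hj₀) (hge j₀))
  obtain ⟨j₂, hj₂⟩ : ∃ j₂, c j₂ ≠ c j₀ := by
    by_contra h
    push Not at h
    exact hc fun j => (h j).trans (h j₁).symm
  have hj₂' : m - 1 ≤ (col j₂).card := by
    refine le_trans (le_of_eq ?_) (Finset.card_le_card (s := Finset.univ.erase i₀) fun i hi => ?_)
    · rw [Finset.card_erase_of_mem (Finset.mem_univ _), Finset.card_univ]
    · refine Finset.mem_filter.mpr ⟨Finset.mem_univ _, fun h => hj₂ ?_⟩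
      have h0 : r i + c j₀ = 0 := by
        by_contra hne
        have : i ∈ col j₀ := Finset.mem_filter.mpr ⟨Finset.mem_univ _, hne⟩
        rw [hi₀, Finset.mem_singleton] at this
        exact (Finset.mem_erase.mp hi).1 this
      exact add_left_cancel (h.trans h0.symm)
  have h1 : ∑ _j ∈ Finset.univ.erase j₂, 1 ≤ ∑ j ∈ Finset.univ.erase j₂, (col j).card :=
    Finset.sum_le_sum fun j _ => hge j
  rw [Finset.sum_const, smul_eq_mul, mul_one, Finset.card_erase_of_mem (Finset.mem_univ _),
    Finset.card_univ] at h1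
  rw [← Finset.add_sum_erase _ _ (Finset.mem_univ j₂)] at hfew
  omega

end CfsgLib.OddChar
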