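import Mathlib.Data.Int.Interval
import Mathlib.Data.Fintype.Pi
import Mathlib.Tactic

/-!
# The finite check for the configuration `{a,p,P}, {a,q,Q}, {a,r,R}, {p,q,r}`

`core`: no four vectors of norm three, pairwise of inner product one, are dual to it.
-/

namespace CfsgLib.OddChar.GridCore

/-- Coordinates at the seven points of the configuration. -/
structure Pt where
  a : ℤ
  p : ℤ
  P : ℤ
  q : ℤ
  Q : ℤ
  r : ℤ
  R : ℤ
  deriving DecidableEq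

/-- The pairing with the `l`-th vector. -/
def row (t : Pt) : Fin 4 → ℤ := ![t.a + t.p + t.P, t.a + t.q + t.Q, t.a + t.r + t.R, t.p + t.q + t.r]

/-- The norm on the support of the `l`-th vector. -/
def rowSq (t : Pt) : Fin 4 → ℤ :=
  ![t.a * t.a + t.p * t.p + t.P * t.P, t.a * t.a + t.q * t.q + t.Q * t.Q,
    t.a * t.a + t.r * t.r + t.R * t.R, t.p * t.p + t.q * t.q + t.r * t.r]

/-- The inner product on the seven points. -/
def dot (t s : Pt) : ℤ :=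
  t.a * s.a + t.p * s.p + t.P * s.P + t.q * s.q + t.Q * s.Q + t.r * s.r + t.R * s.R

/-- The restriction of a vector dual to the `j`-th member of the configuration. -/
def Dual (j : Fin 4) (t : Pt) : Prop :=
  (∀ l, row t l = if j = l then 1 else 0) ∧ rowSq t j = 1 ∧ dot t t ≤ 3

instance (j : Fin 4) (t : Pt) : Decidable (Dual j t) :=
  inferInstanceAs (Decidable (_ ∧ _ ∧ _))

/-- Two restrictions extend to vectors of inner product one. -/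
def Compat (t s : Pt) : Prop :=
  1 - dot t s ≤ 3 - dot t t ∧ dot t s - 1 ≤ 3 - dot t t ∧
    1 - dot t s ≤ 3 - dot s s ∧ dot t s - 1 ≤ 3 - dot s s

instance (t s : Pt) : Decidable (Compat t s) := inferInstanceAs (Decidable (_ ∧ _ ∧ _ ∧ _))

/-- The list of restrictions dual to the `j`-th member. -/
def cand : Fin 4 → List Pt :=
  ![[⟨0, 0, 1, 0, 0, 0, 0⟩, ⟨0, 1, 0, -1, 1, 0, 0⟩, ⟨0, 1, 0, 0, 0, -1, 1⟩, ⟨1, 0, 0, 0, -1, 0, -1⟩],
    [⟨0, -1, 1, 1, 0, 0, 0⟩, ⟨0, 0, 0, 0, 1, 0, 0⟩, ⟨0, 0, 0, 1, 0, -1, 1⟩, ⟨1, 0, -1, 0, 0, 0, -1⟩],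
    [⟨0, -1, 1, 0, 0, 1, 0⟩, ⟨0, 0, 0, -1, 1, 1, 0⟩, ⟨0, 0, 0, 0, 0, 0, 1⟩, ⟨1, 0, -1, 0, -1, 0, 0⟩],
    [⟨0, 0, 0, 0, 0, 1, -1⟩, ⟨0, 0, 0, 1, -1, 0, 0⟩, ⟨0, 1, -1, 0, 0, 0, 0⟩]]

theorem dual_mem_aux : ∀ j : Fin 4, ∀ a ∈ [(-1 : ℤ), 0, 1], ∀ p ∈ [(-1 : ℤ), 0, 1],
    ∀ q ∈ [(-1 : ℤ), 0, 1], ∀ r ∈ [(-1 : ℤ), 0, 1],
    let t : Pt := ⟨a, p, (if j = 0 then 1 else 0) - a - p, q, (if j = 1 then 1 else 0) - a - q, r,
      (if j = 2 then 1 else 0) - a - r⟩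
    Dual j t → t ∈ cand j := by
  decide +kernel

theorem dual_mem {j : Fin 4} {t : Pt} (h : Dual j t) : t ∈ cand j := by
  obtain ⟨a, p, P, q, Q, r, R⟩ := t
  have hN := h.2.2
  simp only [dot] at hN
  have hb : ∀ x : ℤ, x * x ≤ 3 → x ∈ [(-1 : ℤ), 0, 1] := fun x hx => by
    have h1 : -1 ≤ x := by nlinarith
    have h2 : x ≤ 1 := by nlinarith
    interval_cases x <;> simp
  have h0 := h.1 0
  have h1 := h.1 1
  have h2 := h.1 2
  simp only [row, Matrix.cons_val_zero, Matrix.cons_val_one, Matrix.cons_val] at h0 h1 h2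
  have hP : P = (if j = 0 then 1 else 0) - a - p := by rw [← h0]; ring
  have hQ : Q = (if j = 1 then 1 else 0) - a - q := by rw [← h1]; ring
  have hR : R = (if j = 2 then 1 else 0) - a - r := by rw [← h2]; ring
  subst hP hQ hR
  exact dual_mem_aux j a (hb a (by nlinarith)) p (hb p (by nlinarith)) q (hb q (by nlinarith)) r
    (hb r (by nlinarith)) h

theorem core_aux : ∀ t₀ ∈ cand 0, ∀ t₁ ∈ cand 1, ∀ t₂ ∈ cand 2, ∀ t₃ ∈ cand 3,
    ¬ (Compat t₀ t₁ ∧ Compat t₀ t₂ ∧ Compat t₀ t₃ ∧ Compat t₁ t₂ ∧ Compat t₁ t₃ ∧ Compat t₂ t₃) := by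
  decide +kernel

theorem core (t : Fin 4 → Pt) (hd : ∀ j, Dual j (t j)) (hc : ∀ j l, j ≠ l → Compat (t j) (t l)) :
    False :=
  core_aux _ (dual_mem (hd 0)) _ (dual_mem (hd 1)) _ (dual_mem (hd 2)) _ (dual_mem (hd 3))
    ⟨hc _ _ (by decide), hc _ _ (by decide), hc _ _ (by decide), hc _ _ (by decide),
      hc _ _ (by decide), hc _ _ (by decide)⟩

end CfsgLib.OddChar.GridCore
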