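import Cfsg.Agent.Lib.OddChar.Frob

/-!
# Coherence of the characters of a nilpotent kernel

`sum_large`, `coherent_kernel`.
-/

namespace CfsgLib.OddChar.Above

open CfsgLib.Char CfsgLib.CharNormal CfsgLib.OddChar.Coh

variable {L : Type*} [Group L] [Fintype L] {G : Type*} [Group G] [Fintype G]

open Classical in
/-- The weights of the members of degree at least `e p^k` add up to `e` times a multiple of `p^{2k}`. -/
theorem sum_large (K : Subgroup L) [K.Normal] (T : Finset (L → ℂ))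
    (hT : ↑T ⊆ Cfsg.inducedIrrAbove K ⊥) {p k : ℕ} (hp : p.Prime)
    (hdeg : ∀ φ ∈ T, ∃ l, deg φ = K.index * p ^ l) :
    ∃ J : ℕ, ∑ φ ∈ T.filter (fun φ => ¬ deg φ < K.index * p ^ k), wt φ =
      (K.index : ℝ) * ((p ^ (2 * k) * J : ℕ) : ℝ) := by
  have hex : ∀ φ ∈ T.filter (fun φ => ¬ deg φ < K.index * p ^ k), ∃ J : ℕ,
      wt φ = (K.index : ℝ) * ((p ^ (2 * k) * J : ℕ) : ℝ) := by
    intro φ hφ
    obtain ⟨hφT, hge⟩ := Finset.mem_filter.mp hφ
    obtain ⟨l, hl⟩ := hdeg φ hφT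
    obtain ⟨j, -, hj⟩ := wt_above_dvd K (hT hφT) hl
    have hkl : k ≤ l := by
      by_contra hlk
      rw [hl] at hge
      exact hge (Nat.mul_lt_mul_of_pos_left (Nat.pow_lt_pow_right hp.one_lt (not_le.mp hlk))
        (Nat.pos_of_ne_zero K.index_ne_zero_of_finite))
    refine ⟨p ^ (2 * (l - k)) * j, ?_⟩
    rw [hj, ← pow_mul, ← mul_assoc, ← pow_add]
    congr 4
    omega
  choose J hJ using hex
  refine ⟨∑ φ ∈ (T.filter (fun φ => ¬ deg φ < K.index * p ^ k)).attach, J φ φ.2, ?_⟩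
  rw [← Finset.sum_attach, Finset.mul_sum, Nat.cast_sum, Finset.mul_sum]
  exact Finset.sum_congr rfl fun φ _ => hJ φ φ.2

/-- Coherence of `S(M)` outside the exceptional small chief factor. -/
theorem coherent_kernel (K : Subgroup L) [K.Normal] (hsolv : Group.IsSolvable K)
    {τ : (L → ℂ) → (G → ℂ)} {R : (L → ℂ) → Finset (G → ℂ)}
    (hS : Cfsg.IsCoherenceSystem (Cfsg.inducedIrrAbove K ⊥) τ R) (hodd : Odd (Nat.card L))
    (M : Subgroup L) [M.Normal] (hMK : M ≤ K) [(M.subgroupOf K).Normal]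
    (hnil : Group.IsNilpotent (↥K ⧸ M.subgroupOf K)) (H₁ : Subgroup L) (hH₁ : H₁ = ⁅K, K⁆ ⊔ M)
    (hH₁K : H₁ < K) (hKL : K < ⊤)
    (hfrob : ∀ k ∈ K, k ∉ H₁ → ∀ x : L, x * k * x⁻¹ * k⁻¹ ∈ H₁ → x ∈ K)
    (hgood : (∃ N : Subgroup L, N.Normal ∧ H₁ < N ∧ N < K) ∨ 4 * K.index ^ 2 + 1 < H₁.relIndex K ∨
      (¬ ∃ p m : ℕ, p.Prime ∧ M.relIndex K = p ^ m) ∨ ⁅K, K⁆ ≤ M ∨
      (∃ p m : ℕ, p.Prime ∧ M.relIndex K = p ^ m ∧ K.index ∣ p - 1)) :
    Cfsg.IsCoherent (Cfsg.inducedIrrAbove K M) {1}ᶜ τ := by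
  classical
  have := Fintype.ofFinite K
  subst hH₁
  set H₁ := ⁅K, K⁆ ⊔ M with hH₁
  have hcomm : ⁅K, K⁆ ≤ H₁ := le_sup_left
  have hMH : M ≤ H₁ := le_sup_right
  have hbase := coherent_above_linear K hsolv hS H₁ hcomm hH₁K
  have hbig : 4 * K.index ^ 2 + 1 < H₁.relIndex K →
      Cfsg.IsCoherent (Cfsg.inducedIrrAbove K M) {1}ᶜ τ :=
    descend_nilpotent K hsolv hS M H₁ K hMH hH₁K.le le_rfl hnil hbase
  have hN : (∃ N : Subgroup L, N.Normal ∧ H₁ < N ∧ N < K) →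
      Cfsg.IsCoherent (Cfsg.inducedIrrAbove K M) {1}ᶜ τ := by
    rintro ⟨N, hNn, h1, h2⟩
    refine hbig ?_
    have a := two_index_lt K H₁ H₁ N le_rfl h1 h2.le hcomm hodd hfrob
    have b := two_index_lt K H₁ N K h1.le h2 le_rfl hcomm hodd hfrob
    rw [← Subgroup.relIndex_mul_relIndex H₁ N K h1.le h2.le]
    have he : 1 ≤ K.index := Nat.pos_of_ne_zero K.index_ne_zero_of_finite
    nlinarith [Nat.mul_le_mul a b]
  rcases hgood with h | h | h | h | ⟨p, m, hp, hm, hdvd⟩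
  · exact hN h
  · exact hbig h
  · -- two primes
    have h1 : M.relIndex K ≠ 1 := fun e =>
      (hMH.trans_lt hH₁K).not_ge (Subgroup.relIndex_eq_one.mp e)
    obtain ⟨q, hq, hqd⟩ := Nat.exists_prime_and_dvd h1
    have h0 : M.relIndex K ≠ 0 := (M.subgroupOf K).index_ne_zero_of_finite
    obtain ⟨r, hr, hrd, hne⟩ : ∃ r, r.Prime ∧ r ∣ M.relIndex K ∧ q ≠ r := by
      by_contra hcon
      push Not at hcon
      exact h ⟨q, _, hq, Nat.eq_prime_pow_of_unique_prime_dvd h0 fun {d} hd hdd => (hcon d hd hdd).symm⟩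
    exact hN (exists_between_of_two_primes K H₁ hH₁K.le hcomm hq hr hne
      (prime_dvd_relIndex K M hMK hnil hq hqd) (prime_dvd_relIndex K M hMK hnil hr hrd))
  · exact coherent_above_linear K hsolv hS M h (hMH.trans_lt hH₁K)
  -- prime power
  have he1 : K.index ≠ 1 := fun e => hKL.ne (Subgroup.index_eq_one.mp e)
  have hodde : Odd K.index := hodd.of_dvd_nat (Subgroup.index_dvd_card K)
  have hm0 : m ≠ 0 := fun e => (hMH.trans_lt hH₁K).not_ge
    (Subgroup.relIndex_eq_one.mp (by rw [hm, e, pow_zero]))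
  have hp2 : 2 * K.index + 1 ≤ p := by
    have hoddp : Odd p := by
      refine Odd.of_dvd_nat (n := p ^ m) ?_ (dvd_pow_self p hm0)
      rw [← hm]
      exact hodd.of_dvd_nat ((Subgroup.index_dvd_card _).trans (Subgroup.card_subgroup_dvd_card K))
    obtain ⟨w, hw⟩ := hdvd
    obtain ⟨u, hu⟩ := hodde
    obtain ⟨v, hv⟩ := hoddp
    have := hp.two_le
    rcases Nat.even_or_odd w with ⟨j, hj⟩ | ⟨j, hj⟩
    · rcases Nat.eq_zero_or_pos j with rfl | hj0
      · subst hj; omega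
      · have := Nat.mul_le_mul_left K.index (show 2 ≤ w by omega); omega
    · exfalso
      have : p - 1 = 2 * (2 * u * j + u + j) + 1 := by rw [hw, hu, hj]; ring
      omega
  obtain ⟨χ₁, hχ₁, hd₁⟩ := exists_deg_index K M hsolv (hMH.trans_lt hH₁K)
  set T := (above_finite K M).toFinset with hT
  have hmemT : ∀ {φ}, φ ∈ T ↔ φ ∈ Cfsg.inducedIrrAbove K M := fun {φ} => Set.Finite.mem_toFinset _
  have hTS : ↑T ⊆ Cfsg.inducedIrrAbove K ⊥ := fun φ h => above_le_bot K M (hmemT.mp h)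
  have hdeg : ∀ φ ∈ T, ∃ l, deg φ = K.index * p ^ l := fun φ h =>
    (deg_above_prime_pow K M hp hm (hmemT.mp h)).imp fun _ h => h.2
  have hcoh := coherent_chain hS T hTS (fun φ h => hmemT.mpr (above_conj K M (hmemT.mp h)))
    (χ₁ := χ₁) (hmemT.mpr hχ₁) (fun φ h => by
      obtain ⟨l, hl⟩ := hdeg φ h
      rw [hd₁, hl]
      exact ⟨Nat.le_mul_of_pos_right _ (by have := hp.pos; positivity), Dvd.intro _ rfl⟩)
    (fun χ hχ hlt => ?_)
  · rwa [hT, Set.Finite.coe_toFinset] at hcoh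
  obtain ⟨k, hkm, hk⟩ := deg_above_prime_pow K M hp hm (hmemT.mp hχ)
  rw [hd₁, hk] at hlt ⊢
  obtain ⟨J, hJ⟩ := sum_large K T hTS (k := k) hp hdeg
  have hsum := Finset.sum_filter_add_sum_filter_not T (fun φ => deg φ < K.index * p ^ k) wt
  rw [hT, sum_wt_above K M, ← hT, hJ, hm] at hsum
  have he : (0 : ℝ) < (K.index : ℝ) := by exact_mod_cast Nat.pos_of_ne_zero K.index_ne_zero_of_finite
  set A := ∑ φ ∈ T.filter (fun φ => deg φ < K.index * p ^ k), wt φ
  set q := p ^ k with hq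
  have hk1 : k ≠ 0 := fun e => by rw [hq, e, pow_zero, mul_one] at hlt; exact lt_irrefl _ hlt
  have hpos : 0 < A := by
    refine lt_of_lt_of_le ?_ (Finset.single_le_sum (fun φ _ => wt_nonneg φ)
      (Finset.mem_filter.mpr ⟨hmemT.mpr hχ₁, by rw [hd₁]; exact hlt⟩))
    obtain ⟨j, hj0, hj⟩ := wt_above_dvd K (above_le_bot K M hχ₁) (n := 1) (by rw [mul_one, hd₁])
    rw [hj]
    exact mul_pos he (by exact_mod_cast (by positivity : 0 < 1 ^ 2 * j))
  rw [pow_mul', ← hq] at hsum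
  have hlt1 : ((q ^ 2 * J + 1 : ℕ) : ℝ) < ((p ^ m : ℕ) : ℝ) := by
    push_cast at hsum ⊢
    by_contra hcon
    push Not at hcon
    nlinarith [mul_le_mul_of_nonneg_left hcon he.le]
  have hlt2 : q ^ 2 * J + 1 < p ^ m := by exact_mod_cast hlt1
  -- the difference is a positive multiple of `q²` less one
  have hqd : q ∣ p ^ m := pow_dvd_pow p hkm
  have hkey : q ^ 2 * (J + 1) ≤ p ^ m := by
    rcases le_or_gt (2 * k) m with h2 | h2
    · obtain ⟨c, hc⟩ : q ^ 2 ∣ p ^ m := by rw [hq, ← pow_mul']; exact pow_dvd_pow p h2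
      rw [hc] at hlt2 ⊢
      exact Nat.mul_le_mul_left _ (by
        by_contra hJc
        have := Nat.mul_le_mul_left (q ^ 2) (show c ≤ J by omega)
        omega)
    · exfalso
      obtain ⟨j, hj0, hj⟩ := wt_above_dvd K (hTS hχ) hk
      have hJ0 : J = 0 := by
        by_contra hne
        have : p ^ m < q ^ 2 := by rw [hq, ← pow_mul']; exact Nat.pow_lt_pow_right hp.one_lt h2
        have := Nat.le_mul_of_pos_right (q ^ 2) (Nat.pos_of_ne_zero hne)
        omega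
      have hle : wt χ ≤ ∑ φ ∈ T.filter (fun φ => ¬ deg φ < K.index * q), wt φ :=
        Finset.single_le_sum (fun φ _ => wt_nonneg φ)
          (Finset.mem_filter.mpr ⟨hχ, by rw [hk]; exact lt_irrefl _⟩)
      rw [hJ, hj, hJ0, mul_zero, Nat.cast_zero, mul_zero] at hle
      have : (0 : ℝ) < (K.index : ℝ) * ((q ^ 2 * j : ℕ) : ℝ) :=
        mul_pos he (by exact_mod_cast (by have := hp.pos; positivity : 0 < q ^ 2 * j))
      linarith
  have hqp : p ≤ q := Nat.le_self_pow hk1 p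
  have hkey' : (q : ℝ) ^ 2 * ((J : ℝ) + 1) ≤ ((p ^ m : ℕ) : ℝ) := by exact_mod_cast hkey
  have hqe : (2 * (K.index : ℝ) + 1) ≤ q := by exact_mod_cast hp2.trans hqp
  push_cast at hsum hkey' ⊢
  have h3 : 2 * (K.index : ℝ) * q < (q : ℝ) ^ 2 - 1 := by nlinarith
  nlinarith [mul_lt_mul_of_pos_left h3 he, mul_le_mul_of_nonneg_left hkey' he.le]

end CfsgLib.OddChar.Above
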