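import Cfsg.Agent.S0205

/-!
# No minimal simple group of odd order exists
-/

set_option autoImplicit false

namespace CfsgLib.OddChar.NoMinSimple

universe u

/-- A consequence of the odd order theorem. -/
theorem false_of_minSimple {G : Type u} [Group G] (hG : Cfsg.IsMinSimpleOddOrder G) : False := by
  haveI : Finite G := Nat.finite_of_card_ne_zero hG.1.pos.ne'
  haveI := hG.2.1
  exact hG.2.2.1 ⟨⟨IsSimpleGroup.comm_iff_isSolvable.mpr (Cfsg.Agent.S0205.result hG.1)⟩⟩

end CfsgLib.OddChar.NoMinSimple
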