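import Cfsg.Agent.Lib.OddChar.TypeICoherence
import Cfsg.Agent.S1527
import Mathlib.GroupTheory.Sylow
import Mathlib.GroupTheory.Nilpotent

/-!
# Not all maximal subgroups are of Type I

`not_all_typeI`: S1541 from the statements it needs, given as hypotheses:
* `TypeIFrobProp` (S1540), `TameAProp` (S1391 for `A(M)`), `NoPartitionProp` (S1526);
* `SigmaPrimesProp` (S1378), `SigmaHallProp` (S1350), and `SigmaTypeIProp`
  (`sigmaCore_eq_of_typeI`: from S1351, S1352, S1357, S1380).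
-/

set_option autoImplicit false

namespace CfsgLib.OddChar.NotAllTypeI

universe u

section Props

variable (G : Type u) [Group G]

/-- S1540. -/
def TypeIFrobProp : Prop :=
  ∀ M : Subgroup G, IsCoatom M → CfsgLib.OddLocal.S15.IsTypeICore M → ∀ x ∈ Cfsg.fittingHallOf M, x ≠ 1 →
    M ⊓ Subgroup.centralizer ({x} : Set G) ≤ Cfsg.fittingHallOf M

/-- The part of S1391 that concerns fusion and centralisers in `A(M)`. -/
def TameAProp : Prop :=
  ∀ M : Subgroup G, IsCoatom M →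
    (∀ x ∈ CfsgLib.OddLocal.S15.typeACore M, ∀ g : G, g * x * g⁻¹ ∈ CfsgLib.OddLocal.S15.typeACore M →
      ∃ m ∈ M, m * x * m⁻¹ = g * x * g⁻¹) ∧
    ∀ x ∈ CfsgLib.OddLocal.S15.typeACore M, ¬ Subgroup.centralizer ({x} : Set G) ≤ M →
      ∃ L : Subgroup G, IsCoatom L ∧ Subgroup.centralizer ({x} : Set G) ≤ L ∧
        x ∈ CfsgLib.OddLocal.S15.typeACore L ∧ x ∉ Cfsg.typeA1 L

/-- The first part of S1378. -/
def SigmaPrimesProp : Prop :=
  ∀ p : ℕ, p.Prime → p ∣ Nat.card G → ∃ M : Subgroup G, IsCoatom M ∧ p ∈ Cfsg.sigma M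

/-- The first part of S1350. -/
def SigmaHallProp : Prop :=
  ∀ M : Subgroup G, IsCoatom M → Cfsg.IsPiHallOf (Cfsg.sigma M) (Cfsg.sigmaCore M) M

/-- For Type I the two kernels agree. -/
def SigmaTypeIProp : Prop :=
  ∀ M : Subgroup G, IsCoatom M → CfsgLib.OddLocal.S15.IsTypeICore M → Cfsg.fittingHallOf M = Cfsg.sigmaCore M

/-- S1526. -/
def NoPartitionProp : Prop :=
  ∀ (ι : Type u) [Fintype ι], 2 ≤ Fintype.card ι → ∀ L H : ι → Subgroup G,
    (∀ i, H i < L i) → (∀ i, H i ≠ ⊥) → (∀ i, ∀ x ∈ L i, ∀ h ∈ H i, x * h * x⁻¹ ∈ H i) →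
    (∀ i, ∀ h ∈ H i, h ≠ 1 → L i ⊓ Subgroup.centralizer ({h} : Set G) ≤ H i) →
    (∀ i j, i ≠ j → Nat.Coprime (Nat.card (H i)) (Nat.card (H j))) →
    (∀ i, Cfsg.IsTISubset (H i : Set G) ∧ Subgroup.normalizer (H i : Set G) = L i) →
    (∀ g : G, g ≠ 1 → ∃ i, ∃ x : G, x * g * x⁻¹ ∈ H i) → False

end Props

variable {G : Type u} [Group G] [Finite G]

/-- `SigmaTypeIProp` from S1351, S1352, S1357 and S1380. -/
theorem sigmaCore_eq_of_typeI
    (h51 : ∀ M : Subgroup G, IsCoatom M → (∃ K : Subgroup G, Cfsg.IsPiHallOf (Cfsg.kappa M) K M) ∧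
      ∀ K : Subgroup G, Cfsg.IsPiHallOf (Cfsg.kappa M) K M → IsCyclic K)
    (h52 : ∀ M : Subgroup G, IsCoatom M → ∀ K : Subgroup G, IsCyclic K →
      Cfsg.IsPiHallOf (Cfsg.kappa M) K M → ∃ U : Subgroup G, Cfsg.IsSigmaDecomposition M K U)
    (h57 : ∀ M : Subgroup G, IsCoatom M → ∀ K U : Subgroup G, Cfsg.IsSigmaDecomposition M K U →
      Cfsg.fittingHallOf M ≠ Cfsg.sigmaCore M → U = ⊥)
    (h80 : ∀ M : Subgroup G, IsCoatom M → ∀ K U : Subgroup G, Cfsg.IsSigmaDecomposition M K U →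
      (CfsgLib.OddLocal.S15.IsTypeICore M ↔ (K = ⊥ ∧ U ≠ ⊥))) : SigmaTypeIProp G := by
  intro M hM hI
  obtain ⟨⟨K, hK⟩, hcyc⟩ := h51 M hM
  obtain ⟨U, hKU⟩ := h52 M hM K (hcyc K hK) hK
  by_contra hne
  exact ((h80 M hM K U hKU).mp hI).2 (h57 M hM K U hKU hne)

section Main

/-- A nilpotent subgroup, not trivial, has a nontrivial central element. -/
theorem exists_central {H : Subgroup G} (hnil : Group.IsNilpotent H) (hne : H ≠ ⊥) :
    ∃ z ∈ H, z ≠ 1 ∧ ∀ h ∈ H, z * h = h * z := by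
  haveI := hnil
  haveI : Nontrivial H := (Subgroup.nontrivial_iff_ne_bot H).mpr hne
  haveI : Nontrivial (Subgroup.center H) :=
    (Subgroup.nontrivial_iff_ne_bot _).mpr (Group.IsNilpotent.center_ne_bot H)
  obtain ⟨⟨z, hz⟩, hz1⟩ := exists_ne (1 : Subgroup.center H)
  exact ⟨(z : G), z.2, fun e => hz1 (Subtype.ext (Subtype.ext e)), fun h hh =>
    (congrArg Subtype.val (Subgroup.mem_center_iff.mp hz ⟨h, hh⟩)).symm⟩

theorem conj_mem_centralizer {g z x : G} (h : x ∈ Subgroup.centralizer ({z} : Set G)) :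
    g * x * g⁻¹ ∈ Subgroup.centralizer ({g * z * g⁻¹} : Set G) := by
  rw [Subgroup.mem_centralizer_singleton_iff] at h ⊢
  calc g * x * g⁻¹ * (g * z * g⁻¹) = g * (x * z) * g⁻¹ := by group
    _ = g * (z * x) * g⁻¹ := by rw [h]
    _ = g * z * g⁻¹ * (g * x * g⁻¹) := by group

/-- The largest normal nilpotent Hall subgroup is equivariant. -/
theorem fittingHall_map {A B : Type u} [Group A] [Group B] (e : A ≃* B) :
    (Cfsg.fittingHall A).map e.toMonoidHom = Cfsg.fittingHall B := by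
  have hstep : ∀ {X Y : Type u} [Group X] [Group Y] (f : X ≃* Y),
      (Cfsg.fittingHall X).map f.toMonoidHom ≤ Cfsg.fittingHall Y := by
    intro X Y _ _ f
    rw [Subgroup.map_le_iff_le_comap]
    refine sSup_le fun N hN => ?_
    rw [← Subgroup.map_le_iff_le_comap]
    refine le_sSup ⟨hN.1.map _ f.surjective, ?_, ?_⟩
    · exact CfsgLib.Cores.isNilpotent_map hN.2.1 _
    · rw [Subgroup.index_map_of_bijective (f := f.toMonoidHom) f.bijective,
        Subgroup.card_map_of_injective (f := f.toMonoidHom) f.injective]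
      exact hN.2.2
  exact le_antisymm (hstep e) fun b hb =>
    ⟨e.symm b, hstep e.symm ⟨b, hb, rfl⟩, e.apply_symm_apply b⟩

omit [Finite G] in
theorem fittingHallOf_map_conj (M : Subgroup G) (a : G) :
    Cfsg.fittingHallOf (M.map (MulAut.conj a).toMonoidHom) =
      (Cfsg.fittingHallOf M).map (MulAut.conj a).toMonoidHom := by
  let e : M ≃* M.map (MulAut.conj a).toMonoidHom :=
    M.equivMapOfInjective _ (MulAut.conj a).injective
  unfold Cfsg.fittingHallOf
  rw [← fittingHall_map e, Subgroup.map_map, Subgroup.map_map]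
  congr 1

/-- S1541 from the statements it needs. -/
theorem not_all_typeI (hG : Cfsg.IsMinSimpleOddOrder G) (hFrob : TypeIFrobProp G)
    (hTame : TameAProp G) (hPrimes : SigmaPrimesProp G) (hHall : SigmaHallProp G)
    (hSig : SigmaTypeIProp G) (hPart : NoPartitionProp G) :
    ∃ M : Subgroup G, IsCoatom M ∧ ¬ CfsgLib.OddLocal.S15.IsTypeICore M := by
  classical
  by_contra hcon
  push Not at hcon
  haveI := hG.2.1
  have := Fintype.ofFinite G
  set H : Subgroup G → Subgroup G := Cfsg.fittingHallOf with hH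
  have hne : ∀ M, IsCoatom M → H M ≠ ⊥ := fun M hM e =>
    (hcon M hM).1.2.2.1 ((Subgroup.map_eq_bot_iff_of_injective _ M.subtype_injective).mp e)
  have hnil : ∀ M, Group.IsNilpotent (H M) := fun M =>
    CfsgLib.Cores.isNilpotent_map CfsgLib.OddLocal.fittingHall_spec.2.1 _
  have hle : ∀ M, H M ≤ M := fun M => CfsgLib.OddLocal.fittingHallOf_le M
  -- centralisers
  have hcent : ∀ M, IsCoatom M → ∀ x ∈ H M, x ≠ 1 →
      Subgroup.centralizer ({x} : Set G) ≤ M := by
    intro M hM x hx hx1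
    have hxA : x ∈ CfsgLib.OddLocal.S15.typeACore M := by
      rw [TypeICoherence.typeA_eq (hcon M hM) (hFrob M hM (hcon M hM))]
      exact ⟨hx, hx1⟩
    by_contra hnle
    obtain ⟨L, hL, -, hxL, hxL1⟩ := (hTame M hM).2 x hxA hnle
    rw [TypeICoherence.typeA_eq (hcon L hL) (hFrob L hL (hcon L hL))] at hxL
    refine hxL1 ⟨?_, hxL.2⟩
    unfold Cfsg.typeCore
    split_ifs with h34
    · obtain ⟨W₁, U, W₂, hP, -⟩ | ⟨W₁, U, W₂, hP, -⟩ := h34
      · exact hP.fitting_le (CfsgLib.OddLocal.fittingHallOf_le_fittingOf L hxL.1)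
      · exact hP.fitting_le (CfsgLib.OddLocal.fittingHallOf_le_fittingOf L hxL.1)
    · exact hxL.1
  have hcentH : ∀ M, IsCoatom M → ∀ x ∈ H M, x ≠ 1 →
      Subgroup.centralizer ({x} : Set G) ≤ H M := fun M hM x hx hx1 y hy =>
    hFrob M hM (hcon M hM) x hx hx1 ⟨hcent M hM x hx hx1 hy, hy⟩
  have hnorm : ∀ M, IsCoatom M → Subgroup.normalizer (H M : Set G) = M := fun M hM =>
    TypeICoherence.normalizer_fittingHallOf hG hM (hne M hM)
  -- a shared element determines the kernel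
  have hkey : ∀ M N, IsCoatom M → IsCoatom N → ∀ g x, x ∈ H M → x ≠ 1 → g * x * g⁻¹ ∈ H N →
      ∀ y ∈ H M, g * y * g⁻¹ ∈ H N := by
    intro M N hM hN g x hx hx1 hgx y hy
    obtain ⟨z, hz, hz1, hzc⟩ := exists_central (hnil M) (hne M hM)
    have hgz : g * z * g⁻¹ ∈ H N := hcentH N hN _ hgx (fun e => hx1 (conj_eq_one_iff.mp e))
      (conj_mem_centralizer (Subgroup.mem_centralizer_singleton_iff.mpr (hzc x hx)))
    exact hcentH N hN _ hgz (fun e => hz1 (conj_eq_one_iff.mp e))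
      (conj_mem_centralizer (Subgroup.mem_centralizer_singleton_iff.mpr (hzc y hy).symm))
  have hkey' : ∀ M N, IsCoatom M → IsCoatom N → ∀ g x, x ∈ H M → x ≠ 1 → g * x * g⁻¹ ∈ H N →
      N = M.map (MulAut.conj g).toMonoidHom := by
    intro M N hM hN g x hx hx1 hgx
    have h1 := hkey M N hM hN g x hx hx1 hgx
    have h2 := hkey N M hN hM g⁻¹ (g * x * g⁻¹) hgx (fun e => hx1 (conj_eq_one_iff.mp e))
      (by simpa [mul_assoc] using hx)
    ext n
    rw [← hnorm N hN, Subgroup.mem_normalizer_iff]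
    have hiff : ∀ y, y ∈ H N ↔ g⁻¹ * y * g ∈ H M := fun y =>
      ⟨fun hy => by simpa using h2 y hy, fun hy => by
        simpa [mul_assoc] using h1 _ hy⟩
    simp only [Subgroup.mem_map, MulEquiv.coe_toMonoidHom, MulAut.conj_apply]
    constructor
    · intro h
      refine ⟨g⁻¹ * n * g, ?_, by group⟩
      rw [← hnorm M hM, Subgroup.mem_normalizer_iff]
      intro w
      show w ∈ H M ↔ _ ∈ H M
      have h3 := h (g * w * g⁻¹)
      simp only [SetLike.mem_coe, hiff] at h3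
      simpa [mul_assoc] using h3
    · rintro ⟨m, hm, rfl⟩ w
      rw [← hnorm M hM, Subgroup.mem_normalizer_iff] at hm
      simp only [SetLike.mem_coe, hiff]
      have h3 := hm (g⁻¹ * w * g)
      simpa [mul_assoc] using h3
  -- every prime divides some kernel
  have hprime : ∀ p : ℕ, p.Prime → p ∣ Nat.card G →
      ∃ M, IsCoatom M ∧ p ∣ Nat.card (H M) := by
    intro p hp hpG
    obtain ⟨M, hM, hpM⟩ := hPrimes p hp hpG
    refine ⟨M, hM, ?_⟩
    obtain ⟨hσle, -, hσ⟩ := hHall M hM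
    show p ∣ Nat.card (Cfsg.fittingHallOf M)
    rw [hSig M hM (hcon M hM)]
    have h1 : p ∣ Nat.card M := hpM.2.1
    rw [← Subgroup.card_mul_index ((Cfsg.sigmaCore M).subgroupOf M),
      Nat.card_congr (Subgroup.subgroupOfEquivOfLe hσle).toEquiv] at h1
    exact (hp.dvd_mul.mp h1).resolve_right (hσ p hp hpM)
  -- an element of order `p` is conjugate into the kernel
  have hpinto : ∀ M, IsCoatom M → ∀ p : ℕ, p.Prime → p ∣ Nat.card (H M) → ∀ x : G,
      orderOf x = p → ∃ c : G, c * x * c⁻¹ ∈ H M := by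
    intro M hM p hp hpH x hx
    haveI := Fact.mk hp
    obtain ⟨y, hy⟩ := exists_prime_orderOf_dvd_card' p hpH
    have hy' : orderOf (y : G) = p := by rw [Subgroup.orderOf_coe, hy]
    have hpy : IsPGroup p (Subgroup.zpowers (y : G)) :=
      IsPGroup.of_card (n := 1) (by rw [Nat.card_zpowers, hy', pow_one])
    obtain ⟨Q, hQ⟩ := hpy.exists_le_sylow
    have hpx : IsPGroup p (Subgroup.zpowers x) :=
      IsPGroup.of_card (n := 1) (by rw [Nat.card_zpowers, hx, pow_one])
    obtain ⟨Q', hQ'⟩ := hpx.exists_le_sylow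
    obtain ⟨c, hc⟩ := MulAction.exists_smul_eq G Q' Q
    have hQne : (Q : Subgroup G) ≠ ⊥ := fun e => by
      have : (y : G) = 1 := Subgroup.mem_bot.mp (e ▸ hQ (Subgroup.mem_zpowers _))
      rw [this, orderOf_one] at hy'
      exact hp.ne_one hy'.symm
    obtain ⟨w, hw, hw1, hwc⟩ := exists_central (Q.2.isNilpotent) hQne
    have hyne : (y : G) ≠ 1 := fun e => by
      rw [e, orderOf_one] at hy'
      exact hp.ne_one hy'.symm
    have hwH : w ∈ H M := hcentH M hM _ y.2 hyne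
      (Subgroup.mem_centralizer_singleton_iff.mpr (hwc _ (hQ (Subgroup.mem_zpowers _))))
    refine ⟨c, hcentH M hM w hwH hw1
      (Subgroup.mem_centralizer_singleton_iff.mpr (hwc _ ?_).symm)⟩
    have : MulAut.conj c • x ∈ (c • Q' : Sylow p G) :=
      Subgroup.smul_mem_pointwise_smul _ _ _ (hQ' (Subgroup.mem_zpowers x))
    rw [hc] at this
    exact this
  -- classes of maximal subgroups
  let st : Setoid {M : Subgroup G // IsCoatom M} :=
    { r := fun M N => ∃ g : G, (N : Subgroup G) = (M : Subgroup G).map (MulAut.conj g).toMonoidHom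
      iseqv :=
        { refl := fun M => ⟨1, by ext x; simp⟩
          symm := fun {M N} ⟨g, hg⟩ => ⟨g⁻¹, by
            rw [hg, Subgroup.map_map]
            refine (M.1.map_id).symm.trans ?_
            congr 1
            ext z
            simp [mul_assoc]⟩
          trans := fun {M N P} ⟨g, hg⟩ ⟨g', hg'⟩ => ⟨g' * g, by
            rw [hg', hg, Subgroup.map_map]
            congr 1
            ext z
            simp [mul_assoc]⟩ } }
  let ι := Quotient st
  have := Fintype.ofFinite ι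
  let rep : ι → Subgroup G := fun i => (Quotient.out i).1
  have hrep : ∀ i, IsCoatom (rep i) := fun i => (Quotient.out i).2
  have hclass : ∀ M (hM : IsCoatom M), ∃ g : G,
      rep (Quotient.mk st ⟨M, hM⟩) = M.map (MulAut.conj g).toMonoidHom := fun M hM =>
    Quotient.exact (Quotient.out_eq (Quotient.mk st ⟨M, hM⟩)).symm
  have hcover : ∀ g : G, g ≠ 1 → ∃ i, ∃ x : G, x * g * x⁻¹ ∈ H (rep i) := by
    intro g hg
    obtain ⟨p, hp, hpg⟩ := Nat.exists_prime_and_dvd (fun h => hg (orderOf_eq_one_iff.mp h) :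
      orderOf g ≠ 1)
    haveI := Fact.mk hp
    set x := g ^ (orderOf g / p) with hx
    have hxo : orderOf x = p := orderOf_pow_orderOf_div (orderOf_pos g).ne' hpg
    obtain ⟨M, hM, hpM⟩ := hprime p hp (hxo ▸ orderOf_dvd_natCard x)
    obtain ⟨a, ha⟩ := hclass M hM
    have hMi : IsCoatom (rep (Quotient.mk st ⟨M, hM⟩)) := hrep _
    have hpi : p ∣ Nat.card (H (rep (Quotient.mk st ⟨M, hM⟩))) := by
      obtain ⟨y, hy⟩ := exists_prime_orderOf_dvd_card' p hpM
      have hym : a * (y : G) * a⁻¹ ∈ rep (Quotient.mk st ⟨M, hM⟩) := by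
        rw [ha]
        exact ⟨y, hle M y.2, rfl⟩
      haveI := hG.2.1
      obtain ⟨c, hc⟩ := hpinto M hM p hp hpM (a * (y : G) * a⁻¹)
        (by rw [← hy, ← Subgroup.orderOf_coe]
            exact (MulEquiv.orderOf_eq (MulAut.conj a) (y : G)))
      -- the conjugate kernel
      have h2 : H (rep (Quotient.mk st ⟨M, hM⟩)) = (H M).map (MulAut.conj a).toMonoidHom := by
        show Cfsg.fittingHallOf _ = _
        rw [ha]
        exact fittingHallOf_map_conj M a
      rw [h2, Subgroup.card_map_of_injective (MulAut.conj a).injective]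
      exact hpM
    obtain ⟨c, hc⟩ := hpinto _ hMi p hp hpi x hxo
    refine ⟨_, c, hcentH _ hMi _ hc (fun e => hp.ne_one ?_)
      (conj_mem_centralizer (Subgroup.mem_centralizer_singleton_iff.mpr ?_))⟩
    · rw [← hxo, conj_eq_one_iff.mp e, orderOf_one]
    · rw [hx]; exact (Commute.self_pow g _).eq
  have hTI : ∀ i, Cfsg.IsTISubset (H (rep i) : Set G) := by
    intro i g hg x hx hgx
    by_contra hx1
    apply hg
    rw [hnorm _ (hrep i)]
    have hA := TypeICoherence.typeA_eq (hcon _ (hrep i)) (hFrob _ (hrep i) (hcon _ (hrep i)))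
    obtain ⟨m, hm, hmx⟩ := (hTame _ (hrep i)).1 x (hA ▸ ⟨hx, hx1⟩) g
      (hA ▸ ⟨hgx, fun e => hx1 (conj_eq_one_iff.mp e)⟩)
    have h1 : m⁻¹ * g ∈ Subgroup.centralizer ({x} : Set G) := by
      rw [Subgroup.mem_centralizer_singleton_iff]
      calc m⁻¹ * g * x = m⁻¹ * (g * x * g⁻¹) * g := by group
        _ = x * (m⁻¹ * g) := by rw [← hmx]; group
    have h2 := mul_mem hm (hcent _ (hrep i) x hx hx1 h1)
    rwa [mul_inv_cancel_left] at h2
  have hcop : ∀ i j, i ≠ j → Nat.Coprime (Nat.card (H (rep i))) (Nat.card (H (rep j))) := by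
    intro i j hij
    refine Nat.coprime_of_dvd fun p hp h1 h2 => hij ?_
    haveI := Fact.mk hp
    obtain ⟨y, hy⟩ := exists_prime_orderOf_dvd_card' p h1
    have hy' : orderOf (y : G) = p := by rw [Subgroup.orderOf_coe, hy]
    obtain ⟨c, hc⟩ := hpinto _ (hrep j) p hp h2 y hy'
    have h3 := hkey' _ _ (hrep i) (hrep j) c y y.2
      (fun e => by rw [e, orderOf_one] at hy'; exact hp.ne_one hy'.symm) hc
    rw [← Quotient.out_eq i, ← Quotient.out_eq j]
    exact Quotient.sound ⟨c, h3⟩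
  have hlt : ∀ i, H (rep i) < rep i := fun i => lt_of_le_of_ne (hle _) fun e =>
    (hcon _ (hrep i)).1.2.2.2.1 (by
      rw [eq_top_iff]
      rintro m -
      exact TypeICoherence.mem_fittingHallOf_iff.mp (by
        show (m : G) ∈ H (rep i)
        rw [e]; exact m.2))
  have hnontriv : Nontrivial G := IsSimpleGroup.toNontrivial
  have hι : 2 ≤ Fintype.card ι := by
    by_contra hlt2
    have hsub : Subsingleton ι := Fintype.card_le_one_iff_subsingleton.mp (by omega)
    obtain ⟨g₀, hg₀⟩ := exists_ne (1 : G)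
    obtain ⟨i, -⟩ := hcover g₀ hg₀
    have hcnt := Cfsg.Agent.S1527.result (fun i => H (rep i))
      hcop hTI hcover
    rw [Finset.sum_eq_single i (fun j _ h => absurd (Subsingleton.elim j i) h) (by simp),
      hnorm _ (hrep i), ← Subgroup.card_mul_index (rep i)] at hcnt
    have h1 : Nat.card (H (rep i)) < Nat.card (rep i) := Set.ncard_lt_ncard (hlt i) (Set.toFinite _)
    have h2 : 0 < (rep i).index := Nat.pos_of_ne_zero Subgroup.index_ne_zero_of_finite
    have h3 : 0 < Nat.card (H (rep i)) := Nat.card_pos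
    obtain ⟨k, hk⟩ : ∃ k, Nat.card (rep i) = Nat.card (H (rep i)) + 1 + k :=
      ⟨_, (Nat.add_sub_cancel' h1).symm⟩
    obtain ⟨a, ha⟩ : ∃ a, Nat.card (H (rep i)) = a + 1 := ⟨_, (Nat.succ_pred_eq_of_pos h3).symm⟩
    obtain ⟨b, hb⟩ : ∃ b, (rep i).index = b + 1 := ⟨_, (Nat.succ_pred_eq_of_pos h2).symm⟩
    rw [hk, ha, hb, Nat.add_sub_cancel] at hcnt
    have h4 : (a + 1 + 1 + k) * (b + 1) = (b + 1) * a + (k * b + k + 2 * b + 2) := by ring
    omega
  refine hPart ι hι rep (fun i => H (rep i)) hlt (fun i => hne _ (hrep i))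
    (fun i x hx h hh => ?_) (fun i => hFrob _ (hrep i) (hcon _ (hrep i))) hcop
    (fun i => ⟨hTI i, hnorm _ (hrep i)⟩) hcover
  rw [← hnorm _ (hrep i)] at hx
  exact (Subgroup.mem_normalizer_iff.mp hx h).mp hh

end Main

end CfsgLib.OddChar.NotAllTypeI
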