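import Cfsg.Prelude.Def_Transfer
import Cfsg.Agent.Lib.Solvable.UniqueSubgroup
import Cfsg.Agent.Lib.Solvable.FrobeniusComplement
import Mathlib.GroupTheory.GroupAction.Quotient
import Mathlib.GroupTheory.PGroup

/-!
# An elementary abelian group of order `p²` under a group acting on it

* `exists_elementary`: a noncyclic abelian `p`-subgroup contains one;
* `dvd_of_free`: the order of a group acting freely divides the size of the set;
* `conj_mem_of_three`: three invariant lines make every line invariant;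
* `centralizes_of_large_prime`: an element of prime order `r > p` normalising it centralises it;
* `two_mul_card_le`: `2 |D| ≤ p + 1` for fixed-point-free `D` of odd order fixing no chosen line.
-/

set_option autoImplicit false

namespace CfsgLib.OddChar.RankTwoLines

open CfsgLib.Solvable

universe u

variable {G : Type u} [Group G] [Finite G] {p : ℕ} [hp : Fact p.Prime]

theorem dvd_of_free {D X : Type*} [Group D] [MulAction D X] [Finite D] [Finite X]
    (h : ∀ (d : D) (x : X), d • x = x → d = 1) : Nat.card D ∣ Nat.card X := by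
  have := Fintype.ofFinite (Quotient (MulAction.orbitRel D X))
  rw [Nat.card_congr (MulAction.selfEquivSigmaOrbitsQuotientStabilizer D X), Nat.card_sigma]
  refine Finset.dvd_sum fun i _ => ?_
  have hs : MulAction.stabilizer D i.out = ⊥ :=
    (Subgroup.eq_bot_iff_forall _).2 fun d hd => h d _ hd
  rw [hs]
  exact (Nat.card_congr (QuotientGroup.quotientBot (G := D)).toEquiv).symm.dvd

theorem zpowers_eq_of_mem {a b : G} (ha : orderOf a = p) (hb1 : b ≠ 1)
    (hb : b ∈ Subgroup.zpowers a) : Subgroup.zpowers b = Subgroup.zpowers a := by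
  refine Subgroup.eq_of_le_of_card_ge (Subgroup.zpowers_le.2 hb) ?_
  rw [Nat.card_zpowers, Nat.card_zpowers, ha]
  have hb' : orderOf b = p := by
    refine ((hp.out.eq_one_or_self_of_dvd _ ?_).resolve_left fun e =>
      hb1 (orderOf_eq_one_iff.1 e))
    exact ha ▸ orderOf_dvd_of_mem_zpowers hb
  rw [hb']

theorem exists_elementary {P : Subgroup G} (hP : IsPGroup p P)
    (hc : ∀ x ∈ P, ∀ y ∈ P, x * y = y * x) (hnc : ¬ IsCyclic P) :
    ∃ A : Subgroup G, A ≤ P ∧ Cfsg.IsElementaryAbelian p A ∧ Nat.card A = p ^ 2 := by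
  obtain ⟨x, y, hx, hy, hxy⟩ : ∃ x y : P, orderOf x = p ∧ orderOf y = p ∧
      x ∉ Subgroup.zpowers y := by
    by_contra h
    push Not at h
    exact hnc (isCyclic_of_unique_of_comm hP (fun a b => Subtype.ext (hc _ a.2 _ b.2)) h)
  set B : Subgroup G := Subgroup.zpowers (x : G) ⊔ Subgroup.zpowers (y : G) with hB
  have hBP : B ≤ P := sup_le (Subgroup.zpowers_le.2 x.2) (Subgroup.zpowers_le.2 y.2)
  have hxo : orderOf (x : G) = p := by rw [Subgroup.orderOf_coe, hx]
  have hyo : orderOf (y : G) = p := by rw [Subgroup.orderOf_coe, hy]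
  have hpow : ∀ b ∈ B, b ^ p = 1 := by
    intro b hb
    let T : Subgroup P :=
      { carrier := {z | z ^ p = 1}
        one_mem' := one_pow p
        mul_mem' := fun {a b} ha hb => by
          show (a * b) ^ p = 1
          rw [(show Commute a b from Subtype.ext (hc _ a.2 _ b.2)).mul_pow, ha, hb, one_mul]
        inv_mem' := fun {a} ha => by
          show (a⁻¹) ^ p = 1
          rw [inv_pow, ha, inv_one] }
    have hle : B ≤ T.map P.subtype := sup_le
      (Subgroup.zpowers_le.2 ⟨x, show x ^ p = 1 by rw [← hx, pow_orderOf_eq_one], rfl⟩)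
      (Subgroup.zpowers_le.2 ⟨y, show y ^ p = 1 by rw [← hy, pow_orderOf_eq_one], rfl⟩)
    obtain ⟨z, hz, rfl⟩ := hle hb
    exact congrArg Subtype.val (hz : z ^ p = 1)
  refine ⟨B, hBP, ⟨⟨⟨fun a b => Subtype.ext (hc _ (hBP a.2) _ (hBP b.2))⟩⟩, hpow⟩, ?_⟩
  have hdisj : ∀ i j : ℤ, (x : G) ^ i = (y : G) ^ j → (x : G) ^ i = 1 := by
    intro i j hij
    by_contra hne
    have h1 : (x : G) ^ i ∈ Subgroup.zpowers (x : G) := ⟨i, rfl⟩
    have h2 : (x : G) ^ i ∈ Subgroup.zpowers (y : G) := ⟨j, hij.symm⟩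
    have h3 : (x : G) ∈ Subgroup.zpowers (y : G) := by
      rw [← zpowers_eq_of_mem hyo hne h2, zpowers_eq_of_mem hxo hne h1]
      exact Subgroup.mem_zpowers _
    obtain ⟨k, hk⟩ := h3
    exact hxy ⟨k, Subtype.ext hk⟩
  have hnorm : Subgroup.zpowers (y : G) ≤
      Subgroup.normalizer (Subgroup.zpowers (x : G) : Set G) := by
    refine le_trans ?_ (Subgroup.centralizer_le_normalizer _)
    intro z hz
    rw [Subgroup.mem_centralizer_iff]
    rintro w ⟨i, rfl⟩
    exact hc _ (P.zpow_mem x.2 i) _ (Subgroup.zpowers_le.2 y.2 hz)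
  let f : Subgroup.zpowers (x : G) × Subgroup.zpowers (y : G) → B := fun q =>
    ⟨q.1 * q.2, mul_mem ((le_sup_left : _ ≤ B) q.1.2) ((le_sup_right : _ ≤ B) q.2.2)⟩
  have hf : Function.Bijective f := by
    constructor
    · rintro ⟨⟨a, i, rfl⟩, ⟨b, j, rfl⟩⟩ ⟨⟨a', i', rfl⟩, ⟨b', j', rfl⟩⟩ e
      have e' : (x : G) ^ i * (y : G) ^ j = (x : G) ^ i' * (y : G) ^ j' := congrArg Subtype.val e
      have e1 : (x : G) ^ (i - i') = (y : G) ^ (j' - j) := by
        rw [zpow_sub, zpow_sub]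
        calc (x : G) ^ i * ((x : G) ^ i')⁻¹
            = ((x : G) ^ i')⁻¹ * ((x : G) ^ i * (y : G) ^ j) * ((y : G) ^ j)⁻¹ := by group
          _ = _ := by rw [e']; group
      have e2 : (x : G) ^ i = (x : G) ^ i' := by
        have := hdisj _ _ e1
        rwa [zpow_sub, mul_inv_eq_one] at this
      have e3 : (y : G) ^ j = (y : G) ^ j' := by
        rw [e2] at e'; exact mul_left_cancel e'
      exact Prod.ext (Subtype.ext e2) (Subtype.ext e3)
    · rintro ⟨b, hb⟩
      rw [hB, ← SetLike.mem_coe, Subgroup.coe_mul_of_right_le_normalizer_left _ _ hnorm] at hb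
      obtain ⟨a, ha, c, hc', rfl⟩ := hb
      exact ⟨(⟨a, ha⟩, ⟨c, hc'⟩), rfl⟩
  rw [← Nat.card_congr (Equiv.ofBijective f hf), Nat.card_prod, Nat.card_zpowers,
    Nat.card_zpowers, hxo, hyo, sq]

section Action

variable {A : Subgroup G} (hA : Cfsg.IsElementaryAbelian p A) (hcard : Nat.card A = p ^ 2)
include hA

theorem orderOf_eq {a : G} (ha : a ∈ A) (ha1 : a ≠ 1) : orderOf a = p :=
  orderOf_eq_prime (hA.2 a ha) ha1

theorem commute {a b : G} (ha : a ∈ A) (hb : b ∈ A) : Commute a b :=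
  congrArg Subtype.val (hA.1.is_comm.comm (⟨a, ha⟩ : A) ⟨b, hb⟩)

theorem dvd_of_zpow_eq_one {a : G} (ha : a ∈ A) (ha1 : a ≠ 1) {s : ℤ} (h : a ^ s = 1) :
    (p : ℤ) ∣ s :=
  orderOf_eq hA ha ha1 ▸ orderOf_dvd_iff_zpow_eq_one.2 h

theorem indep {a b : G} (ha : a ∈ A) (ha1 : a ≠ 1) (hb : b ∈ A)
    (hab : b ∉ Subgroup.zpowers a) {s t : ℤ} (h : a ^ s * b ^ t = 1) :
    (p : ℤ) ∣ s ∧ (p : ℤ) ∣ t := by
  have hb1 : b ≠ 1 := fun e => hab (e ▸ one_mem _)
  have ht : (p : ℤ) ∣ t := by
    refine dvd_of_zpow_eq_one hA hb hb1 ?_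
    by_contra hne
    have h1 : b ^ t ∈ Subgroup.zpowers a := ⟨-s, by
      show a ^ (-s) = b ^ t
      rw [zpow_neg, inv_eq_of_mul_eq_one_right h]⟩
    refine hab (Subgroup.zpowers_le.2 h1 ?_)
    rw [zpowers_eq_of_mem (orderOf_eq hA hb hb1) hne ⟨t, rfl⟩]
    exact Subgroup.mem_zpowers b
  refine ⟨dvd_of_zpow_eq_one hA ha ha1 ?_, ht⟩
  have hb' : b ^ t = 1 := orderOf_dvd_iff_zpow_eq_one.1 (orderOf_eq hA hb hb1 ▸ ht)
  rwa [hb', mul_one] at h

include hcard in
theorem span {a b c : G} (ha : a ∈ A) (ha1 : a ≠ 1) (hb : b ∈ A)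
    (hab : b ∉ Subgroup.zpowers a) (hc : c ∈ A) : ∃ i j : ℤ, c = a ^ i * b ^ j := by
  set B := Subgroup.zpowers a ⊔ Subgroup.zpowers b with hB
  have hBA : B ≤ A := sup_le (Subgroup.zpowers_le.2 ha) (Subgroup.zpowers_le.2 hb)
  have hnorm : Subgroup.zpowers b ≤ Subgroup.normalizer (Subgroup.zpowers a : Set G) := by
    refine le_trans ?_ (Subgroup.centralizer_le_normalizer _)
    intro z hz
    rw [Subgroup.mem_centralizer_iff]
    intro w hw
    exact (commute hA (Subgroup.zpowers_le.2 ha hw) (Subgroup.zpowers_le.2 hb hz)).eq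
  have hlt : Subgroup.zpowers a < B := lt_of_le_of_ne le_sup_left fun e =>
    hab ((le_sup_right : _ ≤ B).trans e.ge (Subgroup.mem_zpowers b))
  obtain ⟨n, hn, hn'⟩ := (Nat.dvd_prime_pow hp.out).1 (hcard ▸ Subgroup.card_dvd_of_le hBA)
  have h2 : n = 2 := by
    have hlt' : p < Nat.card B := by
      rw [← orderOf_eq hA ha ha1, ← Nat.card_zpowers]
      exact Set.Finite.card_lt_card (Set.toFinite _) hlt
    rw [hn'] at hlt'
    interval_cases n <;> simp_all
  have heq : B = A := Subgroup.eq_of_le_of_card_ge hBA (by rw [hn', h2, hcard])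
  rw [← heq, ← SetLike.mem_coe, Subgroup.coe_mul_of_right_le_normalizer_left _ _ hnorm] at hc
  obtain ⟨_, ⟨i, rfl⟩, _, ⟨j, rfl⟩, rfl⟩ := hc
  exact ⟨i, j, rfl⟩

include hcard in
/-- Three invariant lines make every line invariant. -/
theorem conj_mem_of_three {z a b c : G} (ha : a ∈ A) (ha1 : a ≠ 1) (hb : b ∈ A) (hc : c ∈ A)
    (hab : b ∉ Subgroup.zpowers a) (hac : c ∉ Subgroup.zpowers a) (hbc : c ∉ Subgroup.zpowers b)
    (hza : z * a * z⁻¹ ∈ Subgroup.zpowers a) (hzb : z * b * z⁻¹ ∈ Subgroup.zpowers b)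
    (hzc : z * c * z⁻¹ ∈ Subgroup.zpowers c) {x : G} (hx : x ∈ A) :
    z * x * z⁻¹ ∈ Subgroup.zpowers x := by
  obtain ⟨m, hm : a ^ m = _⟩ := hza
  obtain ⟨n, hn : b ^ n = _⟩ := hzb
  obtain ⟨l, hl : c ^ l = _⟩ := hzc
  obtain ⟨i, j, rfl⟩ := span hA hcard ha ha1 hb hab hc
  obtain ⟨s, t, rfl⟩ := span hA hcard ha ha1 hb hab hx
  have hcab : Commute a b := commute hA ha hb
  have hexp : ∀ u v w : ℤ, (a ^ u * b ^ v) ^ w = a ^ (u * w) * b ^ (v * w) := fun u v w => by
    rw [(hcab.zpow_zpow u v).mul_zpow, zpow_mul, zpow_mul]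
  have hconj : ∀ u v : ℤ, z * (a ^ u * b ^ v) * z⁻¹ = a ^ (m * u) * b ^ (n * v) := fun u v => by
    rw [zpow_mul, zpow_mul, hm, hn, conj_zpow, conj_zpow]; group
  have key : ∀ u v u' v' : ℤ, a ^ u * b ^ v = a ^ u' * b ^ v' →
      (p : ℤ) ∣ u - u' ∧ (p : ℤ) ∣ v - v' := fun u v u' v' h => by
    refine indep hA ha ha1 hb hab ?_
    calc a ^ (u - u') * b ^ (v - v')
        = (a ^ u') ⁻¹ * (a ^ u * b ^ v) * (b ^ v')⁻¹ := by group
      _ = 1 := by rw [h]; group
  rw [hexp, hconj] at hl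
  obtain ⟨k1, k2⟩ := key _ _ _ _ hl
  have hi : ¬ (p : ℤ) ∣ i := fun h => hbc (by
    have : a ^ i = 1 := orderOf_dvd_iff_zpow_eq_one.1 ((orderOf_eq hA ha ha1).symm ▸ h)
    rw [this, one_mul]; exact ⟨j, rfl⟩)
  have hj : ¬ (p : ℤ) ∣ j := fun h => hac (by
    have hb1 : b ≠ 1 := fun e => hab (e ▸ one_mem _)
    have : b ^ j = 1 := orderOf_dvd_iff_zpow_eq_one.1 ((orderOf_eq hA hb hb1).symm ▸ h)
    rw [this, mul_one]; exact ⟨i, rfl⟩)
  have hpp : Prime (p : ℤ) := Nat.prime_iff_prime_int.1 hp.out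
  have e1 : (p : ℤ) ∣ l - m := (hpp.dvd_or_dvd (show (p : ℤ) ∣ i * (l - m) by
    rw [show i * (l - m) = i * l - m * i by ring]; exact k1)).resolve_left hi
  have e2 : (p : ℤ) ∣ l - n := (hpp.dvd_or_dvd (show (p : ℤ) ∣ j * (l - n) by
    rw [show j * (l - n) = j * l - n * j by ring]; exact k2)).resolve_left hj
  refine ⟨l, ?_⟩
  show (a ^ s * b ^ t) ^ l = _
  rw [hexp, hconj]
  have red : ∀ w : G, w ∈ A → ∀ u v : ℤ, (p : ℤ) ∣ u - v → w ^ u = w ^ v := by
    intro w hw u v h
    rw [← mul_inv_eq_one, ← zpow_sub]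
    obtain ⟨q, hq⟩ := h
    rw [hq, zpow_mul, zpow_natCast, hA.2 w hw, one_zpow]
  congr 1
  · exact red a ha _ _ (by rw [show s * l - m * s = s * (l - m) by ring]; exact e1.mul_left s)
  · exact red b hb _ _ (by rw [show t * l - n * t = t * (l - n) by ring]; exact e2.mul_left t)

include hcard in
/-- An element of prime order `r > p` normalising `A` centralises it. -/
theorem centralizes_of_large_prime {b : G} {r : ℕ} (hr : r.Prime) (hrp : p < r)
    (hodd : Odd r) (hp2 : p ≠ 2) (hb : orderOf b = r) (hn : ∀ a ∈ A, b * a * b⁻¹ ∈ A) :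
    ∀ a ∈ A, b * a = a * b := by
  classical
  haveI := Fact.mk hr
  have hAN : Subgroup.zpowers b ≤ Subgroup.normalizer (A : Set G) := by
    rw [Subgroup.zpowers_le, Subgroup.mem_normalizer_iff_map_conj_eq]
    refine Subgroup.eq_of_le_of_card_ge ?_
      (Subgroup.card_map_of_injective (MulEquiv.injective _)).ge
    rintro _ ⟨a, ha, rfl⟩
    exact hn a ha
  letI : MulAction (Subgroup.zpowers b) A := MulAction.compHom A
    (A.normalizerMonoidHom.comp (Subgroup.inclusion hAN))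
  have hval : ∀ (c : Subgroup.zpowers b) (a : A), ((c • a : A) : G) = c * a * (c : G)⁻¹ :=
    fun _ _ => rfl
  have hB : IsPGroup r (Subgroup.zpowers b) :=
    IsPGroup.of_card (n := 1) (by rw [Nat.card_zpowers, hb, pow_one])
  let F : Subgroup G := A ⊓ Subgroup.centralizer ({b} : Set G)
  have hFeq : Nat.card (MulAction.fixedPoints (Subgroup.zpowers b) A) = Nat.card F := by
    refine Nat.card_congr
      { toFun := fun a => ⟨((a : A) : G), (a : A).2, Subgroup.mem_centralizer_singleton_iff.2 ?_⟩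
        invFun := fun a => ⟨⟨a.1, (Subgroup.mem_inf.1 a.2).1⟩, fun c => Subtype.ext ?_⟩
        left_inv := fun _ => rfl
        right_inv := fun _ => rfl }
    · have := congrArg Subtype.val (a.2 ⟨b, Subgroup.mem_zpowers b⟩)
      rw [hval] at this
      exact (mul_inv_eq_iff_eq_mul.1 this).symm
    · rw [hval]
      obtain ⟨i, hi⟩ := c.2
      have hcom : Commute b a.1 :=
        (Subgroup.mem_centralizer_singleton_iff.1 (Subgroup.mem_inf.1 a.2).2).symm
      show (c : G) * a.1 * (c : G)⁻¹ = a.1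
      rw [← hi, (hcom.zpow_left i).eq, mul_inv_cancel_right]
  have hmod := hB.card_modEq_card_fixedPoints A
  rw [hcard, hFeq] at hmod
  obtain ⟨n, hn', hFn⟩ := (Nat.dvd_prime_pow hp.out).1
    (hcard ▸ Subgroup.card_dvd_of_le (inf_le_left : F ≤ A))
  have hn2 : n = 2 := by
    by_contra hne
    have hp1 := hp.out.two_le
    have hdvd : (r : ℤ) ∣ (p : ℤ) ^ 2 - (p : ℤ) ^ n := by
      rw [hFn] at hmod
      have := (Nat.modEq_iff_dvd.1 hmod.symm)
      push_cast at this
      exact this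
    have hrp' : Prime (r : ℤ) := Nat.prime_iff_prime_int.1 hr
    interval_cases n
    · rw [show (p : ℤ) ^ 2 - (p : ℤ) ^ 0 = ((p : ℤ) - 1) * ((p : ℤ) + 1) by ring] at hdvd
      rcases hrp'.dvd_or_dvd hdvd with h | h
      · have := Int.le_of_dvd (by omega) h; omega
      · have h' := Int.le_of_dvd (by omega) h
        have : r = p + 1 := by omega
        obtain ⟨k, hk⟩ := hodd
        obtain ⟨k', hk'⟩ := hp.out.odd_of_ne_two hp2
        omega
    · rw [show (p : ℤ) ^ 2 - (p : ℤ) ^ 1 = (p : ℤ) * ((p : ℤ) - 1) by ring] at hdvd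
      rcases hrp'.dvd_or_dvd hdvd with h | h
      · have := Int.le_of_dvd (by omega) h; omega
      · have := Int.le_of_dvd (by omega) h; omega
    · exact hne rfl
  intro a ha
  have hFA : F = A := Subgroup.eq_of_le_of_card_ge inf_le_left (by rw [hcard, hFn, hn2])
  rw [← hFA] at ha
  exact (Subgroup.mem_centralizer_singleton_iff.1 (Subgroup.mem_inf.1 ha).2).symm

include hcard in
/-- A fixed-point-free group of odd order fixing no line through `x` has order at most `(p+1)/2`. -/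
theorem two_mul_card_le (hp2 : p ≠ 2) {D : Subgroup G} (hodd : Odd (Nat.card D))
    (hDA : ∀ d ∈ D, ∀ a ∈ A, d * a * d⁻¹ ∈ A)
    (hfpf : ∀ d ∈ D, d ≠ 1 → ∀ a ∈ A, d * a = a * d → a = 1)
    {z : G} (hz : z ∈ D) (hz1 : z ≠ 1) (hzc : ∀ d ∈ D, z * d = d * z)
    {x : G} (hx : x ∈ A) (hxD : ∀ d ∈ D, d * x * d⁻¹ ∈ Subgroup.zpowers x → d = 1) :
    2 * Nat.card D ≤ p + 1 := by
  classical
  have heven : ∀ m : ℕ, Nat.card D ∣ m → Even m → 0 < m → 2 * Nat.card D ≤ m := by
    intro m hm he hpos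
    exact Nat.le_of_dvd hpos
      ((Nat.coprime_two_left.2 hodd).mul_dvd_of_dvd_of_dvd (even_iff_two_dvd.1 he) hm)
  have hsdiff : ∀ B : Subgroup G, Nat.card {a : G // a ∈ B ∧ a ≠ 1} = Nat.card B - 1 := by
    intro B
    have : Nat.card {a : G // a ∈ B ∧ a ≠ 1} = Set.ncard ((B : Set G) \ {1}) := by
      rw [← Nat.card_coe_set_eq]
      rfl
    rw [this, Set.ncard_sdiff_singleton_of_mem B.one_mem, ← Nat.card_coe_set_eq]
    rfl
  by_cases hline : ∃ a ∈ A, a ≠ 1 ∧ z * a * z⁻¹ ∈ Subgroup.zpowers a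
  · obtain ⟨a, ha, ha1, hza⟩ := hline
    have hinv : ∀ d ∈ D, d * a * d⁻¹ ∈ Subgroup.zpowers a := by
      intro d hd
      by_contra hd1
      set b := d * a * d⁻¹ with hb
      set c := d * b * d⁻¹ with hc
      have hzz : ∀ w : G, z * w * z⁻¹ ∈ Subgroup.zpowers w →
          z * (d * w * d⁻¹) * z⁻¹ ∈ Subgroup.zpowers (d * w * d⁻¹) := by
        rintro w ⟨i, hi : w ^ i = _⟩
        refine ⟨i, ?_⟩
        show (d * w * d⁻¹) ^ i = _
        rw [conj_zpow, hi]
        have hc' := hzc d hd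
        calc d * (z * w * z⁻¹) * d⁻¹ = d * z * w * (d * z)⁻¹ := by group
          _ = z * d * w * (z * d)⁻¹ := by rw [hc']
          _ = _ := by group
      have hbA : b ∈ A := hDA d hd a ha
      have hcA : c ∈ A := hDA d hd b hbA
      have hbc : c ∉ Subgroup.zpowers b := by
        rintro ⟨i, hi : b ^ i = _⟩
        refine hd1 ⟨i, ?_⟩
        show a ^ i = b
        rw [hb, conj_zpow] at hi
        rw [hc, hb] at hi
        simpa using hi
      have hac : c ∉ Subgroup.zpowers a := by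
        intro hca
        -- `d²` fixes the line, hence so does `d`
        let S : Subgroup G :=
          { carrier := {g : G | g * a * g⁻¹ ∈ Subgroup.zpowers a}
            one_mem' := by simp
            mul_mem' := fun {g g'} (hg : g * a * g⁻¹ ∈ Subgroup.zpowers a) (hg' : g' * a * g'⁻¹ ∈ Subgroup.zpowers a) => by
              obtain ⟨i, hi : a ^ i = _⟩ := hg'
              show g * g' * a * (g * g')⁻¹ ∈ Subgroup.zpowers a
              rw [show g * g' * a * (g * g')⁻¹ = g * (g' * a * g'⁻¹) * g⁻¹ by group, ← hi,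
                ← conj_zpow]
              exact Subgroup.zpow_mem _ hg i
            inv_mem' := fun {g} (hg : g * a * g⁻¹ ∈ Subgroup.zpowers a) => by
              have hg1 : g * a * g⁻¹ ≠ 1 := fun e => ha1 (conj_eq_one_iff.1 e)
              have h := zpowers_eq_of_mem (orderOf_eq hA ha ha1) hg1 hg
              obtain ⟨i, hi : (g * a * g⁻¹) ^ i = a⟩ := h.ge (Subgroup.mem_zpowers a)
              refine ⟨i, ?_⟩
              show a ^ i = g⁻¹ * a * g⁻¹⁻¹
              rw [conj_zpow] at hi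
              calc a ^ i = g⁻¹ * (g * a ^ i * g⁻¹) * g := by group
                _ = _ := by rw [hi, inv_inv] }
        have hd2 : d ^ 2 ∈ S := by
          show d ^ 2 * a * (d ^ 2)⁻¹ ∈ Subgroup.zpowers a
          rw [show d ^ 2 * a * (d ^ 2)⁻¹ = c by rw [hc, hb, pow_two]; group]
          exact hca
        obtain ⟨k, hk⟩ : Odd (orderOf d) :=
          hodd.of_dvd_nat (Subgroup.orderOf_dvd_natCard D hd)
        have hdS : d ∈ S := by
          have e : (d ^ 2) ^ (k + 1) = d := by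
            rw [← pow_mul, show 2 * (k + 1) = orderOf d + 1 by omega, pow_succ,
              pow_orderOf_eq_one, one_mul]
          exact e ▸ pow_mem hd2 _
        exact hd1 hdS
      exact hz1 (hxD z hz (conj_mem_of_three hA hcard ha ha1 hbA hcA hd1 hac hbc hza
        (hzz a hza) (hzz b (hzz a hza)) hx))
    letI act : MulAction D {w : G // w ∈ Subgroup.zpowers a ∧ w ≠ 1} :=
      { smul := fun d w => ⟨(d : G) * w.1 * (d : G)⁻¹, by
            obtain ⟨i, hi : a ^ i = _⟩ := w.2.1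
            rw [← hi, ← conj_zpow]
            exact Subgroup.zpow_mem _ (hinv d d.2) i,
          fun e => w.2.2 (conj_eq_one_iff.1 e)⟩
        one_smul := fun w => Subtype.ext (by show (1 : G) * w.1 * (1 : G)⁻¹ = w.1; group)
        mul_smul := fun d d' w => Subtype.ext (by
          show (d * d' : G) * w.1 * (d * d' : G)⁻¹ = _ * (_ * w.1 * _) * _
          group) }
    have hdvd := dvd_of_free (D := D) (X := {w : G // w ∈ Subgroup.zpowers a ∧ w ≠ 1})
      fun d w h => by
        by_contra hd1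
        have e : (d : G) * w.1 * (d : G)⁻¹ = w.1 := congrArg Subtype.val h
        exact w.2.2 (hfpf d d.2 (fun e' => hd1 (Subtype.ext e')) w.1
          (Subgroup.zpowers_le.2 ha w.2.1) (mul_inv_eq_iff_eq_mul.1 e))
    rw [hsdiff, Nat.card_zpowers, orderOf_eq hA ha ha1] at hdvd
    have := heven (p - 1) hdvd (hp.out.odd_of_ne_two hp2 |>.tsub_odd odd_one) (by
      have := hp.out.two_le; omega)
    omega
  · push Not at hline
    -- no non-trivial element fixes a line
    have hnofix : ∀ d ∈ D, ∀ a ∈ A, a ≠ 1 → d * a * d⁻¹ ∈ Subgroup.zpowers a → d = 1 := by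
      intro d hd a ha ha1 hda
      have hzd : ∀ w : G, d * w * d⁻¹ ∈ Subgroup.zpowers w →
          d * (z * w * z⁻¹) * d⁻¹ ∈ Subgroup.zpowers (z * w * z⁻¹) := by
        rintro w ⟨i, hi : w ^ i = _⟩
        refine ⟨i, ?_⟩
        show (z * w * z⁻¹) ^ i = _
        rw [conj_zpow, hi]
        have hc' := hzc d hd
        calc z * (d * w * d⁻¹) * z⁻¹ = z * d * w * (z * d)⁻¹ := by group
          _ = d * z * w * (d * z)⁻¹ := by rw [hc']
          _ = _ := by group
      set b := z * a * z⁻¹ with hb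
      set c := z * b * z⁻¹ with hc
      have hbA : b ∈ A := hDA z hz a ha
      have hcA : c ∈ A := hDA z hz b hbA
      have hb1 : b ≠ 1 := fun e => ha1 (conj_eq_one_iff.1 e)
      have hac : c ∉ Subgroup.zpowers a := by
        rintro ⟨i, hi : a ^ i = c⟩
        -- then an odd power of `z` fixes the line
        obtain ⟨k, hk⟩ : Odd (orderOf z) :=
          hodd.of_dvd_nat (Subgroup.orderOf_dvd_natCard D hz)
        have hpow : ∀ m : ℕ, (z ^ 2) ^ m * a * ((z ^ 2) ^ m)⁻¹ ∈ Subgroup.zpowers a := by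
          intro m
          induction m with
          | zero => simp
          | succ m ih =>
            obtain ⟨j, hj : a ^ j = _⟩ := ih
            rw [pow_succ', show z ^ 2 * (z ^ 2) ^ m * a * (z ^ 2 * (z ^ 2) ^ m)⁻¹ =
              z ^ 2 * ((z ^ 2) ^ m * a * ((z ^ 2) ^ m)⁻¹) * (z ^ 2)⁻¹ by group, ← hj, ← conj_zpow,
              show z ^ 2 * a * (z ^ 2)⁻¹ = c by rw [hc, hb, pow_two]; group, ← hi]
            exact Subgroup.zpow_mem _ (show a ^ i ∈ Subgroup.zpowers a from ⟨i, rfl⟩) j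
        have e : (z ^ 2) ^ (k + 1) = z := by
          rw [← pow_mul, show 2 * (k + 1) = orderOf z + 1 by omega, pow_succ, pow_orderOf_eq_one,
            one_mul]
        exact hline a ha ha1 (e ▸ hpow (k + 1))
      exact hxD d hd (conj_mem_of_three hA hcard ha ha1 hbA hcA (hline a ha ha1) hac
        (hline b hbA hb1) hda (hzd a hda) (hzd b (hzd a hda)) hx)
    haveI : NeZero p := ⟨hp.out.ne_zero⟩
    have hmod : ∀ w ∈ A, ∀ u v : (ZMod p)ˣ,
        w ^ ((u * v : (ZMod p)ˣ) : ZMod p).val = (w ^ (v : ZMod p).val) ^ (u : ZMod p).val := by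
      intro w hw u v
      rw [← pow_mul, Units.val_mul, ZMod.val_mul, mul_comm (v : ZMod p).val]
      conv_rhs => rw [← Nat.mod_add_div ((u : ZMod p).val * (v : ZMod p).val) p, pow_add, pow_mul,
        hA.2 w hw, one_pow, mul_one]
    have hpow1 : ∀ w ∈ A, w ≠ 1 → ∀ u : (ZMod p)ˣ, w ^ (u : ZMod p).val ≠ 1 := by
      intro w hw hw1 u e
      have h := orderOf_dvd_iff_pow_eq_one.2 e
      rw [orderOf_eq hA hw hw1, ← ZMod.natCast_eq_zero_iff] at h
      exact u.ne_zero ((ZMod.natCast_zmod_val _).symm.trans h)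
    letI act : MulAction (D × (ZMod p)ˣ) {w : G // w ∈ A ∧ w ≠ 1} :=
      { smul := fun du w => ⟨(du.1 : G) * w.1 ^ (du.2 : ZMod p).val * (du.1 : G)⁻¹,
          hDA _ du.1.2 _ (A.pow_mem w.2.1 _),
          fun e => hpow1 w.1 w.2.1 w.2.2 du.2 (conj_eq_one_iff.1 e)⟩
        one_smul := fun w => Subtype.ext (by
          show (1 : G) * w.1 ^ ((1 : (ZMod p)ˣ) : ZMod p).val * (1 : G)⁻¹ = w.1
          haveI := Fact.mk hp.out.one_lt
          rw [Units.val_one, ZMod.val_one, pow_one]; group)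
        mul_smul := fun du du' w => Subtype.ext (by
          show (du.1 * du'.1 : G) * w.1 ^ ((du.2 * du'.2 : (ZMod p)ˣ) : ZMod p).val *
            (du.1 * du'.1 : G)⁻¹ = (du.1 : G) * ((du'.1 : G) * w.1 ^ (du'.2 : ZMod p).val *
              (du'.1 : G)⁻¹) ^ (du.2 : ZMod p).val * (du.1 : G)⁻¹
          rw [hmod w.1 w.2.1, conj_pow]
          group) }
    have hdvd := dvd_of_free (D := D × (ZMod p)ˣ) (X := {w : G // w ∈ A ∧ w ≠ 1})
      fun du w h => by
        have e : (du.1 : G) * w.1 ^ (du.2 : ZMod p).val * (du.1 : G)⁻¹ = w.1 :=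
          congrArg Subtype.val h
        have hw' := hpow1 w.1 w.2.1 w.2.2 du.2
        have hd1 : (du.1 : G) = 1 := by
          refine hnofix _ du.1.2 _ (A.pow_mem w.2.1 _) hw' ?_
          rw [e, zpowers_eq_of_mem (orderOf_eq hA w.2.1 w.2.2) hw' (Subgroup.npow_mem_zpowers w.1 _)]
          exact Subgroup.mem_zpowers _
        refine Prod.ext (Subtype.ext hd1) (Units.ext (ZMod.val_injective p ?_))
        haveI := Fact.mk hp.out.one_lt
        rw [hd1, one_mul, inv_one, mul_one] at e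
        conv_rhs at e => rw [← pow_one w.1]
        rw [pow_eq_pow_iff_modEq, orderOf_eq hA w.2.1 w.2.2, Nat.ModEq,
          Nat.mod_eq_of_lt (ZMod.val_lt _), Nat.mod_eq_of_lt hp.out.one_lt] at e
        rw [e]
        exact (ZMod.val_one p).symm
    rw [hsdiff, hcard, Nat.card_prod, Nat.card_units, Nat.card_zmod,
      show p ^ 2 - 1 = (p + 1) * (p - 1) by
        rw [← Nat.sq_sub_sq p 1, one_pow]] at hdvd
    exact heven (p + 1) (Nat.dvd_of_mul_dvd_mul_right (by have := hp.out.two_le; omega) hdvd)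
      ((hp.out.odd_of_ne_two hp2).add_odd odd_one) (by omega)

end Action

end CfsgLib.OddChar.RankTwoLines
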