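import Cfsg.Agent.Lib.OddChar.PairBase
import Cfsg.Agent.Lib.OddChar.RankTwoLines
import Mathlib.GroupTheory.SpecificGroups.ZGroup

/-!
# The action of `U` on `S_F`

`Ubar S U`: the group of automorphisms of `S_F` induced by `U`, isomorphic to `U / C`.
* `key_Ubar`: an invariant subgroup fixing a non-identity element is trivial;
* `dichotomy`: the action is fixed-point-free, or the exponent of `U / C` divides `p - 1`;
* `stab_card`: the fixer of a non-identity element;
* `le_succ_of_prime_dvd`: `q ≤ r + 1` for the primes `r` dividing the order of `U / C`;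
* `relIndex_mul_le`: `|U : C| (p - 1) ≤ p ^ q - 1`.
-/

set_option autoImplicit false
set_option linter.unusedSectionVars false

namespace CfsgLib.OddChar.Pair

universe u

theorem card_pow_ker_eq {C : Type*} [CommGroup C] [Finite C] (n : ℕ) :
    Nat.card (powMonoidHom n : C →* C).ker = (powMonoidHom n : C →* C).range.index := by
  have h1 := (powMonoidHom n : C →* C).ker.card_mul_index
  have h2 := (powMonoidHom n : C →* C).range.card_mul_index
  rw [Subgroup.index_ker] at h1
  refine Nat.eq_of_mul_eq_mul_left (Nat.card_pos (α := (powMonoidHom n : C →* C).range)) ?_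
  rw [h2, mul_comm, h1]

theorem card_pow_ker_le {A B : Type*} [CommGroup A] [Finite A] [CommGroup B]
    (f : A →* B) (hf : Function.Surjective f) (n : ℕ) :
    Nat.card (powMonoidHom n : B →* B).ker ≤ Nat.card (powMonoidHom n : A →* A).ker := by
  haveI : Finite B := Finite.of_surjective f hf
  rw [card_pow_ker_eq, card_pow_ker_eq]
  have hmap : (powMonoidHom n : A →* A).range.map f = (powMonoidHom n : B →* B).range := by
    rw [MonoidHom.map_range]
    ext b
    constructor
    · rintro ⟨a, rfl⟩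
      exact ⟨f a, by simp⟩
    · rintro ⟨b, rfl⟩
      obtain ⟨a, rfl⟩ := hf b
      exact ⟨a, by simp⟩
  rw [← hmap]
  exact Nat.le_of_dvd (Nat.pos_of_ne_zero Subgroup.index_ne_zero_of_finite)
    (Subgroup.index_map_dvd _ hf)

/-- The automorphisms of `S_F` induced by `U`. -/
def Ubar {G : Type u} [Group G] (S U : Subgroup G) :
    Subgroup (MulAut (Cfsg.fittingHallOf S)) :=
  (U.subgroupOf (Subgroup.normalizer (Cfsg.fittingHallOf S : Set G))).map
    (Cfsg.fittingHallOf S).normalizerMonoidHom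

/-- No non-identity element of `Ubar` fixes a non-identity element. -/
def Fpf {G : Type u} [Group G] (S U : Subgroup G) : Prop :=
  ∀ a ∈ Ubar S U, a ≠ 1 → ∀ z : Cfsg.fittingHallOf S, a z = z → z = 1

namespace Side

variable {G : Type u} [Group G] [Finite G] {S W₁ U W₂ : Subgroup G} {q p : ℕ}
variable (h : Side S W₁ U W₂ q p)
include h

/-- Conjugation by an element of `S`. -/
noncomputable def act (s : G) (hs : s ∈ S) : MulAut (Cfsg.fittingHallOf S) :=
  (Cfsg.fittingHallOf S).normalizerMonoidHom ⟨s, h.normalizer_P hs⟩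

theorem act_apply {s : G} (hs : s ∈ S) (x : Cfsg.fittingHallOf S) :
    ((h.act s hs x : Cfsg.fittingHallOf S) : G) = s * x * s⁻¹ := rfl

theorem act_mul {s t : G} (hs : s ∈ S) (ht : t ∈ S) :
    h.act (s * t) (mul_mem hs ht) = h.act s hs * h.act t ht :=
  map_mul (Cfsg.fittingHallOf S).normalizerMonoidHom ⟨s, h.normalizer_P hs⟩ ⟨t, h.normalizer_P ht⟩

theorem mem_Ubar {a : MulAut (Cfsg.fittingHallOf S)} :
    a ∈ Ubar S U ↔ ∃ u, ∃ hu : u ∈ U, h.act u (h.U_le hu) = a := by
  constructor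
  · rintro ⟨⟨u, hn⟩, hu, rfl⟩
    exact ⟨u, hu, rfl⟩
  · rintro ⟨u, hu, rfl⟩
    exact ⟨⟨u, h.normalizer_P (h.U_le hu)⟩, hu, rfl⟩

theorem act_mem {u : G} (hu : u ∈ U) : h.act u (h.U_le hu) ∈ Ubar S U :=
  h.mem_Ubar.2 ⟨u, hu, rfl⟩

theorem act_eq_one {u : G} (hu : u ∈ U) : h.act u (h.U_le hu) = 1 ↔ u ∈ centU S U := by
  rw [mem_centU]
  refine ⟨fun e => ⟨hu, fun x hx => ?_⟩, fun hC => MulEquiv.ext fun x => Subtype.ext ?_⟩
  · have h1 : u * x * u⁻¹ = x := by
      rw [← h.act_apply (h.U_le hu) ⟨x, hx⟩, e]; rfl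
    exact (mul_inv_eq_iff_eq_mul.1 h1).symm
  · rw [h.act_apply, ← hC.2 x x.2, mul_inv_cancel_right]
    rfl

theorem Ubar_comm {a b : MulAut (Cfsg.fittingHallOf S)} (ha : a ∈ Ubar S U) (hb : b ∈ Ubar S U) :
    a * b = b * a := by
  obtain ⟨u, hu, rfl⟩ := h.mem_Ubar.1 ha
  obtain ⟨v, hv, rfl⟩ := h.mem_Ubar.1 hb
  rw [← h.act_mul, ← h.act_mul]
  congr 1
  exact h.U_mul_comm hu hv

theorem card_Ubar : Nat.card (Ubar S U) = (centU S U).relIndex U := by
  rw [Ubar, ← Subgroup.relIndex_ker, Subgroup.normalizerMonoidHom_ker,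
    Subgroup.relIndex_subgroupOf (h.U_le.trans h.normalizer_P), centU,
    Subgroup.inf_relIndex_left]

theorem conjW_mem {w : G} (hw : w ∈ W₁) {a : MulAut (Cfsg.fittingHallOf S)} (ha : a ∈ Ubar S U) :
    h.act w (h.W₁_le hw) * a * (h.act w (h.W₁_le hw))⁻¹ ∈ Ubar S U := by
  obtain ⟨u, hu, rfl⟩ := h.mem_Ubar.1 ha
  refine h.mem_Ubar.2 ⟨w * u * w⁻¹, h.conj_mem_U hw hu, ?_⟩
  rw [eq_mul_inv_iff_mul_eq, ← h.act_mul, ← h.act_mul]
  congr 1
  group

/-- An invariant subgroup of `Ubar` fixing a non-identity element is trivial. -/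
theorem key_Ubar {X : Subgroup (MulAut (Cfsg.fittingHallOf S))} (hX : X ≤ Ubar S U)
    (hXn : ∀ (w : G) (hw : w ∈ W₁), ∀ a ∈ X,
      h.act w (h.W₁_le hw) * a * (h.act w (h.W₁_le hw))⁻¹ ∈ X)
    {z : Cfsg.fittingHallOf S} (hz : z ≠ 1) (hfix : ∀ a ∈ X, a z = z) : X = ⊥ := by
  by_contra hne
  set X' := U ⊓ (X.comap (Cfsg.fittingHallOf S).normalizerMonoidHom).map
    (Subgroup.normalizer (Cfsg.fittingHallOf S : Set G)).subtype with hX'
  have hmem : ∀ {u : G} (hu : u ∈ U), u ∈ X' ↔ h.act u (h.U_le hu) ∈ X := by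
    intro u hu
    refine ⟨fun h' => ?_, fun h' => Subgroup.mem_inf.2 ⟨hu, ⟨u, _⟩, h', rfl⟩⟩
    obtain ⟨⟨v, hv⟩, hvX, (rfl : v = u)⟩ := (Subgroup.mem_inf.1 h').2
    exact hvX
  apply hz
  refine Subtype.ext (h.key (X := X') inf_le_left (fun w hw x hx => ?_) (fun hle => ?_) z.2 ?_)
  · have hxU : x ∈ U := (Subgroup.mem_inf.1 hx).1
    rw [hmem (h.conj_mem_U hw hxU)]
    have h1 := hXn w hw _ ((hmem hxU).1 hx)
    convert h1 using 1
    rw [eq_mul_inv_iff_mul_eq, ← h.act_mul, ← h.act_mul]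
    congr 1
    group
  · refine hne (eq_bot_iff.2 fun a ha => Subgroup.mem_bot.2 ?_)
    obtain ⟨u, hu, rfl⟩ := h.mem_Ubar.1 (hX ha)
    exact (h.act_eq_one hu).2 (hle ((hmem hu).2 ha))
  · intro x hx
    have hxU : x ∈ U := (Subgroup.mem_inf.1 hx).1
    have h1 : x * z * x⁻¹ = z := by
      rw [← h.act_apply (h.U_le hxU), hfix _ ((hmem hxU).1 hx)]
    exact mul_inv_eq_iff_eq_mul.1 h1

omit h in
/-- The elements of exponent `r` of `Ubar`. -/
def torsion (hc : ∀ a ∈ Ubar S U, ∀ b ∈ Ubar S U, a * b = b * a) (r : ℕ) :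
    Subgroup (MulAut (Cfsg.fittingHallOf S)) where
  carrier := {a | a ∈ Ubar S U ∧ a ^ r = 1}
  one_mem' := ⟨one_mem _, one_pow r⟩
  mul_mem' := fun {a b} ha hb => ⟨mul_mem ha.1 hb.1, by
    rw [(show Commute a b from hc a ha.1 b hb.1).mul_pow, ha.2, hb.2, one_mul]⟩
  inv_mem' := fun {a} ha => ⟨inv_mem ha.1, by rw [inv_pow, ha.2, inv_one]⟩

theorem hcomm : ∀ a ∈ Ubar S U, ∀ b ∈ Ubar S U, a * b = b * a := fun _ ha _ hb => h.Ubar_comm ha hb

theorem mem_torsion {r : ℕ} {a : MulAut (Cfsg.fittingHallOf S)} :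
    a ∈ torsion h.hcomm r ↔ a ∈ Ubar S U ∧ a ^ r = 1 := Iff.rfl

theorem card_torsion_le {r : ℕ} (hr : r.Prime) : Nat.card (torsion h.hcomm r) ≤ r ^ 2 := by
  set N := Subgroup.normalizer (Cfsg.fittingHallOf S : Set G)
  set A := U.subgroupOf N with hA
  letI : CommGroup A := { (inferInstance : Group A) with
    mul_comm := fun a b => Subtype.ext (Subtype.ext (h.U_mul_comm a.2 b.2)) }
  letI : CommGroup (Ubar S U) := { (inferInstance : Group (Ubar S U)) with
    mul_comm := fun a b => Subtype.ext (h.Ubar_comm a.2 b.2) }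
  let f : A →* Ubar S U := (Cfsg.fittingHallOf S).normalizerMonoidHom.subgroupMap A
  have hf : Function.Surjective f :=
    MonoidHom.subgroupMap_surjective (Cfsg.fittingHallOf S).normalizerMonoidHom A
  have h1 := card_pow_ker_le f hf r
  have h2 : Nat.card (torsion h.hcomm r) = Nat.card (powMonoidHom r : Ubar S U →* Ubar S U).ker :=
    Nat.card_congr
      { toFun := fun a => ⟨⟨a, a.2.1⟩, MonoidHom.mem_ker.2 (Subtype.ext a.2.2)⟩
        invFun := fun a => ⟨a.1.1, a.1.2, congrArg Subtype.val (MonoidHom.mem_ker.1 a.2)⟩ }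
  have hUN : U ≤ N := h.U_le.trans h.normalizer_P
  have h3 : Nat.card (powMonoidHom r : A →* A).ker ≤ r ^ 2 := by
    have e : (powMonoidHom r : A →* A).ker.map
        (Subgroup.subgroupOfEquivOfLe hUN).toMonoidHom ≤ ⊤ := le_top
    have h4 := h.U_rank r hr ((powMonoidHom r : A →* A).ker.map
        (Subgroup.subgroupOfEquivOfLe hUN).toMonoidHom)
      ⟨⟨fun a b => Subtype.ext (Subtype.ext (h.U_mul_comm a.1.2 b.1.2))⟩⟩
      (fun a ha => by
        obtain ⟨b, hb, rfl⟩ := ha
        rw [← map_pow, show b ^ r = 1 from MonoidHom.mem_ker.1 hb, map_one])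
    rwa [Subgroup.card_map_of_injective (MulEquiv.injective _)] at h4
  omega

theorem exists_orderOf_of_dvd {r : ℕ} (hr : r.Prime) (hd : r ∣ (centU S U).relIndex U) :
    ∃ b ∈ Ubar S U, orderOf b = r := by
  haveI := Fact.mk hr
  obtain ⟨b, hb⟩ := exists_prime_orderOf_dvd_card' (G := Ubar S U) r (h.card_Ubar ▸ hd)
  exact ⟨b, b.2, by rw [Subgroup.orderOf_coe]; exact hb⟩

theorem two_lt_of_dvd {r : ℕ} (hr : r.Prime) (hd : r ∣ (centU S U).relIndex U) : 2 < r := by
  refine lt_of_le_of_ne hr.two_le fun e => ?_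
  subst e
  have h1 := (h.odd_of_le U).of_dvd_nat (Dvd.intro_left _ h.relIndex_centU_mul)
  exact (Nat.not_even_iff_odd.2 h1) (even_iff_two_dvd.2 hd)

/-- Every prime dividing `|U : C|` is at least `q - 1`. -/
theorem le_succ_of_prime_dvd {r : ℕ} (hr : r.Prime) (hd : r ∣ (centU S U).relIndex U) :
    q ≤ r + 1 := by
  haveI := Fact.mk hr
  set T := torsion h.hcomm r with hT
  set T' := U ⊓ (T.comap (Cfsg.fittingHallOf S).normalizerMonoidHom).map
    (Subgroup.normalizer (Cfsg.fittingHallOf S : Set G)).subtype with hT'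
  have hmem : ∀ {u : G} (hu : u ∈ U), u ∈ T' ↔ h.act u (h.U_le hu) ∈ T := by
    intro u hu
    refine ⟨fun h' => ?_, fun h' => Subgroup.mem_inf.2 ⟨hu, ⟨u, _⟩, h', rfl⟩⟩
    obtain ⟨⟨v, hv⟩, hvX, (rfl : v = u)⟩ := (Subgroup.mem_inf.1 h').2
    exact hvX
  have hTn : ∀ w ∈ W₁, ∀ x ∈ T', w * x * w⁻¹ ∈ T' := by
    intro w hw x hx
    have hxU : x ∈ U := (Subgroup.mem_inf.1 hx).1
    obtain ⟨h1, h2⟩ := h.mem_torsion.1 ((hmem hxU).1 hx)
    rw [hmem (h.conj_mem_U hw hxU)]
    have e : h.act (w * x * w⁻¹) (h.U_le (h.conj_mem_U hw hxU)) =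
        h.act w (h.W₁_le hw) * h.act x (h.U_le hxU) * (h.act w (h.W₁_le hw))⁻¹ := by
      rw [eq_mul_inv_iff_mul_eq, ← h.act_mul, ← h.act_mul]
      congr 1
      group
    rw [h.mem_torsion, e, conj_pow, h2, mul_one, mul_inv_cancel]
    exact ⟨h.conjW_mem hw h1, rfl⟩
  have hCT : centU S U ≤ T' := fun c hc => by
    rw [hmem (centU_le hc), (h.act_eq_one (centU_le hc)).2 hc]
    exact one_mem _
  have hrel : (centU S U).relIndex T' = Nat.card T := by
    have hT'N : T' ≤ Subgroup.normalizer (Cfsg.fittingHallOf S : Set G) :=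
      inf_le_left.trans (h.U_le.trans h.normalizer_P)
    have e : (T'.subgroupOf (Subgroup.normalizer (Cfsg.fittingHallOf S : Set G))).map
        (Cfsg.fittingHallOf S).normalizerMonoidHom = T := by
      ext a
      constructor
      · rintro ⟨⟨v, hv⟩, hvT, rfl⟩
        exact (hmem (Subgroup.mem_inf.1 hvT).1).1 hvT
      · intro ha
        obtain ⟨u, hu, rfl⟩ := h.mem_Ubar.1 (h.mem_torsion.1 ha).1
        exact ⟨⟨u, _⟩, (hmem hu).2 ha, rfl⟩
    rw [← e, ← Subgroup.relIndex_ker, Subgroup.normalizerMonoidHom_ker,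
      Subgroup.relIndex_subgroupOf hT'N, centU, inf_comm, ← Subgroup.inf_relIndex_right,
      ← Subgroup.inf_relIndex_right (Subgroup.centralizer _) T', inf_assoc,
      inf_eq_right.2 (inf_le_left : T' ≤ U)]
  have hcard : Nat.card (centU S U) * Nat.card T = Nat.card T' := by
    rw [← hrel, ← Subgroup.relIndex_bot_left, ← Subgroup.relIndex_bot_left,
      Subgroup.relIndex_mul_relIndex ⊥ _ _ bot_le hCT]
  have hmod : Nat.card T % q = 1 := by
    have h1 := h.W₁_fpf_card (X := T') inf_le_left hTn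
    rw [← hcard] at h1
    have h2 := congrArg (· % q) h1
    have h3 := congrArg (· % q) h.card_centU_mod
    simp only [Nat.mod_mul_left_mod, Nat.one_mod_eq_one.2 h.q_prime.ne_one] at h2 h3
    rwa [Nat.mul_mod, h3, one_mul, Nat.mod_mod] at h2
  have hTp : IsPGroup r T := fun a => ⟨1, Subtype.ext (by simpa using (h.mem_torsion.1 a.2).2)⟩
  obtain ⟨n, hn⟩ := IsPGroup.iff_card.1 hTp
  obtain ⟨b, hbU, hb⟩ := h.exists_orderOf_of_dvd hr hd
  have hn0 : n ≠ 0 := by
    rintro rfl
    have hbT : b ∈ T := h.mem_torsion.2 ⟨hbU, hb ▸ pow_orderOf_eq_one b⟩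
    rw [pow_zero, Subgroup.card_eq_one] at hn
    rw [hn, Subgroup.mem_bot] at hbT
    rw [hbT, orderOf_one] at hb
    exact hr.ne_one hb.symm
  have hn2 : n ≤ 2 := (Nat.pow_le_pow_iff_right hr.one_lt).1 (hn ▸ h.card_torsion_le hr)
  have hdv : q ∣ r ^ n - 1 := by
    rw [← hn]
    exact ⟨Nat.card T / q, by have := Nat.div_add_mod (Nat.card T) q; omega⟩
  have h2r := hr.two_le
  rcases (show n = 1 ∨ n = 2 by omega) with rfl | rfl
  · rw [pow_one] at hdv
    have := Nat.le_of_dvd (by omega) hdv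
    omega
  · have e : r ^ 2 - 1 = (r + 1) * (r - 1) := by
      simpa using Nat.sq_sub_sq r 1
    rw [e] at hdv
    rcases (Nat.Prime.dvd_mul h.q_prime).1 hdv with h1 | h1
    · exact Nat.le_of_dvd (by omega) h1
    · have := Nat.le_of_dvd (by omega) h1
      omega

/-- The subgroup of the fixed points of an automorphism. -/
def fixedBy {H : Type*} [Group H] (a : MulAut H) : Subgroup H :=
  a.toMonoidHom.eqLocus (MonoidHom.id H)

omit h in
theorem mem_fixedBy {H : Type*} [Group H] {a : MulAut H} {x : H} : x ∈ fixedBy a ↔ a x = x :=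
  Iff.rfl

omit h in
theorem pow_apply_of_fixed {H : Type*} [Group H] {a : MulAut H} {x : H} (hx : a x = x) (k : ℕ) :
    (a ^ k) x = x := by
  induction k with
  | zero => rfl
  | succ k ih => rw [pow_succ, MulAut.mul_apply, hx, ih]

omit h in
theorem pow_apply_zpow {H : Type*} [Group H] {a : MulAut H} {x : H} {m : ℤ} (hx : a x = x ^ m)
    (k : ℕ) : (a ^ k) x = x ^ (m ^ k) := by
  induction k with
  | zero => simp
  | succ k ih => rw [pow_succ, MulAut.mul_apply, hx, map_zpow, ih, ← zpow_mul, pow_succ]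

/-- Either the action is fixed-point-free or the exponent of `Ubar` divides `p - 1`. -/
theorem dichotomy : Fpf S U ∨ ∀ a ∈ Ubar S U, a ^ (p - 1) = 1 := by
  classical
  refine or_iff_not_imp_left.2 fun hn => ?_
  set P := Cfsg.fittingHallOf S with hP
  simp only [Fpf, not_forall, exists_prop] at hn
  obtain ⟨a, haU, ha1, z, hza, hz1⟩ := hn
  obtain ⟨r, hr, hrd⟩ := Nat.exists_prime_and_dvd (n := orderOf a)
    (fun e => ha1 (orderOf_eq_one_iff.1 e))
  haveI := Fact.mk hr
  set b := a ^ (orderOf a / r) with hb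
  have hbo : orderOf b = r := orderOf_pow_orderOf_div (orderOf_pos a).ne' hrd
  have hbU : b ∈ Ubar S U := pow_mem haU _
  have hbz : b z = z := pow_apply_of_fixed hza _
  haveI := Fintype.ofFinite W₁
  letI : CommGroup P := { (inferInstance : Group P) with
    mul_comm := fun a b => Subtype.ext (h.P_comm a.2 b.2) }
  set φ : W₁ → MulAut P := fun w => h.act (w : G) (h.W₁_le w.2) with hφ
  have hφmul : ∀ v w : W₁, φ (v * w) = φ v * φ w := fun v w => h.act_mul _ _
  have hφone : φ 1 = 1 := by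
    have := hφmul 1 1
    rw [one_mul] at this
    exact left_eq_mul.1 this
  have hφinv : ∀ w : W₁, φ w⁻¹ = (φ w)⁻¹ := fun w =>
    eq_inv_of_mul_eq_one_left (by rw [← hφmul, inv_mul_cancel, hφone])
  set B : W₁ → MulAut P := fun w => φ w * b * (φ w)⁻¹ with hB
  have hBU : ∀ w, B w ∈ Ubar S U := fun w => h.conjW_mem w.2 hbU
  have hBo : ∀ w, B w ^ r = 1 := fun w => by
    simp only [hB]
    rw [conj_pow, ← hbo, pow_orderOf_eq_one, mul_one, mul_inv_cancel]
  have hB1 : ∀ w, B w ≠ 1 := fun w e => by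
    have : b = 1 := by
      simp only [hB] at e
      have e' := congrArg (fun c => (φ w)⁻¹ * c * φ w) e
      simpa [mul_assoc] using e'
    rw [this, orderOf_one] at hbo
    exact hr.ne_one hbo.symm
  have hBord : ∀ w, orderOf (B w) = r := fun w => orderOf_eq_prime (hBo w) (hB1 w)
  have hdistinct : ∀ v w : W₁, v ≠ w → B v ∉ Subgroup.zpowers (B w) := by
    intro v w hvw hmem
    set g := w⁻¹ * v with hg
    have hg1 : (g : G) ≠ 1 := fun e => hvw (by
      have e' : g = 1 := Subtype.ext e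
      rw [hg, inv_mul_eq_one] at e'
      exact e'.symm)
    have hgb : φ g * b * (φ g)⁻¹ ∈ Subgroup.zpowers b := by
      obtain ⟨k, hk⟩ := Subgroup.mem_zpowers_iff.1 hmem
      refine Subgroup.mem_zpowers_iff.2 ⟨k, ?_⟩
      simp only [hB, conj_zpow] at hk
      rw [hg, hφmul, hφinv]
      calc b ^ k = (φ w)⁻¹ * (φ w * b ^ k * (φ w)⁻¹) * φ w := by group
        _ = _ := by rw [hk]; group
    have hinv : ∀ x ∈ Subgroup.zpowers b, φ g * x * (φ g)⁻¹ ∈ Subgroup.zpowers b := by
      intro x hx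
      obtain ⟨k, rfl⟩ := Subgroup.mem_zpowers_iff.1 hx
      rw [← conj_zpow]
      exact zpow_mem hgb k
    have hall : ∀ n : ℕ, ∀ x ∈ Subgroup.zpowers b,
        φ (g ^ n) * x * (φ (g ^ n))⁻¹ ∈ Subgroup.zpowers b := by
      intro n
      induction n with
      | zero => intro x hx; simpa [hφone] using hx
      | succ n ih =>
        intro x hx
        rw [pow_succ, hφmul, mul_inv_rev]
        have := ih _ (hinv x hx)
        simpa [mul_assoc] using this
    have := h.key_Ubar (X := Subgroup.zpowers b) (Subgroup.zpowers_le.2 hbU) ?_ hz1 ?_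
    · rw [Subgroup.zpowers_eq_bot] at this
      rw [this, orderOf_one] at hbo
      exact hr.ne_one hbo.symm
    · intro u hu x hx
      have hu' : u ∈ Subgroup.zpowers (g : G) := by rw [h.W₁_eq_zpowers g.2 hg1]; exact hu
      obtain ⟨n, hn⟩ := (IsOfFinOrder.mem_powers_iff_mem_zpowers (isOfFinOrder_of_finite _)).2 hu'
      have e : h.act u (h.W₁_le hu) = φ (g ^ n) := by
        simp only [hφ]
        congr 1
        rw [← hn]; simp
      rw [e]
      exact hall n x hx
    · intro x hx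
      obtain ⟨k, rfl⟩ := Subgroup.mem_zpowers_iff.1 hx
      have hfix : ∀ c ∈ Subgroup.zpowers b, c z = z := fun c hc => by
        obtain ⟨n, rfl⟩ := (IsOfFinOrder.mem_powers_iff_mem_zpowers (isOfFinOrder_of_finite _)).2 hc
        exact pow_apply_of_fixed hbz n
      exact hfix _ (zpow_mem (Subgroup.mem_zpowers b) k)
  set V : W₁ → Subgroup P := fun w => fixedBy (B w) with hV
  -- the norm map of the `w`-th line
  set E : W₁ → (P →* P) := fun w =>
    ∏ k ∈ Finset.range r, (B w ^ k : MulAut P).toMonoidHom with hE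
  have hEapp : ∀ w x, E w x = ∏ k ∈ Finset.range r, (B w ^ k) x := fun w x => by
    simp [hE, MonoidHom.finsetProd_apply]
  have hEsame : ∀ w, ∀ x ∈ V w, E w x = x ^ r := fun w x hx => by
    rw [hEapp, Finset.prod_congr rfl fun k _ => pow_apply_of_fixed (mem_fixedBy.1 hx) k,
      Finset.prod_const, Finset.card_range]
  have hEfix : ∀ w x, B w (E w x) = E w x := by
    intro w x
    rw [hEapp, map_prod]
    have e : ∀ k, B w ((B w ^ k) x) = (B w ^ (k + 1)) x := fun k => by
      rw [pow_succ']; rfl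
    simp only [e]
    have h1 := Finset.prod_range_succ' (fun k => (B w ^ k) x) r
    have h2 := Finset.prod_range_succ (fun k => (B w ^ k) x) r
    rw [h2, hBo w, pow_zero] at h1
    exact (mul_right_cancel h1).symm
  have hEother : ∀ v w, v ≠ w → ∀ x ∈ V v, E w x = 1 := by
    intro v w hvw x hx
    by_contra hne
    have hfix2 : B v (E w x) = E w x := by
      rw [hEapp, map_prod]
      refine Finset.prod_congr rfl fun k _ => ?_
      rw [← MulAut.mul_apply, h.Ubar_comm (hBU v) (pow_mem (hBU w) k), MulAut.mul_apply,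
        mem_fixedBy.1 hx]
    set T := torsion h.hcomm r
    set X : Subgroup (MulAut P) := Subgroup.zpowers (B v) ⊔ Subgroup.zpowers (B w) with hX
    have hXT : X ≤ T := sup_le (Subgroup.zpowers_le.2 (h.mem_torsion.2 ⟨hBU v, hBo v⟩))
      (Subgroup.zpowers_le.2 (h.mem_torsion.2 ⟨hBU w, hBo w⟩))
    have hTp : IsPGroup r T := fun a => ⟨1, Subtype.ext (by simpa using (h.mem_torsion.1 a.2).2)⟩
    have hXeq : X = T := by
      refine Subgroup.eq_of_le_of_card_ge hXT ?_
      obtain ⟨n, hn⟩ := IsPGroup.iff_card.1 (hTp.to_le hXT)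
      have h1 : r ≤ Nat.card X := by
        rw [← hBord w, ← Nat.card_zpowers]
        exact Subgroup.card_le_of_le le_sup_right
      have h2 : n ≠ 1 := fun e => hdistinct v w hvw (by
        have e2 : Subgroup.zpowers (B w) = X := Subgroup.eq_of_le_of_card_ge le_sup_right
          (by rw [hn, e, pow_one, Nat.card_zpowers, hBord w])
        rw [e2]
        exact le_sup_left (a := Subgroup.zpowers (B v)) (Subgroup.mem_zpowers _))
      have h3 : n ≠ 0 := fun e => by
        rw [hn, e, pow_zero] at h1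
        have := hr.two_le
        omega
      calc Nat.card T ≤ r ^ 2 := h.card_torsion_le hr
        _ ≤ r ^ n := Nat.pow_le_pow_right hr.pos (by omega)
        _ = Nat.card X := hn.symm
    have hXfix : ∀ c ∈ X, c (E w x) = E w x := by
      intro c hc
      have hle : X ≤ MulAction.stabilizer (MulAut P) (E w x) := sup_le
        (Subgroup.zpowers_le.2 (MulAction.mem_stabilizer_iff.2 hfix2))
        (Subgroup.zpowers_le.2 (MulAction.mem_stabilizer_iff.2 (hEfix w x)))
      exact MulAction.mem_stabilizer_iff.1 (hle hc)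
    have := h.key_Ubar (X := X) (hXT.trans fun c hc => hc.1) (fun u hu c hc => by
      rw [hXeq] at hc ⊢
      obtain ⟨h1, h2⟩ := h.mem_torsion.1 hc
      exact h.mem_torsion.2 ⟨h.conjW_mem hu h1, by rw [conj_pow, h2, mul_one, mul_inv_cancel]⟩)
      hne hXfix
    rw [hX, sup_eq_bot_iff, Subgroup.zpowers_eq_bot] at this
    exact hB1 v this.1
  set f : (∀ w, V w) → P := fun x => ∏ w, ((x w : V w) : P) with hf
  have hrp : r.Coprime p := by
    rw [← hbo]
    refine Nat.Coprime.coprime_dvd_left ?_ h.coprime_p_u.symm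
    refine (Subgroup.orderOf_dvd_natCard _ hbU).trans ?_
    rw [h.card_Ubar]
    exact Dvd.intro_left _ h.relIndex_centU_mul
  have hpow_inj : ∀ y : P, y ^ r = 1 → y = 1 := fun y hy => by
    refine orderOf_eq_one_iff.1 (Nat.eq_one_of_dvd_coprimes hrp (orderOf_dvd_of_pow_eq_one hy) ?_)
    rcases eq_or_ne y 1 with e | e
    · simp [e]
    · rw [← Subgroup.orderOf_coe, h.orderOf_P y.2 (fun e' => e (Subtype.ext e'))]
  have hfinj : Function.Injective f := by
    intro x y hxy
    funext w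
    have h1 := congrArg (E w) hxy
    simp only [hf, map_prod] at h1
    rw [Finset.prod_eq_single w (fun v _ hv => hEother v w hv _ (x v).2) (by simp),
      Finset.prod_eq_single w (fun v _ hv => hEother v w hv _ (y v).2) (by simp),
      hEsame w _ (x w).2, hEsame w _ (y w).2] at h1
    refine Subtype.ext (inv_mul_eq_one.1 (hpow_inj _ ?_))
    rw [mul_pow, inv_pow, h1, inv_mul_cancel]
  have hVconj : ∀ w, Nat.card (V w) = Nat.card (V 1) := fun w => by
    have hto : ∀ x : V 1, φ w x ∈ V w := fun x => by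
      refine mem_fixedBy.2 ?_
      simp only [hB, MulAut.mul_apply, MulAut.inv_apply_self]
      have := mem_fixedBy.1 x.2
      simp only [hB, hφone, one_mul, inv_one, mul_one] at this
      rw [this]
    have hfrom : ∀ x : V w, (φ w)⁻¹ x ∈ V 1 := fun x => by
      refine mem_fixedBy.2 ?_
      have := mem_fixedBy.1 x.2
      simp only [hB, MulAut.mul_apply] at this
      simp only [hB, hφone, one_mul, inv_one, mul_one]
      apply (φ w).injective
      rw [MulAut.apply_inv_self, this]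
    exact (Nat.card_congr ⟨fun x => ⟨φ w x, hto x⟩, fun x => ⟨(φ w)⁻¹ x, hfrom x⟩,
      fun x => Subtype.ext (MulAut.inv_apply_self _ _ _),
      fun x => Subtype.ext (MulAut.apply_inv_self _ _ _)⟩).symm
  have hcardle : Nat.card (∀ w, V w) ≤ Nat.card P := Nat.card_le_card_of_injective f hfinj
  have hpi : Nat.card (∀ w, V w) = Nat.card (V 1) ^ q := by
    rw [Nat.card_pi, Finset.prod_congr rfl fun w _ => hVconj w, Finset.prod_const,
      Finset.card_univ, ← Nat.card_eq_fintype_card, h.card_W₁]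
  have hVp : Nat.card (V 1) = p := by
    have h1 : Nat.card (V 1) ≤ p := by
      refine (Nat.pow_le_pow_iff_left h.q_prime.ne_zero).1 ?_
      rw [← hpi, ← h.P_card]
      exact hcardle
    refine le_antisymm h1 (Nat.le_of_dvd Nat.card_pos ?_)
    rw [← h.orderOf_P z.2 (fun e => hz1 (Subtype.ext e)), Subgroup.orderOf_coe]
    refine Subgroup.orderOf_dvd_natCard _ ?_
    rw [mem_fixedBy]
    simpa [hB, hφone] using hbz
  have hfsurj : Function.Surjective f := by
    refine (Finite.injective_iff_surjective_of_equiv ?_).1 hfinj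
    exact (Finite.card_eq.1 (by rw [hpi, hVp, ← h.P_card])).some
  intro c hc
  refine MulEquiv.ext fun x => ?_
  obtain ⟨x, rfl⟩ := hfsurj x
  simp only [hf, map_prod, MulAut.one_apply]
  refine Finset.prod_congr rfl fun w _ => ?_
  rcases eq_or_ne ((x w : V w) : P) 1 with e | e
  · rw [e, map_one]
  have hmem : c (x w : P) ∈ V w := by
    rw [mem_fixedBy, ← MulAut.mul_apply, h.Ubar_comm (hBU w) hc, MulAut.mul_apply,
      mem_fixedBy.1 (x w).2]
  have hz' : Subgroup.zpowers ((x w : V w) : P) = V w := by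
    refine Subgroup.eq_of_le_of_card_ge (Subgroup.zpowers_le.2 (x w).2) ?_
    rw [Nat.card_zpowers, hVconj w, hVp, ← Subgroup.orderOf_coe,
      h.orderOf_P ((x w : V w) : P).2 (fun e' => e (Subtype.ext e'))]
  obtain ⟨m, hm⟩ := Subgroup.mem_zpowers_iff.1 (hz'.symm ▸ hmem :
    c ((x w : V w) : P) ∈ Subgroup.zpowers ((x w : V w) : P))
  rw [pow_apply_zpow hm.symm]
  haveI := Fact.mk h.p_prime
  have ho : orderOf ((x w : V w) : P) = p := by
    rw [← Subgroup.orderOf_coe, h.orderOf_P ((x w : V w) : P).2 (fun e' => e (Subtype.ext e'))]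
  have hm0 : (m : ZMod p) ≠ 0 := fun e0 => e (c.injective (by
    rw [map_one, ← hm]
    exact orderOf_dvd_iff_zpow_eq_one.1 (by
      rw [ho]; exact (ZMod.intCast_zmod_eq_zero_iff_dvd m p).1 e0)))
  conv_rhs => rw [← zpow_one ((x w : V w) : P)]
  rw [zpow_eq_zpow_iff_modEq, ho, ← ZMod.intCast_eq_intCast_iff]
  push_cast
  exact ZMod.pow_card_sub_one_eq_one hm0

theorem coprime_of_lt (hpq : p < q) : ((centU S U).relIndex U).Coprime (p - 1) := by
  refine Nat.coprime_of_dvd fun r hr h1 h2 => ?_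
  have h3 := h.le_succ_of_prime_dvd hr h1
  have h5 := h.three_le_p
  have h4 := Nat.le_of_dvd (by omega) h2
  omega

theorem fpf_of_lt (hpq : p < q) : Fpf S U := by
  refine h.dichotomy.resolve_right fun hexp => ?_
  have h1 := h.coprime_of_lt hpq
  have h2 := h.two_q_lt_relIndex
  obtain ⟨r, hr, hrd⟩ := Nat.exists_prime_and_dvd (n := (centU S U).relIndex U)
    (by have := h.three_le_q; omega)
  obtain ⟨b, hbU, hb⟩ := h.exists_orderOf_of_dvd hr hrd
  exact hr.ne_one (Nat.eq_one_of_dvd_coprimes h1 hrd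
    (hb ▸ orderOf_dvd_of_pow_eq_one (hexp b hbU)))

/-- The fixer of a non-identity element. -/
theorem stab_card {X : Subgroup (MulAut (Cfsg.fittingHallOf S))} (hX : X ≤ Ubar S U)
    {z : Cfsg.fittingHallOf S} (hz : z ≠ 1) (hfix : ∀ a ∈ X, a z = z) :
    Nat.card X = 1 ∨ (Nat.card X ∣ p - 1 ∧ 2 * Nat.card X ≤ p - 1) := by
  rcases h.dichotomy with hf | hexp
  · refine Or.inl (Subgroup.card_eq_one.2 (eq_bot_iff.2 fun a ha => Subgroup.mem_bot.2 ?_))
    by_contra ha1
    exact hz (hf a (hX ha) ha1 z (hfix a ha))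
  haveI : IsMulCommutative X := ⟨⟨fun a b => Subtype.ext (h.Ubar_comm (hX a.2) (hX b.2))⟩⟩
  haveI hnil : Group.IsNilpotent X := by
    letI : CommGroup X := { (inferInstance : Group X) with
      mul_comm := fun a b => Subtype.ext (h.Ubar_comm (hX a.2) (hX b.2)) }
    infer_instance
  have hz' : IsZGroup X := by
    refine ⟨fun r hr R => ?_⟩
    haveI := Fact.mk hr
    by_contra hnc
    obtain ⟨A, hAR, hA, hAcard⟩ := RankTwoLines.exists_elementary (G := X) R.2
      (fun a _ b _ => Subtype.ext (h.Ubar_comm (hX a.2) (hX b.2))) hnc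
    have hAT : A.map X.subtype ≤ torsion h.hcomm r := by
      rintro _ ⟨a, ha, rfl⟩
      exact h.mem_torsion.2 ⟨hX a.2, by rw [← map_pow, hA.2 a ha, map_one]⟩
    have hAeq : A.map X.subtype = torsion h.hcomm r := Subgroup.eq_of_le_of_card_ge hAT
      (by rw [Subgroup.card_map_of_injective X.subtype_injective, hAcard]
          exact h.card_torsion_le hr)
    have := h.key_Ubar (X := torsion h.hcomm r) (fun c hc => hc.1) (fun u hu c hc => by
      obtain ⟨h1, h2⟩ := h.mem_torsion.1 hc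
      exact h.mem_torsion.2 ⟨h.conjW_mem hu h1, by rw [conj_pow, h2, mul_one, mul_inv_cancel]⟩)
      hz (fun c hc => by
        rw [← hAeq] at hc
        obtain ⟨a, -, rfl⟩ := hc
        exact hfix a a.2)
    rw [← hAeq, Subgroup.map_eq_bot_iff_of_injective _ X.subtype_injective] at this
    rw [this, Subgroup.card_bot] at hAcard
    have := hr.two_le
    nlinarith
  haveI := hz'
  obtain ⟨g, hg⟩ := IsCyclic.exists_ofOrder_eq_natCard (α := X)
  have hd : Nat.card X ∣ p - 1 := by
    rw [← hg, ← Subgroup.orderOf_coe]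
    exact orderOf_dvd_of_pow_eq_one (hexp _ (hX g.2))
  rcases eq_or_ne (Nat.card X) 1 with e | e
  · exact Or.inl e
  refine Or.inr ⟨hd, ?_⟩
  obtain ⟨k, hk⟩ := hd
  have hodd : Odd (Nat.card X) := by
    refine Odd.of_dvd_nat (h.odd_of_le U) (Dvd.dvd.trans ?_ (Dvd.intro_left _ h.relIndex_centU_mul))
    rw [← h.card_Ubar]
    exact Subgroup.card_dvd_of_le hX
  have hk2 : k ≠ 1 := by
    rintro rfl
    rw [mul_one] at hk
    have h5 := h.p_prime.odd_of_ne_two h.p_ne_two
    rw [Nat.odd_iff] at h5 hodd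
    omega
  have hk0 : k ≠ 0 := by
    rintro rfl
    have := h.three_le_p
    omega
  rw [hk]
  have : 2 ≤ k := by omega
  nlinarith

/-- The fixer in `U` of an element of `W₂` lies in `C`. -/
theorem fixer_W₂ {u z : G} (hu : u ∈ U) (hz : z ∈ W₂) (hz1 : z ≠ 1) (he : u * z = z * u) :
    u ∈ centU S U := by
  set X : Subgroup G := U ⊓ Subgroup.centralizer ({z} : Set G) with hX
  by_contra hC
  refine hz1 (h.key (X := X) inf_le_left (fun w hw x hx => ?_) (fun hle => hC (hle ?_))
    (h.W₂_le_P hz) fun x hx => Subgroup.mem_centralizer_singleton_iff.1 (Subgroup.mem_inf.1 hx).2)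
  · obtain ⟨hxU, hxz⟩ := Subgroup.mem_inf.1 hx
    rw [Subgroup.mem_centralizer_singleton_iff] at hxz
    refine Subgroup.mem_inf.2 ⟨h.conj_mem_U hw hxU, Subgroup.mem_centralizer_singleton_iff.2 ?_⟩
    have hwz : w⁻¹ * z = z * w⁻¹ := (inv_mem_iff.2 hw |> fun hw' => h.W₁_comm_W₂ hw' hz)
    calc w * x * w⁻¹ * z = w * (x * z) * w⁻¹ := by rw [mul_assoc _ w⁻¹, hwz]; group
      _ = (w * z) * x * w⁻¹ := by rw [hxz]; group
      _ = z * (w * x * w⁻¹) := by rw [h.W₁_comm_W₂ hw hz]; group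
  · exact Subgroup.mem_inf.2 ⟨hu, Subgroup.mem_centralizer_singleton_iff.2 he⟩

/-- `W₁` fixes no non-identity element of `U / C`. -/
theorem mem_centU_of_fixed {w u : G} (hw : w ∈ W₁) (hw1 : w ≠ 1) (hu : u ∈ U)
    (hv : u⁻¹ * (w * u * w⁻¹) ∈ centU S U) : u ∈ centU S U := by
  have inj : ∀ x ∈ U, ∀ y ∈ U, x⁻¹ * (w * x * w⁻¹) = y⁻¹ * (w * y * w⁻¹) → x = y := by
    intro x hx y hy e
    refine mul_inv_eq_one.1 (h.fixed_U hw hw1 (mul_mem hx (inv_mem hy)) (mul_inv_eq_iff_eq_mul.1 ?_))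
    calc w * (x * y⁻¹) * w⁻¹ = x * (x⁻¹ * (w * x * w⁻¹)) * (w * y * w⁻¹)⁻¹ := by group
      _ = x * (y⁻¹ * (w * y * w⁻¹)) * (w * y * w⁻¹)⁻¹ := by rw [e]
      _ = x * y⁻¹ := by group
  let f : centU S U → centU S U := fun c =>
    ⟨(c : G)⁻¹ * (w * c * w⁻¹), mul_mem (inv_mem c.2) (h.conj_mem_centU hw c.2)⟩
  have hinj : Function.Injective f := fun c d e =>
    Subtype.ext (inj c (centU_le c.2) d (centU_le d.2) (congrArg Subtype.val e))
  obtain ⟨c, hc⟩ := (Finite.injective_iff_surjective.1 hinj) ⟨_, hv⟩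
  exact inj c (centU_le c.2) u hu (congrArg Subtype.val hc) ▸ c.2

/-- The orbits of the non-identity elements of `W₂` are free and distinct. -/
theorem relIndex_mul_le : (centU S U).relIndex U * (p - 1) ≤ p ^ q - 1 := by
  classical
  haveI := Fintype.ofFinite G
  set P := Cfsg.fittingHallOf S with hP
  let f : Ubar S U × {z : W₂ // z ≠ 1} → {x : P // x ≠ 1} := fun az =>
    ⟨(az.1 : MulAut P) ⟨(az.2.1 : G), h.W₂_le_P az.2.1.2⟩, fun e => az.2.2 (Subtype.ext (by
      have := (az.1 : MulAut P).injective (e.trans (map_one _).symm)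
      exact (congrArg Subtype.val this : _)))⟩
  have hf : Function.Injective f := by
    rintro ⟨⟨a, ha⟩, z, hz⟩ ⟨⟨a', ha'⟩, z', hz'⟩ e
    have e1 : a ⟨(z : G), h.W₂_le_P z.2⟩ = a' ⟨(z' : G), h.W₂_le_P z'.2⟩ :=
      congrArg Subtype.val e
    set c := a'⁻¹ * a with hc
    have hcU : c ∈ Ubar S U := mul_mem (inv_mem ha') ha
    obtain ⟨u, hu, hcu⟩ := h.mem_Ubar.1 hcU
    have e2 : u * (z : G) * u⁻¹ = z' := by
      rw [← h.act_apply (h.U_le hu) ⟨(z : G), h.W₂_le_P z.2⟩, hcu, hc, MulAut.mul_apply, e1,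
        MulAut.inv_apply_self]
    have hC : u ∈ centU S U := by
      -- `u` and its conjugates by `W₁` differ by the fixer
      obtain ⟨w, hw, hw1⟩ := h.exists_W₁
      set v := u⁻¹ * (w * u * w⁻¹) with hv
      have hvU : v ∈ U := mul_mem (inv_mem hu) (h.conj_mem_U hw hu)
      have hwz : w * z * w⁻¹ = (z : G) := by rw [h.W₁_comm_W₂ hw z.2, mul_inv_cancel_right]
      have hwz' : w * z' * w⁻¹ = (z' : G) := by rw [h.W₁_comm_W₂ hw z'.2, mul_inv_cancel_right]
      have e3 : (w * u * w⁻¹) * z * (w * u * w⁻¹)⁻¹ = (z' : G) := by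
        calc (w * u * w⁻¹) * z * (w * u * w⁻¹)⁻¹
            = w * (u * (w⁻¹ * z * w) * u⁻¹) * w⁻¹ := by group
          _ = z' := by
            rw [show w⁻¹ * (z : G) * w = z from by
              conv_lhs => rw [mul_assoc, ← h.W₁_comm_W₂ hw z.2, inv_mul_cancel_left], e2, hwz']
      have hvC : v ∈ centU S U := h.fixer_W₂ hvU z.2 (fun e => hz (Subtype.ext e)) (by
        have : v * z * v⁻¹ = (z : G) := by
          rw [hv]
          calc u⁻¹ * (w * u * w⁻¹) * z * (u⁻¹ * (w * u * w⁻¹))⁻¹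
              = u⁻¹ * ((w * u * w⁻¹) * z * (w * u * w⁻¹)⁻¹) * u := by group
            _ = (z : G) := by rw [e3, ← e2]; group
        exact mul_inv_eq_iff_eq_mul.1 this)
      exact h.mem_centU_of_fixed hw hw1 hu hvC
    have e4 : c = 1 := hcu ▸ (h.act_eq_one hu).2 hC
    have e5 : a = a' := (inv_mul_eq_one.1 e4).symm
    subst e5
    have e6 : z = z' := by
      have := congrArg Subtype.val (a.injective e1)
      exact Subtype.ext this
    subst e6
    rfl
  have h1 := Nat.card_le_card_of_injective f hf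
  rw [Nat.card_prod, h.card_Ubar] at h1
  have h2 : Nat.card {z : W₂ // z ≠ 1} = p - 1 := by
    rw [Nat.card_eq_fintype_card, Fintype.card_subtype_compl, Fintype.card_subtype_eq,
      ← Nat.card_eq_fintype_card, h.card_W₂]
  have h3 : Nat.card {x : P // x ≠ 1} = p ^ q - 1 := by
    rw [Nat.card_eq_fintype_card, Fintype.card_subtype_compl, Fintype.card_subtype_eq,
      ← Nat.card_eq_fintype_card, hP, h.P_card]
  rwa [h2, h3] at h1

theorem relIndex_dvd (hf : Fpf S U) : (centU S U).relIndex U ∣ p ^ q - 1 := by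
  classical
  haveI := Fintype.ofFinite G
  set P := Cfsg.fittingHallOf S with hP
  letI : MulAction (Ubar S U) {x : P // x ≠ 1} :=
    { smul := fun a x => ⟨(a : MulAut P) x, fun e => x.2
        ((a : MulAut P).injective (e.trans (map_one _).symm))⟩
      one_smul := fun x => Subtype.ext rfl
      mul_smul := fun a b x => Subtype.ext rfl }
  have := RankTwoLines.dvd_of_free (D := Ubar S U) (X := {x : P // x ≠ 1}) fun a x hax => by
    by_contra ha
    exact x.2 (hf a a.2 (fun e => ha (Subtype.ext e)) x (congrArg Subtype.val hax))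
  rwa [h.card_Ubar, Nat.card_eq_fintype_card, Fintype.card_subtype_compl,
    Fintype.card_subtype_eq, ← Nat.card_eq_fintype_card, hP, h.P_card] at this

end Side

end CfsgLib.OddChar.Pair
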