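import Cfsg.Agent.Lib.OddChar.PairDensity

/-!
# Consequences of the density inequality

For `q < p`:
* `centU_S`: `C_U(S_F) = 1`;
* `index_S`: `p^q - 1 < (2q + 1) u (p - 1)`;
* `centU_T`, `index_T`: `C_V(T_F) = 1` and `v (q - 1) = q^p - 1`.
-/

set_option autoImplicit false
set_option linter.unusedSectionVars false

namespace CfsgLib.OddChar.Pair

universe u

section Arith

theorem add_inv_le_max {a b x K : ℝ} (ha : 0 < a) (hK : 0 < K) (h1 : a ≤ x) (h2 : x ≤ b) :
    x / K + 1 / x ≤ Max.max (a / K + 1 / a) (b / K + 1 / b) := by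
  have hx : 0 < x := lt_of_lt_of_le ha h1
  have hb : 0 < b := lt_of_lt_of_le hx h2
  rcases le_or_gt (a * x) K with hc | hc
  · refine le_max_of_le_left ?_
    have e : a / K + 1 / a - (x / K + 1 / x) = (x - a) * (K - a * x) / (a * x * K) := by
      field_simp; ring
    have : 0 ≤ (x - a) * (K - a * x) / (a * x * K) :=
      div_nonneg (mul_nonneg (by linarith) (by linarith)) (by positivity)
    linarith
  · refine le_max_of_le_right ?_
    have e : b / K + 1 / b - (x / K + 1 / x) = (b - x) * (b * x - K) / (b * x * K) := by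
      field_simp; ring
    have h3 : a * x ≤ b * x := mul_le_mul_of_nonneg_right (h1.trans h2) hx.le
    have : 0 ≤ (b - x) * (b * x - K) / (b * x * K) :=
      div_nonneg (mul_nonneg (by linarith) (by linarith)) (by positivity)
    linarith

theorem pow_bound_seven : ∀ n : ℕ, 3 ≤ n → 40 * (2 * n + 1) ≤ 7 ^ n - 1 := by
  intro n hn
  induction n, hn using Nat.le_induction with
  | base => norm_num
  | succ n hn ih =>
    rw [pow_succ]
    have : 0 < 7 ^ n := pow_pos (by norm_num) n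
    omega

/-- The numerical inequality on the first side. -/
theorem num_S {p q : ℝ} (h1 : (q = 3 ∧ 11 ≤ p) ∨ (5 ≤ q ∧ 7 ≤ p)) {e₁ e₂ : ℝ}
    (he₁ : q = 3 → e₁ ≤ 1 / 80000) (he₁' : 5 ≤ q → e₁ ≤ 1 / 3000) (he₂ : p * e₂ ≤ 1 / 1000) :
    q / ((2 * q + 1) * (p - 1)) + e₂ < (1 - 1 / (q - 1) - e₁) / p := by
  rcases h1 with ⟨rfl, hp⟩ | ⟨hq, hp⟩
  · have := he₁ rfl
    rw [lt_div_iff₀ (by linarith)]
    have h2 : 3 / ((2 * (3 : ℝ) + 1) * (p - 1)) * p ≤ 33 / 70 := by
      rw [div_mul_eq_mul_div, div_le_div_iff₀ (by linarith) (by norm_num)]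
      linarith
    norm_num at h2 ⊢
    nlinarith
  · have := he₁' hq
    rw [lt_div_iff₀ (by linarith)]
    have h2 : q / ((2 * q + 1) * (p - 1)) * p ≤ 7 / 12 := by
      rw [div_mul_eq_mul_div, div_le_div_iff₀ (by nlinarith) (by norm_num)]
      nlinarith
    have h3 : 1 / (q - 1) ≤ 1 / 4 := one_div_le_one_div_of_le (by norm_num) (by linarith)
    nlinarith

end Arith

theorem pow_sub_one_div_mul (p q : ℕ) : (p ^ q - 1) / (p - 1) * (p - 1) = p ^ q - 1 :=
  Nat.div_mul_cancel (by simpa using Nat.sub_dvd_pow_sub_pow p 1 q)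

theorem geom_mod (p q : ℕ) [Fact q.Prime] (hp : 1 ≤ p) (hne : (p : ZMod q) ≠ 1) :
    (p ^ q - 1) / (p - 1) % q = 1 := by
  have hq := (Fact.out : q.Prime)
  have e := congrArg (fun n : ℕ => (n : ZMod q)) (pow_sub_one_div_mul p q)
  simp only [Nat.cast_mul, Nat.cast_sub hp, Nat.cast_one,
    Nat.cast_sub (Nat.one_le_pow q p hp), Nat.cast_pow, ZMod.pow_card] at e
  have h1 : (((p ^ q - 1) / (p - 1) : ℕ) : ZMod q) = 1 :=
    mul_right_cancel₀ (sub_ne_zero.2 hne) (by rw [e, one_mul])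
  rw [← ZMod.val_natCast, h1, ZMod.val_one]

namespace PairData

variable {G : Type u} [Group G] [Finite G] {S T W₁ W₂ U V : Subgroup G} {q p : ℕ}
variable (h : PairData S T W₁ W₂ U V q p)
include h

theorem five_le_p (hqp : q < p) : 5 ≤ p := by
  have h1 := h.side_S.three_le_q
  have h4 : p ≠ 4 := fun e => by have := h.side_S.p_prime; rw [e] at this; norm_num at this
  omega

theorem cases_lt (hqp : q < p) : (q = 3 ∧ (p = 5 ∨ p = 7 ∨ 11 ≤ p)) ∨ (5 ≤ q ∧ 7 ≤ p) := by
  have h1 := h.side_S.three_le_q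
  have hq := h.side_S.q_prime
  have hp := h.side_S.p_prime
  have h6 : ∀ n : ℕ, n.Prime → n ≠ 4 ∧ n ≠ 6 ∧ n ≠ 8 ∧ n ≠ 9 ∧ n ≠ 10 := fun n hn => by
    refine ⟨?_, ?_, ?_, ?_, ?_⟩ <;> rintro rfl <;> norm_num at hn
  have := h6 q hq
  have := h6 p hp
  omega

theorem upper_T : ((centU T V).relIndex V : ℝ) * ((q : ℝ) - 1) ≤ (q : ℝ) ^ p - 1 := by
  have h1 := h.side_T.relIndex_mul_le
  have h2 := h.side_S.three_le_q
  have h3 : ((((centU T V).relIndex V) * (q - 1) : ℕ) : ℝ) ≤ ((q ^ p - 1 : ℕ) : ℝ) :=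
    Nat.cast_le.2 h1
  rw [Nat.cast_mul, Nat.cast_sub (by omega), Nat.cast_sub (Nat.one_le_pow _ _ (by omega)),
    Nat.cast_pow, Nat.cast_one] at h3
  exact h3

/-- The lower bound for the bracket. -/
theorem bracket_ge (hqp : q < p) :
    (1 - 1 / ((q : ℝ) - 1) - ((q : ℝ) - 1) / ((q : ℝ) ^ p - 1)) / p ≤
      (1 - ((centU T V).relIndex V : ℝ) / ((Nat.card (centU T V) : ℝ) * ((q : ℝ) ^ p - 1)) -
        1 / ((centU T V).relIndex V : ℝ)) / p := by
  have hq : (3 : ℝ) ≤ q := by exact_mod_cast h.side_S.three_le_q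
  set K := (q : ℝ) ^ p - 1 with hK
  have hK0 : 0 < K := sub_pos.2 (one_lt_pow₀ (by linarith) h.side_S.p_prime.ne_zero)
  set x := ((centU T V).relIndex V : ℝ) with hx
  have h1 : (q : ℝ) - 1 ≤ x := by
    have := h.side_T.two_q_lt_relIndex
    have : (q : ℝ) ≤ x := by rw [hx]; exact_mod_cast (by omega : q ≤ _)
    linarith
  have h2 : x ≤ K / ((q : ℝ) - 1) := by
    rw [le_div_iff₀ (by linarith)]; exact h.upper_T
  have h3 := add_inv_le_max (by linarith : (0 : ℝ) < (q : ℝ) - 1) hK0 h1 h2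
  have e : K / ((q : ℝ) - 1) / K + 1 / (K / ((q : ℝ) - 1)) =
      ((q : ℝ) - 1) / K + 1 / ((q : ℝ) - 1) := by field_simp; ring
  rw [e, max_self] at h3
  have h4 : x / ((Nat.card (centU T V) : ℝ) * K) ≤ x / K := by
    refine div_le_div_of_nonneg_left (by rw [hx]; exact Nat.cast_nonneg _) hK0 ?_
    exact le_mul_of_one_le_left hK0.le (by exact_mod_cast Nat.card_pos)
  exact div_le_div_of_nonneg_right (by linarith) (Nat.cast_nonneg p)

theorem card_S_ge :
    (Nat.card (centU S U) : ℝ) * ((p : ℝ) ^ q * (2 * q + 1) * q) ≤ Nat.card S := by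
  rw [h.side_S.card_S, ← h.side_S.relIndex_centU_mul]
  have h1 : ((2 : ℝ) * q + 1) ≤ ((centU S U).relIndex U : ℝ) := by
    exact_mod_cast h.side_S.two_q_lt_relIndex
  push_cast
  nlinarith [mul_le_mul_of_nonneg_left h1 (show (0 : ℝ) ≤ (p : ℝ) ^ q * q * Nat.card (centU S U) by
    positivity)]

/-- The exception is the only possibility. -/
theorem small_S (hqp : q < p)
    (hbig : (2 * q + 1) * ((centU S U).relIndex U * (p - 1)) ≤
      Nat.card (centU S U) * (p ^ q - 1)) :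
    Nat.card (centU S U) * (p ^ q - 1) < (2 * q + 1) * ((centU S U).relIndex U * (p - 1)) ∨
      (q = 3 ∧ p = 5 ∧ (centU S U).relIndex U = 31 ∧ Nat.card (centU S U) = 7) := by
  haveI := Fintype.ofFinite G
  have hd := h.bracket_ge hqp |>.trans h.density
  set c := Nat.card (centU S U) with hc
  set u := (centU S U).relIndex U with hu
  have hcpos : 0 < c := Nat.card_pos
  have hq3 := h.side_S.three_le_q
  have hp5 := h.five_le_p hqp
  have hc1 := h.side_S.card_centU_mod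
  have hu1 := h.side_S.relIndex_centU_mod
  have hu2 := h.side_S.two_q_lt_relIndex
  have hu3 := h.side_S.relIndex_mul_le
  rw [← hc] at hc1
  rw [← hu] at hu1 hu2 hu3
  have hcR : (0 : ℝ) < c := by exact_mod_cast hcpos
  have hqR : (3 : ℝ) ≤ q := by exact_mod_cast hq3
  have hpR : (5 : ℝ) ≤ p := by exact_mod_cast hp5
  have hPK : (0 : ℝ) < (p : ℝ) ^ q - 1 :=
    sub_pos.2 (one_lt_pow₀ (by linarith) h.side_S.q_prime.ne_zero)
  have hbigR : (2 * (q : ℝ) + 1) * ((u : ℝ) * ((p : ℝ) - 1)) ≤ (c : ℝ) * ((p : ℝ) ^ q - 1) := by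
    have h3 : (((2 * q + 1) * (u * (p - 1)) : ℕ) : ℝ) ≤ ((c * (p ^ q - 1) : ℕ) : ℝ) :=
      Nat.cast_le.2 hbig
    push_cast [Nat.cast_sub (by omega : 1 ≤ p), Nat.cast_sub (Nat.one_le_pow q p (by omega))] at h3
    exact h3
  have he2 : ((c : ℝ) - 1) / (Nat.card S : ℝ) ≤ 1 / ((p : ℝ) ^ q * (2 * q + 1) * q) := by
    rw [div_le_div_iff₀ (by exact_mod_cast Nat.card_pos) (by positivity), one_mul]
    refine le_trans ?_ h.card_S_ge
    rw [← hc]
    exact mul_le_mul_of_nonneg_right (by linarith) (by positivity)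
  rcases h.cases_lt hqp with ⟨rfl, rfl | rfl | hp⟩ | hh
  · -- `p = 5`
    norm_num at hd hbig hbigR he2 hu1 hu2 hc1 hu3 ⊢
    have hu31 : u ≤ 31 := by omega
    have h2 : (3 : ℝ) * u / ((c : ℝ) * 124) + 1 / 2625 < (1 / 2 - 1 / 121) / 5 →
        False := fun hh => by linarith
    by_cases hcase : c = 7 ∧ u = 31
    · exact Or.inr ⟨hcase.2, hcase.1⟩
    exfalso
    refine h2 ?_
    have h5 : 52 * u ≤ 200 * c := by
      rcases (show c = 1 ∨ c = 7 ∨ 13 ≤ c by omega) with e | e | e <;> omega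
    have h6 : (52 : ℝ) * u ≤ 200 * c := by exact_mod_cast h5
    have h7 : 3 * (u : ℝ) / ((c : ℝ) * 124) ≤ 3 * 200 / (52 * 124) := by
      rw [div_le_div_iff₀ (by positivity) (by norm_num)]
      linarith
    linarith
  · -- `p = 7`
    norm_num at hd hbig hbigR he2 hu1 hu2 hc1 hu3 ⊢
    have hu55 : u ≤ 55 := by omega
    have h5 : 7 * u ≤ 55 * c := by
      rcases (show c = 1 ∨ 7 ≤ c by omega) with e | e <;> omega
    have h6 : (7 : ℝ) * u ≤ 55 * c := by exact_mod_cast h5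
    have h7 : 3 * (u : ℝ) / ((c : ℝ) * 342) ≤ 3 * 55 / (7 * 342) := by
      rw [div_le_div_iff₀ (by positivity) (by norm_num)]
      linarith
    linarith
  · exfalso
    have hh' : (((3 : ℕ) : ℝ) = 3 ∧ 11 ≤ (p : ℝ)) ∨ (5 ≤ ((3 : ℕ) : ℝ) ∧ 7 ≤ (p : ℝ)) :=
      Or.inl ⟨by norm_num, by exact_mod_cast hp⟩
    have he₁ : (((3 : ℕ) : ℝ) - 1) / (((3 : ℕ) : ℝ) ^ p - 1) ≤ 1 / 80000 := by
      have h8 : (3 : ℝ) ^ 11 ≤ (3 : ℝ) ^ p := pow_le_pow_right₀ (by norm_num) hp
      push_cast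
      rw [div_le_div_iff₀ (by linarith) (by norm_num)]
      norm_num at h8 ⊢
      linarith
    have hpe : (p : ℝ) * (1 / ((p : ℝ) ^ 3 * (2 * ((3 : ℕ) : ℝ) + 1) * ((3 : ℕ) : ℝ))) ≤
        1 / 1000 := by
      push_cast
      rw [mul_one_div, div_le_div_iff₀ (by positivity) (by norm_num)]
      have hp11 : (11 : ℝ) ≤ p := by exact_mod_cast hp
      have : 121 * (p : ℝ) ≤ (p : ℝ) ^ 3 := by
        rw [pow_succ]; exact mul_le_mul_of_nonneg_right (by nlinarith) (by linarith)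
      linarith
    have h9 := num_S hh' (fun _ => he₁)
      (fun h5 => absurd h5 (by push_cast; norm_num)) hpe
    have h10 : ((3 : ℕ) : ℝ) * u / ((c : ℝ) * ((p : ℝ) ^ 3 - 1)) ≤
        ((3 : ℕ) : ℝ) / ((2 * ((3 : ℕ) : ℝ) + 1) * ((p : ℝ) - 1)) := by
      rw [div_le_div_iff₀ (mul_pos hcR hPK) (by push_cast; nlinarith)]
      push_cast at hbigR ⊢
      nlinarith
    linarith
  · exfalso
    have hh' : ((q : ℝ) = 3 ∧ 11 ≤ (p : ℝ)) ∨ (5 ≤ (q : ℝ) ∧ 7 ≤ (p : ℝ)) :=
      Or.inr ⟨by exact_mod_cast hh.1, by exact_mod_cast hh.2⟩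
    have he₁ : ((q : ℝ) - 1) / ((q : ℝ) ^ p - 1) ≤ 1 / 3000 := by
      have h8 : (5 : ℝ) ≤ q := by exact_mod_cast hh.1
      have h9 : (q : ℝ) ^ 7 ≤ (q : ℝ) ^ p := pow_le_pow_right₀ (by linarith) hh.2
      have h11 : (15625 : ℝ) ≤ (q : ℝ) ^ 6 := by
        calc (15625 : ℝ) = (5 : ℝ) ^ 6 := by norm_num
          _ ≤ _ := pow_le_pow_left₀ (by norm_num) h8 6
      have h12 : 15625 * (q : ℝ) ≤ (q : ℝ) ^ 7 := by
        rw [pow_succ]; exact mul_le_mul_of_nonneg_right h11 (by linarith)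
      rw [div_le_div_iff₀ (by linarith) (by norm_num)]
      linarith
    have hpe : (p : ℝ) * (1 / ((p : ℝ) ^ q * (2 * q + 1) * q)) ≤ 1 / 1000 := by
      have h9 : (p : ℝ) * (p : ℝ) ^ 2 ≤ (p : ℝ) ^ q := by
        rw [← pow_succ']; exact pow_le_pow_right₀ (by linarith) (by omega)
      have h14 : (21 : ℝ) ≤ (2 * q + 1) * q := by nlinarith
      have h15 : (49 : ℝ) ≤ (p : ℝ) ^ 2 := by
        have : (7 : ℝ) ≤ p := by exact_mod_cast hh.2
        nlinarith
      have h13 : (p : ℝ) * 1029 ≤ (p : ℝ) ^ q * ((2 * q + 1) * q) :=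
        calc (p : ℝ) * 1029 = (p : ℝ) * 49 * 21 := by ring
          _ ≤ (p : ℝ) ^ q * ((2 * q + 1) * q) := mul_le_mul
            ((mul_le_mul_of_nonneg_left h15 (by linarith)).trans h9) h14 (by norm_num)
            (by positivity)
      rw [mul_one_div, div_le_div_iff₀ (by positivity) (by norm_num)]
      nlinarith
    have h9 := num_S hh' (fun e => absurd e (by
      have : (5 : ℝ) ≤ q := by exact_mod_cast hh.1
      linarith)) (fun _ => he₁) hpe
    have h10 : (q : ℝ) * u / ((c : ℝ) * ((p : ℝ) ^ q - 1)) ≤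
        (q : ℝ) / ((2 * q + 1) * ((p : ℝ) - 1)) := by
      rw [div_le_div_iff₀ (mul_pos hcR hPK) (by nlinarith)]
      nlinarith
    linarith

/-- On a side of Type II the order of `C` divides `|U : C|`. -/
theorem centU_dvd (hqp : q < p) : Nat.card (centU S U) ∣ (centU S U).relIndex U := by
  haveI := Fintype.ofFinite G
  obtain ⟨g, hg, hgS⟩ := SetLike.not_le_iff_exists.1 (h.II_lt_S hqp)
  set C := centU S U with hC
  set C' := C.map (MulAut.conj g).toMonoidHom with hC'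
  have hC'U : C' ≤ U := by
    rintro _ ⟨x, hx, rfl⟩
    exact (Subgroup.mem_normalizer_iff.1 hg x).1 (Side.centU_le hx)
  letI : CommGroup U := { (inferInstance : Group U) with
    mul_comm := fun a b => Subtype.ext (h.side_S.U_mul_comm a.2 b.2) }
  let f : C' →* U ⧸ C.subgroupOf U := (QuotientGroup.mk' _).comp (Subgroup.inclusion hC'U)
  have hf : Function.Injective f := by
    rw [injective_iff_map_eq_one]
    intro x hx
    by_contra hx1
    obtain ⟨y, hy, hxy⟩ := x.2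
    have hxC : (x : G) ∈ C := by
      have : Subgroup.inclusion hC'U x ∈ C.subgroupOf U := (QuotientGroup.eq_one_iff _).1 hx
      exact this
    have hy1 : y ≠ 1 := fun e => hx1 (Subtype.ext (by rw [← hxy, e, map_one]; rfl))
    exact hgS (h.side_S.mem_of_conj (h.side_S.centU_le_fitting hy) hy1
      (h.side_S.centU_le_fitting (by
        rw [show g * y * g⁻¹ = (x : G) from hxy]; exact hxC)))
  have h1 := Subgroup.card_range_dvd (f := f)
  have h2 : Nat.card f.range ∣ Nat.card (U ⧸ C.subgroupOf U) := Subgroup.card_subgroup_dvd_card _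
  have h3 : Nat.card f.range = Nat.card C := by
    rw [← Nat.card_congr (MonoidHom.ofInjective hf).toEquiv, hC',
      Subgroup.card_map_of_injective (MulAut.conj g).injective]
  rw [h3] at h2
  rwa [← Subgroup.index_eq_card, ← Subgroup.relIndex] at h2

/-- `C_U(S_F) = 1`. -/
theorem centU_S (hqp : q < p) : Nat.card (centU S U) = 1 := by
  by_contra hne
  have hq3 := h.side_S.three_le_q
  have h1 := h.side_S.card_centU_mod
  set c := Nat.card (centU S U) with hc
  have hc2 : 2 * q + 1 ≤ c := by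
    have hdiv : c / (2 * q) ≠ 0 := fun e => by
      have := Nat.div_add_mod c (2 * q)
      rw [e, h1] at this
      omega
    have h4 := Nat.div_add_mod c (2 * q)
    have := Nat.mul_le_mul_left (2 * q) (Nat.pos_of_ne_zero hdiv)
    omega
  have hbig : (2 * q + 1) * ((centU S U).relIndex U * (p - 1)) ≤ c * (p ^ q - 1) :=
    Nat.mul_le_mul hc2 h.side_S.relIndex_mul_le
  rcases h.small_S hqp hbig with h2 | ⟨-, -, h31, h7⟩
  · rw [← hc] at h2; omega
  · have := h.centU_dvd hqp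
    rw [h31, h7] at this
    norm_num at this

/-- `|U|` is large. -/
theorem index_S (hqp : q < p) :
    p ^ q - 1 < (2 * q + 1) * ((centU S U).relIndex U * (p - 1)) := by
  by_contra hle
  push Not at hle
  have h1 := h.centU_S hqp
  rcases h.small_S hqp (by rw [h1, one_mul]; exact hle) with h2 | ⟨-, -, -, h7⟩
  · rw [h1, one_mul] at h2; omega
  · omega

theorem geom_T_mod (hqp : q < p) : (q ^ p - 1) / (q - 1) % p = 1 := by
  haveI := Fact.mk h.side_S.p_prime
  refine geom_mod q p h.side_S.q_prime.one_le fun e => ?_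
  have h3 := h.side_S.three_le_q
  rw [← Nat.cast_one, ZMod.natCast_eq_natCast_iff', Nat.mod_eq_of_lt hqp,
    Nat.one_mod_eq_one.2 h.side_S.p_prime.ne_one] at e
  omega

/-- `v (q - 1) = q^p - 1` and `C_V(T_F) = 1`. -/
theorem index_T (hqp : q < p) :
    Nat.card (centU T V) = 1 ∧ (centU T V).relIndex V * (q - 1) = q ^ p - 1 := by
  haveI := Fintype.ofFinite G
  set D := Nat.card (centU T V) with hD
  set v := (centU T V).relIndex V with hv
  have hq3 := h.side_S.three_le_q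
  have hp5 := h.five_le_p hqp
  set M := (q ^ p - 1) / (q - 1) with hM
  have hMmul : M * (q - 1) = q ^ p - 1 := pow_sub_one_div_mul q p
  have hvM : v ∣ M := by
    have h1 := h.side_T.relIndex_dvd (h.side_T.fpf_of_lt hqp)
    rw [← hMmul] at h1
    exact (h.side_T.coprime_of_lt hqp).dvd_of_dvd_mul_right h1
  obtain ⟨w, hw⟩ := hvM
  by_contra hne
  -- `D w ≥ 2 p + 1`
  have hD1 : D % (2 * p) = 1 := h.side_T.card_centU_mod
  have hv1 : v % (2 * p) = 1 := h.side_T.relIndex_centU_mod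
  have hodd : M % 2 = 1 := by
    have h2 : q % 2 = 1 := Nat.odd_iff.1 (h.side_S.q_prime.odd_of_ne_two h.side_S.q_ne_two)
    have hp2 : p % 2 = 1 := Nat.odd_iff.1 (h.side_S.p_prime.odd_of_ne_two h.side_S.p_ne_two)
    rw [hM, ← Nat.geomSum_eq (by omega)]
    rw [Finset.sum_nat_mod, Finset.sum_congr rfl fun i _ =>
      show q ^ i % 2 = 1 by simp [Nat.pow_mod, h2]]
    simp [hp2, Nat.one_mod_eq_one]
  have hM1 : M % (2 * p) = 1 := by
    have hc : Nat.Coprime 2 p :=
      (Nat.coprime_primes Nat.prime_two h.side_S.p_prime).2 h.side_S.p_ne_two.symm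
    have := (Nat.modEq_and_modEq_iff_modEq_mul hc).1 ⟨(show Nat.ModEq 2 M 1 from hodd.trans rfl),
      (show Nat.ModEq p M 1 by
        rw [Nat.ModEq, h.geom_T_mod hqp, Nat.one_mod_eq_one.2 h.side_S.p_prime.ne_one])⟩
    rwa [Nat.ModEq, Nat.one_mod_eq_one.2 (by omega : 2 * p ≠ 1)] at this
  have hw1 : w % (2 * p) = 1 := by
    rw [hw, Nat.mul_mod, hv1, one_mul, Nat.mod_mod] at hM1
    exact hM1
  have hDw1 : D * w % (2 * p) = 1 := by
    rw [Nat.mul_mod, hD1, hw1, one_mul]; exact Nat.one_mod_eq_one.2 (by omega)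
  have hbig : 2 * p + 1 ≤ D * w := by
    have hne' : D * w ≠ 1 := fun e => by
      obtain ⟨e1, e2⟩ := mul_eq_one.1 e
      rw [e2, mul_one] at hw
      exact hne ⟨e1, by rw [← hw]; exact hMmul⟩
    have hdiv : D * w / (2 * p) ≠ 0 := fun e => by
      have := Nat.div_add_mod (D * w) (2 * p)
      rw [e, hDw1] at this
      omega
    have h4 := Nat.div_add_mod (D * w) (2 * p)
    have := Nat.mul_le_mul_left (2 * p) (Nat.pos_of_ne_zero hdiv)
    omega
  -- the other density inequality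
  have hd := h.symm.density
  rw [h.centU_S hqp, Nat.cast_one, one_mul] at hd
  set u := ((centU S U).relIndex U : ℝ) with hu
  have hqR : (3 : ℝ) ≤ q := by exact_mod_cast hq3
  have hpR : (5 : ℝ) ≤ p := by exact_mod_cast hp5
  have hPK : (0 : ℝ) < (p : ℝ) ^ q - 1 :=
    sub_pos.2 (one_lt_pow₀ (by linarith) h.side_S.q_prime.ne_zero)
  have hulo : (2 * q + 1 : ℝ) ≤ u := by
    rw [hu]; exact_mod_cast h.side_S.two_q_lt_relIndex
  have huhi : u ≤ ((p : ℝ) ^ q - 1) / ((p : ℝ) - 1) := by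
    rw [le_div_iff₀ (by linarith)]
    exact h.symm.upper_T
  have h3 := add_inv_le_max (by linarith : (0 : ℝ) < 2 * q + 1) hPK hulo huhi
  -- the right side
  have hvR : (0 : ℝ) < v := by
    have := h.side_T.two_q_lt_relIndex
    exact_mod_cast (by omega : 0 < v)
  have hDR : (0 : ℝ) < D := by rw [hD]; exact_mod_cast Nat.card_pos
  have hQK : (q : ℝ) ^ p - 1 = (v : ℝ) * w * ((q : ℝ) - 1) := by
    have e := congrArg (fun n : ℕ => (n : ℝ)) hMmul
    rw [hw] at e
    push_cast [Nat.cast_sub (by omega : 1 ≤ q), Nat.cast_sub (Nat.one_le_pow p q (by omega))] at e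
    linarith
  have hr1 : (p : ℝ) * v / ((D : ℝ) * ((q : ℝ) ^ p - 1)) ≤
      p / ((2 * (p : ℝ) + 1) * ((q : ℝ) - 1)) := by
    have hb : (2 * (p : ℝ) + 1) ≤ (D : ℝ) * w := by exact_mod_cast hbig
    have hq1 : (0 : ℝ) < (q : ℝ) - 1 := by linarith
    have hm : 0 < (D : ℝ) * w * ((q : ℝ) - 1) := mul_pos (by linarith) hq1
    rw [hQK, show (p : ℝ) * v / ((D : ℝ) * ((v : ℝ) * w * ((q : ℝ) - 1))) =
      p / ((D : ℝ) * w * ((q : ℝ) - 1)) from by field_simp]
    exact div_le_div_of_nonneg_left (by linarith) (by positivity)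
      (mul_le_mul_of_nonneg_right hb hq1.le)
  have hr2 : ((D : ℝ) - 1) / (Nat.card T : ℝ) ≤ 1 / ((q : ℝ) ^ p * (2 * p + 1) * p) := by
    have := h.symm.card_S_ge
    rw [div_le_div_iff₀ (by exact_mod_cast Nat.card_pos) (by positivity), one_mul]
    refine le_trans ?_ this
    rw [← hD]
    exact mul_le_mul_of_nonneg_right (by linarith) (by positivity)
  have hr3 : 1 / ((q : ℝ) ^ p * (2 * p + 1) * p) ≤ 1 / 10000 := by
    refine one_div_le_one_div_of_le (by norm_num) ?_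
    have h8 : (243 : ℝ) ≤ (q : ℝ) ^ p := by
      calc (243 : ℝ) = (3 : ℝ) ^ 5 := by norm_num
        _ ≤ (3 : ℝ) ^ p := pow_le_pow_right₀ (by norm_num) hp5
        _ ≤ _ := pow_le_pow_left₀ (by norm_num) hqR p
    have h9 : (55 : ℝ) ≤ (2 * p + 1) * p := by nlinarith
    calc (10000 : ℝ) ≤ 243 * 55 := by norm_num
      _ ≤ (q : ℝ) ^ p * ((2 * p + 1) * p) := mul_le_mul h8 h9 (by norm_num) (by positivity)
      _ = _ := by ring
  have hcases := h.cases_lt hqp
  by_cases hp5' : p = 5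
  · have hq3' : q = 3 := by omega
    subst hp5' hq3'
    norm_num at h3 hd hr1 hr2
    linarith
  have hp7 : 7 ≤ p := by omega
  have hp7R : (7 : ℝ) ≤ p := by exact_mod_cast hp7
  have hK40 : (40 : ℝ) * (2 * q + 1) ≤ (p : ℝ) ^ q - 1 := by
    have h12 : 40 * (2 * q + 1) ≤ p ^ q - 1 :=
      (pow_bound_seven q hq3).trans (Nat.sub_le_sub_right (Nat.pow_le_pow_left hp7 q) 1)
    have h13 := (Nat.cast_le (α := ℝ)).2 h12
    rw [Nat.cast_sub (Nat.one_le_pow _ _ (by omega))] at h13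
    push_cast at h13
    exact h13
  set K := (p : ℝ) ^ q - 1 with hK
  -- the bracket is at least `4 / 5`
  have hlow : (2 * (q : ℝ) + 1) / K + 1 / (2 * (q : ℝ) + 1) ≤ 1 / 5 := by
    have h20 : (2 * (q : ℝ) + 1) / K ≤ 1 / 40 := by
      rw [div_le_div_iff₀ hPK (by norm_num)]; linarith
    have h21 : 1 / (2 * (q : ℝ) + 1) ≤ 1 / 7 :=
      one_div_le_one_div_of_le (by norm_num) (by linarith)
    linarith
  have hhigh : K / ((p : ℝ) - 1) / K + 1 / (K / ((p : ℝ) - 1)) ≤ 1 / 5 := by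
    have h22 : K / ((p : ℝ) - 1) / K = 1 / ((p : ℝ) - 1) := by field_simp
    have h23 : 1 / ((p : ℝ) - 1) ≤ 1 / 6 :=
      one_div_le_one_div_of_le (by norm_num) (by linarith)
    have h24 : 1 / (K / ((p : ℝ) - 1)) ≤ 1 / 30 := by
      refine one_div_le_one_div_of_le (by norm_num) ?_
      rw [le_div_iff₀ (by linarith)]
      have h25 : (p : ℝ) ^ 3 ≤ (p : ℝ) ^ q := pow_le_pow_right₀ (by linarith) hq3
      have h26 : (49 : ℝ) * p ≤ (p : ℝ) ^ 3 := by
        rw [pow_succ]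
        exact mul_le_mul_of_nonneg_right (by nlinarith) (by linarith)
      linarith
    linarith
  have hf : (4 : ℝ) / 5 ≤ 1 - u / K - 1 / u := by
    have := h3.trans (max_le hlow hhigh)
    linarith
  have hd' := (div_le_div_of_nonneg_right hf (Nat.cast_nonneg q)).trans hd
  rw [div_le_iff₀ (by linarith)] at hd'
  have h27 : (p : ℝ) / ((2 * (p : ℝ) + 1) * ((q : ℝ) - 1)) * q ≤ 3 / 4 := by
    rw [div_mul_eq_mul_div, div_le_div_iff₀ (by nlinarith) (by norm_num)]
    nlinarith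
  -- the small term
  have h28 : 1 / ((q : ℝ) ^ p * (2 * p + 1) * p) * q < 1 / 20 := by
    rw [div_mul_eq_mul_div, one_mul, div_lt_div_iff₀ (by positivity) (by norm_num)]
    have h29 : (q : ℝ) ≤ (q : ℝ) ^ p := le_self_pow₀ (by linarith) (by omega)
    have h30 : (21 : ℝ) ≤ (2 * p + 1) * p := by nlinarith
    calc (q : ℝ) * 20 < q * 21 := by linarith
      _ ≤ (q : ℝ) ^ p * ((2 * p + 1) * p) := mul_le_mul h29 h30 (by norm_num) (by positivity)
      _ = 1 * ((q : ℝ) ^ p * (2 * p + 1) * p) := by ring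
  have h31 := mul_le_mul_of_nonneg_right (add_le_add hr1 hr2) (Nat.cast_nonneg q : (0 : ℝ) ≤ q)
  rw [add_mul] at h31
  linarith

end PairData

end CfsgLib.OddChar.Pair
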