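import Cfsg.Agent.Lib.OddLocal.TypeP
import Cfsg.Agent.Lib.OddLocal.S15Decomp
import Cfsg.Agent.S1545

/-!
# One member of a pair of maximal subgroups of types II and III

`Side S W₁ U W₂ q p`: the group theoretic facts known about a member `S` of the pair before the
last two sections of the character theoretic proof of the odd order theorem (`q = |W₁|`,
`p = |W₂|`, `M_F` elementary abelian of order `p ^ q`, `U` abelian of rank at most two, `F(S)` a
TI-set).  First consequences: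
* orders, `F(S) = S_F × C` with `C = C_U(S_F)`, fixed points of `W₁`;
* `key`: a `W₁`-invariant subgroup of `U` not in `C` fixes nothing in `S_F`;
* centralisers and fusion of the non-identity elements of `F(S)`.
-/

set_option autoImplicit false
set_option linter.unusedSectionVars false

namespace CfsgLib.OddChar.Pair

universe u

/-- The group theoretic data of one side. -/
structure Side {G : Type u} [Group G] (S W₁ U W₂ : Subgroup G) (q p : ℕ) : Prop where
  minSimple : Cfsg.IsMinSimpleOddOrder G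
  max : IsCoatom S
  data : Cfsg.IsTypePWith S W₁ U W₂
  q_prime : q.Prime
  p_prime : p.Prime
  card_W₁ : Nat.card W₁ = q
  card_W₂ : Nat.card W₂ = p
  P_elem : Cfsg.IsElementaryAbelian p (Cfsg.fittingHallOf S)
  P_card : Nat.card (Cfsg.fittingHallOf S) = p ^ q
  U_comm : IsMulCommutative U
  U_ne : U ≠ ⊥
  U_rank : ∀ r : ℕ, r.Prime → Cfsg.PRankLE r 2 U
  fitting_ti : Cfsg.IsTISubset (Cfsg.fittingOf S : Set G)

/-- `C = C_U(S_F)`. -/
def centU {G : Type u} [Group G] (S U : Subgroup G) : Subgroup G :=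
  U ⊓ Subgroup.centralizer (Cfsg.fittingHallOf S : Set G)

namespace Side

variable {G : Type u} [Group G] [Finite G] {S W₁ U W₂ : Subgroup G} {q p : ℕ}
variable (h : Side S W₁ U W₂ q p)
include h

theorem odd_G : Odd (Nat.card G) := h.minSimple.1

theorem odd_of_le (X : Subgroup G) : Odd (Nat.card X) :=
  h.odd_G.of_dvd_nat (Subgroup.card_subgroup_dvd_card X)

theorem q_ne_two : q ≠ 2 := by
  rintro rfl
  have := h.card_W₁ ▸ h.odd_of_le W₁
  exact absurd this (by decide)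

theorem p_ne_two : p ≠ 2 := by
  rintro rfl
  have := h.card_W₂ ▸ h.odd_of_le W₂
  exact absurd this (by decide)

theorem three_le_q : 3 ≤ q := by have := h.q_prime.two_le; have := h.q_ne_two; omega

theorem three_le_p : 3 ≤ p := by have := h.p_prime.two_le; have := h.p_ne_two; omega

theorem P_le_derived : Cfsg.fittingHallOf S ≤ ⁅S, S⁆ := h.data.U_compl.1

theorem U_le_derived : U ≤ ⁅S, S⁆ := h.data.U_compl.2.1

theorem derived_le : ⁅S, S⁆ ≤ S := Subgroup.commutator_le_self S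

theorem P_le : Cfsg.fittingHallOf S ≤ S := OddLocal.fittingHallOf_le S

theorem U_le : U ≤ S := OddLocal.typeP_U_le h.data

theorem W₁_le : W₁ ≤ S := h.data.W₁_compl.2.1

theorem W₂_le_P : W₂ ≤ Cfsg.fittingHallOf S := h.data.W₂_le.trans inf_le_left

theorem W₂_le : W₂ ≤ S := h.W₂_le_P.trans h.P_le

theorem W_le : W₁ ⊔ W₂ ≤ S := sup_le h.W₁_le h.W₂_le

theorem normalizer_P : S ≤ Subgroup.normalizer (Cfsg.fittingHallOf S : Set G) := by
  refine (Subgroup.normal_subgroupOf_iff_le_normalizer h.P_le).1 ?_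
  rw [show (Cfsg.fittingHallOf S).subgroupOf S = Cfsg.fittingHall S from
    Subgroup.comap_map_eq_self_of_injective S.subtype_injective _]
  infer_instance

theorem conj_mem_P {s x : G} (hs : s ∈ S) (hx : x ∈ Cfsg.fittingHallOf S) :
    s * x * s⁻¹ ∈ Cfsg.fittingHallOf S :=
  (Subgroup.mem_normalizer_iff.1 (h.normalizer_P hs) x).1 hx

theorem conj_mem_U {w u : G} (hw : w ∈ W₁) (hu : u ∈ U) : w * u * w⁻¹ ∈ U :=
  (Subgroup.mem_normalizer_iff.1 (h.data.U_normal hw) u).1 hu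

theorem P_comm {x y : G} (hx : x ∈ Cfsg.fittingHallOf S) (hy : y ∈ Cfsg.fittingHallOf S) :
    x * y = y * x :=
  congrArg Subtype.val (h.P_elem.1.is_comm.comm (⟨x, hx⟩ : Cfsg.fittingHallOf S) ⟨y, hy⟩)

theorem U_mul_comm {x y : G} (hx : x ∈ U) (hy : y ∈ U) : x * y = y * x :=
  congrArg Subtype.val (h.U_comm.is_comm.comm (⟨x, hx⟩ : U) ⟨y, hy⟩)

theorem P_ne : Cfsg.fittingHallOf S ≠ ⊥ := by
  intro e
  have h1 := h.P_card
  rw [e, Subgroup.card_bot] at h1
  exact (Nat.one_lt_pow h.q_prime.ne_zero h.p_prime.one_lt).ne h1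

theorem coprime_p_u : p.Coprime (Nat.card U) :=
  (h.P_card ▸ OddLocal.typeP_coprime_U h.data).coprime_dvd_left
    (dvd_pow_self p h.q_prime.ne_zero)

theorem card_derived : Nat.card ↥⁅S, S⁆ = p ^ q * Nat.card U := by
  rw [OddLocal.card_of_isComplIn h.data.U_compl, h.P_card]

theorem card_S : Nat.card S = p ^ q * Nat.card U * q := by
  rw [OddLocal.card_of_isComplIn h.data.W₁_compl, h.card_derived, h.card_W₁]

theorem coprime_q_derived : q.Coprime (p ^ q * Nat.card U) := by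
  have h1 := h.data.W₁_hall
  rwa [(OddLocal.relIndex_of_isComplIn h.data.W₁_compl).1, h.card_W₁, h.card_derived] at h1

theorem coprime_q_u : q.Coprime (Nat.card U) := h.coprime_q_derived.coprime_mul_left_right

theorem q_ne_p : q ≠ p := fun e => by
  have h1 : q.Coprime (p ^ q) := h.coprime_q_derived.coprime_mul_right_right
  rw [← e, Nat.coprime_pow_right_iff h.q_prime.pos, Nat.coprime_self] at h1
  exact h.q_prime.ne_one h1

theorem orderOf_W₁ {w : G} (hw : w ∈ W₁) (hw1 : w ≠ 1) : orderOf w = q :=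
  (h.q_prime.eq_one_or_self_of_dvd _ (h.card_W₁ ▸ Subgroup.orderOf_dvd_natCard _ hw)).resolve_left
    fun e => hw1 (orderOf_eq_one_iff.1 e)

theorem orderOf_P {x : G} (hx : x ∈ Cfsg.fittingHallOf S) (hx1 : x ≠ 1) : orderOf x = p :=
  orderOf_eq_prime (hp := ⟨h.p_prime⟩) (h.P_elem.2 x hx) hx1

theorem exists_W₁ : ∃ w ∈ W₁, w ≠ 1 := by
  obtain ⟨⟨w, hw⟩, hw1⟩ := Subgroup.ne_bot_iff_exists_ne_one.1 h.data.W₁_ne
  exact ⟨w, hw, fun e => hw1 (Subtype.ext e)⟩

theorem exists_W₂ : ∃ z ∈ W₂, z ≠ 1 := by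
  obtain ⟨⟨w, hw⟩, hw1⟩ := Subgroup.ne_bot_iff_exists_ne_one.1 h.data.selfNormalizing.2.1
  exact ⟨w, hw, fun e => hw1 (Subtype.ext e)⟩

theorem W₁_eq_zpowers {w : G} (hw : w ∈ W₁) (hw1 : w ≠ 1) : Subgroup.zpowers w = W₁ :=
  Subgroup.eq_of_le_of_card_ge (Subgroup.zpowers_le.2 hw)
    (by rw [Nat.card_zpowers, h.orderOf_W₁ hw hw1, h.card_W₁])

theorem W₁_comm_W₂ {w z : G} (hw : w ∈ W₁) (hz : z ∈ W₂) : w * z = z * w :=
  h.data.selfNormalizing.2.2.2.1 w hw z hz

/-- The fixed points of a non-identity element of `W₁` in `S'` lie in `W₂`. -/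
theorem fixed_mem {x a : G} (hx : x ∈ W₁) (hx1 : x ≠ 1) (ha : a ∈ ⁅S, S⁆) (he : x * a = a * x) :
    a ∈ W₂ :=
  h.data.W₂_centralizer x hx hx1 ▸
    Subgroup.mem_inf.2 ⟨ha, Subgroup.mem_centralizer_singleton_iff.2 he.symm⟩

theorem U_inf_P {a : G} (ha : a ∈ U) (haP : a ∈ Cfsg.fittingHallOf S) : a = 1 :=
  Subgroup.mem_bot.1 (h.data.U_compl.2.2.1 ▸ Subgroup.mem_inf.2 ⟨haP, ha⟩)

theorem fixed_U {x a : G} (hx : x ∈ W₁) (hx1 : x ≠ 1) (ha : a ∈ U) (he : x * a = a * x) : a = 1 :=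
  h.U_inf_P ha (h.W₂_le_P (h.fixed_mem hx hx1 (h.U_le_derived ha) he))

omit h in
theorem centU_le : centU S U ≤ U := inf_le_left

omit h in
theorem mem_centU {a : G} : a ∈ centU S U ↔
    a ∈ U ∧ ∀ x ∈ Cfsg.fittingHallOf S, x * a = a * x :=
  ⟨fun ha => ⟨(Subgroup.mem_inf.1 ha).1, fun x hx =>
      Subgroup.mem_centralizer_iff.1 (Subgroup.mem_inf.1 ha).2 x hx⟩,
    fun ha => Subgroup.mem_inf.2 ⟨ha.1, Subgroup.mem_centralizer_iff.2 fun x hx => ha.2 x hx⟩⟩

theorem fittingOf_eq : Cfsg.fittingOf S = Cfsg.fittingHallOf S ⊔ centU S U :=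
  OddLocal.typeP_fittingOf_eq h.data

theorem fitting_compl :
    Cfsg.IsComplIn (Cfsg.fittingHallOf S) (centU S U) (Cfsg.fittingOf S) := by
  rw [h.fittingOf_eq]
  refine OddLocal.isComplIn_sup (fun a ha => h.normalizer_P (h.U_le (centU_le ha))) ?_
  exact eq_bot_iff.2 fun a ha => Subgroup.mem_bot.2
    (h.U_inf_P (centU_le (Subgroup.mem_inf.1 ha).2) (Subgroup.mem_inf.1 ha).1)

theorem card_fitting : Nat.card (Cfsg.fittingOf S) = p ^ q * Nat.card (centU S U) := by
  rw [OddLocal.card_of_isComplIn h.fitting_compl, h.P_card]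

theorem fitting_le : Cfsg.fittingOf S ≤ ⁅S, S⁆ := h.data.fitting_le

theorem exists_mul_fitting {a : G} (ha : a ∈ Cfsg.fittingOf S) :
    ∃ x ∈ Cfsg.fittingHallOf S, ∃ c ∈ centU S U, a = x * c :=
  h.fitting_compl.2.2.2 a ha

theorem fitting_comm {a b : G} (ha : a ∈ Cfsg.fittingOf S) (hb : b ∈ Cfsg.fittingOf S) :
    a * b = b * a := by
  obtain ⟨x, hx, c, hc, rfl⟩ := h.exists_mul_fitting ha
  obtain ⟨y, hy, d, hd, rfl⟩ := h.exists_mul_fitting hb
  have h1 : y * c = c * y := (mem_centU.1 hc).2 y hy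
  have h2 : x * d = d * x := (mem_centU.1 hd).2 x hx
  have h3 : x * y = y * x := h.P_comm hx hy
  have h4 : c * d = d * c := h.U_mul_comm (centU_le hc) (centU_le hd)
  calc x * c * (y * d) = x * (c * y) * d := by group
    _ = (x * y) * (c * d) := by rw [← h1]; group
    _ = y * (x * d) * c := by rw [h3, h4]; group
    _ = (y * d) * (x * c) := by rw [h2]; group

theorem conj_mem_centU {s c : G} (hs : s ∈ W₁) (hc : c ∈ centU S U) :
    s * c * s⁻¹ ∈ centU S U := by
  refine mem_centU.2 ⟨h.conj_mem_U hs (centU_le hc), fun x hx => ?_⟩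
  have h1 := (mem_centU.1 hc).2 _ (h.conj_mem_P (inv_mem (h.W₁_le hs)) hx)
  calc x * (s * c * s⁻¹) = s * ((s⁻¹ * x * s⁻¹⁻¹) * c) * s⁻¹ := by group
    _ = s * c * s⁻¹ * x := by rw [h1]; group

theorem U_not_le_centU : ¬ U ≤ centU S U := fun hle =>
  h.U_ne (OddLocal.typeP_U_eq_bot h.data (hle.trans inf_le_right))

theorem centU_lt : centU S U < U :=
  lt_of_le_not_ge centU_le h.U_not_le_centU

/-- A `W₁`-invariant subgroup of `U` outside `C` fixes nothing in `S_F`. -/
theorem key {X : Subgroup G} (hX : X ≤ U) (hXn : ∀ w ∈ W₁, ∀ x ∈ X, w * x * w⁻¹ ∈ X)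
    (hXC : ¬ X ≤ centU S U) {z : G} (hz : z ∈ Cfsg.fittingHallOf S)
    (hfix : ∀ x ∈ X, x * z = z * x) : z = 1 := by
  set H := Cfsg.fittingHallOf S with hH
  have hXW : X ⊓ W₁ = ⊥ := eq_bot_iff.2 fun a ha => Subgroup.mem_bot.2 (by
    obtain ⟨haX, haW⟩ := Subgroup.mem_inf.1 ha
    have := h.data.W₁_compl.2.2.1 ▸
      Subgroup.mem_inf.2 ⟨h.U_le_derived (hX haX), haW⟩
    exact Subgroup.mem_bot.1 this)
  have hn : W₁ ≤ Subgroup.normalizer (X : Set G) := fun w hw => Subgroup.mem_normalizer_iff.2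
    fun x => ⟨hXn w hw x, fun hx => by simpa [mul_assoc] using hXn _ (inv_mem hw) _ hx⟩
  have hcard : Nat.card ↥(X ⊔ W₁) = Nat.card X * q := by
    rw [OddLocal.card_of_isComplIn (OddLocal.isComplIn_sup hn hXW), h.card_W₁]
  have hcop : (Nat.card H).Coprime (Nat.card ↥(X ⊔ W₁)) := by
    rw [hcard, hH, h.P_card]
    refine Nat.Coprime.mul_right ((h.coprime_p_u.coprime_dvd_right
      (Subgroup.card_dvd_of_le hX)).pow_left q) ?_
    exact ((Nat.coprime_primes h.p_prime h.q_prime).2 h.q_ne_p.symm).pow_left q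
  have hle : X ⊔ W₁ ≤ S := sup_le (hX.trans h.U_le) h.W₁_le
  have hf := Cfsg.Agent.S1545.result X W₁ H
    (fun e => hXC (e ▸ bot_le)) h.data.W₁_ne hXW hXn
    (fun e he he1 x hx hex => h.fixed_U he he1 (hX hx) hex)
    (fun s hs a ha => h.conj_mem_P (hle hs) ha) (OddLocal.inf_eq_bot_of_coprime hcop)
    (Group.isSolvable_of_comm fun a b => Subtype.ext (h.P_comm a.2 b.2)) hcop
  obtain ⟨w, hw, hw1⟩ := h.exists_W₁
  have hCW : H ⊓ Subgroup.centralizer (W₁ : Set G) = W₂ := by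
    refine le_antisymm (fun a ha => ?_) fun a ha => ?_
    · obtain ⟨haH, haC⟩ := Subgroup.mem_inf.1 ha
      exact h.fixed_mem hw hw1 (h.P_le_derived haH) (Subgroup.mem_centralizer_iff.1 haC w hw)
    · exact Subgroup.mem_inf.2 ⟨h.W₂_le_P ha,
        Subgroup.mem_centralizer_iff.2 fun x hx => h.W₁_comm_W₂ hx ha⟩
  rw [hCW, h.card_W₂, h.card_W₁, hH, h.P_card, mul_comm (p ^ q) _] at hf
  have hf' := Nat.eq_of_mul_eq_mul_right (pow_pos h.p_prime.pos q) hf
  set I := H ⊓ Subgroup.centralizer ((X ⊔ W₁ : Subgroup G) : Set G) with hI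
  have hIW : I ≤ W₂ := hCW ▸ inf_le_inf_left _
    (Subgroup.centralizer_le (SetLike.coe_subset_coe.2 le_sup_right))
  rcases (Nat.dvd_prime h.p_prime).1 (h.card_W₂ ▸ Subgroup.card_dvd_of_le hIW) with h1 | h1
  · rw [h1, one_pow] at hf'
    have : z ∈ H ⊓ Subgroup.centralizer (X : Set G) :=
      Subgroup.mem_inf.2 ⟨hz, Subgroup.mem_centralizer_iff.2 fun x hx => hfix x hx⟩
    rw [Subgroup.card_eq_one.1 hf'.symm, Subgroup.mem_bot] at this
    exact this
  · exfalso
    rw [h1] at hf'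
    have hall : H ≤ Subgroup.centralizer (X : Set G) := by
      have := Subgroup.eq_of_le_of_card_ge
        (inf_le_left : H ⊓ Subgroup.centralizer (X : Set G) ≤ H)
        (by rw [← hf', hH, h.P_card])
      exact this ▸ inf_le_right
    exact hXC fun x hx => mem_centU.2
      ⟨hX hx, fun a ha => (Subgroup.mem_centralizer_iff.1 (hall ha) x hx).symm⟩

theorem fitting_ne : Cfsg.fittingOf S ≠ ⊥ := fun e =>
  h.P_ne (le_bot_iff.1 (e ▸ OddLocal.fittingHallOf_le_fittingOf S))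

theorem normalizer_fitting : Subgroup.normalizer (Cfsg.fittingOf S : Set G) = S := by
  have hle : S ≤ Subgroup.normalizer (Cfsg.fittingOf S : Set G) := by
    refine (Subgroup.normal_subgroupOf_iff_le_normalizer (OddLocal.fittingOf_le S)).1 ?_
    rw [show (Cfsg.fittingOf S).subgroupOf S = Cfsg.fittingSubgroup S from
      Subgroup.comap_map_eq_self_of_injective S.subtype_injective _]
    exact CfsgLib.Cores.fittingSubgroup_normal
  refine ((h.max.le_iff.1 hle).resolve_left fun e => ?_)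
  haveI := h.minSimple.2.1
  have hn : (Cfsg.fittingOf S).Normal := Subgroup.normalizer_eq_top_iff.1 e
  rcases hn.eq_bot_or_eq_top with e' | e'
  · exact h.fitting_ne e'
  · exact h.max.1 (top_le_iff.1 (e' ▸ OddLocal.fittingOf_le S))

/-- Fusion in `F(S)` is controlled by `S`. -/
theorem mem_of_conj {g a : G} (ha : a ∈ Cfsg.fittingOf S) (ha1 : a ≠ 1)
    (hg : g * a * g⁻¹ ∈ Cfsg.fittingOf S) : g ∈ S := by
  rw [← h.normalizer_fitting]
  by_contra hn
  exact ha1 (h.fitting_ti g hn a ha hg)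

theorem centralizer_le {a : G} (ha : a ∈ Cfsg.fittingOf S) (ha1 : a ≠ 1) :
    Subgroup.centralizer ({a} : Set G) ≤ S := fun g hg =>
  h.mem_of_conj ha ha1 (by
    rw [Subgroup.mem_centralizer_singleton_iff.1 hg, mul_inv_cancel_right]; exact ha)

theorem W₁_fpf_card {X : Subgroup G} (hX : X ≤ U)
    (hXn : ∀ w ∈ W₁, ∀ x ∈ X, w * x * w⁻¹ ∈ X) : Nat.card X % (2 * q) = 1 := by
  haveI := Fact.mk h.q_prime
  letI : MulAction W₁ X :=
    { smul := fun w x => ⟨(w : G) * x * (w : G)⁻¹, hXn w w.2 x x.2⟩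
      one_smul := fun x => Subtype.ext (show ((1 : W₁) : G) * x * ((1 : W₁) : G)⁻¹ = x by simp)
      mul_smul := fun v w x => Subtype.ext
        (show ((v * w : W₁) : G) * x * ((v * w : W₁) : G)⁻¹ =
          (v : G) * ((w : G) * x * (w : G)⁻¹) * (v : G)⁻¹ by simp [mul_assoc]) }
  have hp : IsPGroup q W₁ := IsPGroup.of_card (n := 1) (by rw [h.card_W₁, pow_one])
  have hm := hp.card_modEq_card_fixedPoints X
  have h1 : MulAction.fixedPoints W₁ X = {1} := by
    ext x
    simp only [MulAction.mem_fixedPoints, Set.mem_singleton_iff]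
    refine ⟨fun hx => ?_, fun hx w => ?_⟩
    · obtain ⟨w, hw, hw1⟩ := h.exists_W₁
      have h2 : w * (x : G) * w⁻¹ = x := congrArg Subtype.val (hx ⟨w, hw⟩)
      exact Subtype.ext (h.fixed_U hw hw1 (hX x.2) (mul_inv_eq_iff_eq_mul.1 h2))
    · subst hx
      exact Subtype.ext (show (w : G) * ((1 : X) : G) * (w : G)⁻¹ = ((1 : X) : G) by simp)
  rw [h1, Nat.card_eq_fintype_card (α := ({1} : Set X)), Set.card_singleton] at hm
  have hm' : Nat.card X % q = 1 % q := hm
  rw [Nat.one_mod_eq_one.2 h.q_prime.ne_one] at hm'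
  have hodd : Nat.card X % 2 = 1 := Nat.odd_iff.1 (h.odd_of_le X)
  have hc : Nat.Coprime 2 q := (Nat.coprime_primes Nat.prime_two h.q_prime).2 h.q_ne_two.symm
  have := (Nat.modEq_and_modEq_iff_modEq_mul hc).1
    ⟨(show Nat.ModEq 2 (Nat.card X) 1 from hodd.trans rfl), (show Nat.ModEq q (Nat.card X) 1 by
      rw [Nat.ModEq, hm', Nat.one_mod_eq_one.2 h.q_prime.ne_one])⟩
  rw [Nat.ModEq, Nat.one_mod_eq_one.2 (by have := h.three_le_q; omega)] at this
  exact this

theorem card_U_mod : Nat.card U % (2 * q) = 1 :=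
  h.W₁_fpf_card le_rfl fun _ hw _ hx => h.conj_mem_U hw hx

theorem card_centU_mod : Nat.card (centU S U) % (2 * q) = 1 :=
  h.W₁_fpf_card centU_le fun _ hw _ hx => h.conj_mem_centU hw hx

theorem relIndex_centU_mul : Nat.card (centU S U) * (centU S U).relIndex U = Nat.card U := by
  rw [← Subgroup.relIndex_bot_left, ← Subgroup.relIndex_bot_left,
    Subgroup.relIndex_mul_relIndex ⊥ _ _ bot_le centU_le]

theorem relIndex_centU_mod : (centU S U).relIndex U % (2 * q) = 1 := by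
  have h1 := congrArg (· % (2 * q)) h.relIndex_centU_mul
  simp only [Nat.mul_mod, h.card_centU_mod, h.card_U_mod, one_mul, Nat.mod_mod] at h1
  exact h1

theorem two_q_lt_relIndex : 2 * q + 1 ≤ (centU S U).relIndex U := by
  have h1 := h.relIndex_centU_mod
  have h2 : (centU S U).relIndex U ≠ 1 := fun e => h.U_not_le_centU (Subgroup.relIndex_eq_one.1 e)
  rw [← Nat.div_add_mod ((centU S U).relIndex U) (2 * q), h1] at h2 ⊢
  have : 1 ≤ (centU S U).relIndex U / (2 * q) := by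
    rcases Nat.eq_zero_or_pos ((centU S U).relIndex U / (2 * q)) with e | e
    · rw [e] at h2; simp at h2
    · exact e
  nlinarith

end Side

end CfsgLib.OddChar.Pair
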