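import Cfsg.Agent.Lib.Char.Generalized
import Cfsg.Agent.Lib.Char.Restrict
import Cfsg.Agent.Lib.CharNormal.Kernel
import Cfsg.Prelude.Def_OddOrderChar

/-!
# Pairs of conjugate constituents; coset sums of a character

* `classInner_eq_zero_of_pairs`: a virtual character whose norm is filled by pairs `μ, conj μ`
  is orthogonal to every other irreducible character;
* `isIrr_conjFun`, `classInner_conjFun`;
* `sum_coset_eq_zero`: the coset sums of a character not trivial on `H` vanish.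
-/

set_option autoImplicit false

namespace CfsgLib.OddChar.PairBessel

open CfsgLib.Char CfsgLib.CharNormal
open scoped ComplexConjugate

universe u

variable {G : Type u} [Group G] [Fintype G]

theorem classInner_conjFun (φ ψ : G → ℂ) :
    Cfsg.classInner (Cfsg.conjFun φ) (Cfsg.conjFun ψ) = conj (Cfsg.classInner φ ψ) := by
  simp only [classInner_def, Cfsg.conjFun, map_mul, map_sum, map_inv₀, map_natCast]

theorem isIrr_conjFun {φ : G → ℂ} (h : Cfsg.IsIrrCharacter G φ) :
    Cfsg.IsIrrCharacter G (Cfsg.conjFun φ) := by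
  refine irr_of_norm_one (isCharacter_conj (isCharacter_of_isIrr h)) ?_
  rw [classInner_conjFun, classInner_irr_self h, map_one]

omit [Group G] [Fintype G] in
theorem conjFun_conjFun (φ : G → ℂ) : Cfsg.conjFun (Cfsg.conjFun φ) = φ :=
  funext fun _ => Complex.conj_conj _

theorem norm_eq_sum_coeff {V : G → ℂ} (hV : Cfsg.IsGeneralizedCharacter G V)
    (c : Cfsg.IrrCharacter G → ℤ) (hc : ∀ i : Cfsg.IrrCharacter G, Cfsg.classInner V (i : G → ℂ) = c i) :
    Cfsg.classInner V V = ((∑ i, c i ^ 2 : ℤ) : ℂ) := by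
  rw [classInner_eq_sum (isClassFunction_of_isGen hV)]
  simp [hc, sq]

/-- A virtual character whose norm is filled by pairs of conjugate characters. -/
theorem classInner_eq_zero_of_pairs {ι : Type*} (s : Finset ι) {V : G → ℂ}
    (hV : Cfsg.IsGeneralizedCharacter G V) {μ : ι → G → ℂ}
    (hμ : ∀ i ∈ s, Cfsg.IsIrrCharacter G (μ i)) (hne : ∀ i ∈ s, μ i ≠ Cfsg.conjFun (μ i))
    (hdis : ∀ i ∈ s, ∀ j ∈ s, i ≠ j → μ i ≠ μ j ∧ μ i ≠ Cfsg.conjFun (μ j))
    (d need : ι → ℤ)
    (hd : ∀ i ∈ s, Cfsg.classInner V (μ i) - Cfsg.classInner V (Cfsg.conjFun (μ i)) = d i)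
    (hneed : ∀ i ∈ s, ∀ a b : ℤ, a - b = d i → need i ≤ a ^ 2 + b ^ 2)
    (hnorm : Cfsg.classInner V V = ((∑ i ∈ s, need i : ℤ) : ℂ))
    {ξ : G → ℂ} (hξ : Cfsg.IsIrrCharacter G ξ)
    (hξs : ∀ i ∈ s, ξ ≠ μ i ∧ ξ ≠ Cfsg.conjFun (μ i)) : Cfsg.classInner V ξ = 0 := by
  classical
  choose c hc using fun i : Cfsg.IrrCharacter G => classInner_gen_int hV (isGen_of_irr i.2)
  have htot : ∑ i ∈ s, need i = ∑ i, c i ^ 2 := by
    have h := hnorm.symm.trans (norm_eq_sum_coeff hV c hc)
    exact_mod_cast h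
  let T : {i // i ∈ s} → Finset (Cfsg.IrrCharacter G) := fun i =>
    {⟨μ i, hμ i i.2⟩, ⟨Cfsg.conjFun (μ i), isIrr_conjFun (hμ i i.2)⟩}
  have hT : ∀ (i : {i // i ∈ s}) (x : Cfsg.IrrCharacter G), x ∈ T i ↔
      (x : G → ℂ) = μ i ∨ (x : G → ℂ) = Cfsg.conjFun (μ i) := fun i x => by
    simp [T, Subtype.ext_iff]
  have hdisj : Set.PairwiseDisjoint (↑(Finset.univ : Finset {i // i ∈ s})) T := by
    intro i _ j _ hij
    rw [Function.onFun, Finset.disjoint_left]
    intro x hx hy
    have h1 := hdis i i.2 j j.2 fun e => hij (Subtype.ext e)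
    have h2 := hdis j j.2 i i.2 fun e => hij (Subtype.ext e.symm)
    rcases (hT i x).1 hx with e | e <;> rcases (hT j x).1 hy with e' | e' <;> rw [e] at e'
    · exact h1.1 e'
    · exact h1.2 e'
    · exact h2.2 e'.symm
    · exact h1.1 (by rw [← conjFun_conjFun (μ i), e', conjFun_conjFun])
  have hle : ∀ i : {i // i ∈ s}, need i ≤ ∑ x ∈ T i, c x ^ 2 := by
    intro i
    rw [Finset.sum_pair fun e => hne i i.2 (congrArg Subtype.val e)]
    refine hneed i i.2 _ _ ?_
    have h := hd i i.2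
    rw [hc ⟨μ i, hμ i i.2⟩, hc ⟨Cfsg.conjFun (μ i), isIrr_conjFun (hμ i i.2)⟩] at h
    exact_mod_cast h
  set x₀ : Cfsg.IrrCharacter G := ⟨ξ, hξ⟩
  have hx₀ : x₀ ∉ Finset.univ.biUnion T := by
    simp only [Finset.mem_biUnion, not_exists, not_and]
    intro i _ hi
    rcases (hT i x₀).1 hi with e | e
    · exact (hξs i i.2).1 e
    · exact (hξs i i.2).2 e
  have h1 : ∑ i ∈ s, need i + c x₀ ^ 2 ≤ ∑ x, c x ^ 2 := by
    calc ∑ i ∈ s, need i + c x₀ ^ 2
        ≤ ∑ i : {i // i ∈ s}, ∑ x ∈ T i, c x ^ 2 + c x₀ ^ 2 := by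
          gcongr
          rw [← Finset.sum_coe_sort]
          exact Finset.sum_le_sum fun i _ => hle i
      _ = ∑ x ∈ insert x₀ (Finset.univ.biUnion T), c x ^ 2 := by
          rw [Finset.sum_insert hx₀, Finset.sum_biUnion hdisj]; ring
      _ ≤ ∑ x, c x ^ 2 := Finset.sum_le_sum_of_subset_of_nonneg (Finset.subset_univ _)
          fun _ _ _ => sq_nonneg _
  have h2 : c x₀ = 0 := by nlinarith
  rw [hc x₀, h2, Int.cast_zero]

variable (H : Subgroup G) [hH : H.Normal] [Fintype H]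

/-- The coset sums of an irreducible character not trivial on `H` vanish. -/
theorem sum_coset_eq_zero {φ : G → ℂ} (hφ : Cfsg.IsIrrCharacter G φ)
    (hker : ∃ h ∈ H, φ h ≠ φ 1) (n : G) : ∑ h : H, φ ((h : G) * n) = 0 := by
  classical
  have := Fintype.ofFinite (G ⧸ H)
  set F : G → ℂ := fun g => ∑ h : H, φ ((h : G) * g) with hF
  have hinv : ∀ (g : G) (k : H), F ((k : G) * g) = F g := fun g k => by
    simp only [hF]
    refine Fintype.sum_equiv (Equiv.mulRight k) _ _ fun h => ?_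
    simp [mul_assoc]
  have hcl : Cfsg.IsClassFunction G F := by
    intro g c
    simp only [hF]
    refine Fintype.sum_equiv
      (MulAut.conjNormal (H := H) c⁻¹).toEquiv _ _ fun h => ?_
    rw [show (h : G) * (c * g * c⁻¹) = c * (c⁻¹ * h * c * g) * c⁻¹ by group,
      isClassFunction_of_isIrr hφ]
    simp [MulAut.conjNormal_apply]
  set Q : G ⧸ H → ℂ := fun q => F q.out with hQ
  have hFQ : ∀ g : G, F g = Q (g : G ⧸ H) := fun g => by
    obtain ⟨k, hk⟩ := QuotientGroup.mk_out_eq_mul H g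
    simp only [hQ, hk]
    have h := hinv g ⟨g * k * g⁻¹, hH.conj_mem _ k.2 g⟩
    simp only [inv_mul_cancel_right] at h
    exact h.symm
  have hQcl : Cfsg.IsClassFunction (G ⧸ H) Q := by
    intro a c
    obtain ⟨a, rfl⟩ := QuotientGroup.mk_surjective a
    obtain ⟨c, rfl⟩ := QuotientGroup.mk_surjective c
    rw [← QuotientGroup.mk_inv, ← QuotientGroup.mk_mul, ← QuotientGroup.mk_mul, ← hFQ, ← hFQ]
    exact hcl a c
  have hzero : Q = 0 := by
    rw [classFun_eq_sum hQcl]
    refine Finset.sum_eq_zero fun β _ => ?_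
    have hcomp : (Q ∘ QuotientGroup.mk : G → ℂ) = F := funext fun g => (hFQ g).symm
    rw [← classInner_comp_mk' H, hcomp, classInner_def]
    have hsum : ∑ g : G, F g * conj (((β : G ⧸ H → ℂ) ∘ QuotientGroup.mk) g) = 0 := by
      simp only [hF, Finset.sum_mul]
      rw [Finset.sum_comm]
      refine Finset.sum_eq_zero fun h _ => ?_
      have : ∑ g : G, φ g * conj (((β : G ⧸ H → ℂ) ∘ QuotientGroup.mk) g) = 0 := by
        have hne : φ ≠ (β : G ⧸ H → ℂ) ∘ QuotientGroup.mk := fun e => by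
          obtain ⟨k, hk, hk'⟩ := hker
          exact hk' (e ▸ comp_mk'_const H hk)
        have h0 := classInner_irr_ne hφ (isIrr_comp_mk' H β.2) hne
        rw [classInner_def, mul_eq_zero] at h0
        exact h0.resolve_left (inv_ne_zero card_ne_zero')
      rw [← this]
      refine Fintype.sum_equiv (Equiv.mulLeft (h : G)) _ _ fun g => ?_
      simp only [Equiv.coe_mulLeft, Function.comp_apply, QuotientGroup.mk_mul,
        (QuotientGroup.eq_one_iff (h : G)).2 h.2, one_mul]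
    rw [hsum, mul_zero, zero_smul]
  show F n = 0
  rw [hFQ, hzero, Pi.zero_apply]

end CfsgLib.OddChar.PairBessel
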