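import Cfsg.Agent.Lib.OddChar.PairPi
import Cfsg.Agent.Lib.OddChar.NormalInd

/-!
# The reducible characters of one member of a pair

For `ω = φ ψ` a character of `W` with `ψ ≠ 1`, `mu ω` is induced from the extension of `ω` to
`F(S) W₁`:
* `mu_irr`, `mu_W`, `mu_eq_zero`, `mu_fitting`: irreducibility and values;
* `sum_mu`: the sum over `φ` is induced from `F(S)`;
* `ind_sub`: `Ind_S^G (mu (φ ψ) - mu (φ ψ')) = η (φ ψ) - η (φ ψ')`.
-/

set_option autoImplicit false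
set_option linter.unusedSectionVars false

namespace CfsgLib.OddChar.Pair

open CfsgLib.Char CfsgLib.CharNormal CfsgLib.OddChar.CTI
open scoped ComplexConjugate

universe u

section Left

variable {G : Type u} [Group G] [Finite G] {W₁ W₂ : Subgroup G}

theorem finite_left (hW : Cfsg.IsSelfNormalizingCyclic W₁ W₂) :
    {φ : ↥(W₁ ⊔ W₂) →* ℂˣ | IsLeft W₁ W₂ φ}.Finite :=
  @Set.toFinite _ _ (@Subtype.finite _ (finite_chars hW) _)

/-- The characters trivial on `W₂`. -/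
noncomputable def leftChars (hW : Cfsg.IsSelfNormalizingCyclic W₁ W₂) :
    Finset (↥(W₁ ⊔ W₂) →* ℂˣ) :=
  (finite_left hW).toFinset

theorem mem_leftChars (hW : Cfsg.IsSelfNormalizingCyclic W₁ W₂) {φ : ↥(W₁ ⊔ W₂) →* ℂˣ} :
    φ ∈ leftChars hW ↔ IsLeft W₁ W₂ φ :=
  Set.Finite.mem_toFinset _

theorem card_leftChars (hW : Cfsg.IsSelfNormalizingCyclic W₁ W₂) :
    (leftChars hW).card = Nat.card W₁ := by
  rw [← card_left hW, ← Nat.card_eq_finsetCard]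
  exact Nat.card_congr (Equiv.subtypeEquivRight fun φ => mem_leftChars hW)

theorem exists_left_apply_ne (hW : Cfsg.IsSelfNormalizingCyclic W₁ W₂) {w : ↥(W₁ ⊔ W₂)}
    (hw : (w : G) ∉ W₂) : ∃ φ, IsLeft W₁ W₂ φ ∧ φ w ≠ 1 := by
  classical
  obtain ⟨π₁, π₂, hp, hm1, hm2, h1, h2⟩ := exists_proj hW
  let f : ↥(W₁ ⊔ W₂) →* W₁ := MonoidHom.mk' (fun w => ⟨π₁ w, hm1 w⟩) fun v w =>
    Subtype.ext (by show (π₁ (v * w) : G) = (π₁ v : G) * (π₁ w : G); rw [map_mul]; rfl)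
  have hc : ∀ a b : W₁, a * b = b * a := fun a b => by
    have := congrArg Subtype.val (commute_of_mem hW ⟨a, Subgroup.mem_sup_left a.2⟩
      ⟨b, Subgroup.mem_sup_left b.2⟩)
    exact Subtype.ext this
  haveI := finite_hom hc
  haveI := Fintype.ofFinite (W₁ →* ℂˣ)
  haveI := Fintype.ofFinite W₁
  have hfw : f w ≠ 1 := fun e => hw (by
    have e1 : π₁ w = 1 := Subtype.ext (congrArg (fun a : W₁ => (a : G)) e :)
    rw [← hp w, e1, one_mul]
    exact hm2 w)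
  obtain ⟨α, hα⟩ : ∃ α : W₁ →* ℂˣ, α (f w) ≠ 1 := by
    by_contra hne
    push Not at hne
    have h := sum_lin hc (f w)
    rw [if_neg hfw, Finset.sum_congr rfl fun α _ => (by rw [lin_apply, hne α]; simp :
      lin α (f w) = 1)] at h
    simp at h
  exact ⟨α.comp f, fun v hv => by
    rw [MonoidHom.comp_apply, show f v = 1 from Subtype.ext (by
      show (π₁ v : G) = _
      rw [(h2 v hv).1]; rfl), map_one], hα⟩

theorem sum_left_apply (hW : Cfsg.IsSelfNormalizingCyclic W₁ W₂) (w : ↥(W₁ ⊔ W₂))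
    [Decidable ((w : G) ∈ W₂)] :
    ∑ φ ∈ leftChars hW, (φ w : ℂ) = if (w : G) ∈ W₂ then (Nat.card W₁ : ℂ) else 0 := by
  split_ifs with hw
  · rw [Finset.sum_congr rfl fun φ hφ => (by rw [(mem_leftChars hW).1 hφ w hw]; simp :
      (φ w : ℂ) = 1), Finset.sum_const, card_leftChars hW, nsmul_eq_mul, mul_one]
  · obtain ⟨φ₀, hφ₀, hne⟩ := exists_left_apply_ne hW hw
    have h1 : ∑ φ ∈ leftChars hW, (φ w : ℂ) =
        (φ₀ w : ℂ) * ∑ φ ∈ leftChars hW, (φ w : ℂ) := by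
      rw [Finset.mul_sum]
      refine Finset.sum_nbij' (fun φ => φ₀⁻¹ * φ) (fun φ => φ₀ * φ) ?_ ?_ ?_ ?_ ?_
      · exact fun φ hφ => (mem_leftChars hW).2 (hφ₀.inv.mul ((mem_leftChars hW).1 hφ))
      · exact fun φ hφ => (mem_leftChars hW).2 (hφ₀.mul ((mem_leftChars hW).1 hφ))
      · exact fun φ _ => by ext; simp
      · exact fun φ _ => by ext; simp
      · intro φ _
        simp [mul_inv_cancel_left₀]
    have h2 : (1 - (φ₀ w : ℂ)) * ∑ φ ∈ leftChars hW, (φ w : ℂ) = 0 := by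
      rw [sub_mul, one_mul, ← h1, sub_self]
    rcases mul_eq_zero.1 h2 with e | e
    · exact absurd (Units.ext (sub_eq_zero.1 e).symm) hne
    · exact e

end Left

/-- The support of the differences of the reducible characters. -/
def supp {G : Type u} [Group G] (S W₁ W₂ : Subgroup G) : Set G :=
  {x | (x ∈ Cfsg.fittingOf S ∧ x ≠ 1) ∨ ∃ s ∈ S, s * x * s⁻¹ ∈ hat W₁ W₂}

namespace Side

variable {G : Type u} [Group G] [Fintype G] {S W₁ U W₂ : Subgroup G} {q p : ℕ}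
variable (h : Side S W₁ U W₂ q p)
include h

/-- The projection of `F(S) W₁` onto `W`. -/
noncomputable def pi : ↥(FW S W₁) →* ↥(W₁ ⊔ W₂) := Classical.choose h.exists_pi

theorem pi_W (m : ↥(FW S W₁)) (hm : (m : G) ∈ W₁ ⊔ W₂) : h.pi m = ⟨m, hm⟩ :=
  (Classical.choose_spec h.exists_pi).1 m hm

theorem pi_C (m : ↥(FW S W₁)) (hm : (m : G) ∈ centU S U) : h.pi m = 1 :=
  (Classical.choose_spec h.exists_pi).2.1 m hm

theorem pi_F (m : ↥(FW S W₁)) (hm : (m : G) ∈ Cfsg.fittingOf S) : (h.pi m : G) ∈ W₂ :=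
  (Classical.choose_spec h.exists_pi).2.2 m hm

/-- The extension of `ω` to `F(S) W₁`. -/
noncomputable def lam (ω : ↥(W₁ ⊔ W₂) →* ℂˣ) : ↥((FW S W₁).subgroupOf S) →* ℂˣ :=
  ω.comp (h.pi.comp (Subgroup.subgroupOfEquivOfLe h.FW_le).toMonoidHom)

theorem lam_W (ω : ↥(W₁ ⊔ W₂) →* ℂˣ) (m : ↥((FW S W₁).subgroupOf S))
    (hm : ((m : S) : G) ∈ W₁ ⊔ W₂) : h.lam ω m = ω ⟨_, hm⟩ := by
  show ω (h.pi (Subgroup.subgroupOfEquivOfLe h.FW_le m)) = _
  rw [h.pi_W (Subgroup.subgroupOfEquivOfLe h.FW_le m) hm]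
  rfl

theorem lam_F (φ ψ : ↥(W₁ ⊔ W₂) →* ℂˣ) (hφ : IsLeft W₁ W₂ φ)
    (m : ↥((FW S W₁).subgroupOf S)) (hm : ((m : S) : G) ∈ Cfsg.fittingOf S) :
    h.lam (φ * ψ) m = h.lam ψ m := by
  show (φ * ψ) (h.pi _) = ψ (h.pi _)
  rw [MonoidHom.mul_apply, hφ _ (h.pi_F _ hm), one_mul]

theorem lam_C (ω : ↥(W₁ ⊔ W₂) →* ℂˣ) (m : ↥((FW S W₁).subgroupOf S))
    (hm : ((m : S) : G) ∈ centU S U) : h.lam ω m = 1 := by
  show ω (h.pi _) = 1
  rw [h.pi_C _ hm, map_one]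

theorem lam_conj (ω : ↥(W₁ ⊔ W₂) →* ℂˣ) (a b : ↥((FW S W₁).subgroupOf S)) :
    h.lam ω (a * b * a⁻¹) = h.lam ω b := by
  rw [map_mul, map_mul, map_inv, mul_comm (h.lam ω a), mul_inv_cancel_right]

theorem not_mem_derived {t : G} (ht : t ∈ W₁ ⊔ W₂) (ht₂ : t ∉ W₂) : t ∉ ⁅S, S⁆ := by
  intro hd
  obtain ⟨a, ha, b, hb, rfl⟩ := CTI.exists_mul_of_mem (fun a ha b hb => h.W₁_comm_W₂ ha hb) ht
  have : a ∈ ⁅S, S⁆ := by
    simpa using mul_mem hd (inv_mem (h.P_le_derived (h.W₂_le_P hb)))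
  exact ht₂ (by rw [h.derived_inf_W₁ this ha, one_mul]; exact hb)

theorem not_mem_fitting {t : G} (ht : t ∈ W₁ ⊔ W₂) (ht₂ : t ∉ W₂) : t ∉ Cfsg.fittingOf S :=
  fun hF => h.not_mem_derived ht ht₂ (h.fitting_le hF)

variable [Fintype S]

/-- The characters `μ`. -/
noncomputable def mu (ω : ↥(W₁ ⊔ W₂) →* ℂˣ) : S → ℂ :=
  Cfsg.indFun ((FW S W₁).subgroupOf S) fun m => (h.lam ω m : ℂ)

theorem mu_isCharacter (ω : ↥(W₁ ⊔ W₂) →* ℂˣ) : Cfsg.IsCharacter S (h.mu ω) :=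
  isCharacter_indFun _ (isCharacter_of_isIrr (isIrrCharacter_units_hom (h.lam ω)))

theorem mu_classFun (ω : ↥(W₁ ⊔ W₂) →* ℂˣ) : Cfsg.IsClassFunction S (h.mu ω) :=
  isClassFunction_of_isCharacter (h.mu_isCharacter ω)

theorem mu_gen (ω : ↥(W₁ ⊔ W₂) →* ℂˣ) : Cfsg.IsGeneralizedCharacter S (h.mu ω) :=
  isGen_of_char (h.mu_isCharacter ω)

theorem mu_W (ω : ↥(W₁ ⊔ W₂) →* ℂˣ) (s : S) (hs : (s : G) ∈ W₁ ⊔ W₂) (hs₂ : (s : G) ∉ W₂) :
    h.mu ω s = (ω ⟨s, hs⟩ : ℂ) := by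
  classical
  set M := (FW S W₁).subgroupOf S with hM
  have hterm : ∀ x : S, Cfsg.extendByZero M (fun m => (h.lam ω m : ℂ)) (x⁻¹ * s * x) =
      if x ∈ M then (ω ⟨s, hs⟩ : ℂ) else 0 := by
    intro x
    have hsM : s ∈ M := h.W_le_FW hs
    split_ifs with hx
    · rw [extendByZero_of_mem _ (mul_mem (mul_mem (inv_mem hx) hsM) hx)]
      have e := h.lam_conj ω ⟨x, hx⟩⁻¹ ⟨s, hsM⟩
      rw [inv_inv] at e
      refine congrArg Units.val (Eq.trans e ?_)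
      exact h.lam_W ω ⟨s, hsM⟩ hs
    · refine extendByZero_of_notMem _ fun hm => hx ?_
      have hmF : ((x⁻¹ * s * x : S) : G) ∉ Cfsg.fittingOf S := fun hF => by
        refine h.not_mem_fitting hs hs₂ ?_
        have := h.conj_mem_fitting x.2 hF
        simpa [mul_assoc] using this
      obtain ⟨f, hf, hfW, hfW₂⟩ := h.exists_conj_mem_W hm hmF
      have hmem : f * (x : G)⁻¹ ∈ W₁ ⊔ W₂ := by
        refine h.mem_W_of_conj (mul_mem (h.fitting_le_S hf) (inv_mem x.2)) hs hs₂ ?_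
        convert hfW using 1
        simp [mul_assoc]
      show (x : G) ∈ FW S W₁
      have h2 : f⁻¹ * (f * (x : G)⁻¹) ∈ FW S W₁ :=
        mul_mem (Subgroup.mem_sup_left (inv_mem hf)) (h.W_le_FW hmem)
      rw [inv_mul_cancel_left] at h2
      exact inv_mem_iff.1 h2
  rw [mu, indFun_apply, Finset.sum_congr rfl fun x _ => hterm x, ← Finset.sum_filter,
    Finset.sum_const, nsmul_eq_mul, ← mul_assoc]
  rw [show ((Finset.univ.filter fun x : S => x ∈ M).card : ℂ) = (Nat.card M : ℂ) by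
    rw [Nat.card_eq_fintype_card, Fintype.card_subtype], inv_mul_cancel₀ (card_subgroup_ne_zero M),
    one_mul]

theorem mu_eq_zero (ω : ↥(W₁ ⊔ W₂) →* ℂˣ) (s : S) (hs : (s : G) ∉ Cfsg.fittingOf S)
    (hconj : ∀ x ∈ S, x * s * x⁻¹ ∈ W₁ ⊔ W₂ → x * s * x⁻¹ ∈ W₂) : h.mu ω s = 0 := by
  refine indFun_eq_zero_of_forall _ fun x hx => ?_
  exfalso
  have hmF : ((x⁻¹ * s * x : S) : G) ∉ Cfsg.fittingOf S := fun hF => hs (by
    have := h.conj_mem_fitting x.2 hF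
    simpa [mul_assoc] using this)
  obtain ⟨f, hf, hfW, hfW₂⟩ := h.exists_conj_mem_W hx hmF
  refine hfW₂ ?_
  have := hconj (f * (x : G)⁻¹) (mul_mem (h.fitting_le_S hf) (inv_mem x.2))
  have e : f * (x : G)⁻¹ * (s : G) * (f * (x : G)⁻¹)⁻¹ =
      f * ((x⁻¹ * s * x : S) : G) * f⁻¹ := by
    simp [mul_assoc]
  rw [e] at this
  exact this hfW

theorem mu_fitting (φ ψ : ↥(W₁ ⊔ W₂) →* ℂˣ) (hφ : IsLeft W₁ W₂ φ) (s : S)
    (hs : (s : G) ∈ Cfsg.fittingOf S) : h.mu (φ * ψ) s = h.mu ψ s := by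
  rw [mu, mu, indFun_apply, indFun_apply]
  congr 1
  refine Finset.sum_congr rfl fun x _ => ?_
  have hF : ((x⁻¹ * s * x : S) : G) ∈ Cfsg.fittingOf S := by
    have := h.conj_mem_fitting (inv_mem x.2) hs
    simpa using this
  have hm : x⁻¹ * s * x ∈ (FW S W₁).subgroupOf S := Subgroup.mem_sup_left hF
  rw [extendByZero_of_mem _ hm, extendByZero_of_mem _ hm, h.lam_F φ ψ hφ _ hF]

/-- The character of `F(S)` under `lam ω`. -/
noncomputable def lamF (ω : ↥(W₁ ⊔ W₂) →* ℂˣ) : ↥((Cfsg.fittingOf S).subgroupOf S) →* ℂˣ :=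
  (h.lam ω).comp (Subgroup.inclusion (fun _ hx => Subgroup.mem_sup_left hx))

theorem lam_P_ne {ψ : ↥(W₁ ⊔ W₂) →* ℂˣ} (hψ : IsRight W₁ W₂ ψ) (hψ1 : ψ ≠ 1) :
    ∃ (z : G) (hz : z ∈ W₂), ψ ⟨z, Subgroup.mem_sup_right hz⟩ ≠ 1 := by
  by_contra hne
  push Not at hne
  exact hψ1 (hom_eq_one hψ fun w hw => hne w hw)

/-- Only the elements of `F(S) W₁` fix `lamF ψ`. -/
theorem fix_lamF {ψ : ↥(W₁ ⊔ W₂) →* ℂˣ} (hψ : IsRight W₁ W₂ ψ) (hψ1 : ψ ≠ 1) {x : S}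
    (hfix : ∀ (f : S) (hf : (f : G) ∈ Cfsg.fittingOf S) (hxf : ((x⁻¹ * f * x : S) : G) ∈
      Cfsg.fittingOf S), h.lamF ψ ⟨x⁻¹ * f * x, hxf⟩ = h.lamF ψ ⟨f, hf⟩) :
    (x : G) ∈ FW S W₁ := by
  -- write `x = y * u * v`
  obtain ⟨d, hd, v, hv, hxe⟩ := h.data.W₁_compl.2.2.2 x x.2
  obtain ⟨y, hy, u, hu, rfl⟩ := h.data.U_compl.2.2.2 d hd
  set P := Cfsg.fittingHallOf S with hP
  let α : Cfsg.fittingHallOf S →* ℂˣ :=
    (h.lamF ψ).comp (MonoidHom.mk' (fun a => ⟨⟨a, h.P_le a.2⟩, h.P_le_fitting a.2⟩)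
      fun _ _ => rfl)
  have hval : ∀ (g : G) (hg : g ∈ S) (a : P), g ∈ FW S W₁ →
      α (h.act g hg a) = α a := by
    intro g hg a hgF
    have e := h.lam_conj ψ ⟨⟨g, hg⟩, hgF⟩ ⟨⟨a, h.P_le a.2⟩,
      Subgroup.mem_sup_left (h.P_le_fitting a.2)⟩
    exact e
  have hα : α ≠ 1 := by
    obtain ⟨z, hz, hne⟩ := h.lam_P_ne hψ hψ1
    intro e
    refine hne ?_
    exact (h.lam_W ψ ⟨⟨z, h.W₂_le hz⟩, Subgroup.mem_sup_left (h.W₂_le_fitting hz)⟩
      (Subgroup.mem_sup_right hz)).symm.trans (DFunLike.congr_fun e ⟨z, h.W₂_le_P hz⟩)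
  have huC : u ∈ centU S U := by
    refine h.mem_centU_of_fix_char (α := α) hα (fun w hw a => ?_) hu fun a => ?_
    · exact hval w (h.W₁_le hw) a (Subgroup.mem_sup_right hw)
    · have hvm : v ∈ FW S W₁ := Subgroup.mem_sup_right hv
      have hym : y ∈ FW S W₁ := Subgroup.mem_sup_left (h.P_le_fitting hy)
      have hS := h.U_le hu
      set b : P := h.act y (h.P_le hy) (h.act u hS a) with hb
      have e1 : α b = α (h.act u hS a) := hval y _ _ hym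
      have hbF : ((x⁻¹ * ⟨b, h.P_le b.2⟩ * x : S) : G) ∈ Cfsg.fittingOf S := by
        have := h.conj_mem_fitting (inv_mem x.2) (h.P_le_fitting b.2)
        simpa using this
      have e2 := hfix ⟨b, h.P_le b.2⟩ (h.P_le_fitting b.2) hbF
      have e3 : α (h.act v⁻¹ (h.W₁_le (inv_mem hv)) a) = α a :=
        hval _ _ _ (inv_mem hvm)
      rw [← e1, ← e3]
      refine (Eq.trans ?_ e2).symm
      show h.lamF ψ _ = h.lamF ψ _
      congr 1
      apply Subtype.ext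
      apply Subtype.ext
      show (h.act v⁻¹ (h.W₁_le (inv_mem hv)) a : G) = (x : G)⁻¹ * b * x
      rw [hxe, hb, h.act_apply, h.act_apply, h.act_apply]
      group
  rw [hxe]
  exact mul_mem (mul_mem (Subgroup.mem_sup_left (h.P_le_fitting hy))
    (Subgroup.mem_sup_left (h.fitting_compl.2.1 huC))) (Subgroup.mem_sup_right hv)

theorem mu_irr {φ ψ : ↥(W₁ ⊔ W₂) →* ℂˣ} (hφ : IsLeft W₁ W₂ φ) (hψ : IsRight W₁ W₂ ψ)
    (hψ1 : ψ ≠ 1) : Cfsg.IsIrrCharacter S (h.mu (φ * ψ)) := by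
  classical
  refine irr_of_norm_one (h.mu_isCharacter _) ?_
  set M := (FW S W₁).subgroupOf S with hM
  haveI := Fintype.ofFinite M
  set F : Subgroup S := (Cfsg.fittingOf S).subgroupOf S with hF
  conv_lhs => arg 1; rw [mu]
  rw [frobenius_reciprocity M _ (h.mu_classFun _), classInner_def]
  have hout : ∀ m : M, (m : S) ∉ F →
      (h.lam (φ * ψ) m : ℂ) * conj (h.mu (φ * ψ) m) = 1 := by
    intro m hm
    obtain ⟨f, hf, hfW, hfW₂⟩ := h.exists_conj_mem_W m.2 hm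
    set g : M := ⟨⟨f, h.fitting_le_S hf⟩, Subgroup.mem_sup_left hf⟩
    have e1 : h.mu (φ * ψ) m = h.mu (φ * ψ) ((g * m * g⁻¹ : M) : S) :=
      (h.mu_classFun _ (m : S) (g : S)).symm
    have e2 : (h.lam (φ * ψ) m : ℂ) = h.mu (φ * ψ) ((g * m * g⁻¹ : M) : S) := by
      rw [h.mu_W _ _ hfW hfW₂, ← h.lam_conj (φ * ψ) g m]
      exact congrArg Units.val (h.lam_W _ (g * m * g⁻¹) hfW)
    rw [e1, ← e2, Complex.mul_conj']
    norm_cast
    rw [norm_eq_one_of_pow_eq_one' (orderOf_pos m).ne' (by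
      rw [← Units.val_pow_eq_pow_val, ← map_pow, pow_orderOf_eq_one, map_one, Units.val_one])]
    norm_num
  have hin : ∑ m ∈ Finset.univ.filter (fun m : M => (m : S) ∈ F),
      (h.lam (φ * ψ) m : ℂ) * conj (h.mu (φ * ψ) m) =
      ((Finset.univ.filter fun m : M => (m : S) ∈ F).card : ℂ) := by
    haveI := Fintype.ofFinite F
    have hFM : F ≤ M := fun x hx => Subgroup.mem_sup_left hx
    have e1 : ∀ g : F → ℂ, ∀ g' : M → ℂ, (∀ f : F, g f = g' ⟨f, hFM f.2⟩) →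
        ∑ m ∈ Finset.univ.filter (fun m : M => (m : S) ∈ F), g' m = ∑ f : F, g f := by
      intro g g' hg
      refine Finset.sum_bij (fun m hm => ⟨(m : S), (Finset.mem_filter.1 hm).2⟩)
        (fun _ _ => Finset.mem_univ _)
        (fun a _ b _ e => Subtype.ext (congrArg (fun t : F => (t : S)) e :))
        (fun f _ => ⟨⟨f, hFM f.2⟩, Finset.mem_filter.2 ⟨Finset.mem_univ _, f.2⟩, rfl⟩)
        fun m hm => (hg ⟨(m : S), (Finset.mem_filter.1 hm).2⟩).symm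
    have hcardF : ((Finset.univ.filter fun m : M => (m : S) ∈ F).card : ℂ) = (Nat.card F : ℂ) := by
      have := e1 (fun _ => 1) (fun _ => 1) fun _ => rfl
      simpa [Nat.card_eq_fintype_card] using this
    rw [e1 (fun f => (h.lamF ψ f : ℂ) * conj (h.mu (φ * ψ) f)) _ fun f => ?_, hcardF]
    swap
    · have : h.lam (φ * ψ) ⟨f, hFM f.2⟩ = h.lamF ψ f := h.lam_F φ ψ hφ _ f.2
      rw [this]
    have hFn : ∀ (x : S) (f : F), x⁻¹ * (f : S) * x ∈ F := fun x f => by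
      have := h.conj_mem_fitting (inv_mem x.2) f.2
      simpa [hF, Subgroup.mem_subgroupOf] using this
    have e2 : ∀ f : F, h.mu (φ * ψ) f =
        (Nat.card M : ℂ)⁻¹ * ∑ x : S, (h.lamF ψ ⟨_, hFn x f⟩ : ℂ) := by
      intro f
      rw [mu, indFun_apply]
      congr 1
      refine Finset.sum_congr rfl fun x _ => ?_
      rw [extendByZero_of_mem _ (hFM (hFn x f))]
      exact congrArg Units.val (h.lam_F φ ψ hφ _ (hFn x f))
    simp only [e2, map_mul, map_inv₀, map_natCast, map_sum, Finset.mul_sum]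
    rw [Finset.sum_comm]
    have e3 : ∀ x : S, ∑ f : F, (h.lamF ψ f : ℂ) *
        ((Nat.card M : ℂ)⁻¹ * conj (h.lamF ψ ⟨_, hFn x f⟩ : ℂ)) =
        if x ∈ M then (Nat.card M : ℂ)⁻¹ * (Nat.card F : ℂ) else 0 := by
      intro x
      let c : F →* F := MonoidHom.mk' (fun f => ⟨_, hFn x f⟩) fun a b => Subtype.ext (by
        show x⁻¹ * ((a : S) * b) * x = (x⁻¹ * a * x) * (x⁻¹ * b * x)
        group)
      have h1 := CTI.classInner_lin (h.lamF ψ) ((h.lamF ψ).comp c)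
      rw [classInner_def, inv_mul_eq_iff_eq_mul₀ (card_subgroup_ne_zero F)] at h1
      have h2 : ∑ f : F, (h.lamF ψ f : ℂ) *
          ((Nat.card M : ℂ)⁻¹ * conj (h.lamF ψ ⟨_, hFn x f⟩ : ℂ)) =
          (Nat.card M : ℂ)⁻¹ * ∑ f : F, lin (h.lamF ψ) f * conj (lin ((h.lamF ψ).comp c) f) := by
        rw [Finset.mul_sum]
        refine Finset.sum_congr rfl fun f _ => ?_
        rw [mul_left_comm]
        rfl
      rw [h2, h1]
      split_ifs with h3 h4 h4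
      · rw [mul_one]
      · refine absurd (h.fix_lamF hψ hψ1 (x := x) fun f hf hxf => ?_) h4
        exact (DFunLike.congr_fun h3 ⟨f, hf⟩).symm
      · refine absurd (MonoidHom.ext fun f => ?_) h3
        show h.lamF ψ f = h.lamF ψ ⟨_, hFn x f⟩
        have := h.lam_conj ψ ⟨x, h4⟩⁻¹ ⟨f, hFM f.2⟩
        rw [inv_inv] at this
        exact this.symm
      · rw [mul_zero, mul_zero]
    rw [Finset.sum_congr rfl fun x _ => e3 x, ← Finset.sum_filter, Finset.sum_const, nsmul_eq_mul,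
      show ((Finset.univ.filter fun x : S => x ∈ M).card : ℂ) = (Nat.card M : ℂ) by
        rw [Nat.card_eq_fintype_card, Fintype.card_subtype],
      mul_inv_cancel_left₀ (card_subgroup_ne_zero M)]
  rw [← Finset.sum_filter_add_sum_filter_not Finset.univ (fun m : M => (m : S) ∈ F), hin,
    Finset.sum_congr rfl fun m hm => hout m (Finset.mem_filter.1 hm).2, Finset.sum_const,
    nsmul_eq_mul, mul_one, ← Nat.cast_add, Finset.card_filter_add_card_filter_not, Finset.card_univ,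
    ← Nat.card_eq_fintype_card, inv_mul_cancel₀ (card_subgroup_ne_zero M)]

theorem card_FW : Nat.card ((FW S W₁).subgroupOf S) =
    q * Nat.card ((Cfsg.fittingOf S).subgroupOf S) := by
  rw [Nat.card_congr (Subgroup.subgroupOfEquivOfLe h.FW_le).toEquiv,
    Nat.card_congr (Subgroup.subgroupOfEquivOfLe h.fitting_le_S).toEquiv,
    OddLocal.card_of_isComplIn h.FW_compl, h.card_W₁, mul_comm]

theorem sum_mu (ψ : ↥(W₁ ⊔ W₂) →* ℂˣ) (hψ : IsRight W₁ W₂ ψ) :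
    ∑ φ ∈ leftChars h.data.selfNormalizing, h.mu (φ * ψ) =
      Cfsg.indFun ((Cfsg.fittingOf S).subgroupOf S) (fun f => (h.lamF ψ f : ℂ)) := by
  classical
  funext s
  simp only [mu, Finset.sum_apply, indFun_apply]
  rw [← Finset.mul_sum, Finset.sum_comm, h.card_FW]
  have key : ∀ m : S, ∑ φ ∈ leftChars h.data.selfNormalizing,
      Cfsg.extendByZero ((FW S W₁).subgroupOf S) (fun a => (h.lam (φ * ψ) a : ℂ)) m =
      (q : ℂ) * Cfsg.extendByZero ((Cfsg.fittingOf S).subgroupOf S)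
        (fun f => (h.lamF ψ f : ℂ)) m := by
    intro m
    by_cases hm : m ∈ (FW S W₁).subgroupOf S
    · simp only [extendByZero_of_mem _ hm]
      have e : ∀ φ, ((h.lam (φ * ψ) ⟨m, hm⟩ : ℂˣ) : ℂ) =
          (φ (h.pi ⟨m, hm⟩) : ℂ) * (ψ (h.pi ⟨m, hm⟩) : ℂ) := fun φ => by
        show (((φ * ψ) (h.pi _) : ℂˣ) : ℂ) = _
        rw [MonoidHom.mul_apply, Units.val_mul]
        rfl
      simp only [e]
      rw [← Finset.sum_mul, sum_left_apply, h.card_W₁]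
      by_cases hF : (m : G) ∈ Cfsg.fittingOf S
      · rw [if_pos (h.pi_F _ hF), extendByZero_of_mem _ (show m ∈ (Cfsg.fittingOf S).subgroupOf S
          from hF)]
        rfl
      · rw [extendByZero_of_notMem _ (show m ∉ (Cfsg.fittingOf S).subgroupOf S from hF), mul_zero,
          if_neg, zero_mul]
        obtain ⟨f, hf, hfW, hfW₂⟩ := h.exists_conj_mem_W hm hF
        intro hπ
        apply hfW₂
        have hfM : f ∈ FW S W₁ := Subgroup.mem_sup_left hf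
        have e1 := h.pi_W ⟨f * (m : G) * f⁻¹, mul_mem (mul_mem hfM hm) (inv_mem hfM)⟩ hfW
        have e2 : h.pi ⟨f * (m : G) * f⁻¹, mul_mem (mul_mem hfM hm) (inv_mem hfM)⟩ =
            h.pi ⟨f, hfM⟩ * h.pi ⟨m, hm⟩ * (h.pi ⟨f, hfM⟩)⁻¹ := by
          rw [← map_mul, ← map_inv, ← map_mul]; rfl
        rw [e2, CTI.commute_of_mem h.data.selfNormalizing (h.pi ⟨f, hfM⟩),
          mul_inv_cancel_right] at e1
        rw [e1] at hπ
        exact hπ
    · rw [extendByZero_of_notMem _ (show m ∉ (Cfsg.fittingOf S).subgroupOf S from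
        fun hF => hm (Subgroup.mem_sup_left hF)), mul_zero]
      exact Finset.sum_eq_zero fun φ _ => extendByZero_of_notMem _ hm
  simp only [key, ← Finset.mul_sum]
  have hq : (q : ℂ) ≠ 0 := by exact_mod_cast h.q_prime.ne_zero
  push_cast
  field_simp

theorem supp_ti {g x : G} (hx : x ∈ supp S W₁ W₂) (hgx : g * x * g⁻¹ ∈ supp S W₁ W₂) : g ∈ S := by
  have hN : ∀ {a}, a ∈ Cfsg.fittingOf S → a ≠ 1 → ∀ {z}, z ∈ hat W₁ W₂ → ∀ y : G,
      y * a * y⁻¹ ≠ z := by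
    intro a ha ha1 z hz y e
    have hWa : ∀ f ∈ Cfsg.fittingOf S, y * f * y⁻¹ ∈ W₁ ⊔ W₂ := by
      intro f hf
      have hN := h.data.selfNormalizing.2.2.2.2.2 {z}
        (Set.singleton_subset_iff.2 ⟨hz.1, fun h' => h'.elim hz.2.1 hz.2.2⟩)
        (Set.singleton_nonempty z)
      rw [← hN]
      refine Subgroup.centralizer_le_normalizer _ (Subgroup.mem_centralizer_singleton_iff.2 ?_)
      rw [← e]
      have := h.fitting_comm hf ha
      calc y * f * y⁻¹ * (y * a * y⁻¹) = y * (f * a) * y⁻¹ := by group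
        _ = _ := by rw [this]; group
    have hle : (Cfsg.fittingOf S).map (MulAut.conj y).toMonoidHom ≤ W₁ ⊔ W₂ := by
      rintro _ ⟨f, hf, rfl⟩
      exact hWa f hf
    haveI := h.data.selfNormalizing.2.2.2.2.1
    haveI hcy : IsCyclic ↥((Cfsg.fittingOf S).map (MulAut.conj y).toMonoidHom) :=
      Subgroup.isCyclic_of_le hle
    haveI : IsCyclic ↥(Cfsg.fittingOf S) :=
      isCyclic_of_surjective _ (Subgroup.equivMapOfInjective (Cfsg.fittingOf S)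
        (MulAut.conj y).toMonoidHom (MulAut.conj y).injective).symm.surjective
    exact h.data.H_not_cyclic (Subgroup.isCyclic_of_le h.P_le_fitting)
  rcases hx with ⟨hx, hx1⟩ | ⟨s, hs, hsx⟩
  · rcases hgx with ⟨hgx, -⟩ | ⟨t, ht, htx⟩
    · exact h.mem_of_conj hx hx1 hgx
    · exact absurd (by group) (hN hx hx1 htx (t * g))
  · rcases hgx with ⟨hgx, hgx1⟩ | ⟨t, ht, htx⟩
    · exact absurd (by group) (hN hgx hgx1 hsx (s * g⁻¹))
    · have hw : t * g * s⁻¹ ∈ W₁ ⊔ W₂ := by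
        by_contra hn
        refine CTI.ti_of_selfNormalizing h.data.selfNormalizing _ hn _ hsx ?_
        convert htx.1 using 1
        group
      have h2 := mul_mem (mul_mem (inv_mem ht) (h.W_le hw)) hs
      convert h2 using 1
      group

theorem supp_le {x : G} (hx : x ∈ supp S W₁ W₂) : x ∈ S := by
  rcases hx with ⟨hx, -⟩ | ⟨s, hs, hsx⟩
  · exact h.fitting_le_S hx
  · have h2 := mul_mem (mul_mem (inv_mem hs) (h.W_le hsx.1)) hs
    convert h2 using 1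
    group

theorem diff_supp {φ ψ ψ' : ↥(W₁ ⊔ W₂) →* ℂˣ} (hφ : IsLeft W₁ W₂ φ) (hψ : IsRight W₁ W₂ ψ)
    (hψ' : IsRight W₁ W₂ ψ') (s : S) (hs : (s : G) ∉ supp S W₁ W₂) :
    (h.mu (φ * ψ) - h.mu (φ * ψ')) s = 0 := by
  rw [Pi.sub_apply, sub_eq_zero]
  by_cases hF : (s : G) ∈ Cfsg.fittingOf S
  · have hs1 : s = 1 := by
      by_contra hne
      exact hs (.inl ⟨hF, fun e => hne (Subtype.ext e)⟩)
    subst hs1
    rw [mu, mu, indFun_one, indFun_one, map_one, map_one]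
  · by_cases hconj : ∃ x ∈ S, x * s * x⁻¹ ∈ W₁ ⊔ W₂ ∧ x * s * x⁻¹ ∉ W₂
    · obtain ⟨x, hx, hxW, hxW₂⟩ := hconj
      have hx₁ : x * s * x⁻¹ ∈ W₁ := by
        by_contra hn
        exact hs (.inr ⟨x, hx, hxW, hn, hxW₂⟩)
      have e : ∀ ω, h.mu ω s = (ω ⟨_, hxW⟩ : ℂ) := fun ω =>
        (h.mu_classFun ω s ⟨x, hx⟩).symm.trans (h.mu_W ω _ hxW hxW₂)
      rw [e, e, MonoidHom.mul_apply, MonoidHom.mul_apply, hψ _ hx₁, hψ' _ hx₁]
    · push Not at hconj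
      rw [h.mu_eq_zero _ s hF hconj, h.mu_eq_zero _ s hF hconj]

theorem supp_one : (1 : G) ∉ supp S W₁ W₂ := by
  rintro (⟨-, h1⟩ | ⟨s, -, hs⟩)
  · exact h1 rfl
  · simp only [mul_one, mul_inv_cancel] at hs
    exact hs.2.1 (one_mem _)

theorem hat_supp {z : G} (hz : z ∈ hat W₁ W₂) : z ∈ supp S W₁ W₂ :=
  .inr ⟨1, one_mem _, by simpa using hz⟩

variable {χ : (↥(W₁ ⊔ W₂) →* ℂˣ) → (G → ℂ)}

theorem mu_ne {φ φ' ψ ψ' : ↥(W₁ ⊔ W₂) →* ℂˣ} (hφ : IsLeft W₁ W₂ φ) (hφ' : IsLeft W₁ W₂ φ')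
    (hψ : IsRight W₁ W₂ ψ) (hψ' : IsRight W₁ W₂ ψ') (hne : φ * ψ ≠ φ' * ψ') :
    h.mu (φ * ψ) ≠ h.mu (φ' * ψ') := by
  classical
  intro e
  have key : ∀ (w : ↥(W₁ ⊔ W₂)), (w : G) ∉ W₂ → (φ * ψ) w = (φ' * ψ') w := fun w hw => by
    have := congrFun e ⟨w, h.W_le w.2⟩
    rw [h.mu_W _ _ w.2 hw, h.mu_W _ _ w.2 hw] at this
    exact Units.ext this
  obtain ⟨a, ha, ha1⟩ := h.exists_W₁
  have ha2 : a ∉ W₂ := fun h' => ha1 (Subgroup.mem_bot.1
    (h.data.selfNormalizing.2.2.1 ▸ Subgroup.mem_inf.2 ⟨ha, h'⟩))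
  refine hne (MonoidHom.ext fun w => ?_)
  by_cases hw : (w : G) ∈ W₂
  · have h1 := key (⟨a, Subgroup.mem_sup_left ha⟩ * w) fun h' => ha2 (by
      simpa using mul_mem h' (inv_mem hw))
    rw [map_mul, map_mul, key ⟨a, Subgroup.mem_sup_left ha⟩ ha2] at h1
    exact mul_left_cancel h1
  · exact key w hw

/-- `Ind_S^G (μ (φ ψ) - μ (φ ψ')) = η (φ ψ) - η (φ ψ')`. -/
theorem ind_sub (hχ : Cfsg.IsCyclicTIFamily W₁ W₂ χ) {φ ψ ψ' : ↥(W₁ ⊔ W₂) →* ℂˣ}
    (hφ : IsLeft W₁ W₂ φ) (hψ : IsRight W₁ W₂ ψ) (hψ' : IsRight W₁ W₂ ψ') (hψ1 : ψ ≠ 1)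
    (hψ'1 : ψ' ≠ 1) (hne : ψ ≠ ψ') :
    Cfsg.indFun S (h.mu (φ * ψ) - h.mu (φ * ψ')) = χ (φ * ψ) - χ (φ * ψ') := by
  set D := h.mu (φ * ψ) - h.mu (φ * ψ') with hD
  have hDcl : Cfsg.IsClassFunction S D :=
    isClassFunction_sub (h.mu_classFun _) (h.mu_classFun _)
  have hD0 : ∀ x : S, (x : G) ∉ supp S W₁ W₂ → D x = 0 := h.diff_supp hφ hψ hψ'
  have hti : ∀ g : G, g ∉ S → ∀ t ∈ supp S W₁ W₂, g * t * g⁻¹ ∈ supp S W₁ W₂ → t = 1 :=
    fun g hg t ht hgt => absurd (h.supp_ti ht hgt) hg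
  have hD1 : D 1 = 0 := hD0 1 h.supp_one
  have hirr := h.mu_irr hφ hψ hψ1
  have hirr' := h.mu_irr hφ hψ' hψ'1
  have hne' : h.mu (φ * ψ) ≠ h.mu (φ * ψ') :=
    h.mu_ne hφ hφ hψ hψ' fun e => hne (mul_left_cancel e)
  refine eq_of_norm_two h.data.selfNormalizing hχ (h.card_W₁ ▸ h.three_le_q)
    (h.card_W₂ ▸ h.three_le_p) (isGen_indFun S (isGen_sub (h.mu_gen _) (h.mu_gen _))) ?_ ?_
    hφ hψ hψ' hψ1 hψ'1 hne ?_
  · rw [classInner_indFun_of_TI S _ hti hDcl hD0 hD0 hD1, hD, classInner_sub_left,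
      classInner_sub_right, classInner_sub_right, classInner_irr_self hirr,
      classInner_irr_self hirr', classInner_irr_ne hirr hirr' hne',
      classInner_irr_ne hirr' hirr hne'.symm]
    norm_num
  · rw [hχ.map_one, frobenius_reciprocity S D (isClassFunction_const 1), hD, classInner_sub_left]
    have hz : ∀ {t}, IsRight W₁ W₂ t → t ≠ 1 →
        Cfsg.classInner (h.mu (φ * t)) (fun _ : S => (1 : ℂ)) = 0 := by
      intro t ht ht1
      refine classInner_irr_ne (h.mu_irr hφ ht ht1) isIrrCharacter_one fun e => ?_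
      obtain ⟨z, hz, hzne⟩ := h.lam_P_ne ht ht1
      obtain ⟨a, ha, ha1⟩ := h.exists_W₁
      have ha2 : a ∉ W₂ := fun h' => ha1 (Subgroup.mem_bot.1
        (h.data.selfNormalizing.2.2.1 ▸ Subgroup.mem_inf.2 ⟨ha, h'⟩))
      have e1 := congrFun e ⟨a, h.W₁_le ha⟩
      rw [h.mu_W _ _ (Subgroup.mem_sup_left ha) ha2] at e1
      have e2 := congrFun e ⟨a * z, mul_mem (h.W₁_le ha) (h.W₂_le hz)⟩
      rw [h.mu_W _ _ (mul_mem (Subgroup.mem_sup_left ha) (Subgroup.mem_sup_right hz))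
        fun h' => ha2 (by simpa using mul_mem h' (inv_mem hz))] at e2
      refine hzne ?_
      have e3 : (φ * t) (⟨a, Subgroup.mem_sup_left ha⟩ * ⟨z, Subgroup.mem_sup_right hz⟩) = 1 :=
        Units.ext e2
      rw [map_mul, show (φ * t) ⟨a, Subgroup.mem_sup_left ha⟩ = 1 from Units.ext e1, one_mul,
        MonoidHom.mul_apply, hφ _ hz, one_mul] at e3
      exact e3
    rw [hz hψ hψ1, hz hψ' hψ'1, sub_zero]
  · intro z hz
    have hzS : z ∈ S := h.W_le hz.1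
    have hz1 : (⟨z, hzS⟩ : S) ≠ 1 := fun e => hz.2.1 (by
      rw [show z = 1 from congrArg Subtype.val e]; exact one_mem _)
    have e := indFun_eq_of_TI S _ hti hDcl hD0 (t := ⟨z, hzS⟩) (h.hat_supp hz) hz1
    rw [show Cfsg.indFun S D z = D ⟨z, hzS⟩ from e, value_hat h.data.selfNormalizing hχ _ hz,
      value_hat h.data.selfNormalizing hχ _ hz, hD, Pi.sub_apply,
      h.mu_W _ _ hz.1 hz.2.2, h.mu_W _ _ hz.1 hz.2.2]

end Side

end CfsgLib.OddChar.Pair
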