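import Cfsg.Agent.Lib.OddChar.PairCount
import Cfsg.Agent.Lib.OddChar.NotAllTypeI
import Cfsg.Agent.Lib.Solvable.FrobeniusComplement

/-!
# The configuration at the end of the character theoretic argument

`config`: for `q < p`, `|U| = (p^q - 1)/(p - 1)`, `U` is cyclic, `(p^q - 1)/(p - 1)` is prime to
`p - 1`, and some `W₂^y`, `y ∈ T_F`, normalises `U`.
-/

set_option autoImplicit false
set_option linter.unusedSectionVars false

namespace CfsgLib.OddChar.Pair

open CfsgLib.Char CfsgLib.CharNormal CfsgLib.OddChar.CTI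
open scoped ComplexConjugate Classical

universe u

theorem pow_lt_pow_pred {p q : ℕ} (hp : 7 ≤ p) (hq : 3 ≤ q) : p ^ 2 * q ^ 2 < q ^ (p - 1) := by
  obtain ⟨n, rfl⟩ := Nat.exists_eq_add_of_le hp
  have h1 : ∀ n : ℕ, (7 + n) ^ 2 < 3 ^ (n + 4) := by
    intro n
    induction n with
    | zero => norm_num
    | succ n ih =>
      calc (7 + (n + 1)) ^ 2 ≤ 3 * (7 + n) ^ 2 := by
            linarith [Nat.zero_le (n ^ 2), Nat.zero_le n,
              (by ring : (7 + (n + 1)) ^ 2 = n ^ 2 + 16 * n + 64),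
              (by ring : 3 * (7 + n) ^ 2 = 3 * n ^ 2 + 42 * n + 147)]
        _ < 3 * 3 ^ (n + 4) := Nat.mul_lt_mul_of_pos_left ih (by norm_num)
        _ = _ := by rw [show n + 1 + 4 = n + 4 + 1 by omega, pow_succ 3 (n + 4)]; ring
  rw [show 7 + n - 1 = n + 4 + 2 by omega, pow_add q]
  exact Nat.mul_lt_mul_of_pos_right ((h1 n).trans_le (Nat.pow_le_pow_left hq _)) (by positivity)

theorem mod_two_mul_mul {p q i : ℕ} (hp : p.Prime) (hq : q.Prime) (hpq : p ≠ q) (hp2 : p ≠ 2)
    (hq2 : q ≠ 2) (h2 : i % 2 = 1) (h3 : i % p = 1) (h4 : i % q = 1) : i % (2 * p * q) = 1 := by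
  have c1 : Nat.Coprime 2 p := (Nat.coprime_primes Nat.prime_two hp).2 hp2.symm
  have c2 : Nat.Coprime (2 * p) q :=
    ((Nat.coprime_primes Nat.prime_two hq).2 hq2.symm).mul_left ((Nat.coprime_primes hp hq).2 hpq)
  have e1 := (Nat.modEq_and_modEq_iff_modEq_mul c1).1
    ⟨(show Nat.ModEq 2 i 1 from h2.trans rfl),
      (show Nat.ModEq p i 1 from h3.trans (Nat.one_mod_eq_one.2 hp.ne_one).symm)⟩
  have e2 := (Nat.modEq_and_modEq_iff_modEq_mul c2).1
    ⟨e1, (show Nat.ModEq q i 1 from h4.trans (Nat.one_mod_eq_one.2 hq.ne_one).symm)⟩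
  have h5 : 2 * p * q ≠ 1 := by
    intro e
    exact hq.ne_one (mul_eq_one.1 e).2
  exact Eq.trans e2 (Nat.one_mod_eq_one.2 h5)

/-- The arithmetic in the case `|H| ≤ p² q² + 1`. -/
theorem cofactor_arith {p q u w i : ℕ} (hp : p.Prime) (hq : q.Prime) (hq3 : 3 ≤ q) (hqp : q < p)
    (huw : u * w = (p ^ q - 1) / (p - 1)) (hw : w = 1 ∨ w = q) (hu : u % (2 * q) = 1)
    (hk2 : u * i % 2 = 1) (hkp : u * i % p = 1) (hkq : u * i % q = 1)
    (hb : u * i ≤ p ^ 2 * q ^ 2 + 1) : i = 1 := by
  have hp2 : p ≠ 2 := by omega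
  have hq2 : q ≠ 2 := by omega
  have hqp' : p ≠ q := by omega
  have hN : (p ^ q - 1) / (p - 1) % p = 1 := geom_mod_self p q hp.two_le (by omega)
  have hNlow : p ^ (q - 1) ≤ (p ^ q - 1) / (p - 1) := by
    rw [← Nat.geomSum_eq hp.two_le]
    exact Finset.single_le_sum (f := fun j => p ^ j) (fun _ _ => Nat.zero_le _)
      (Finset.mem_range.2 (by omega))
  rw [← huw] at hN hNlow
  have hi2 : i % 2 = 1 := by
    rw [Nat.mul_mod] at hk2
    have : i % 2 ≠ 0 := fun e => by rw [e, mul_zero] at hk2; simp at hk2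
    omega
  have huq : u % q = 1 := by
    have := congrArg (· % q) hu
    simp only [Nat.mod_mul_left_mod] at this
    rw [this, Nat.one_mod_eq_one.2 hq.ne_one]
  have hiq : i % q = 1 := by
    rw [Nat.mul_mod, huq, one_mul, Nat.mod_mod] at hkq
    exact hkq
  have hu0 : 0 < u := Nat.pos_of_ne_zero fun e => by rw [e, zero_mul] at hk2; simp at hk2
  have hiw : i % p = w % p := by
    have h1 : Nat.ModEq p (u * i) (u * w) := hkp.trans hN.symm
    refine Nat.ModEq.cancel_left_of_coprime ?_ h1
    exact (hp.coprime_iff_not_dvd.2 fun hd => by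
      rw [Nat.mul_mod, Nat.mod_eq_zero_of_dvd (by simpa using hd : p ∣ u), zero_mul] at hkp
      simp at hkp)
  by_contra hne
  rcases hw with rfl | hw
  · rw [Nat.one_mod_eq_one.2 hp.ne_one] at hiw
    have h3 := mod_two_mul_mul hp hq hqp' hp2 hq2 hi2 hiw hiq
    have h4 := Nat.div_add_mod i (2 * p * q)
    rw [h3] at h4
    have h5 : 1 ≤ i / (2 * p * q) := by
      rcases Nat.eq_zero_or_pos (i / (2 * p * q)) with e | e
      · rw [e, mul_zero, zero_add] at h4; exact absurd h4.symm hne
      · exact e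
    have h6 : 2 * p * q + 1 ≤ i := by
      have := Nat.mul_le_mul_left (2 * p * q) h5
      omega
    rw [mul_one] at hNlow
    have h7 : p * p ≤ p ^ (q - 1) := by
      rw [← sq]; exact Nat.pow_le_pow_right hp.pos (by omega)
    have h8 : p * p * (2 * p * q + 1) ≤ u * i := Nat.mul_le_mul (h7.trans hNlow) h6
    have h9 : p * p * q * (q + 1) ≤ p * p * q * (2 * p) := Nat.mul_le_mul_left _ (by omega)
    have h10 : 2 ≤ p * p * q :=
      Nat.mul_le_mul (Nat.mul_le_mul hp.two_le hp.one_le) hq.one_le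
    nlinarith
  · -- `w = q`
    subst w
    rw [Nat.mod_eq_of_lt hqp] at hiw
    have hp1 : p % q = 1 := by
      haveI := Fact.mk hq
      by_contra hne'
      have h9 := geom_mod p q hp.one_le fun e => hne' (by
        rw [← Nat.cast_one, ZMod.natCast_eq_natCast_iff', Nat.one_mod_eq_one.2 hq.ne_one] at e
        exact e)
      rw [← huw, Nat.mul_mod_left] at h9
      exact zero_ne_one h9
    have hpdiv := Nat.div_add_mod p q
    rw [hp1] at hpdiv
    have hpodd : p % 2 = 1 := Nat.odd_iff.1 (hp.odd_of_ne_two hp2)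
    have hqodd : q % 2 = 1 := Nat.odd_iff.1 (hq.odd_of_ne_two hq2)
    have hp21 : 2 * q + 1 ≤ p := by
      rcases lt_or_ge (p / q) 2 with h' | h'
      · interval_cases h'' : p / q <;> omega
      · have := Nat.mul_le_mul_left q h'
        omega
    have hidiv := Nat.div_add_mod i p
    rw [hiw] at hidiv
    have hi_ge : p * (q + 1) + q ≤ i := by
      have h5 : q + 1 ≤ i / p := by
        by_contra hlt
        have h6 : (i / p) % q = 1 := by
          have := hiq
          rw [← hidiv, Nat.add_mod_right, Nat.mul_mod, hp1, one_mul, Nat.mod_mod] at this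
          exact this
        have hlt' : i / p ≤ q := by omega
        rcases eq_or_lt_of_le hlt' with e | e
        · rw [e, Nat.mod_self] at h6; exact zero_ne_one h6
        · rw [Nat.mod_eq_of_lt e] at h6
          rw [h6, mul_one] at hidiv
          omega
      have := Nat.mul_le_mul_left p h5
      omega
    have h7 : p ^ (q - 1) * (p * (q + 1) + q) ≤ q * (p ^ 2 * q ^ 2 + 1) :=
      calc p ^ (q - 1) * (p * (q + 1) + q) ≤ (u * q) * i := Nat.mul_le_mul hNlow hi_ge
        _ = q * (u * i) := by ring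
        _ ≤ _ := Nat.mul_le_mul_left q hb
    rcases eq_or_lt_of_le hq3 with e | e
    · subst e
      norm_num at h7 hp21
      nlinarith
    · have h8 : p ^ 4 ≤ p ^ (q - 1) := Nat.pow_le_pow_right hp.pos (by omega)
      have h9 : q ^ 3 + q ≤ p ^ 3 := by
        have := Nat.pow_le_pow_left hp21 3
        nlinarith
      have h10 : p ^ 4 * (p * (q + 1) + q) ≤ q * (p ^ 2 * q ^ 2 + 1) :=
        (Nat.mul_le_mul_right _ h8).trans h7
      have h11 : q * (p ^ 2 * q ^ 2 + 1) ≤ p ^ 2 * (q ^ 3 + q) := by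
        have : q * 1 ≤ q * p ^ 2 := Nat.mul_le_mul_left q (Nat.one_le_pow _ _ hp.pos)
        linarith [(by ring : q * (p ^ 2 * q ^ 2 + 1) = p ^ 2 * q ^ 3 + q * 1),
          (by ring : p ^ 2 * (q ^ 3 + q) = p ^ 2 * q ^ 3 + q * p ^ 2)]
      have h12 : p ^ 2 * (q ^ 3 + q) ≤ p ^ 2 * p ^ 3 := Nat.mul_le_mul_left _ h9
      have h13 : 0 < p ^ 4 * (p * q) :=
        Nat.mul_pos (pow_pos hp.pos 4) (Nat.mul_pos hp.pos hq.pos)
      have h14 : 0 ≤ p ^ 4 * q := Nat.zero_le _
      linarith [(by ring : p ^ 4 * (p * (q + 1) + q) = p ^ 4 * (p * q) + p ^ 2 * p ^ 3 + p ^ 4 * q)]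

variable {G : Type u} [Group G] [Fintype G]

/-- An element normalising a cyclic group normalises its subgroups. -/
theorem conj_mem_of_isCyclic {H X : Subgroup G} (hH : IsCyclic H) (hX : X ≤ H) {l : G}
    (hl : ∀ h ∈ H, l * h * l⁻¹ ∈ H) {x : G} (hx : x ∈ X) : l * x * l⁻¹ ∈ X := by
  set m := Nat.card X with hm
  have hsub : (Finset.univ.filter fun a : H => (a : G) ∈ X) ⊆
      Finset.univ.filter fun a : H => a ^ m = 1 := fun a ha => by
    refine Finset.mem_filter.2 ⟨Finset.mem_univ _, Subtype.ext ?_⟩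
    rw [SubgroupClass.coe_pow, OneMemClass.coe_one]
    exact orderOf_dvd_iff_pow_eq_one.1
      (Subgroup.orderOf_dvd_natCard _ (Finset.mem_filter.1 ha).2)
  have hcard : (Finset.univ.filter fun a : H => (a : G) ∈ X).card = m := by
    rw [← Fintype.card_subtype, ← Nat.card_eq_fintype_card, hm]
    exact Nat.card_congr
      { toFun := fun a => ⟨(a.1 : G), a.2⟩
        invFun := fun b => ⟨⟨b, hX b.2⟩, b.2⟩
        left_inv := fun a => rfl
        right_inv := fun b => rfl }
  haveI := hH
  have heq := Finset.eq_of_subset_of_card_le hsub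
    (le_of_le_of_eq (IsCyclic.card_pow_eq_one_le Nat.card_pos) hcard.symm)
  have h1 : (⟨_, hl x (hX hx)⟩ : H) ∈ Finset.univ.filter fun a : H => a ^ m = 1 := by
    refine Finset.mem_filter.2 ⟨Finset.mem_univ _, Subtype.ext ?_⟩
    show (l * x * l⁻¹) ^ m = 1
    rw [conj_pow, orderOf_dvd_iff_pow_eq_one.1 (Subgroup.orderOf_dvd_natCard _ hx), mul_one,
      mul_inv_cancel]
  rw [← heq] at h1
  exact (Finset.mem_filter.1 h1).2

namespace PairData

variable {S T W₁ W₂ U V : Subgroup G} {q p : ℕ}
variable (h : PairData S T W₁ W₂ U V q p)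
include h

theorem isCyclic_U : IsCyclic U := by
  refine Solvable.isCyclic_of_fpf_abelian h.side_S.P_ne (fun x hx y hy => h.side_S.P_comm hx hy)
    (h.side_S.U_le.trans h.side_S.normalizer_P) (fun a ha ha1 => ?_)
    (Or.inl fun x hx y hy => h.side_S.U_mul_comm hx hy)
  exact eq_bot_iff.2 fun y hy => Subgroup.mem_bot.2 (h.fpf_elem ha ha1 hy.1
    (Subgroup.mem_centralizer_singleton_iff.1 hy.2).symm)

theorem pow_card_hat {z : G} (hz : z ∈ hat W₁ W₂) : z ^ (q * p) = 1 := by
  rw [← h.card_W]
  exact orderOf_dvd_iff_pow_eq_one.1 (Subgroup.orderOf_dvd_natCard _ hz.1)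

theorem pow_q_ne_one {z : G} (hz : z ∈ hat W₁ W₂) : z ^ q ≠ 1 := by
  intro e
  obtain ⟨a, ha, b, hb, rfl⟩ :=
    CTI.exists_mul_of_mem (fun a ha b hb => h.side_S.W₁_comm_W₂ ha hb) hz.1
  have ha' : a ^ q = 1 := by
    rw [← h.side_S.card_W₁]
    exact orderOf_dvd_iff_pow_eq_one.1 (Subgroup.orderOf_dvd_natCard _ ha)
  rw [(show Commute a b from h.side_S.W₁_comm_W₂ ha hb).mul_pow, ha', one_mul] at e
  by_cases hb1 : b = 1
  · exact hz.2.1 (by rw [hb1, mul_one]; exact ha)
  · have h1 := orderOf_dvd_of_pow_eq_one e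
    rw [h.side_S.orderOf_W₂ hb hb1] at h1
    exact h.side_S.q_ne_p ((Nat.prime_dvd_prime_iff_eq h.side_S.p_prime h.side_S.q_prime).1 h1).symm

theorem hat_disjoint {K : Subgroup G} (hp : (Nat.card K).Coprime p) {g : G}
    (hg : g ∈ hat W₁ W₂) : g ∉ conjSet (sharpSet K) := by
  rintro ⟨y, hy, hy1⟩
  refine h.pow_q_ne_one hg ?_
  have h1 : orderOf g ∣ Nat.card K := by
    have := Subgroup.orderOf_dvd_natCard K hy
    rwa [show y⁻¹ * g * y = y⁻¹ * g * y⁻¹⁻¹ by group, orderOf_conjugate] at this
  exact orderOf_dvd_iff_pow_eq_one.1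
    ((Nat.Coprime.coprime_dvd_left h1 hp).dvd_of_dvd_mul_right
      (orderOf_dvd_of_pow_eq_one (h.pow_card_hat hg)))

theorem supp_disjoint {K : Subgroup G} (hp : (Nat.card K).Coprime p) {g : G}
    (hg : g ∈ conjSet (sharpSet K)) : g ∉ conjSet (supp S W₁ W₂) := by
  intro hs
  rcases supp_subset _ _ _ hs with ⟨y, hy⟩ | ⟨y, hy⟩
  · obtain ⟨x, hx, hx1⟩ := hg
    have h1 := Subgroup.orderOf_dvd_natCard K hx
    have hy1 := hy.1
    rw [h.fittingOf_eq_P] at hy1
    have h2 := h.side_S.orderOf_P hy1 hy.2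
    rw [show y⁻¹ * g * y = y⁻¹ * g * y⁻¹⁻¹ by group, orderOf_conjugate] at h2
    rw [show x⁻¹ * g * x = x⁻¹ * g * x⁻¹⁻¹ by group, orderOf_conjugate, h2] at h1
    exact h.side_S.p_prime.ne_one (Nat.eq_one_of_dvd_coprimes hp h1 dvd_rfl)
  · refine h.hat_disjoint hp hy ?_
    obtain ⟨x, hx⟩ := hg
    exact ⟨y⁻¹ * x, by convert hx using 1; group⟩

theorem disjoint_of_coprime {K K' : Subgroup G} (hc : (Nat.card K).Coprime (Nat.card K')) {g : G}
    (hg : g ∈ conjSet (sharpSet K)) : g ∉ conjSet (sharpSet K') := by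
  obtain ⟨x, hx, hx1⟩ := hg
  rintro ⟨y, hy, hy1⟩
  have h1 := Subgroup.orderOf_dvd_natCard K hx
  have h2 := Subgroup.orderOf_dvd_natCard K' hy
  rw [show x⁻¹ * g * x = x⁻¹ * g * x⁻¹⁻¹ by group, orderOf_conjugate] at h1
  rw [show y⁻¹ * g * y = y⁻¹ * g * y⁻¹⁻¹ by group, orderOf_conjugate] at h2
  have h3 := orderOf_eq_one_iff.1 (Nat.eq_one_of_dvd_coprimes hc h1 h2)
  exact hx1 (by rw [h3]; group)

variable {L : Subgroup G}

theorem over_index (hnu : ¬ Subgroup.normalizer (U : Set G) ≤ S) (hL : IsCoatom L)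
    (hNU : Subgroup.normalizer (U : Set G) ≤ L) :
    ((Cfsg.fittingHallOf L).relIndex L = q ∧ L = Cfsg.fittingHallOf L ⊔ W₁) ∨
      ((Cfsg.fittingHallOf L).relIndex L = p * q ∧
        ∃ y ∈ Cfsg.fittingHallOf T, W₂.map (MulAut.conj y).toMonoidHom ≤ L) := by
  obtain ⟨E, hE, hEc⟩ := h.over_complement hnu hL hNU
  have he : (Cfsg.fittingHallOf L).relIndex L = Nat.card E :=
    (OddLocal.relIndex_of_isComplIn hE).2
  rcases hEc with rfl | ⟨y, hy, rfl⟩
  · refine Or.inl ⟨by rw [he, h.side_S.card_W₁], ?_⟩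
    refine le_antisymm (fun l hl => ?_) (sup_le hE.1 hE.2.1)
    obtain ⟨a, ha, b, hb, rfl⟩ := hE.2.2.2 l hl
    exact mul_mem (Subgroup.mem_sup_left ha) (Subgroup.mem_sup_right hb)
  · refine Or.inr ⟨?_, y, hy, le_sup_right.trans hE.2.1⟩
    have hW₁ : W₁.map (MulAut.conj y).toMonoidHom = W₁ := by
      refine Subgroup.eq_of_le_of_card_ge ?_
        (Subgroup.card_map_of_injective (MulAut.conj y).injective).ge
      rintro _ ⟨v, hv, rfl⟩
      show y * v * y⁻¹ ∈ W₁
      rw [h.side_T.P_comm hy (h.side_T.W₂_le_P hv), mul_inv_cancel_right]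
      exact hv
    rw [he, show W₁ ⊔ W₂.map (MulAut.conj y).toMonoidHom =
      (W₁ ⊔ W₂).map (MulAut.conj y).toMonoidHom by rw [Subgroup.map_sup, hW₁],
      Subgroup.card_map_of_injective (MulAut.conj y).injective, h.card_W, mul_comm]

/-- The order of `U` when a conjugate of `W₂` normalises it. -/
theorem conclude (hqp : q < p) (hnu : ¬ Subgroup.normalizer (U : Set G) ≤ S) (hL : IsCoatom L)
    (hNU : Subgroup.normalizer (U : Set G) ≤ L) {y : G}
    (hyU : W₂.map (MulAut.conj y).toMonoidHom ≤ Subgroup.normalizer (U : Set G)) :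
    Nat.card U * (p - 1) = p ^ q - 1 ∧ Nat.Coprime ((p ^ q - 1) / (p - 1)) (p - 1) := by
  have hS := h.side_S
  obtain ⟨z₀, hz₀, hz₀1⟩ := hS.exists_W₂
  set z := y * z₀ * y⁻¹ with hz
  have hzN : z ∈ Subgroup.normalizer (U : Set G) := hyU ⟨z₀, hz₀, rfl⟩
  have hzo : orderOf z = p := by rw [hz, orderOf_conjugate, hS.orderOf_W₂ hz₀ hz₀1]
  set Z := Subgroup.zpowers z with hZ
  have hZN : Z ≤ Subgroup.normalizer (U : Set G) := Subgroup.zpowers_le.2 hzN
  have hfree : ∀ c ∈ Z, ∀ x ∈ U, x ≠ 1 → c * x * c⁻¹ = x → c = 1 := by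
    intro c hc x hx hx1 he
    have hxH := h.over_U_le hnu hL hNU hx
    have hcH : c ∈ Cfsg.fittingHallOf L := h.over_frob hnu hL hNU x hxH hx1
      ⟨hNU (hZN hc), Subgroup.mem_centralizer_singleton_iff.2 (mul_inv_eq_iff_eq_mul.1 he)⟩
    have h1 : orderOf c ∣ p := hzo ▸ (orderOf_dvd_of_mem_zpowers hc)
    refine orderOf_eq_one_iff.1 (Nat.eq_one_of_dvd_coprimes
      ((hS.p_prime.coprime_iff_not_dvd).2 (h.over_not_dvd_p hnu hL hNU)) h1
      (Subgroup.orderOf_dvd_natCard _ hcH))
  letI : MulAction Z {x : U // x ≠ 1} :=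
    { smul := fun c x => ⟨⟨(c : G) * (x.1 : G) * (c : G)⁻¹,
          (Subgroup.mem_normalizer_iff.1 (hZN c.2) _).1 x.1.2⟩,
        fun e => x.2 (Subtype.ext (conj_eq_one_iff.1 (congrArg Subtype.val e)))⟩
      one_smul := fun x => Subtype.ext (Subtype.ext
        (show ((1 : Z) : G) * (x.1 : G) * ((1 : Z) : G)⁻¹ = (x.1 : G) by simp))
      mul_smul := fun a b x => Subtype.ext (Subtype.ext
        (show ((a * b : Z) : G) * (x.1 : G) * ((a * b : Z) : G)⁻¹ =
          (a : G) * ((b : G) * (x.1 : G) * (b : G)⁻¹) * (a : G)⁻¹ by simp [mul_assoc])) }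
  have hdvd := RankTwoLines.dvd_of_free (D := Z) (X := {x : U // x ≠ 1}) fun c x hcx =>
    Subtype.ext (hfree c c.2 x.1 x.1.2 (fun e => x.2 (Subtype.ext e))
      (congrArg (fun t : {x : U // x ≠ 1} => ((t.1 : U) : G)) hcx))
  rw [Nat.card_eq_fintype_card (α := {x : U // x ≠ 1}), Fintype.card_subtype_compl,
    Fintype.card_subtype_eq, ← Nat.card_eq_fintype_card, hZ, Nat.card_zpowers, hzo] at hdvd
  obtain ⟨w, huw, hw⟩ := h.exists_cofactor hqp
  have hup : Nat.card U % p = 1 := by
    obtain ⟨c, hc⟩ := hdvd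
    have hpos : 0 < Nat.card U := Nat.card_pos
    rw [show Nat.card U = 1 + p * c by omega, Nat.add_mul_mod_self_left,
      Nat.one_mod_eq_one.2 hS.p_prime.ne_one]
  have hw1 : w = 1 := by
    refine hw.resolve_right fun e => ?_
    have h1 := geom_mod_self p q hS.p_prime.two_le hS.q_prime.one_le
    rw [← huw, e, Nat.mul_mod, hup, one_mul, Nat.mod_mod, Nat.mod_eq_of_lt hqp] at h1
    exact hS.q_prime.ne_one h1
  rw [hw1, mul_one] at huw
  refine ⟨by rw [huw, pow_sub_one_div_mul], Nat.coprime_of_dvd fun r hr h1 h2 => ?_⟩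
  haveI := Fact.mk hr
  have hp1 : (p : ZMod r) = 1 := by
    rw [← Nat.sub_add_cancel hS.p_prime.one_le, Nat.cast_add, (ZMod.natCast_eq_zero_iff _ r).2 h2,
      zero_add, Nat.cast_one]
  have h3 : (((p ^ q - 1) / (p - 1) : ℕ) : ZMod r) = q := by
    rw [← Nat.geomSum_eq hS.p_prime.two_le]
    push_cast
    simp [hp1]
  rw [(ZMod.natCast_eq_zero_iff _ r).2 h1, eq_comm, ZMod.natCast_eq_zero_iff] at h3
  have hrq : r = q := (Nat.prime_dvd_prime_iff_eq hr hS.q_prime).1 h3
  subst hrq
  exact hr.ne_one (Nat.eq_one_of_dvd_coprimes hS.coprime_q_u dvd_rfl (huw ▸ h1))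

/-- The size of the family of `L` is small, or `W₂ʸ` normalises `U` already. -/
theorem U_eq_of_bound (hqp : q < p) (hnu : ¬ Subgroup.normalizer (U : Set G) ≤ S) (hL : IsCoatom L)
    (hNU : Subgroup.normalizer (U : Set G) ≤ L)
    {n : ℕ} (hn : p * q * n + 1 = Nat.card (Cfsg.fittingHallOf L))
    (hb : n ≤ p * q) : U = Cfsg.fittingHallOf L := by
  have hS := h.side_S
  have hle := h.over_U_le hnu hL hNU
  obtain ⟨i, hi⟩ := Subgroup.card_dvd_of_le hle
  obtain ⟨w, huw, hw⟩ := h.exists_cofactor hqp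
  rw [hi] at hn
  have hi1 : i = 1 := by
    refine cofactor_arith hS.p_prime hS.q_prime hS.three_le_q hqp huw hw hS.card_U_mod ?_ ?_ ?_ ?_
    · exact Nat.odd_iff.1 (hi ▸ hS.odd_of_le _)
    · rw [← hn, mul_assoc, Nat.add_comm, Nat.add_mul_mod_self_left,
        Nat.one_mod_eq_one.2 hS.p_prime.ne_one]
    · rw [← hn, mul_comm p q, mul_assoc, Nat.add_comm, Nat.add_mul_mod_self_left,
        Nat.one_mod_eq_one.2 hS.q_prime.ne_one]
    · rw [← hn]
      have := Nat.mul_le_mul_left (p * q) hb
      rw [show p ^ 2 * q ^ 2 = p * q * (p * q) by ring]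
      omega
  exact Subgroup.eq_of_le_of_card_ge hle (by rw [hi, hi1, mul_one])

/-- The second bound of the cross argument is impossible. -/
theorem derived_bound_false (hqp : q < p) {m : ℕ} (hm : Nat.card V ≤ p * m + 1)
    (hb : m + p ≤ p * q + 1) : False := by
  have hv := h.lt_card_V hqp
  have hlow := pow_lower (h.five_le_p hqp) h.side_S.three_le_q
  have hp := h.five_le_p hqp
  have h1 := Nat.mul_le_mul_left p hb
  rw [Nat.mul_add, Nat.mul_add, mul_one] at h1
  have h2 : 4 * q + 1 ≤ q * q + 4 := by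
    have := Nat.mul_le_mul_right q h.side_S.three_le_q
    rcases lt_or_ge q 4 with h' | h'
    · omega
    · have := Nat.mul_le_mul_right q h'
      omega
  have h3 := Nat.mul_le_mul_left (p * p) h2
  have h4 : 5 * p ≤ p * p := Nat.mul_le_mul_right p hp
  have e1 : p * p * (4 * q + 1) = 4 * (p * (p * q)) + p * p := by ring
  have e2 : p * p * (q * q + 4) = p ^ 2 * q ^ 2 + 4 * (p * p) := by ring
  omega

/-- The configuration. -/
theorem config (hqp : q < p) :
    IsCyclic U ∧ Nat.card U * (p - 1) = p ^ q - 1 ∧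
      Nat.Coprime ((p ^ q - 1) / (p - 1)) (p - 1) ∧
      ∃ y ∈ Cfsg.fittingHallOf T,
        W₂.map (MulAut.conj y).toMonoidHom ≤ Subgroup.normalizer (U : Set G) := by
  have hS := h.side_S
  have hT := h.side_T
  have hnu := h.II_lt_S hqp
  obtain ⟨L, hL, hNU⟩ := h.exists_over hnu
  refine ⟨h.isCyclic_U, ?_⟩
  suffices hy : ∃ y ∈ Cfsg.fittingHallOf T,
      W₂.map (MulAut.conj y).toMonoidHom ≤ Subgroup.normalizer (U : Set G) by
    obtain ⟨y, hy, hyU⟩ := hy
    exact ⟨(h.conclude hqp hnu hL hNU hyU).1, (h.conclude hqp hnu hL hNU hyU).2, y, hy, hyU⟩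
  haveI := Fintype.ofFinite S
  haveI := Fintype.ofFinite T
  haveI := Fintype.ofFinite L
  obtain ⟨χ, hχ⟩ := CTI.exists_family hS.data.selfNormalizing h.odd_W
  have hW := hS.data.selfNormalizing
  have hW1 : 3 ≤ Nat.card W₁ := hS.card_W₁ ▸ hS.three_le_q
  have hW2 : 3 ≤ Nat.card W₂ := hS.card_W₂ ▸ hS.three_le_p
  have hfam : ∀ e, (Cfsg.fittingHallOf L).relIndex L = e →
      ∃ F : Fam L (Cfsg.fittingHallOf L) e, e * F.size + 1 = Nat.card (Cfsg.fittingHallOf L) := by
    rintro e rfl
    exact h.exists_fam_over hnu hL hNU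
  set H := Cfsg.fittingHallOf L with hH
  have hkp : (Nat.card H).Coprime p :=
    ((hS.p_prime.coprime_iff_not_dvd).2 (h.over_not_dvd_p hnu hL hNU)).symm
  have hkq : (Nat.card H).Coprime q :=
    ((hS.q_prime.coprime_iff_not_dvd).2 (h.over_not_dvd_q hnu hL hNU)).symm
  have hdisS : ∀ g ∈ conjSet (sharpSet H), g ∉ conjSet (supp S W₁ W₂) := fun g hg =>
    h.supp_disjoint hkp hg
  have hdisT : ∀ g ∈ conjSet (sharpSet H), g ∉ conjSet (supp T W₂ W₁) := fun g hg =>
    h.symm.supp_disjoint hkq hg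
  have hhat : ∀ g ∈ hat W₁ W₂, g ∉ conjSet (sharpSet H) := fun g hg => h.hat_disjoint hkp hg
  have hUH := h.over_U_le hnu hL hNU
  rcases h.over_index hnu hL hNU with ⟨he, hLeq⟩ | ⟨he, y, hy, hyL⟩
  · -- `e = q` is impossible
    exfalso
    obtain ⟨F, hF⟩ := hfam q he
    rcases hS.parity_or F h.centU_eq_bot hχ hdisS with hb | hodd
    · have hUeq : U = H := Subgroup.eq_of_le_of_card_ge hUH (by omega)
      refine hnu (hNU.trans ?_)
      rw [hLeq, ← hH, ← hUeq]
      exact sup_le hS.U_le hS.W₁_le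
    · choose! a hao hae using hodd
      have hc : ∀ ω ∈ rightChars hW, Cfsg.classInner F.tau (χ ω) =
          ((if ω = 1 then 1 else a ω : ℤ) : ℂ) := fun ω hω => by
        split_ifs with h1
        · rw [h1, hχ.map_one, F.tau_one, Int.cast_one]
        · exact hae ω ((mem_rightChars hW).1 hω) h1
      have hb := (bessel_int (rightChars hW) χ (fun i _ j _ => hχ.orthonormal i j) F.tau _ hc _
        F.tau_norm).1
      have h2 := Finset.card_nsmul_le_sum (rightChars hW)
        (fun ω => (if ω = 1 then 1 else a ω : ℤ) ^ 2) 1 fun ω hω => by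
          split_ifs with h1
          · norm_num
          · exact one_le_sq_of_odd (hao ω ((mem_rightChars hW).1 hω) h1)
      rw [card_rightChars hW, hS.card_W₂, nsmul_one] at h2
      have h3 : (p : ℤ) ≤ (q : ℤ) + 1 := by
        have := h2.trans hb
        exact_mod_cast this
      have := Nat.odd_iff.1 (hS.p_prime.odd_of_ne_two hS.p_ne_two)
      have := Nat.odd_iff.1 (hS.q_prime.odd_of_ne_two hS.q_ne_two)
      omega
  -- `e = p q`
  refine ⟨y, hy, ?_⟩
  have hnorm_of_eq : U = H → W₂.map (MulAut.conj y).toMonoidHom ≤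
      Subgroup.normalizer (U : Set G) := fun e =>
    hyL.trans (e ▸ TypeIProps.le_normalizer_fittingHallOf L)
  obtain ⟨F, hF⟩ := hfam (p * q) he
  rcases hS.parity_or F h.centU_eq_bot hχ hdisS with hb | hright
  · -- case A
    refine hnorm_of_eq ?_
    obtain ⟨i, hi⟩ := Subgroup.card_dvd_of_le hUH
    obtain ⟨w, huw, hw⟩ := h.exists_cofactor hqp
    have hu0 : 0 < Nat.card U := Nat.card_pos
    have hilt : i < p := by
      have h1 := Nat.mul_le_mul_left p hb
      rw [Nat.mul_add, mul_one, ← mul_assoc] at h1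
      by_contra hge
      have h2 := Nat.mul_le_mul_left (Nat.card U) (not_lt.1 hge)
      rw [mul_comm p (Nat.card U)] at h1
      have hp2 := hS.p_prime.two_le
      linarith
    have hiw : i % p = w % p := by
      refine Nat.ModEq.cancel_left_of_coprime (c := Nat.card U) hS.coprime_p_u ?_
      show (Nat.card U * i) % p = (Nat.card U * w) % p
      rw [← hi, huw, geom_mod_self p q hS.p_prime.two_le hS.q_prime.one_le, ← hF, mul_assoc,
        Nat.add_comm, Nat.add_mul_mod_self_left, Nat.one_mod_eq_one.2 hS.p_prime.ne_one]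
    have hw' : w < p := by
      have := hS.p_prime.two_le
      rcases hw with e | e <;> omega
    rw [Nat.mod_eq_of_lt hilt, Nat.mod_eq_of_lt hw'] at hiw
    subst hiw
    rcases hw with e | e
    · exact Subgroup.eq_of_le_of_card_ge hUH (by rw [hi, e, mul_one])
    · exfalso
      subst e
      exact h.over_not_dvd_q hnu hL hNU (Dvd.intro_left _ hi.symm)
  -- case B
  set s := rightChars hW with hsdef
  have hs : ∀ ω ∈ s, ∃ a : ℤ, Odd a ∧ Cfsg.classInner F.tau (χ ω) = a := fun ω hω => by
    rcases eq_or_ne ω 1 with rfl | h1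
    · exact ⟨1, odd_one, by rw [hχ.map_one, F.tau_one, Int.cast_one]⟩
    · exact hright ω ((mem_rightChars hW).1 hω) h1
  have hscard : s.card = p := by rw [hsdef, card_rightChars hW, hS.card_W₂]
  by_cases hnv : Subgroup.normalizer (V : Set G) ≤ T
  · -- `T` is of Type III
    obtain ⟨F', hF'⟩ := h.exists_fam_derived hnv
    have hcore : Cfsg.sigmaCore T = ⁅T, T⁆ := by
      rw [← h.core_eq T hT.max]; exact h.nu_T.resolve_left fun hn => hn hnv
    have hcop : (Nat.card H).Coprime (Nat.card ↥⁅T, T⁆) := by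
      refine Nat.coprime_of_dvd fun r hr h1 h2 => ?_
      obtain ⟨g, hg⟩ := h.local_props.sigma_conj T L hT.max hL
        ⟨r, (h.local_props.sigma_hall T hT.max).1.2.1 r hr (hcore ▸ h2),
          h.over_sigma hnu hL hNU hr h1⟩
      exact h.not_conj_T hNU g hg
    have hTp : (Nat.card ↥⁅T, T⁆).Coprime p := by
      rw [hT.card_derived]; exact hT.coprime_q_derived.symm
    rcases F.cross F' hS.odd_G hW hχ hW1 hW2 hhat (fun g hg => h.hat_disjoint hTp hg)
      (fun g hg => h.disjoint_of_coprime hcop hg) s hs with hb | hb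
    · exact hnorm_of_eq (h.U_eq_of_bound hqp hnu hL hNU hF
        (hb.trans (Nat.le_mul_of_pos_right p hS.q_prime.pos)))
    · rw [hscard] at hb
      exact (h.derived_bound_false hqp hF'.ge hb).elim
  · -- a maximal subgroup over `N(V)`
    obtain ⟨L', hL', hNV⟩ := h.symm.exists_over hnv
    haveI := Fintype.ofFinite L'
    set H' := Cfsg.fittingHallOf L' with hH'
    have hVH := h.symm.over_U_le hnv hL' hNV
    by_cases hconj : ∃ g : G, L' = L.map (MulAut.conj g).toMonoidHom
    · -- `L'` is conjugate to `L`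
      obtain ⟨g, hg⟩ := hconj
      have hH'eq : H' = H.map (MulAut.conj g).toMonoidHom := by
        rw [hH', hg, NotAllTypeI.fittingHallOf_map_conj]
      have hk' : Nat.card H' = Nat.card H := by
        rw [hH'eq, Subgroup.card_map_of_injective (MulAut.conj g).injective]
      have hvk : Nat.card V ≤ Nat.card H :=
        hk' ▸ Nat.le_of_dvd Nat.card_pos (Subgroup.card_dvd_of_le hVH)
      rcases hT.parity_or F h.symm.centU_eq_bot (swapFam_isFamily hχ) hdisT with hb | hleft
      · -- `H` is cyclic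
        obtain ⟨i, hi⟩ := Subgroup.card_dvd_of_le hVH
        have hv0 : 0 < Nat.card V := Nat.card_pos
        have hilt : i < q := by
          have h1 := Nat.mul_le_mul_left q hb
          rw [Nat.mul_add, mul_one, ← mul_assoc, mul_comm q p] at h1
          by_contra hge
          have h2 := Nat.mul_le_mul_left (Nat.card V) (not_lt.1 hge)
          rw [mul_comm q (Nat.card V)] at h1
          have hq2 := hS.q_prime.two_le
          linarith
        have hvq : Nat.card V % q = 1 := by
          have h1 := h.card_V_mul hqp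
          have h2 : Nat.card V = (q ^ p - 1) / (q - 1) := by
            rw [← h1, Nat.mul_div_cancel _ (by have := hS.three_le_q; omega)]
          rw [h2]
          exact geom_mod_self q p hS.q_prime.two_le hS.p_prime.one_le
        have hi1 : i = 1 := by
          have h1 : Nat.card H' % q = 1 := by
            rw [hk', ← hF, show p * q * F.size + 1 = 1 + q * (p * F.size) by ring,
              Nat.add_mul_mod_self_left, Nat.one_mod_eq_one.2 hS.q_prime.ne_one]
          rw [hi, Nat.mul_mod, hvq, one_mul, Nat.mod_mod, Nat.mod_eq_of_lt hilt] at h1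
          exact h1
        have hVeq : V = H' := Subgroup.eq_of_le_of_card_ge hVH (by rw [hi, hi1, mul_one])
        have hcyc : IsCyclic H := by
          haveI : IsCyclic H' := hVeq ▸ h.symm.isCyclic_U
          haveI : IsCyclic ↥(H.map (MulAut.conj g).toMonoidHom) := hH'eq ▸ inferInstance
          exact isCyclic_of_surjective _ (Subgroup.equivMapOfInjective H
            (MulAut.conj g).toMonoidHom (MulAut.conj g).injective).symm.surjective
        intro l hl
        exact mem_normalizer_of_map_le fun x hx => conj_mem_of_isCyclic hcyc hUH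
          (fun a ha => TypeIProps.conj_mem_fittingHallOf (hyL hl) ha) hx
      · exfalso
        refine h.count_false hqp F rfl ?_ hvk hχ hdisS hdisT hright fun φ hφ hφ1 => ?_
        · exact hF
        · obtain ⟨a, hao, hae⟩ := hleft (swapHom φ) (swapHom_isRight hφ) (swapHom_ne_one hφ1)
          refine ⟨a, hao, ?_⟩
          rwa [swapFam, swapHom_swapHom] at hae
    · -- the two kernels have coprime orders
      push Not at hconj
      obtain ⟨F', hF'⟩ := h.symm.exists_fam_over hnv hL' hNV
      have hcop := TypeIProps.coprime_fitting h.local_props hL hL' hconj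
      have hk'p : (Nat.card H').Coprime p :=
        ((hS.p_prime.coprime_iff_not_dvd).2 (h.symm.over_not_dvd_q hnv hL' hNV)).symm
      have he' : H'.relIndex L' ≤ p * q ∧
          ∀ m, H'.relIndex L' * m + 1 = Nat.card H' → m + p ≤ p * q + 1 → False := by
        have hvH : Nat.card V ≤ Nat.card H' :=
          Nat.le_of_dvd Nat.card_pos (Subgroup.card_dvd_of_le hVH)
        rcases h.symm.over_index hnv hL' hNV with ⟨e1, -⟩ | ⟨e1, x, hx, hxL⟩
        · refine ⟨e1.le.trans (Nat.le_mul_of_pos_right p hS.q_prime.pos), fun m hm hm' => ?_⟩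
          rw [e1] at hm
          exact h.derived_bound_false hqp (hm.symm ▸ hvH) hm'
        · refine ⟨(e1.trans (mul_comm q p)).le, fun m hm hm' => ?_⟩
          rw [e1] at hm
          have hv := h.lt_card_V hqp
          rcases lt_or_ge p 7 with hp7 | hp7
          · -- `(q, p) = (3, 5)`
            have hp5 := h.five_le_p hqp
            have hpe : p = 5 := by
              rcases (show p = 5 ∨ p = 6 by omega) with e | e
              · exact e
              · exfalso; exact absurd (e ▸ hS.p_prime) (by norm_num)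
            have hqe : q = 3 := by
              have := hS.three_le_q
              rcases (show q = 3 ∨ q = 4 by omega) with e | e
              · exact e
              · exfalso; exact absurd (e ▸ hS.q_prime) (by norm_num)
            subst hpe
            subst hqe
            have hvv : Nat.card V = 121 := by
              have h3 : Nat.card V * 2 = 242 := h.card_V_mul hqp
              linarith
            obtain ⟨i, hi⟩ := Subgroup.card_dvd_of_le hVH
            have hi1 : i = 1 := by
              have h2 : Odd (Nat.card H') := hS.odd_of_le _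
              rw [hi, hvv, Nat.odd_iff] at h2
              rw [hi, hvv] at hm
              omega
            have hVeq : V = H' := Subgroup.eq_of_le_of_card_ge hVH (by rw [hi, hi1, mul_one])
            obtain ⟨w, hw, hw1⟩ := hS.exists_W₁
            set z := x * w * x⁻¹ with hzd
            have hzL : z ∈ L' := hxL ⟨w, hw, rfl⟩
            have hzo : orderOf z = 3 := by rw [hzd, orderOf_conjugate, hS.orderOf_W₁ hw hw1]
            set Z := Subgroup.zpowers z with hZ
            have hZn : ∀ c ∈ Z, ∀ a ∈ V, c * a * c⁻¹ ∈ V := fun c hc a ha => by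
              rw [hVeq] at ha ⊢
              exact TypeIProps.conj_mem_fittingHallOf ((Subgroup.zpowers_le.2 hzL) hc) ha
            haveI := h.symm.isCyclic_U
            letI : MulAction Z {a : V // orderOf a = 11} :=
              { smul := fun c a => ⟨⟨(c : G) * (a.1 : G) * (c : G)⁻¹, hZn c c.2 _ a.1.2⟩, by
                  rw [← Subgroup.orderOf_coe, orderOf_conjugate, Subgroup.orderOf_coe]
                  exact a.2⟩
                one_smul := fun a => Subtype.ext (Subtype.ext
                  (show ((1 : Z) : G) * (a.1 : G) * ((1 : Z) : G)⁻¹ = (a.1 : G) by simp))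
                mul_smul := fun b c a => Subtype.ext (Subtype.ext
                  (show ((b * c : Z) : G) * (a.1 : G) * ((b * c : Z) : G)⁻¹ =
                    (b : G) * ((c : G) * (a.1 : G) * (c : G)⁻¹) * (b : G)⁻¹ by simp [mul_assoc])) }
            have hdvd := RankTwoLines.dvd_of_free (D := Z) (X := {a : V // orderOf a = 11})
              fun c a hca => by
                have he1 : (c : G) * (a.1 : G) * (c : G)⁻¹ = a.1 :=
                  congrArg (fun t : {a : V // orderOf a = 11} => ((t.1 : V) : G)) hca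
                have ha1 : (a.1 : G) ≠ 1 := fun e => by
                  have := a.2
                  rw [← Subgroup.orderOf_coe, e, orderOf_one] at this
                  norm_num at this
                have hcH : (c : G) ∈ H' := h.symm.over_frob hnv hL' hNV _ (hVH a.1.2) ha1
                  ⟨(Subgroup.zpowers_le.2 hzL) c.2,
                    Subgroup.mem_centralizer_singleton_iff.2 (mul_inv_eq_iff_eq_mul.1 he1)⟩
                refine Subtype.ext (orderOf_eq_one_iff.1 (Nat.eq_one_of_dvd_coprimes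
                  (show Nat.Coprime 3 121 by norm_num) (hzo ▸ orderOf_dvd_of_mem_zpowers c.2) ?_))
                rw [← hvv, hVeq]
                exact Subgroup.orderOf_dvd_natCard _ hcH
            rw [hZ, Nat.card_zpowers, hzo, Nat.card_eq_fintype_card, Fintype.card_subtype,
              IsCyclic.card_orderOf_eq_totient (by rw [← Nat.card_eq_fintype_card, hvv]; norm_num),
              Nat.totient_prime (by norm_num)] at hdvd
            norm_num at hdvd
          · have h1 := pow_lt_pow_pred hp7 hS.three_le_q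
            have h2 : m + p ≤ p * q + 1 := hm'
            have h3 : q * p * m ≤ p ^ 2 * q ^ 2 := by
              rw [show p ^ 2 * q ^ 2 = q * p * (p * q) by ring]
              exact Nat.mul_le_mul_left _ (by omega)
            omega
      rcases F.cross F' hS.odd_G hW hχ hW1 hW2 hhat (fun g hg => h.hat_disjoint hk'p hg)
        (fun g hg => h.disjoint_of_coprime hcop hg) s hs with hb | hb
      · exact hnorm_of_eq (h.U_eq_of_bound hqp hnu hL hNU hF (hb.trans he'.1))
      · rw [hscard] at hb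
        exact (he'.2 _ hF' hb).elim

end PairData

end CfsgLib.OddChar.Pair
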