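import Cfsg.Agent.Lib.OddChar.TypeIBoundM
import Cfsg.Agent.S1525
import Mathlib.Algebra.Order.Chebyshev

/-!
# Maximal subgroups of Type I are Frobenius groups

`typeI_frobenius`: S1540 from the statements collected in `TypeIProps.Props`.
-/

set_option autoImplicit false

namespace CfsgLib.OddChar.TypeIFrobenius

open CfsgLib.Char CfsgLib.CharNormal CfsgLib.OddChar.TypeIProps CfsgLib.OddChar.TypeIWitness
open scoped ComplexConjugate

universe u

variable {G : Type u} [Group G] [Fintype G]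

open Classical in
/-- Lower bound for the sum over `M_F` outside its derived subgroup. -/
theorem sum_sq_ge (H D : Subgroup G) (hDH : D ≤ H) (f : G → ℂ) (c : ℤ)
    (hc : ∀ h ∈ H, h ∉ D → ∑ d : D, f (h * d) = (Nat.card D : ℂ) * c) :
    ((Nat.card H : ℝ) - Nat.card D) * (c : ℝ) ^ 2 ≤
      ∑ g : G with g ∈ H ∧ g ∉ D, ‖f g‖ ^ 2 := by
  set T := Finset.univ.filter fun g : G => g ∈ H ∧ g ∉ D with hT
  have hcard : (T.card : ℝ) = (Nat.card H : ℝ) - Nat.card D := by
    have e1 : T = (Finset.univ.filter fun g : G => g ∈ H) \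
        (Finset.univ.filter fun g : G => g ∈ D) := by
      ext g; simp [hT]
    have e2 : (Finset.univ.filter fun g : G => g ∈ D) ⊆ Finset.univ.filter fun g : G => g ∈ H :=
      fun g hg => Finset.mem_filter.2 ⟨Finset.mem_univ _, hDH (Finset.mem_filter.1 hg).2⟩
    rw [e1, Finset.cast_card_sdiff e2]
    simp only [Nat.card_eq_fintype_card, Fintype.card_subtype]
  have hrow : ∀ d : D, ∑ g ∈ T, ‖f (g * d)‖ ^ 2 = ∑ g ∈ T, ‖f g‖ ^ 2 := by
    intro d
    refine Finset.sum_equiv (Equiv.mulRight (d : G)) (fun g => ?_) fun g _ => rfl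
    simp only [hT, Finset.mem_filter, Finset.mem_univ, true_and, Equiv.coe_mulRight]
    rw [H.mul_mem_cancel_right (hDH d.2), D.mul_mem_cancel_right d.2]
  have hD0 : (0 : ℝ) < Nat.card D := by exact_mod_cast Nat.card_pos
  have hge : ∀ g ∈ T, (Nat.card D : ℝ) * (c : ℝ) ^ 2 ≤ ∑ d : D, ‖f (g * d)‖ ^ 2 := by
    intro g hg
    obtain ⟨-, hgH, hgD⟩ := Finset.mem_filter.1 hg
    have h1 : (Nat.card D : ℝ) * |(c : ℝ)| ≤ ∑ d : D, ‖f (g * d)‖ := by
      refine le_trans (le_of_eq ?_) (norm_sum_le _ _)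
      rw [hc g hgH hgD, norm_mul, Complex.norm_natCast, Complex.norm_intCast]
    have h2 := sq_sum_le_card_mul_sum_sq (s := (Finset.univ : Finset D))
      (f := fun d : D => ‖f (g * d)‖)
    rw [Finset.card_univ, ← Nat.card_eq_fintype_card] at h2
    have h3 : ((Nat.card D : ℝ) * |(c : ℝ)|) ^ 2 ≤ (∑ d : D, ‖f (g * d)‖) ^ 2 := by
      gcongr
    rw [mul_pow, sq_abs] at h3
    refine le_of_mul_le_mul_left ?_ hD0
    linarith [h3.trans h2]
  have h4 : (T.card : ℝ) * ((Nat.card D : ℝ) * (c : ℝ) ^ 2) ≤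
      (Nat.card D : ℝ) * ∑ g ∈ T, ‖f g‖ ^ 2 := by
    calc (T.card : ℝ) * ((Nat.card D : ℝ) * (c : ℝ) ^ 2)
        = ∑ g ∈ T, (Nat.card D : ℝ) * (c : ℝ) ^ 2 := by rw [Finset.sum_const, nsmul_eq_mul]
      _ ≤ ∑ g ∈ T, ∑ d : D, ‖f (g * d)‖ ^ 2 := Finset.sum_le_sum hge
      _ = ∑ d : D, ∑ g ∈ T, ‖f g‖ ^ 2 := by
        rw [Finset.sum_comm]; exact Finset.sum_congr rfl fun d _ => hrow d
      _ = _ := by rw [Finset.sum_const, Finset.card_univ, nsmul_eq_mul, Nat.card_eq_fintype_card]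
  rw [← hcard]
  refine le_of_mul_le_mul_left ?_ hD0
  linarith

variable (P : Props G) (w : Witness G) [Fintype w.L] [Fintype w.M] (d : TypeIBoundL.LData w.L)
include P

/-- The norm inequality on the two supports. -/
theorem key_ineq {c : ℤ} (hc : ∀ h ∈ Cfsg.fittingHallOf w.M,
    h ∉ ⁅Cfsg.fittingHallOf w.M, Cfsg.fittingHallOf w.M⁆ → open Classical in
    ∑ d' : ↥(⁅Cfsg.fittingHallOf w.M, Cfsg.fittingHallOf w.M⁆), d.ψ (h * d') =
      (Nat.card ↥(⁅Cfsg.fittingHallOf w.M, Cfsg.fittingHallOf w.M⁆) : ℂ) * c) :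
    (Nat.card w.L : ℝ)⁻¹ * (((Cfsg.fittingHall w.L).index : ℝ) * Nat.card (Cfsg.fittingHall w.L)
        + (d.c : ℝ) ^ 2 * Nat.card (Cfsg.fittingHall w.L)
        - (((Cfsg.fittingHall w.L).index : ℝ) + d.c) ^ 2) +
      (Nat.card w.M : ℝ)⁻¹ * (((Nat.card (Cfsg.fittingHallOf w.M) : ℝ) -
        Nat.card ↥(⁅Cfsg.fittingHallOf w.M, Cfsg.fittingHallOf w.M⁆)) * (c : ℝ) ^ 2) ≤ 1 := by
  classical
  set H := Cfsg.fittingHallOf w.M with hH
  set D := ⁅H, H⁆ with hD
  have hψcl : Cfsg.IsClassFunction G d.ψ := isClassFunction_of_isGen d.gen_ψ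
  have hDL := P.dade w.L w.hL
  have hBsub : (H : Set G) \ {1} ⊆ CfsgLib.OddLocal.S15.typeACore w.M := fun h hh =>
    mem_typeA_of_mem_fitting w.hMI hh.1 hh.2
  have hDM : Cfsg.DadeHypothesis ((H : Set G) \ {1}) w.M (Cfsg.supportR w.M) :=
    TypeIBoundPre.dade_mono (P.dade w.M w.hM) hBsub fun m hm b hb =>
      ⟨conj_mem_fittingHallOf hm hb.1, fun e => hb.2 (conj_eq_one_iff.1 e)⟩
  have hL := Cfsg.Agent.S1525.result (CfsgLib.OddLocal.S15.typeACore w.L) w.L (Cfsg.supportR w.L) hDL d.ψ hψcl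
    (TypeIOrth.avg (CfsgLib.OddLocal.S15.typeACore w.L) w.L (Cfsg.supportR w.L) d.ψ)
    (fun a ha => TypeIOrth.avg_apply ha)
  rw [d.norm_eq] at hL
  have hM := Cfsg.Agent.S1525.result ((H : Set G) \ {1}) w.M (Cfsg.supportR w.M) hDM d.ψ hψcl
    (TypeIOrth.avg ((H : Set G) \ {1}) w.M (Cfsg.supportR w.M) d.ψ)
    (fun a ha => TypeIOrth.avg_apply ha)
  set SL := {g : G | ∃ a ∈ CfsgLib.OddLocal.S15.typeACore w.L, ∃ u ∈ Cfsg.supportR w.L a, ∃ x : G,
    x * g * x⁻¹ = a * u} with hSL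
  set SM := {g : G | ∃ a ∈ (H : Set G) \ {1}, ∃ u ∈ Cfsg.supportR w.M a, ∃ x : G,
    x * g * x⁻¹ = a * u} with hSM
  have hdis : Disjoint SL.toFinset SM.toFinset := by
    rw [Finset.disjoint_left]
    intro g hg hg'
    rw [Set.mem_toFinset] at hg hg'
    obtain ⟨a, ha, u, hu, x, hx⟩ := hg
    obtain ⟨b, hb, v, hv, z, hz⟩ := hg'
    rw [TypeICoherence.typeA_eq w.hLI w.frobL] at ha
    exact TypeIMeet.not_both P w.hL w.hLI w.hM w.hMI (TypeIBoundM.M_not_conj P w) ha.1 ha.2 hu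
      (g := g) (y := x⁻¹) (by rw [← hx]; group) hb.1 hb.2 hv (z := z⁻¹) (by rw [← hz]; group)
  have htot : ∑ g : G, ‖d.ψ g‖ ^ 2 = (Nat.card G : ℝ) := by
    have h := card_mul_classInner d.ψ d.ψ
    rw [d.norm_ψ, mul_one] at h
    simp only [Complex.mul_conj'] at h
    exact_mod_cast h.symm
  have hle : (Nat.card G : ℝ)⁻¹ * ∑ᶠ g ∈ SL, ‖d.ψ g‖ ^ 2 +
      (Nat.card G : ℝ)⁻¹ * ∑ᶠ g ∈ SM, ‖d.ψ g‖ ^ 2 ≤ 1 := by
    rw [← mul_add, finsum_mem_eq_toFinset_sum, finsum_mem_eq_toFinset_sum,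
      ← Finset.sum_union hdis, inv_mul_le_iff₀ (by exact_mod_cast Nat.card_pos), mul_one, ← htot]
    exact Finset.sum_le_univ_sum_of_nonneg fun g => sq_nonneg _
  have hlow : ((Nat.card H : ℝ) - Nat.card D) * (c : ℝ) ^ 2 ≤
      ∑ᶠ a ∈ {a : w.M | (a : G) ∈ (H : Set G) \ {1}},
        ‖TypeIOrth.avg ((H : Set G) \ {1}) w.M (Cfsg.supportR w.M) d.ψ a‖ ^ 2 := by
    refine (sum_sq_ge H D (TypeIBoundM.commutator_le_fittingHallOf w.M) d.ψ c hc).trans ?_
    rw [finsum_mem_eq_toFinset_sum]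
    have hsub : ∀ g : G, g ∈ H ∧ g ∉ D → g ∈ w.M :=
      fun g hg => CfsgLib.OddLocal.fittingHallOf_le w.M hg.1
    calc ∑ g : G with g ∈ H ∧ g ∉ D, ‖d.ψ g‖ ^ 2
        = ∑ a ∈ Finset.univ.filter (fun a : w.M => (a : G) ∈ H ∧ (a : G) ∉ D),
          ‖TypeIOrth.avg ((H : Set G) \ {1}) w.M (Cfsg.supportR w.M) d.ψ a‖ ^ 2 := by
          refine Finset.sum_bij (fun g hg => (⟨g, hsub g (Finset.mem_filter.1 hg).2⟩ : w.M))
            (fun g hg => Finset.mem_filter.2 ⟨Finset.mem_univ _, (Finset.mem_filter.1 hg).2⟩)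
            (fun g _ g' _ h => by simpa using congrArg Subtype.val h)
            (fun a ha => ⟨(a : G), Finset.mem_filter.2 ⟨Finset.mem_univ _, (Finset.mem_filter.1 ha).2⟩,
              rfl⟩) fun g hg => ?_
          obtain ⟨hgH, hgD⟩ := (Finset.mem_filter.1 hg).2
          have hg1 : g ≠ 1 := fun e => hgD (e ▸ one_mem _)
          rw [TypeIBoundM.avg_eq P w d (a := ⟨g, hsub g ⟨hgH, hgD⟩⟩) hgH hg1 (B := (H : Set G) \ {1}) ⟨hgH, hg1⟩]
      _ ≤ _ := by
          refine Finset.sum_le_sum_of_subset_of_nonneg (fun a ha => ?_) fun _ _ _ => sq_nonneg _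
          obtain ⟨hgH, hgD⟩ := (Finset.mem_filter.1 ha).2
          rw [Set.mem_toFinset]
          exact ⟨hgH, fun e : (a : G) = 1 => hgD (e ▸ one_mem _)⟩
  have hM' := (mul_le_mul_of_nonneg_left hlow
    (inv_nonneg.2 (Nat.cast_nonneg (Nat.card w.M)))).trans hM
  linarith

omit [Fintype w.L] [Fintype w.M] in
/-- The kernel of `M` modulo its derived subgroup has more than three elements. -/
theorem relIndex_ne_three :
    (⁅Cfsg.fittingHallOf w.M, Cfsg.fittingHallOf w.M⁆).relIndex (Cfsg.fittingHallOf w.M) ≠ 3 := by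
  classical
  haveI := Fact.mk w.prime
  set H := Cfsg.fittingHallOf w.M with hH
  set D := ⁅H, H⁆ with hD
  intro h3
  have hDH : D ≤ H := TypeIBoundM.commutator_le_fittingHallOf w.M
  have hconj : ∀ m ∈ w.M, ∀ v ∈ D, m * v * m⁻¹ ∈ D := fun m hm v hv =>
    TypeIBoundM.conj_mem_commutator hm hv
  have hpodd : w.p ≠ 2 := fun e => (Nat.not_even_iff_odd.2 P.minSimple.1) (by
    rw [even_iff_two_dvd, ← e]
    exact ((dvd_pow_self w.p two_ne_zero).trans w.card_A.symm.dvd).trans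
      (Subgroup.card_subgroup_dvd_card _))
  obtain ⟨k, hk⟩ := w.prime.odd_of_ne_two hpodd
  let S : Subgroup G :=
    { carrier := {g | g ∈ w.M ∧ g * w.h₀ * g⁻¹ * w.h₀⁻¹ ∈ D}
      one_mem' := ⟨one_mem _, by simp⟩
      mul_mem' := fun {a b} ha hb => ⟨mul_mem ha.1 hb.1, by
        rw [show a * b * w.h₀ * (a * b)⁻¹ * w.h₀⁻¹ =
          a * (b * w.h₀ * b⁻¹ * w.h₀⁻¹) * a⁻¹ * (a * w.h₀ * a⁻¹ * w.h₀⁻¹) by group]
        exact mul_mem (hconj a ha.1 _ hb.2) ha.2⟩
      inv_mem' := fun {a} ha => ⟨inv_mem ha.1, by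
        rw [show a⁻¹ * w.h₀ * a⁻¹⁻¹ * w.h₀⁻¹ =
          a⁻¹ * (a * w.h₀ * a⁻¹ * w.h₀⁻¹)⁻¹ * a⁻¹⁻¹ by group]
        exact hconj _ (inv_mem ha.1) _ (inv_mem ha.2)⟩ }
  have hA : ∀ a ∈ w.A, a * w.h₀ * a⁻¹ * w.h₀⁻¹ ∈ D := by
    intro a ha
    have haM := w.A_le ha
    by_contra hne
    set v := a * w.h₀ * a⁻¹ with hv
    have hvH : v ∈ H := conj_mem_fittingHallOf haM w.h₀_mem
    have hvD : v ∉ D := fun h => w.h₀_not (by
      rw [show w.h₀ = a⁻¹ * v * a⁻¹⁻¹ by rw [hv]; group]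
      exact hconj _ (inv_mem haM) _ h)
    have hvh : v * w.h₀ ∈ D := by
      have hn : (D.subgroupOf H).Normal := ⟨fun v hv g => by
        rw [Subgroup.mem_subgroupOf] at hv ⊢
        simpa using hconj (g : G) (CfsgLib.OddLocal.fittingHallOf_le _ g.2) _ hv⟩
      have hcard : Nat.card (↥H ⧸ D.subgroupOf H) = 3 := by
        rw [← Subgroup.index_eq_card]; exact h3
      haveI : Fintype (↥H ⧸ D.subgroupOf H) := Fintype.ofFinite _
      set q : ↥H ⧸ D.subgroupOf H := ((⟨w.h₀, w.h₀_mem⟩ : H) : ↥H ⧸ D.subgroupOf H) with hq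
      set r : ↥H ⧸ D.subgroupOf H := ((⟨v, hvH⟩ : H) : ↥H ⧸ D.subgroupOf H) with hr
      have hq1 : q ≠ 1 := fun e => w.h₀_not (by
        have := (QuotientGroup.eq_one_iff _).1 e
        exact this)
      have hr1 : r ≠ 1 := fun e => hvD (by
        have := (QuotientGroup.eq_one_iff _).1 e
        exact this)
      have hrq : r ≠ q := fun e => by
        have h1 : r * q⁻¹ = 1 := by rw [e, mul_inv_cancel]
        rw [hr, hq, ← QuotientGroup.mk_inv, ← QuotientGroup.mk_mul, QuotientGroup.eq_one_iff] at h1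
        exact hne h1
      have hq2 : q⁻¹ ≠ q := fun e => hq1 (by
        have h2 : q ^ 2 = 1 := by rw [pow_two]; nth_rw 1 [← e]; rw [inv_mul_cancel]
        have h3' : q ^ 3 = 1 := hcard ▸ pow_card_eq_one'
        calc q = q ^ 3 * (q ^ 2)⁻¹ := by group
          _ = 1 := by rw [h2, h3', inv_one, mul_one])
      have hrq' : r = q⁻¹ := by
        by_contra hne'
        have : ({1, q, q⁻¹, r} : Finset (↥H ⧸ D.subgroupOf H)).card = 4 := by
          rw [Finset.card_insert_of_notMem (by simp [hq1.symm, hr1.symm, inv_ne_one.2 hq1,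
            eq_comm (a := (1 : ↥H ⧸ D.subgroupOf H)), hq1, hr1]),
            Finset.card_insert_of_notMem (by simp [hq2.symm, hrq.symm]),
            Finset.card_insert_of_notMem (by simp [Ne.symm hne']), Finset.card_singleton]
        have := Finset.card_le_univ ({1, q, q⁻¹, r} : Finset (↥H ⧸ D.subgroupOf H))
        rw [← Nat.card_eq_fintype_card, hcard] at this
        omega
      have h1 : r * q = 1 := by rw [hrq', inv_mul_cancel]
      rw [hr, hq, ← QuotientGroup.mk_mul, QuotientGroup.eq_one_iff] at h1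
      exact h1
    have h2 : a ^ 2 ∈ S := by
      refine ⟨pow_mem haM 2, ?_⟩
      have e1 : a * (v * w.h₀) * a⁻¹ ∈ D := hconj a haM _ hvh
      have e2 : w.h₀ * (v * w.h₀) * w.h₀⁻¹ ∈ D :=
        hconj _ (CfsgLib.OddLocal.fittingHallOf_le _ w.h₀_mem) _ hvh
      rw [show a ^ 2 * w.h₀ * (a ^ 2)⁻¹ * w.h₀⁻¹ =
        a * (v * w.h₀) * a⁻¹ * (w.h₀ * (v * w.h₀) * w.h₀⁻¹)⁻¹ by rw [hv, pow_two]; group]
      exact mul_mem e1 (inv_mem e2)
    have h4 : a ∈ S := by
      have e : (a ^ 2) ^ (k + 1) = a := by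
        rw [← pow_mul, show 2 * (k + 1) = w.p + 1 by omega, pow_succ, w.hA.2 a ha, one_mul]
      exact e ▸ pow_mem h2 _
    exact hne h4.2
  -- a fixed point in the coset of `h₀`
  letI : MulAction w.A {u : G // u * w.h₀⁻¹ ∈ D} :=
    { smul := fun a u => ⟨(a : G) * u * (a : G)⁻¹, by
        rw [show (a : G) * u * (a : G)⁻¹ * w.h₀⁻¹ = (a : G) * ((u : G) * w.h₀⁻¹) * (a : G)⁻¹ *
          ((a : G) * w.h₀ * (a : G)⁻¹ * w.h₀⁻¹) by group]
        exact mul_mem (hconj _ (w.A_le a.2) _ u.2) (hA _ a.2)⟩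
      one_smul := fun u => Subtype.ext (by
        show ((1 : w.A) : G) * u * ((1 : w.A) : G)⁻¹ = u
        simp)
      mul_smul := fun a b u => Subtype.ext (by
        show ((a * b : w.A) : G) * u * ((a * b : w.A) : G)⁻¹ =
          (a : G) * ((b : G) * u * (b : G)⁻¹) * (a : G)⁻¹
        simp [mul_assoc]) }
  have hcard : Nat.card {u : G // u * w.h₀⁻¹ ∈ D} = Nat.card D :=
    Nat.card_congr ((Equiv.mulRight w.h₀⁻¹).subtypeEquiv fun u => Iff.rfl)
  obtain ⟨u, hu⟩ := (IsPGroup.of_card w.card_A).nonempty_fixed_point_of_prime_not_dvd_card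
    {u : G // u * w.h₀⁻¹ ∈ D} (by
      rw [hcard]
      exact fun h => w.not_dvd (h.trans (Subgroup.card_dvd_of_le hDH)))
  have huH : (u : G) ∈ H := by
    simpa using mul_mem (hDH u.2) w.h₀_mem
  have huA : (u : G) ∈ Subgroup.centralizer (w.A : Set G) := by
    rw [Subgroup.mem_centralizer_iff]
    intro a ha
    have := congrArg Subtype.val (hu ⟨a, ha⟩)
    exact (mul_inv_eq_iff_eq_mul.1 this)
  have hu1 : (u : G) ∈ (⊥ : Subgroup G) := w.cent_A ▸ Subgroup.mem_inf.2 ⟨huH, huA⟩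
  rw [Subgroup.mem_bot] at hu1
  have hu2 := u.2
  rw [hu1, one_mul] at hu2
  exact w.h₀_not (by simpa using inv_mem hu2)

omit [Fintype w.L] [Fintype w.M] in
/-- There is no configuration. -/
theorem witness_false (w : Witness G) : False := by
  classical
  have := Fintype.ofFinite w.L
  have := Fintype.ofFinite w.M
  obtain ⟨d⟩ := TypeIBoundL.exists_LData P w.hL w.hLI w.frobL
  obtain ⟨c, hc⟩ := TypeIBoundM.exists_coset_sum P w d
  have hdvd := TypeIBoundM.dvd_sub P w d hc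
  have hineq := key_ineq P w d hc
  have he2 := w.two_mul_index_le P
  set H := Cfsg.fittingHallOf w.M with hH
  set D := ⁅H, H⁆ with hD
  set K := Cfsg.fittingHallOf w.L with hK
  set E := w.L ⊓ w.M with hE
  set e := (Cfsg.fittingHall w.L).index with he
  have hkcard : Nat.card (Cfsg.fittingHall w.L) = Nat.card K :=
    (CfsgLib.OddLocal.card_fittingHallOf w.L).symm
  rw [hkcard] at hineq
  have hoddG := P.minSimple.1
  have hodd : ∀ X : Subgroup G, Odd (Nat.card X) := fun X =>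
    hoddG.of_dvd_nat (Subgroup.card_subgroup_dvd_card X)
  have heodd : Odd e := (hodd w.L).of_dvd_nat (Subgroup.index_dvd_card _)
  have he1 : e ≠ 1 := fun h => w.hLI.1.2.2.2.1 (Subgroup.index_eq_one.1 h)
  have he3 : 3 ≤ e := by
    obtain ⟨t, ht⟩ := heodd
    omega
  have hkp : w.p ^ 2 ≤ Nat.card K :=
    w.card_A ▸ Nat.le_of_dvd Nat.card_pos (Subgroup.card_dvd_of_le w.A_le_L)
  have hcardL : Nat.card w.L = e * Nat.card K := by
    rw [← hkcard, mul_comm, Subgroup.card_mul_index]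
  have hk0 : (0 : ℝ) < Nat.card K := by exact_mod_cast Nat.card_pos
  have he0 : (0 : ℝ) < e := by exact_mod_cast (show 0 < e by omega)
  have hM0 : (0 : ℝ) < Nat.card w.M := by exact_mod_cast Nat.card_pos
  have hDH : D ≤ H := TypeIBoundM.commutator_le_fittingHallOf w.M
  have hDle : (Nat.card D : ℝ) ≤ Nat.card H := by
    exact_mod_cast Nat.le_of_dvd Nat.card_pos (Subgroup.card_dvd_of_le hDH)
  have hterm : 0 ≤ ((Nat.card H : ℝ) - Nat.card D) * (c : ℝ) ^ 2 :=
    mul_nonneg (sub_nonneg.2 hDle) (sq_nonneg _)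
  rw [hcardL, Nat.cast_mul] at hineq
  -- the constant vanishes
  have hc0 : d.c = 0 := by
    refine TypeIBoundPre.arith_c (e := (e : ℤ)) (k := (Nat.card K : ℤ)) (by exact_mod_cast (show 0 < e by omega)) ?_ ?_
    · have : (e + 2) ^ 2 ≤ Nat.card K := le_trans (Nat.pow_le_pow_left (by omega) 2) hkp
      exact_mod_cast this
    · have h1 : ((e : ℝ) * Nat.card K)⁻¹ * ((e : ℝ) * Nat.card K + (d.c : ℝ) ^ 2 * Nat.card K -
          ((e : ℝ) + d.c) ^ 2) ≤ 1 := by
        have := mul_nonneg (inv_nonneg.2 hM0.le) hterm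
        linarith
      rw [inv_mul_le_iff₀ (by positivity), mul_one] at h1
      have h2 : (d.c : ℝ) ^ 2 * (Nat.card K : ℝ) ≤ ((e : ℝ) + d.c) ^ 2 := by linarith
      exact_mod_cast h2
  rw [hc0, zero_add] at hdvd
  rw [hc0] at hineq
  simp only [Int.cast_zero, ne_eq, OfNat.ofNat_ne_zero, not_false_eq_true, zero_pow, zero_mul,
    add_zero] at hineq
  have hmain : (Nat.card K : ℝ) * (((Nat.card H : ℝ) - Nat.card D) * (c : ℝ) ^ 2) ≤
      (e : ℝ) * Nat.card w.M := by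
    have h1 : ((e : ℝ) * Nat.card K)⁻¹ * ((e : ℝ) * Nat.card K - (e : ℝ) ^ 2) =
        1 - (e : ℝ) / Nat.card K := by
      field_simp
    rw [h1] at hineq
    have h2 : (Nat.card w.M : ℝ)⁻¹ * (((Nat.card H : ℝ) - Nat.card D) * (c : ℝ) ^ 2) ≤
        (e : ℝ) / Nat.card K := by linarith
    rw [inv_mul_le_iff₀ hM0, mul_div_assoc', le_div_iff₀ hk0] at h2
    linarith
  -- the orders
  have hEL : E ≤ w.L := inf_le_left
  have hcardM : Nat.card w.M = Nat.card H * Nat.card E := by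
    have h := (TypeIWitness.isComplement'_of_isComplIn w.compl).card_mul_card
    rw [← h, ← CfsgLib.OddLocal.card_fittingHallOf,
      Nat.card_congr (Subgroup.subgroupOfEquivOfLe (inf_le_right : E ≤ w.M)).toEquiv]
  set t := Nat.card ↥(K ⊓ E) with ht
  set i := (K ⊓ E).relIndex K with hi
  set j := (K ⊓ E).relIndex E with hj
  have hki : Nat.card K = t * i := card_eq_mul inf_le_left
  have hEj : Nat.card E = t * j := card_eq_mul inf_le_right
  set m := D.relIndex H with hm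
  have hHm : Nat.card H = Nat.card D * m := card_eq_mul hDH
  have hjdvd : j ∣ e := by
    haveI : (K.subgroupOf w.L).Normal := by
      rw [hK, show (Cfsg.fittingHallOf w.L).subgroupOf w.L = Cfsg.fittingHall w.L from
        Subgroup.comap_map_eq_self_of_injective w.L.subtype_injective _]
      infer_instance
    rw [hj, Subgroup.inf_relIndex_right, he, ← CfsgLib.OddLocal.relIndex_fittingHallOf,
      ← Subgroup.relIndex_subgroupOf hEL]
    exact Subgroup.relIndex_dvd_index_of_normal _ _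
  have hiodd : Odd i := (hodd K).of_dvd_nat ⟨t, by rw [hki, mul_comm]⟩
  have hjodd : Odd j := (hodd E).of_dvd_nat ⟨t, by rw [hEj, mul_comm]⟩
  have hij : 3 * j ≤ i * e := by
    obtain ⟨s, hs⟩ := hiodd
    rcases Nat.eq_zero_or_pos s with hs0 | hs0
    swap
    · have hje : j ≤ e := Nat.le_of_dvd (by omega) hjdvd
      exact le_trans (Nat.mul_le_mul_left 3 hje) (Nat.mul_le_mul_right e (by omega))
    have hi1 : i = 1 := by omega
    obtain ⟨q, hq⟩ := hjdvd
    have hqodd : Odd q := heodd.of_dvd_nat ⟨j, by rw [hq, mul_comm]⟩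
    obtain ⟨r, hr⟩ := hqodd
    rcases Nat.eq_zero_or_pos r with hr0 | hr0
    swap
    · rw [hi1, one_mul, hq, mul_comm 3 j]
      exact Nat.mul_le_mul_left j (by omega)
    exfalso
    have hje : j = e := by rw [hq, show q = 1 by omega, mul_one]
    have hEL' : E = w.L := Subgroup.eq_of_le_of_card_ge hEL (by
      rw [hEj, hje, hcardL, hki, hi1, mul_one, mul_comm])
    have hLM : w.L ≤ w.M := hEL' ▸ inf_le_right
    rcases w.hL.le_iff.1 hLM with h | h
    · exact w.hM.1 h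
    · exact w.not_le (h ▸ w.cent_le)
  have hmodd : Odd m := (hodd H).of_dvd_nat ⟨Nat.card D, by rw [hHm, mul_comm]⟩
  have hm5 : 5 ≤ m := by
    have hne1 : m ≠ 1 := fun h => w.h₀_not (Subgroup.relIndex_eq_one.1 h w.h₀_mem)
    have hne3 : m ≠ 3 := relIndex_ne_three P w
    obtain ⟨s, hs⟩ := hmodd
    omega
  -- conclusion
  refine TypeIBoundPre.arith_final (e := (e : ℤ)) (c := c) (m := (m : ℤ)) hdvd
    (by exact_mod_cast he2) (by exact_mod_cast he3) (by exact_mod_cast hm5) ?_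
  have ht0 : (0 : ℝ) < t := by exact_mod_cast Nat.card_pos
  have hD0 : (0 : ℝ) < Nat.card D := by exact_mod_cast Nat.card_pos
  have hi0 : (0 : ℝ) < i := by exact_mod_cast hiodd.pos
  have hijR : 3 * (j : ℝ) ≤ (i : ℝ) * e := by exact_mod_cast hij
  rw [hcardM, hki, hEj, hHm] at hmain
  push_cast at hmain
  have h1 : (i : ℝ) * (((m : ℝ) - 1) * (c : ℝ) ^ 2) ≤ (e : ℝ) * m * j := by
    refine le_of_mul_le_mul_left ?_ (mul_pos ht0 hD0)
    linarith
  have h2 : (i : ℝ) * (3 * (c : ℝ) ^ 2 * ((m : ℝ) - 1)) ≤ (i : ℝ) * ((e : ℝ) ^ 2 * m) := by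
    have h3 := mul_le_mul_of_nonneg_left hijR (mul_nonneg he0.le (Nat.cast_nonneg m))
    linarith
  have h4 := le_of_mul_le_mul_left h2 hi0
  exact_mod_cast h4

end CfsgLib.OddChar.TypeIFrobenius

namespace CfsgLib.OddChar.TypeIFrobenius

universe v

/-- S1540 from its predecessors. -/
theorem typeI_frobenius {G : Type v} [Group G] [Finite G] (P : TypeIProps.Props G) :
    NotAllTypeI.TypeIFrobProp G := by
  have := Fintype.ofFinite G
  intro M hM hI
  by_contra hnf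
  obtain ⟨w⟩ := TypeIWitness.exists_witness P hM hI hnf
  exact witness_false P w

end CfsgLib.OddChar.TypeIFrobenius
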