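import Cfsg.Agent.Lib.OddChar.PairAct
import Cfsg.Agent.Lib.OddChar.TypeIFrobenius

/-!
# A pair of maximal subgroups of types II and III

`PairData S T W₁ W₂ U V q p`: everything used in the last two sections of the character theoretic
part of the odd order theorem.  The data is symmetric in the two sides (`symm`).
* `local_props`: the facts about maximal subgroups collected in `TypeIProps.Props`;
* `core_eq`: `M_s = M_σ`;
* `classes`: the other maximal subgroups are of Type I or conjugate to `S` or `T`;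
* `nu_S`, `nu_T`: `N_G(U) ≰ S` (Type II) or `S_s = S'` (Type III);
* `II_lt`: the member with the smaller `|W₁|` is of Type II.
-/

set_option autoImplicit false
set_option linter.unusedSectionVars false

namespace CfsgLib.OddChar.Pair

universe u

/-- The hypotheses on a pair. -/
structure PairData {G : Type u} [Group G] (S T W₁ W₂ U V : Subgroup G) (q p : ℕ) : Prop where
  side_S : Side S W₁ U W₂ q p
  side_T : Side T W₂ V W₁ p q
  inter : S ⊓ T = W₁ ⊔ W₂
  local_props : TypeIProps.Props G
  core_eq : ∀ M : Subgroup G, IsCoatom M → Cfsg.typeCore M = Cfsg.sigmaCore M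
  not_I_S : ¬ CfsgLib.OddLocal.S15.IsTypeICore S
  not_I_T : ¬ CfsgLib.OddLocal.S15.IsTypeICore T
  classes : ∀ M : Subgroup G, IsCoatom M → CfsgLib.OddLocal.S15.IsTypeICore M ∨
    ∃ g : G, M = S.map (MulAut.conj g).toMonoidHom ∨ M = T.map (MulAut.conj g).toMonoidHom
  nu_S : ¬ Subgroup.normalizer (U : Set G) ≤ S ∨ Cfsg.typeCore S = ⁅S, S⁆
  nu_T : ¬ Subgroup.normalizer (V : Set G) ≤ T ∨ Cfsg.typeCore T = ⁅T, T⁆
  II_lt_S : q < p → ¬ Subgroup.normalizer (U : Set G) ≤ S
  II_lt_T : p < q → ¬ Subgroup.normalizer (V : Set G) ≤ T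

namespace PairData

variable {G : Type u} [Group G] [Finite G] {S T W₁ W₂ U V : Subgroup G} {q p : ℕ}
variable (h : PairData S T W₁ W₂ U V q p)
include h

theorem symm : PairData T S W₂ W₁ V U p q where
  side_S := h.side_T
  side_T := h.side_S
  inter := by rw [inf_comm, h.inter, sup_comm]
  local_props := h.local_props
  core_eq := h.core_eq
  not_I_S := h.not_I_T
  not_I_T := h.not_I_S
  classes := fun M hM => (h.classes M hM).imp_right fun ⟨g, hg⟩ => ⟨g, hg.symm⟩
  nu_S := h.nu_T
  nu_T := h.nu_S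
  II_lt_S := h.II_lt_T
  II_lt_T := h.II_lt_S

theorem card_W : Nat.card ↥(W₁ ⊔ W₂) = q * p := by
  have hn : W₂ ≤ Subgroup.normalizer (W₁ : Set G) := fun z hz => Subgroup.mem_normalizer_iff.2
    fun w => by
      have key : ∀ x ∈ W₁, z * x * z⁻¹ = x := fun x hx => by
        rw [← h.side_S.W₁_comm_W₂ hx hz, mul_inv_cancel_right]
      refine ⟨fun hw => by rw [key w hw]; exact hw, fun hw => ?_⟩
      have h1 := key _ hw
      have h2 : z * w * z⁻¹ = w :=
        mul_left_cancel (a := z) (mul_right_cancel (b := z⁻¹) (by rw [h1]))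
      rwa [h2] at hw
  rw [OddLocal.card_of_isComplIn
    (OddLocal.isComplIn_sup hn h.side_S.data.selfNormalizing.2.2.1),
    h.side_S.card_W₁, h.side_S.card_W₂]

theorem odd_W : Odd (Nat.card ↥(W₁ ⊔ W₂)) := h.side_S.odd_of_le _

theorem frobenius : NotAllTypeI.TypeIFrobProp G :=
  TypeIFrobenius.typeI_frobenius h.local_props

end PairData

end CfsgLib.OddChar.Pair
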