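import Cfsg.Agent.Lib.OddChar.PairIneq
import Cfsg.Agent.Lib.OddChar.PairData
import Cfsg.Agent.Lib.OddChar.CyclicExists

/-!
# The density inequality

For the two sides of a pair, with `c = |C_U(S_F)|`, `u = |U : C_U(S_F)|`, `D = |C_V(T_F)|`,
`v = |V : C_V(T_F)|`:
`(1 - v / (D (q^p - 1)) - 1 / v) / p ≤ q u / (c (p^q - 1)) + (c - 1) / |S|`.
-/

set_option autoImplicit false
set_option linter.unusedSectionVars false

namespace CfsgLib.OddChar.Pair

open CfsgLib.Char CfsgLib.CharNormal CfsgLib.OddChar.CTI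
open scoped ComplexConjugate Classical

universe u

theorem hat_comm {G : Type u} [Group G] (W₁ W₂ : Subgroup G) : hat W₂ W₁ = hat W₁ W₂ := by
  ext z
  show z ∈ W₂ ⊔ W₁ ∧ z ∉ W₂ ∧ z ∉ W₁ ↔ z ∈ W₁ ⊔ W₂ ∧ z ∉ W₁ ∧ z ∉ W₂
  rw [sup_comm, and_comm (a := z ∉ W₂)]

theorem indFun_of_eq {G : Type u} [Group G] [Fintype G] {H K : Subgroup G} (e : H = K)
    (f : K → ℂ) :
    Cfsg.indFun K f = Cfsg.indFun H fun x => f (Subgroup.inclusion e.le x) := by
  subst e
  rfl

section Swap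

variable {G : Type u} [Group G] {W₁ W₂ : Subgroup G}

/-- A homomorphism of `W` seen on `W₂ ⊔ W₁`. -/
def swapHom (ω : ↥(W₁ ⊔ W₂) →* ℂˣ) : ↥(W₂ ⊔ W₁) →* ℂˣ :=
  ω.comp (Subgroup.inclusion (sup_comm W₂ W₁).le)

theorem swapHom_swapHom (ω : ↥(W₁ ⊔ W₂) →* ℂˣ) : swapHom (swapHom ω) = ω :=
  MonoidHom.ext fun _ => rfl

theorem swapHom_isRight {φ : ↥(W₁ ⊔ W₂) →* ℂˣ} (hφ : IsLeft W₁ W₂ φ) :
    IsRight W₂ W₁ (swapHom φ) :=
  fun _ hw => hφ _ hw

theorem swapHom_isLeft {ψ : ↥(W₁ ⊔ W₂) →* ℂˣ} (hψ : IsRight W₁ W₂ ψ) :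
    IsLeft W₂ W₁ (swapHom ψ) :=
  fun _ hw => hψ _ hw

theorem swapHom_ne_one {ω : ↥(W₁ ⊔ W₂) →* ℂˣ} (hω : ω ≠ 1) : swapHom ω ≠ 1 := fun e => hω (by
  rw [← swapHom_swapHom ω, e]; rfl)

/-- The family with the two factors exchanged. -/
def swapFam (χ : (↥(W₁ ⊔ W₂) →* ℂˣ) → (G → ℂ)) : (↥(W₂ ⊔ W₁) →* ℂˣ) → (G → ℂ) :=
  fun ω => χ (swapHom ω)

theorem swapFam_isFamily [Fintype G] {χ : (↥(W₁ ⊔ W₂) →* ℂˣ) → (G → ℂ)}
    (hχ : Cfsg.IsCyclicTIFamily W₁ W₂ χ) : Cfsg.IsCyclicTIFamily W₂ W₁ (swapFam χ) where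
  irr_or_neg := fun ω => hχ.irr_or_neg _
  orthonormal := fun ω ω' => by
    rw [swapFam, swapFam, hχ.orthonormal]
    by_cases e : ω = ω'
    · simp [e]
    · rw [if_neg e, if_neg fun e' => e (by rw [← swapHom_swapHom ω, e', swapHom_swapHom])]
  map_one := hχ.map_one
  eq_on := fun ω w h1 h2 =>
    hχ.eq_on (swapHom ω) (Subgroup.inclusion (sup_comm W₂ W₁).le w) h2 h1
  induced_eq := fun φ ψ hφ hψ hφ1 hψ1 => by
    have e := hχ.induced_eq (swapHom ψ) (swapHom φ) (swapHom_ne_one hψ) (swapHom_ne_one hφ)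
      (swapHom_isLeft (W₁ := W₂) (W₂ := W₁) hψ1) (swapHom_isRight (W₁ := W₂) (W₂ := W₁) hφ1)
    rw [indFun_of_eq (sup_comm W₁ W₂)]
    have ecomm : swapHom ψ * swapHom φ = swapHom (φ * ψ) :=
      MonoidHom.ext fun x => mul_comm (ψ (Subgroup.inclusion (sup_comm W₁ W₂).le x)) _
    rw [ecomm] at e
    refine Eq.trans (congrArg (Cfsg.indFun (W₁ ⊔ W₂)) ?_) (e.trans (funext fun g => ?_))
    · funext x
      simp only [swapHom, MonoidHom.comp_apply]
      ring
    · simp only [swapFam]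
      ring

end Swap

/-- The elements of `F(S)` different from `1`. -/
def fitSharp {G : Type u} [Group G] (S : Subgroup G) : Set G :=
  {x | x ∈ Cfsg.fittingOf S ∧ x ≠ 1}

theorem supp_subset {G : Type u} [Group G] (S W₁ W₂ : Subgroup G) :
    conjSet (supp S W₁ W₂) ⊆ conjSet (fitSharp S) ∪ conjSet (hat W₁ W₂) := by
  rintro g ⟨y, hy | ⟨s, -, hs⟩⟩
  · exact .inl ⟨y, hy⟩
  · exact .inr ⟨y * s⁻¹, by convert hs using 1; group⟩

namespace Side

variable {G : Type u} [Group G] [Fintype G] {S W₁ U W₂ : Subgroup G} {q p : ℕ}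
variable (h : Side S W₁ U W₂ q p)
include h

theorem sum_conj_fit {R : Type*} [CommRing R] (f : G → R)
    (hf : ∀ g y : G, f (y * g * y⁻¹) = f g) :
    (Nat.card S : R) * ∑ g ∈ Finset.univ.filter (· ∈ conjSet (fitSharp S)), f g =
      (Nat.card G : R) * ∑ x ∈ Finset.univ.filter (· ∈ fitSharp S), f x :=
  sum_conjSet S (fitSharp S)
    (fun _ hs _ hx => ⟨h.conj_mem_fitting hs hx.1, fun e => hx.2 (conj_eq_one_iff.1 e)⟩)
    (fun _ _ hx hgx => h.mem_of_conj hx.1 hx.2 hgx.1) f hf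

theorem sum_fitSharp [Fintype (fitS S)] {R : Type*} [AddCommMonoid R] (f : G → R) :
    ∑ x ∈ Finset.univ.filter (· ∈ fitSharp S), f x =
      ∑ y ∈ Finset.univ.erase (1 : fitS S), f ((y : S) : G) := by
  symm
  refine Finset.sum_bij (fun y _ => ((y : S) : G)) (fun y hy => ?_) (fun a _ b _ e => ?_)
    (fun x hx => ?_) fun y _ => rfl
  · simp only [Finset.mem_filter, Finset.mem_univ, true_and]
    exact ⟨y.2, fun e => (Finset.mem_erase.1 hy).1 (Subtype.ext (Subtype.ext e))⟩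
  · exact Subtype.ext (Subtype.ext e)
  · simp only [Finset.mem_filter, Finset.mem_univ, true_and] at hx
    refine ⟨⟨⟨x, h.fitting_le_S hx.1⟩, hx.1⟩, ?_, rfl⟩
    exact Finset.mem_erase.2 ⟨fun e => hx.2 (congrArg (fun t : fitS S => ((t : S) : G)) e),
      Finset.mem_univ _⟩

theorem card_fitSharp : ((Finset.univ.filter (· ∈ fitSharp S)).card : ℝ) =
    (p : ℝ) ^ q * Nat.card (centU S U) - 1 := by
  haveI := Fintype.ofFinite (fitS S)
  have e := h.sum_fitSharp (R := ℝ) fun _ => 1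
  simp only [Finset.sum_const, nsmul_eq_mul, mul_one] at e
  rw [e, Finset.card_erase_of_mem (Finset.mem_univ _), Finset.card_univ,
    ← Nat.card_eq_fintype_card, h.card_fitS, Nat.cast_sub (Nat.mul_pos h.pow_q_pos Nat.card_pos)]
  push_cast
  ring

theorem fit_hat_disjoint {g : G} (hg : g ∈ conjSet (fitSharp S)) :
    g ∉ conjSet (hat W₁ W₂) := by
  rintro ⟨x, hx⟩
  obtain ⟨y, hy⟩ := hg
  have e : (x⁻¹ * y) * (y⁻¹ * g * y) * (x⁻¹ * y)⁻¹ = x⁻¹ * g * x := by group
  have hs : x⁻¹ * y ∈ S := h.supp_ti (.inl hy) (by rw [e]; exact h.hat_supp hx)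
  refine h.not_mem_fitting hx.1 hx.2.2 ?_
  rw [← e]
  exact h.conj_mem_fitting hs hy.1

end Side

namespace PairData

variable {G : Type u} [Group G] [Fintype G] {S T W₁ W₂ U V : Subgroup G} {q p : ℕ}
variable (h : PairData S T W₁ W₂ U V q p)
include h

theorem fit_disjoint {g : G} (hg : g ∈ conjSet (fitSharp S)) : g ∉ conjSet (fitSharp T) := by
  rintro ⟨x, hx⟩
  obtain ⟨y, hy⟩ := hg
  set z := y⁻¹ * x with hz
  have e : y⁻¹ * g * y = z * (x⁻¹ * g * x) * z⁻¹ := by rw [hz]; group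
  have hle : (Cfsg.fittingHallOf T).map (MulAut.conj z).toMonoidHom ≤ S := by
    rintro _ ⟨f, hf, rfl⟩
    refine h.side_S.centralizer_le hy.1 hy.2 (Subgroup.mem_centralizer_singleton_iff.2 ?_)
    show z * f * z⁻¹ * (y⁻¹ * g * y) = y⁻¹ * g * y * (z * f * z⁻¹)
    rw [e]
    have := h.side_T.fitting_comm (h.side_T.P_le_fitting hf) hx.1
    calc z * f * z⁻¹ * (z * (x⁻¹ * g * x) * z⁻¹) = z * (f * (x⁻¹ * g * x)) * z⁻¹ := by group
      _ = _ := by rw [this]; group
  haveI := Fintype.ofFinite (fitS T)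
  have hcard : Nat.card (Cfsg.fittingHallOf T) = q ^ p := by
    have h1 := OddLocal.card_of_isComplIn h.side_T.fitting_compl
    rw [h.side_T.card_fitting] at h1
    exact (Nat.eq_of_mul_eq_mul_right Nat.card_pos h1).symm
  have hd : q ^ p ∣ Nat.card S := by
    rw [← hcard, Nat.card_congr (Subgroup.equivMapOfInjective (Cfsg.fittingHallOf T)
      (MulAut.conj z).toMonoidHom (MulAut.conj z).injective).toEquiv]
    exact Subgroup.card_dvd_of_le hle
  rw [h.side_S.card_S] at hd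
  have h2 : q ^ p ∣ q := ((h.side_S.coprime_q_derived).pow_left p).dvd_of_dvd_mul_left hd
  have h3 := Nat.le_of_dvd h.side_S.q_prime.pos h2
  have h4 := Nat.pow_lt_pow_right h.side_S.q_prime.one_lt h.side_S.p_prime.one_lt
  rw [pow_one] at h4
  omega

/-- The density inequality. -/
theorem density :
    (1 - ((centU T V).relIndex V : ℝ) / ((Nat.card (centU T V) : ℝ) * ((q : ℝ) ^ p - 1)) -
        1 / ((centU T V).relIndex V : ℝ)) / p ≤
      (q : ℝ) * (centU S U).relIndex U / ((Nat.card (centU S U) : ℝ) * ((p : ℝ) ^ q - 1)) +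
        ((Nat.card (centU S U) : ℝ) - 1) / Nat.card S := by
  haveI := Fintype.ofFinite S
  haveI := Fintype.ofFinite (fitS S)
  haveI := Fintype.ofFinite T
  haveI := Fintype.ofFinite (fitS T)
  have hW := h.side_S.data.selfNormalizing
  obtain ⟨χ, hχ⟩ := CTI.exists_family hW h.odd_W
  have hχ' := swapFam_isFamily hχ
  obtain ⟨φ, hφ, hφ1⟩ : ∃ φ, IsLeft W₁ W₂ φ ∧ φ ≠ 1 := by
    obtain ⟨z, hz, hz1⟩ : ∃ φ ∈ leftChars hW, φ ≠ 1 := Finset.exists_mem_ne
      (by rw [card_leftChars, h.side_S.card_W₁]; exact h.side_S.q_prime.one_lt) 1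
    exact ⟨z, (mem_leftChars hW).1 hz, hz1⟩
  obtain ⟨ψ, hψ, hψ1⟩ := h.side_S.exists_base hχ
  have hcl : ∀ ω : ↥(W₁ ⊔ W₂) →* ℂˣ, ∀ g y : G, χ ω (y * g * y⁻¹) = χ ω g :=
    fun ω g y => isClassFun hW hχ ω g y
  set L := leftChars hW with hL
  have hLc : L.card = q := by rw [hL, card_leftChars, h.side_S.card_W₁]
  set Ψ : G → ℂ := fun g => ∑ φ' ∈ L, χ (φ' * ψ) g with hΨ
  set a : G → ℝ := fun g => ‖χ φ g‖ ^ 2 with ha
  set b : G → ℝ := fun g => ‖Ψ g‖ ^ 2 with hb
  have hacl : ∀ g y : G, a (y * g * y⁻¹) = a g := fun g y => by simp only [ha, hcl]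
  have hbcl : ∀ g y : G, b (y * g * y⁻¹) = b g := fun g y => by simp only [hb, hΨ, hcl]
  -- the norms
  have hG0 : (Nat.card G : ℂ) ≠ 0 := by exact_mod_cast Nat.card_pos.ne'
  have hnorm : ∀ f : G → ℂ, ∀ k : ℕ, Cfsg.classInner f f = k →
      ∑ g, ‖f g‖ ^ 2 = (Nat.card G : ℝ) * k := by
    intro f k hk
    rw [classInner_def, inv_mul_eq_iff_eq_mul₀ hG0] at hk
    have e : ∀ g, f g * conj (f g) = ((‖f g‖ ^ 2 : ℝ) : ℂ) := fun g => by
      rw [Complex.mul_conj']; push_cast; rfl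
    simp only [e, ← Complex.ofReal_sum] at hk
    exact_mod_cast hk
  have hasum : ∑ g, a g = Nat.card G := by
    have := hnorm (χ φ) 1 (by rw [hχ.orthonormal, if_pos rfl, Nat.cast_one])
    simpa using this
  have hbsum : ∑ g, b g = Nat.card G * q := by
    refine hnorm Ψ q ?_
    have e : Cfsg.classInner Ψ Ψ =
        ∑ x ∈ L, ∑ y ∈ L, Cfsg.classInner (χ (x * ψ)) (χ (y * ψ)) := by
      simp only [classInner_def, hΨ, map_sum, Finset.sum_mul, Finset.mul_sum]
      refine Finset.sum_comm.trans ?_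
      refine (Finset.sum_congr rfl fun y _ => Finset.sum_comm).trans ?_
      exact Finset.sum_comm
    have h1 : ∀ x ∈ L, ∑ y ∈ L, Cfsg.classInner (χ (x * ψ)) (χ (y * ψ)) = 1 := by
      intro x hx
      rw [Finset.sum_eq_single x (fun y _ hy => by
          rw [hχ.orthonormal, if_neg fun e => hy (mul_right_cancel e).symm])
        (fun hh => absurd hx hh), hχ.orthonormal, if_pos rfl]
    rw [e, Finset.sum_congr rfl h1, Finset.sum_const, hLc, nsmul_eq_mul, mul_one]
  -- the pointwise bound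
  have hpt : ∀ g, g ∉ conjSet (fitSharp S) → g ∉ conjSet (fitSharp T) →
      g ∉ conjSet (hat W₁ W₂) → 1 ≤ a g + b g := by
    intro g hgA hgB hgH
    have hgS : g ∉ conjSet (supp S W₁ W₂) := fun hh =>
      (supp_subset _ _ _ hh).elim hgA hgH
    have hgT : g ∉ conjSet (supp T W₂ W₁) := fun hh =>
      (supp_subset _ _ _ hh).elim hgB (by rw [hat_comm]; exact hgH)
    obtain ⟨n, hn⟩ := h.side_S.off_int hχ hgS hψ hψ1
    have hind : ∀ φ', IsLeft W₁ W₂ φ' → φ' ≠ 1 → χ φ' g = χ φ g := by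
      intro φ' hφ' hφ'1
      have e := h.side_T.off_indep hχ' hgT (isLeft_one (W₁ := W₂) (W₂ := W₁))
        (swapHom_isRight hφ') (swapHom_isRight hφ) (swapHom_ne_one hφ'1) (swapHom_ne_one hφ1)
      rwa [hom_one_mul, hom_one_mul, swapFam, swapFam, swapHom_swapHom, swapHom_swapHom] at e
    obtain ⟨m, hm⟩ := h.side_T.off_int hχ' hgT (swapHom_isRight hφ) (swapHom_ne_one hφ1)
    rw [swapFam, swapHom_swapHom] at hm
    rcases eq_or_ne m 0 with rfl | hm0
    · refine le_add_of_nonneg_of_le (sq_nonneg _) ?_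
      have hval : ∀ φ' ∈ L, χ (φ' * ψ) g =
          ((n - 1 : ℤ) : ℂ) + if φ' = 1 then 1 else 0 := by
        intro φ' hφ'
        rw [value_eq hW hχ ((mem_leftChars hW).1 hφ') hψ (fun x hx => hgH ⟨x, hx⟩), hn]
        split_ifs with e
        · subst e; rw [hχ.map_one]; push_cast; ring
        · rw [hind φ' ((mem_leftChars hW).1 hφ') e, hm]; push_cast; ring
      have h1 : Ψ g = (((q : ℤ) * (n - 1) + 1 : ℤ) : ℂ) := by
        rw [hΨ]
        show ∑ φ' ∈ L, χ (φ' * ψ) g = _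
        rw [Finset.sum_congr rfl hval, Finset.sum_add_distrib, Finset.sum_const, hLc,
          Finset.sum_ite_eq' L 1, if_pos ((mem_leftChars hW).2 isLeft_one), nsmul_eq_mul]
        push_cast
        ring
      simp only [hb, h1, Complex.norm_intCast, sq_abs]
      have hne : (q : ℤ) * (n - 1) + 1 ≠ 0 := fun e => by
        have : (q : ℤ) ∣ 1 := ⟨-(n - 1), by linear_combination e⟩
        have := Int.le_of_dvd one_pos this
        have := h.side_S.three_le_q
        omega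
      exact_mod_cast one_le_sq_int hne
    · refine le_add_of_le_of_nonneg ?_ (sq_nonneg _)
      simp only [ha, hm, Complex.norm_intCast, sq_abs]
      exact_mod_cast one_le_sq_int hm0
  -- splitting
  set cA := Finset.univ.filter (· ∈ conjSet (fitSharp S)) with hcA
  set cB := Finset.univ.filter (· ∈ conjSet (fitSharp T)) with hcB
  set cH := Finset.univ.filter (· ∈ conjSet (hat W₁ W₂)) with hcH
  have hd1 : Disjoint cA cB := Finset.disjoint_left.2 fun g hg hg' =>
    h.fit_disjoint (Finset.mem_filter.1 hg).2 (Finset.mem_filter.1 hg').2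
  have hd2 : Disjoint (cA ∪ cB) cH := Finset.disjoint_left.2 fun g hg hg' => by
    rcases Finset.mem_union.1 hg with hg | hg
    · exact h.side_S.fit_hat_disjoint (Finset.mem_filter.1 hg).2 (Finset.mem_filter.1 hg').2
    · refine h.side_T.fit_hat_disjoint (Finset.mem_filter.1 hg).2 ?_
      rw [hat_comm]; exact (Finset.mem_filter.1 hg').2
  set f : G → ℝ := fun g => a g + b g - 1 with hf
  have hsplit : ∑ g ∈ cA, f g + ∑ g ∈ cB, f g + ∑ g ∈ cH, f g ≤ ∑ g, f g := by
    rw [← Finset.sum_union hd1, ← Finset.sum_union hd2]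
    refine Finset.sum_le_sum_of_subset_of_nonneg (Finset.subset_univ _) fun g _ hg => ?_
    simp only [hcA, hcB, hcH, Finset.mem_union, Finset.mem_filter, Finset.mem_univ, true_and,
      not_or] at hg
    have := hpt g hg.1.1 hg.1.2 hg.2
    simp only [hf]
    linarith
  have hH : 0 ≤ ∑ g ∈ cH, f g := by
    refine Finset.sum_nonneg fun g hg => ?_
    obtain ⟨y, hy⟩ := (Finset.mem_filter.1 hg).2
    have e : ‖χ φ g‖ = 1 := by
      have h1 : χ φ g = χ φ (y⁻¹ * g * y) := by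
        have := hcl φ g y⁻¹
        rw [inv_inv] at this
        exact this.symm
      rw [h1, value_hat hW hχ φ hy]
      exact norm_eq_one_of_pow_eq_one' (orderOf_pos (⟨_, hy.1⟩ : ↥(W₁ ⊔ W₂))).ne' (by
        rw [← Units.val_pow_eq_pow_val, ← map_pow, pow_orderOf_eq_one, map_one, Units.val_one])
    simp only [hf, ha, e, hb]
    have := sq_nonneg ‖Ψ g‖
    linarith
  have htot : ∑ g, f g = Nat.card G * q := by
    simp only [hf]
    rw [Finset.sum_sub_distrib, Finset.sum_add_distrib, hasum, hbsum, Finset.sum_const,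
      Finset.card_univ, nsmul_eq_mul, Nat.card_eq_fintype_card]
    ring
  -- the two sides
  have hSA := h.side_S.sum_conj_fit f fun g y => by simp only [hf, hacl, hbcl]
  have hTB := h.side_T.sum_conj_fit f fun g y => by simp only [hf, hacl, hbcl]
  set c := (Nat.card (centU S U) : ℝ) with hc
  set ub := ((centU S U).relIndex U : ℝ) with hub
  set D := (Nat.card (centU T V) : ℝ) with hD
  set vb := ((centU T V).relIndex V : ℝ) with hvb
  set FS := (p : ℝ) ^ q * c with hFS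
  set FT := (q : ℝ) ^ p * D with hFT
  have hA : c * ((p : ℝ) ^ q - 1) + FS * ((q : ℝ) ^ 2 * (ub * (1 - ub / (c * ((p : ℝ) ^ q - 1)))))
      - (FS - 1) ≤ ∑ x ∈ Finset.univ.filter (· ∈ fitSharp S), f x := by
    simp only [hf]
    rw [Finset.sum_sub_distrib, Finset.sum_add_distrib, Finset.sum_const, nsmul_eq_mul, mul_one,
      h.side_S.card_fitSharp, ← hc]
    refine sub_le_sub_right (add_le_add ?_ ?_) _
    · refine (h.side_S.sum_left_ge hχ hφ).trans ?_
      rw [h.side_S.sum_fitSharp]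
      refine Finset.sum_le_sum_of_subset_of_nonneg (fun x hx => Finset.mem_erase.2
        ⟨fun e => (Finset.mem_filter.1 hx).2 (e ▸ one_mem _), Finset.mem_univ _⟩)
        fun x _ _ => sq_nonneg _
    · have := h.side_S.sum_rowSum_ge hχ hψ hψ1
      rw [h.side_S.card_fitS] at this
      push_cast at this
      rw [h.side_S.sum_fitSharp]
      exact this
  have hB : FT * (vb * (1 - vb / (D * ((q : ℝ) ^ p - 1)))) - (FT - 1) ≤
      ∑ x ∈ Finset.univ.filter (· ∈ fitSharp T), f x := by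
    simp only [hf]
    rw [Finset.sum_sub_distrib, Finset.sum_add_distrib, Finset.sum_const, nsmul_eq_mul, mul_one,
      h.side_T.card_fitSharp, ← hD]
    refine sub_le_sub_right (le_add_of_le_of_nonneg ?_ (Finset.sum_nonneg fun x _ => sq_nonneg _)) _
    have := h.side_T.sum_member_ge hχ' (isLeft_one (W₁ := W₂) (W₂ := W₁)) (swapHom_isRight hφ)
      (swapHom_ne_one hφ1)
    simp only [hom_one_mul, swapFam, swapHom_swapHom] at this
    rw [h.side_T.card_fitS] at this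
    push_cast at this
    rw [h.side_T.sum_fitSharp]
    exact this
  -- conclusion
  have hSc : (Nat.card S : ℝ) = FS * ub * q := by
    rw [hFS, h.side_S.card_S, ← h.side_S.relIndex_centU_mul, hc, hub]; push_cast; ring
  have hTc : (Nat.card T : ℝ) = FT * vb * p := by
    rw [hFT, h.side_T.card_S, ← h.side_T.relIndex_centU_mul, hD, hvb]; push_cast; ring
  have hS0 : (0 : ℝ) < Nat.card S := by exact_mod_cast Nat.card_pos
  have hT0 : (0 : ℝ) < Nat.card T := by exact_mod_cast Nat.card_pos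
  have hg0 : (0 : ℝ) < Nat.card G := by exact_mod_cast Nat.card_pos
  set sA := ∑ x ∈ Finset.univ.filter (· ∈ fitSharp S), f x
  set sB := ∑ x ∈ Finset.univ.filter (· ∈ fitSharp T), f x
  have key : sA / Nat.card S + sB / Nat.card T ≤ q := by
    have e1 : ∑ g ∈ cA, f g = Nat.card G * (sA / Nat.card S) := by
      rw [← mul_div_assoc, eq_div_iff hS0.ne', ← hSA, hcA]; ring
    have e2 : ∑ g ∈ cB, f g = Nat.card G * (sB / Nat.card T) := by
      rw [← mul_div_assoc, eq_div_iff hT0.ne', ← hTB, hcB]; ring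
    rw [e1, e2, htot] at hsplit
    exact le_of_mul_le_mul_left (by linarith) hg0
  have hp0 : (0 : ℝ) < p := by exact_mod_cast h.side_S.p_prime.pos
  have hq0 : (0 : ℝ) < q := by exact_mod_cast h.side_S.q_prime.pos
  have hub0 : (0 : ℝ) < ub := by
    rw [hub]; have := h.side_S.two_q_lt_relIndex; exact_mod_cast (by omega : 0 < _)
  have hvb0 : (0 : ℝ) < vb := by
    rw [hvb]; have := h.side_T.two_q_lt_relIndex; exact_mod_cast (by omega : 0 < _)
  have hFT0 : 0 < FT := mul_pos (pow_pos hq0 p) (by rw [hD]; exact_mod_cast Nat.card_pos)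
  have hFS0 : 0 < FS := mul_pos (pow_pos hp0 q) (by rw [hc]; exact_mod_cast Nat.card_pos)
  have a1 := div_le_div_of_nonneg_right hA hS0.le
  have b1 := div_le_div_of_nonneg_right hB hT0.le
  have a2 : (c * ((p : ℝ) ^ q - 1) + FS * ((q : ℝ) ^ 2 * (ub * (1 - ub / (c * ((p : ℝ) ^ q - 1)))))
      - (FS - 1)) / Nat.card S =
      (1 - c) / Nat.card S + q * (1 - ub / (c * ((p : ℝ) ^ q - 1))) := by
    rw [eq_comm, div_add' _ _ _ hS0.ne']
    congr 1
    rw [hSc, hFS]
    ring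
  have b2 : (FT * (vb * (1 - vb / (D * ((q : ℝ) ^ p - 1)))) - (FT - 1)) / Nat.card T =
      (1 - vb / (D * ((q : ℝ) ^ p - 1)) - 1 / vb) / p + 1 / Nat.card T := by
    rw [hTc]
    field_simp
    ring
  have ht : 0 ≤ 1 / (Nat.card T : ℝ) := by positivity
  have e3 : (c - 1) / (Nat.card S : ℝ) = -((1 - c) / Nat.card S) := by ring
  rw [e3, mul_div_assoc]
  linarith

end PairData

end CfsgLib.OddChar.Pair
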