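import Cfsg.Agent.Lib.OddChar.PairFpf

/-!
# The order of `U`

For `q < p`, with `N = (p^q - 1)/(p - 1)`:
* `irreducible`: `U` normalises no proper non-trivial subgroup of `S_F`;
* `card_U_dvd`: `|U| (p - 1) ∣ p^q - 1`;
* `exists_cofactor`: `|U| w = N` with `w ∈ {1, q}`.
-/

set_option autoImplicit false
set_option linter.unusedSectionVars false

namespace CfsgLib.OddChar.Pair

universe u

theorem geom_mod_or (p q : ℕ) [Fact q.Prime] (hp : 1 ≤ p) :
    (p ^ q - 1) / (p - 1) % q = 1 ∨ (p ^ q - 1) / (p - 1) % q = 0 := by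
  by_cases hne : (p : ZMod q) = 1
  · refine Or.inr ?_
    rcases eq_or_lt_of_le hp with rfl | hlt
    · simp
    rw [← Nat.geomSum_eq hlt q, ← ZMod.val_natCast]
    push_cast
    simp [hne]
  · exact Or.inl (geom_mod p q hp hne)

theorem geom_mod_self (p q : ℕ) (hp : 2 ≤ p) (hq : 1 ≤ q) :
    (p ^ q - 1) / (p - 1) % p = 1 := by
  obtain ⟨n, rfl⟩ := Nat.exists_eq_add_of_le hq
  rw [← Nat.geomSum_eq hp, show 1 + n = n + 1 by omega, Finset.sum_range_succ', pow_zero,
    Finset.sum_congr rfl fun i _ => pow_succ p i, ← Finset.sum_mul, Nat.add_mod,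
    Nat.mul_mod_left, zero_add, Nat.mod_mod, Nat.one_mod_eq_one.2 (by omega)]

theorem geom_mod_two (p q : ℕ) (hp : p % 2 = 1) (hq : q % 2 = 1) (hp1 : 2 ≤ p) :
    (p ^ q - 1) / (p - 1) % 2 = 1 := by
  rw [← Nat.geomSum_eq hp1, Finset.sum_nat_mod, Finset.sum_congr rfl fun i _ =>
    show p ^ i % 2 = 1 by simp [Nat.pow_mod, hp]]
  simp [hq]

namespace PairData

variable {G : Type u} [Group G] [Finite G] {S T W₁ W₂ U V : Subgroup G} {q p : ℕ}
variable (h : PairData S T W₁ W₂ U V q p)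
include h

theorem conj_mem_P_U {x a : G} (hx : x ∈ U) (ha : a ∈ Cfsg.fittingHallOf S) :
    x * a * x⁻¹ ∈ Cfsg.fittingHallOf S := h.side_S.conj_mem_P (h.side_S.U_le hx) ha

/-- `U` acts irreducibly on `S_F`. -/
theorem irreducible (hqp : q < p) {X : Subgroup G} (hX : X ≤ Cfsg.fittingHallOf S)
    (hXn : ∀ u ∈ U, ∀ x ∈ X, u * x * u⁻¹ ∈ X) (hXne : X ≠ ⊥) : X = Cfsg.fittingHallOf S := by
  classical
  have hS := h.side_S
  haveI := Fact.mk hS.p_prime
  haveI := Fintype.ofFinite G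
  set P := Cfsg.fittingHallOf S with hP
  obtain ⟨d, hdq, hd⟩ := (Nat.dvd_prime_pow hS.p_prime).1
    (hS.P_card ▸ Subgroup.card_dvd_of_le hX)
  rcases eq_or_lt_of_le hdq with rfl | hlt
  · exact Subgroup.eq_of_le_of_card_ge hX (by rw [hd, hS.P_card])
  exfalso
  have hd0 : d ≠ 0 := fun e => hXne (Subgroup.card_eq_one.1 (by rw [hd, e, pow_zero]))
  letI : MulAction U {x : X // x ≠ 1} :=
    { smul := fun u x => ⟨⟨(u : G) * (x.1 : G) * (u : G)⁻¹, hXn u u.2 _ x.1.2⟩, fun e => x.2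
        (Subtype.ext (conj_eq_one_iff.1 (congrArg Subtype.val e)))⟩
      one_smul := fun x => Subtype.ext (Subtype.ext
        (show ((1 : U) : G) * (x.1 : G) * ((1 : U) : G)⁻¹ = x.1 by simp))
      mul_smul := fun a b x => Subtype.ext (Subtype.ext
        (show ((a * b : U) : G) * (x.1 : G) * ((a * b : U) : G)⁻¹ =
          (a : G) * ((b : G) * (x.1 : G) * (b : G)⁻¹) * (a : G)⁻¹ by simp [mul_assoc])) }
  have h1 : Nat.card U ∣ p ^ d - 1 := by
    have h0 := RankTwoLines.dvd_of_free (D := U) (X := {x : X // x ≠ 1}) fun u x hux => by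
      by_contra hu
      refine x.2 (Subtype.ext (h.fpf_elem u.2 (fun e => hu (Subtype.ext e)) (hX x.1.2) ?_))
      exact mul_inv_eq_iff_eq_mul.1
        (congrArg (fun t : {x : X // x ≠ 1} => ((t.1 : X) : G)) hux)
    rwa [Nat.card_eq_fintype_card (α := {x : X // x ≠ 1}), Fintype.card_subtype_compl,
      Fintype.card_subtype_eq, ← Nat.card_eq_fintype_card, hd] at h0
  have h2 : Nat.card U ∣ p ^ q - 1 := h.relIndex_eq_card ▸ hS.relIndex_dvd h.fpf
  have h3 : Nat.card U ∣ p - 1 := by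
    have := Nat.dvd_gcd h1 h2
    rwa [Nat.pow_sub_one_gcd_pow_sub_one,
      ((hS.q_prime.coprime_iff_not_dvd).2 fun hdvd => by
        have := Nat.le_of_dvd (Nat.pos_of_ne_zero hd0) hdvd; omega).symm.gcd_eq_one,
      pow_one] at this
  have h4 := two_mul_le_of_dvd hS.p_prime hS.p_ne_two (Nat.odd_iff.1 (hS.odd_of_le U)) h3
  have h5 := h.index_S hqp
  rw [h.relIndex_eq_card] at h5
  have hp5 := h.five_le_p hqp
  have hbound : ∀ n : ℕ, 3 ≤ n → n + 1 ≤ p ^ (n - 2) := by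
    intro n hn
    induction n, hn using Nat.le_induction with
    | base => rw [pow_one]; omega
    | succ n hn ih =>
      rw [show n + 1 - 2 = n - 2 + 1 by omega, pow_succ]
      have := Nat.mul_le_mul ih (show 2 ≤ p by omega)
      omega
  have h6 : p ^ q = p ^ (q - 2) * (p * p) := by
    rw [← pow_two, ← pow_add]; congr 1; have := hS.three_le_q; omega
  have h7 := hbound q hS.three_le_q
  have h8 : (2 * q + 1) * (Nat.card U * (p - 1)) * 2 ≤ (2 * q + 1) * ((p - 1) * (p - 1)) := by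
    calc (2 * q + 1) * (Nat.card U * (p - 1)) * 2
        = (2 * q + 1) * ((2 * Nat.card U) * (p - 1)) := by ring
      _ ≤ _ := Nat.mul_le_mul_left _ (Nat.mul_le_mul_right _ h4)
  have h9 : (2 * q + 1) * ((p - 1) * (p - 1)) + 1 * (p * p) ≤ (2 * q + 1) * (p * p) + p * p := by
    have := Nat.mul_le_mul (Nat.sub_le p 1) (Nat.sub_le p 1)
    have := Nat.mul_le_mul_left (2 * q + 1) this
    omega
  have h10 : (2 * q + 1) * (p * p) + p * p ≤ 2 * p ^ q := by
    rw [h6]
    have := Nat.mul_le_mul_right (p * p) h7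
    calc (2 * q + 1) * (p * p) + p * p = 2 * ((q + 1) * (p * p)) := by ring
      _ ≤ _ := Nat.mul_le_mul_left 2 this
  have h11 : 25 ≤ p * p := Nat.mul_le_mul hp5 hp5
  omega

/-- `|U| (p - 1)` divides `p^q - 1`. -/
theorem card_U_dvd (hqp : q < p) : Nat.card U * (p - 1) ∣ p ^ q - 1 := by
  classical
  have hS := h.side_S
  haveI := Fact.mk hS.p_prime
  haveI := Fintype.ofFinite G
  set P := Cfsg.fittingHallOf S with hP
  have hpow : ∀ (v : G), v ∈ P → ∀ a b : ℕ, a % p = b % p → v ^ a = v ^ b := by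
    intro v hv a b hab
    rcases eq_or_ne v 1 with rfl | hv1
    · simp
    rw [pow_eq_pow_iff_modEq, hS.orderOf_P hv hv1]
    exact hab
  have hmem : ∀ (d : U × (ZMod p)ˣ) (v : P),
      (d.1 : G) * (v : G) ^ ((d.2 : ZMod p).val) * (d.1 : G)⁻¹ ∈ P := fun d v =>
    h.conj_mem_P_U d.1.2 (pow_mem v.2 _)
  have hval : ∀ m : (ZMod p)ˣ, ((m : ZMod p).val).Coprime p := fun m =>
    ((hS.p_prime.coprime_iff_not_dvd).2 fun hd => by
      have h1 : ((m : ZMod p).val : ZMod p) = 0 := (ZMod.natCast_eq_zero_iff _ _).2 hd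
      rw [ZMod.natCast_zmod_val] at h1
      exact m.ne_zero h1).symm
  have hne : ∀ (m : (ZMod p)ˣ) (v : G), v ∈ P → v ≠ 1 → v ^ (m : ZMod p).val ≠ 1 := by
    intro m v hv hv1 e
    have := orderOf_dvd_of_pow_eq_one e
    rw [hS.orderOf_P hv hv1] at this
    exact hS.p_prime.ne_one (Nat.eq_one_of_dvd_coprimes (hval m) this dvd_rfl)
  letI : MulAction (U × (ZMod p)ˣ) {v : P // v ≠ 1} :=
    { smul := fun d v => ⟨⟨_, hmem d v.1⟩, fun e => hne d.2 v.1 v.1.2
        (fun e' => v.2 (Subtype.ext e')) (conj_eq_one_iff.1 (congrArg Subtype.val e))⟩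
      one_smul := fun v => Subtype.ext (Subtype.ext
        (show ((1 : U) : G) * (v.1 : G) ^ ((((1 : (ZMod p)ˣ)) : ZMod p)).val * ((1 : U) : G)⁻¹ =
          (v.1 : G) by simp [ZMod.val_one]))
      mul_smul := fun d e v => Subtype.ext (Subtype.ext
        (show ((d.1 * e.1 : U) : G) * (v.1 : G) ^ (((d.2 * e.2 : (ZMod p)ˣ)) : ZMod p).val *
            ((d.1 * e.1 : U) : G)⁻¹ =
          (d.1 : G) * ((e.1 : G) * (v.1 : G) ^ ((e.2 : ZMod p)).val * (e.1 : G)⁻¹) ^
            ((d.2 : ZMod p)).val * (d.1 : G)⁻¹ by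
          rw [conj_pow, ← pow_mul, hpow _ v.1.2 _ (((e.2 : ZMod p)).val * ((d.2 : ZMod p)).val) (by
            rw [Units.val_mul, ZMod.val_mul, Nat.mod_mod, mul_comm])]
          simp [mul_assoc])) }
  have h0 := RankTwoLines.dvd_of_free (D := U × (ZMod p)ˣ) (X := {v : P // v ≠ 1}) fun d v hdv => by
    obtain ⟨⟨x, hx⟩, m⟩ := d
    set n := (m : ZMod p).val with hn
    have he : x * (v.1 : G) ^ n * x⁻¹ = v.1 :=
      congrArg (fun t : {v : P // v ≠ 1} => ((t.1 : P) : G)) hdv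
    let X : Subgroup G :=
      { carrier := {a | a ∈ P ∧ x * a ^ n * x⁻¹ = a}
        one_mem' := ⟨one_mem _, by simp⟩
        mul_mem' := fun {a b} ha hb => ⟨mul_mem ha.1 hb.1, by
          rw [(show Commute a b from hS.P_comm ha.1 hb.1).mul_pow]
          calc x * (a ^ n * b ^ n) * x⁻¹ = (x * a ^ n * x⁻¹) * (x * b ^ n * x⁻¹) := by group
            _ = a * b := by rw [ha.2, hb.2]⟩
        inv_mem' := fun {a} ha => ⟨inv_mem ha.1, by
          rw [inv_pow]
          calc x * (a ^ n)⁻¹ * x⁻¹ = (x * a ^ n * x⁻¹)⁻¹ := by group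
            _ = a⁻¹ := by rw [ha.2]⟩ }
    have hXP : X = P := by
      refine h.irreducible hqp (fun a ha => ha.1) (fun u hu a ha => ?_) ?_
      · refine ⟨h.conj_mem_P_U hu ha.1, ?_⟩
        have hux : x * u = u * x := hS.U_mul_comm hx hu
        calc x * (u * a * u⁻¹) ^ n * x⁻¹ = (x * u) * a ^ n * (x * u)⁻¹ := by rw [conj_pow]; group
          _ = u * (x * a ^ n * x⁻¹) * u⁻¹ := by rw [hux]; group
          _ = u * a * u⁻¹ := by rw [ha.2]
      · intro e
        have : (v.1 : G) ∈ X := ⟨v.1.2, he⟩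
        rw [e, Subgroup.mem_bot] at this
        exact v.2 (Subtype.ext this)
    have hall : ∀ a ∈ P, x * a ^ n * x⁻¹ = a := fun a ha => (hXP.ge ha).2
    -- `x` commutes with `W₁`
    obtain ⟨w, hw, hw1⟩ := hS.exists_W₁
    have hwS := hS.W₁_le hw
    have hx' : ∀ a ∈ P, (w * x * w⁻¹) * a ^ n * (w * x * w⁻¹)⁻¹ = a := fun a ha => by
      have hb := hS.conj_mem_P (inv_mem hwS) ha
      rw [inv_inv] at hb
      calc (w * x * w⁻¹) * a ^ n * (w * x * w⁻¹)⁻¹
          = w * (x * (w⁻¹ * a * w) ^ n * x⁻¹) * w⁻¹ := by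
            rw [show (w⁻¹ * a * w) ^ n = w⁻¹ * a ^ n * w by
              simpa using (conj_pow (a := w⁻¹) (b := a) (i := n))]
            group
        _ = a := by rw [hall _ hb]; group
    have hx1 : x = 1 := by
      refine hS.fixed_U hw hw1 hx (mul_inv_eq_iff_eq_mul.1 ?_)
      by_contra hne'
      set y := x⁻¹ * (w * x * w⁻¹) with hy
      have hy1 : y ≠ 1 := fun e => hne' (inv_mul_eq_one.1 e).symm
      obtain ⟨z, hz, hz1⟩ := hS.exists_W₂
      refine hne m z (hS.W₂_le_P hz) hz1 ?_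
      have hyU : y ∈ U := mul_mem (inv_mem hx) (hS.conj_mem_U hw hx)
      refine h.fpf_elem hyU hy1 (pow_mem (hS.W₂_le_P hz) n) (mul_inv_eq_iff_eq_mul.1 ?_)
      calc y * z ^ n * y⁻¹ = x⁻¹ * ((w * x * w⁻¹) * z ^ n * (w * x * w⁻¹)⁻¹) * x := by
            rw [hy]; group
        _ = x⁻¹ * (x * z ^ n * x⁻¹) * x := by rw [hx' z (hS.W₂_le_P hz), hall z (hS.W₂_le_P hz)]
        _ = z ^ n := by group
    subst hx1
    have hm : m = 1 := by
      have e1 : (v.1 : G) ^ n = (v.1 : G) ^ 1 := by simpa using he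
      rw [pow_eq_pow_iff_modEq, hS.orderOf_P v.1.2 (fun e => v.2 (Subtype.ext e)), Nat.ModEq,
        Nat.one_mod_eq_one.2 hS.p_prime.ne_one, Nat.mod_eq_of_lt (ZMod.val_lt _)] at e1
      ext
      rw [Units.val_one, ← ZMod.natCast_zmod_val (m : ZMod p), e1, Nat.cast_one]
    subst hm
    rfl
  rwa [Nat.card_prod, Nat.card_eq_fintype_card (α := (ZMod p)ˣ), ZMod.card_units,
    Nat.card_eq_fintype_card (α := {v : P // v ≠ 1}), Fintype.card_subtype_compl,
    Fintype.card_subtype_eq, ← Nat.card_eq_fintype_card, hP, hS.P_card] at h0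

/-- `|U| w = N` with `w ∈ {1, q}`. -/
theorem exists_cofactor (hqp : q < p) :
    ∃ w, Nat.card U * w = (p ^ q - 1) / (p - 1) ∧ (w = 1 ∨ w = q) := by
  have hS := h.side_S
  haveI := Fact.mk hS.q_prime
  have hp5 := h.five_le_p hqp
  obtain ⟨w, hw⟩ := h.card_U_dvd hqp
  have hN := pow_sub_one_div_mul p q
  have e : Nat.card U * w = (p ^ q - 1) / (p - 1) :=
    Nat.eq_of_mul_eq_mul_right (show 0 < p - 1 by omega) (by rw [hN, hw]; ring)
  refine ⟨w, e, ?_⟩
  have hu := hS.card_U_mod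
  have h2 : (p ^ q - 1) / (p - 1) % 2 = 1 :=
    geom_mod_two p q (Nat.odd_iff.1 (hS.p_prime.odd_of_ne_two hS.p_ne_two))
      (Nat.odd_iff.1 (hS.q_prime.odd_of_ne_two hS.q_ne_two)) (by omega)
  have hw2q : w % (2 * q) = (p ^ q - 1) / (p - 1) % (2 * q) := by
    rw [← e, Nat.mul_mod, hu, one_mul, Nat.mod_mod]
  have hwlt : w < 2 * q + 1 := by
    by_contra hge
    have h5 := h.index_S hqp
    rw [h.relIndex_eq_card, hw] at h5
    have := Nat.mul_le_mul_left (Nat.card U * (p - 1)) (not_lt.1 hge)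
    rw [mul_comm (2 * q + 1)] at h5
    omega
  have hwq : w % q = 1 ∨ w % q = 0 := by
    have h1 := congrArg (· % q) hw2q
    simp only [Nat.mod_mul_left_mod] at h1
    rw [h1]
    exact geom_mod_or p q (by omega)
  have hw2 : w % 2 = 1 := by
    have h1 := congrArg (· % 2) hw2q
    simp only [Nat.mod_mul_right_mod] at h1
    omega
  have hq3 := hS.three_le_q
  have hdiv := Nat.div_add_mod w q
  have hk : w / q ≤ 2 := by
    by_contra hk
    have := Nat.mul_le_mul_left q (show 3 ≤ w / q by omega)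
    omega
  have hq2 : q % 2 = 1 := Nat.odd_iff.1 (hS.q_prime.odd_of_ne_two hS.q_ne_two)
  generalize hgen : w / q = k at hdiv hk
  interval_cases k <;> omega

end PairData

end CfsgLib.OddChar.Pair
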