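import Cfsg.Agent.Lib.OddChar.PairParity
import Cfsg.Agent.Lib.OddChar.PairIndex
import Cfsg.Agent.Lib.OddChar.PairDensity

/-!
# Not all coefficients are odd

`count_false`: for a family over `N(U)` with `e = p q` and `|H| ≥ |V|`, some coefficient
`⟨τ, η φ⟩`, `⟨τ, η ψ⟩` is even.
-/

set_option autoImplicit false
set_option linter.unusedSectionVars false

namespace CfsgLib.OddChar.Pair

open CfsgLib.Char CfsgLib.CharNormal CfsgLib.OddChar.CTI
open scoped ComplexConjugate Classical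

universe u

theorem pow_lower {p q : ℕ} (hp : 5 ≤ p) (hq : 3 ≤ q) : p ^ 2 * q ^ 2 ≤ 4 * q ^ (p - 1) := by
  obtain ⟨n, rfl⟩ := Nat.exists_eq_add_of_le hp
  have h1 : ∀ n : ℕ, (5 + n) ^ 2 ≤ 4 * 3 ^ (n + 2) := by
    intro n
    induction n with
    | zero => norm_num
    | succ n ih =>
      calc (5 + (n + 1)) ^ 2 ≤ 3 * (5 + n) ^ 2 := by linarith [Nat.zero_le (n ^ 2), Nat.zero_le n, (by ring : (5 + (n + 1)) ^ 2 = n ^ 2 + 12 * n + 36), (by ring : 3 * (5 + n) ^ 2 = 3 * n ^ 2 + 30 * n + 75)]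
        _ ≤ 3 * (4 * 3 ^ (n + 2)) := Nat.mul_le_mul_left 3 ih
        _ = _ := by rw [show n + 1 + 2 = n + 2 + 1 by omega, pow_succ 3 (n + 2)]; ring
  rw [show 5 + n - 1 = n + 2 + 2 by omega, pow_add q, ← mul_assoc 4]
  exact Nat.mul_le_mul_right _ ((h1 n).trans (Nat.mul_le_mul_left 4 (Nat.pow_le_pow_left hq _)))

variable {G : Type u} [Group G] [Fintype G]

theorem card_filter_subgroup (X : Subgroup G) :
    (Finset.univ.filter (· ∈ X)).card = Nat.card X := by
  rw [Nat.card_eq_fintype_card, Fintype.card_subtype]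

theorem card_conjSet (N : Subgroup G) (X : Set G) (hn : ∀ s ∈ N, ∀ x ∈ X, s * x * s⁻¹ ∈ X)
    (hti : ∀ g : G, ∀ x ∈ X, g * x * g⁻¹ ∈ X → g ∈ N) :
    ((Finset.univ.filter (· ∈ conjSet X)).card : ℝ) =
      Nat.card G * ((Finset.univ.filter (· ∈ X)).card : ℝ) / Nat.card N := by
  have h := sum_conjSet N X hn hti (fun _ : G => (1 : ℝ)) fun _ _ => rfl
  simp only [Finset.sum_const, nsmul_eq_mul, mul_one] at h
  rw [eq_div_iff (by exact_mod_cast Nat.card_pos.ne'), ← h, mul_comm]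

theorem card_sharpSet (X : Subgroup G) :
    ((Finset.univ.filter (· ∈ sharpSet X)).card : ℝ) = (Nat.card X : ℝ) - 1 := by
  have e : Finset.univ.filter (· ∈ sharpSet X) = (Finset.univ.filter (· ∈ X)).erase 1 := by
    ext x
    simp only [Finset.mem_filter, Finset.mem_univ, true_and, Finset.mem_erase, sharpSet, Set.mem_setOf_eq]
    exact ⟨fun h => ⟨h.2, h.1⟩, fun h => ⟨h.2, h.1⟩⟩
  rw [e, Finset.card_erase_of_mem (by simp), card_filter_subgroup,
    Nat.cast_sub Nat.card_pos, Nat.cast_one]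

namespace PairData

variable {S T W₁ W₂ U V : Subgroup G} {q p : ℕ}
variable (h : PairData S T W₁ W₂ U V q p)
include h

theorem card_V_mul (hqp : q < p) : Nat.card V * (q - 1) = q ^ p - 1 := by
  have := (h.index_T hqp).2
  rwa [h.symm.relIndex_eq_card] at this

theorem lt_card_V (hqp : q < p) : q ^ (p - 1) + 1 ≤ Nat.card V := by
  have h1 := h.card_V_mul hqp
  have hq := h.side_S.three_le_q
  have hp := h.five_le_p hqp
  refine Nat.le_of_mul_le_mul_right ?_ (show 0 < q - 1 by omega)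
  rw [h1, add_mul, one_mul]
  have e : q ^ p = q ^ (p - 1) * q := by
    rw [← pow_succ]; congr 1; omega
  have h3 : q ≤ q ^ (p - 1) := Nat.le_self_pow (by omega) q
  rw [e, Nat.mul_sub_left_distrib, mul_one]
  have h4 := Nat.mul_le_mul_left (q ^ (p - 1)) (show 3 ≤ q from hq)
  omega

theorem card_U_ge (hqp : q < p) : 7 ≤ Nat.card U := by
  have := h.side_S.two_q_lt_relIndex
  rw [h.relIndex_eq_card] at this
  have := h.side_S.three_le_q
  omega

theorem card_hat : ((Finset.univ.filter (· ∈ hat W₁ W₂)).card : ℝ) ≤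
    (q : ℝ) * p - q - p + 1 := by
  set A := Finset.univ.filter (· ∈ W₁)
  set B := (Finset.univ.filter (· ∈ W₂)).erase 1
  set C := Finset.univ.filter (· ∈ hat W₁ W₂)
  have hAB : Disjoint A B := Finset.disjoint_left.2 fun x hx hx' => by
    obtain ⟨h1, h2⟩ := Finset.mem_erase.1 hx'
    exact h1 (Subgroup.mem_bot.1 (h.side_S.data.selfNormalizing.2.2.1 ▸
      Subgroup.mem_inf.2 ⟨(Finset.mem_filter.1 hx).2, (Finset.mem_filter.1 h2).2⟩))
  have hC : Disjoint (A ∪ B) C := Finset.disjoint_left.2 fun x hx hx' => by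
    have h3 := (Finset.mem_filter.1 hx').2
    rcases Finset.mem_union.1 hx with hx | hx
    · exact h3.2.1 (Finset.mem_filter.1 hx).2
    · exact h3.2.2 (Finset.mem_filter.1 (Finset.mem_of_mem_erase hx)).2
  have hsub : A ∪ B ∪ C ⊆ Finset.univ.filter (· ∈ W₁ ⊔ W₂) := by
    intro x hx
    simp only [A, B, C, Finset.mem_union, Finset.mem_erase, Finset.mem_filter, Finset.mem_univ,
      true_and] at hx ⊢
    rcases hx with (hx | ⟨-, hx⟩) | hx
    · exact Subgroup.mem_sup_left hx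
    · exact Subgroup.mem_sup_right hx
    · exact hx.1
  have h1 := Finset.card_le_card hsub
  rw [Finset.card_union_of_disjoint hC, Finset.card_union_of_disjoint hAB] at h1
  simp only [A, B, card_filter_subgroup, h.card_W, h.side_S.card_W₁, h.side_S.card_W₂,
    Finset.card_erase_of_mem (show (1 : G) ∈ Finset.univ.filter (· ∈ W₂) by simp)] at h1
  have hp := h.side_S.p_prime.one_le
  have h2 : ((q + (p - 1) + C.card : ℕ) : ℝ) ≤ ((q * p : ℕ) : ℝ) := Nat.cast_le.2 h1
  push_cast [Nat.cast_sub hp] at h2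
  linarith

/-- Not all coefficients are odd. -/
theorem count_false (hqp : q < p) {L H : Subgroup G} [Fintype L] {e : ℕ} (F : Fam L H e)
    (he : e = p * q) (hsize : e * F.size + 1 = Nat.card H) (hk : Nat.card V ≤ Nat.card H)
    {χ : (↥(W₁ ⊔ W₂) →* ℂˣ) → (G → ℂ)} (hχ : Cfsg.IsCyclicTIFamily W₁ W₂ χ)
    (hdisS : ∀ g ∈ conjSet (sharpSet H), g ∉ conjSet (supp S W₁ W₂))
    (hdisT : ∀ g ∈ conjSet (sharpSet H), g ∉ conjSet (supp T W₂ W₁))
    (hright : ∀ ψ, IsRight W₁ W₂ ψ → ψ ≠ 1 →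
      ∃ a : ℤ, Odd a ∧ Cfsg.classInner F.tau (χ ψ) = a)
    (hleft : ∀ φ, IsLeft W₁ W₂ φ → φ ≠ 1 →
      ∃ a : ℤ, Odd a ∧ Cfsg.classInner F.tau (χ φ) = a) : False := by
  subst he
  have hS := h.side_S
  have hT := h.side_T
  have hW := hS.data.selfNormalizing
  have hχ' := swapFam_isFamily hχ
  have hW1 : 3 ≤ Nat.card W₁ := hS.card_W₁ ▸ hS.three_le_q
  have hW2 : 3 ≤ Nat.card W₂ := hS.card_W₂ ▸ hS.three_le_p
  have hhat : ∀ g ∈ hat W₁ W₂, g ∉ conjSet (sharpSet H) := fun g hg hg' =>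
    hdisS g hg' (subset_conjSet _ (hS.hat_supp hg))
  haveI := finite_chars hW
  haveI := Fintype.ofFinite (↥(W₁ ⊔ W₂) →* ℂˣ)
  have hq3 := hS.three_le_q
  have hp5 := h.five_le_p hqp
  have hv := h.lt_card_V hqp
  have hlow := pow_lower hp5 hq3
  -- all coefficients are odd
  choose a ha using fun ω => classInner_gen_int F.gen_tau (isGen hW hχ ω)
  have ha1 : a 1 = 1 := by
    have h1 := ha 1
    rw [hχ.map_one, F.tau_one] at h1
    exact_mod_cast h1.symm
  have haL : ∀ φ, IsLeft W₁ W₂ φ → Odd (a φ) := fun φ hφ => by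
    rcases eq_or_ne φ 1 with rfl | h1
    · rw [ha1]; exact odd_one
    · obtain ⟨b, hb, hb'⟩ := hleft φ hφ h1
      rw [ha φ] at hb'
      rwa [show a φ = b by exact_mod_cast hb']
  have haR : ∀ ψ, IsRight W₁ W₂ ψ → Odd (a ψ) := fun ψ hψ => by
    rcases eq_or_ne ψ 1 with rfl | h1
    · rw [ha1]; exact odd_one
    · obtain ⟨b, hb, hb'⟩ := hright ψ hψ h1
      rw [ha ψ] at hb'
      rwa [show a ψ = b by exact_mod_cast hb']
  have hodd : ∀ ω, Odd (a ω) := by
    intro ω
    obtain ⟨φ, ψ, hφ, hψ, rfl⟩ := exists_split hW ω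
    have h1 := coeff_eq hW hχ (isClassFunction_of_isGen F.gen_tau)
      (fun z hz => F.tau_eq_zero (hhat z hz)) hφ hψ
    rw [ha, ha, ha, ha, ha1] at h1
    have h2 : a (φ * ψ) = a φ + a ψ - 1 := by exact_mod_cast h1
    rw [h2]
    exact ((haL φ hφ).add_odd (haR ψ hψ)).sub_odd odd_one
  -- `τ = ∑ a η - ψ`
  have hcardW : Fintype.card (↥(W₁ ⊔ W₂) →* ℂˣ) = q * p := by
    rw [← Nat.card_eq_fintype_card, CTI.card_hom (CTI.commute_of_mem hW), h.card_W]
  obtain ⟨c, hc⟩ := classInner_gen_int F.gen_psi F.gen_tau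
  let cf : (L → ℂ) → ℤ := fun ξ => (F.wt ξ : ℤ) * (c + 1) - if ξ = F.base then 1 else 0
  let f : (L → ℂ) ⊕ (↥(W₁ ⊔ W₂) →* ℂˣ) → G → ℂ := Sum.elim F.im χ
  obtain ⟨hb1, hb2⟩ := bessel_int (F.I.disjSum Finset.univ) f (fun i hi j hj => by
      rcases i with ξ | i <;> rcases j with ξ' | j <;>
        simp only [Finset.inl_mem_disjSum, Finset.inr_mem_disjSum] at hi hj <;>
        simp only [f, Sum.elim_inl, Sum.elim_inr]
      · rw [F.im_orth _ hi _ hj]; simp
      · rw [F.orth_grid hW hχ hW1 hW2 hhat hi]; simp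
      · rw [← classInner_conj_symm, F.orth_grid hW hχ hW1 hW2 hhat hj]; simp
      · rw [hχ.orthonormal]; simp)
    F.tau (Sum.elim cf a) (fun i hi => by
      rcases i with ξ | i <;> simp only [Finset.inl_mem_disjSum, Finset.inr_mem_disjSum] at hi <;>
        simp only [f, Sum.elim_inl, Sum.elim_inr]
      · rw [← classInner_conj_symm, F.coef_tau hi, hc, map_sub, map_mul, map_add, map_natCast,
          map_intCast, map_one]
        simp only [cf]
        split_ifs <;> simp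
      · exact ha i)
    _ F.tau_norm
  rw [Finset.sum_disjSum] at hb1 hb2
  simp only [Sum.elim_inl, Sum.elim_inr] at hb1 hb2
  have hA : ((q * p : ℕ) : ℤ) ≤ ∑ ω, a ω ^ 2 := by
    have := Finset.card_nsmul_le_sum (Finset.univ) (fun ω => a ω ^ 2) 1
      fun ω _ => one_le_sq_of_odd (hodd ω)
    rw [Finset.card_univ, hcardW, nsmul_one] at this
    exact this
  push_cast at hA hb1 hb2
  have hI : ∑ ξ ∈ F.I, cf ξ ^ 2 ≤ 1 := by linarith [mul_comm (p : ℤ) q]
  have hsz : 3 ≤ F.size := by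
    by_contra hlt
    have h1 : p * q * F.size ≤ p * q * 2 := Nat.mul_le_mul_left _ (by omega)
    have h2 : p * q * 9 ≤ p ^ 2 * q ^ 2 := by
      rw [show p ^ 2 * q ^ 2 = p * q * (p * q) by ring]
      exact Nat.mul_le_mul_left _ ((show 9 ≤ 5 * 3 by norm_num).trans (Nat.mul_le_mul hp5 hq3))
    have h3 : 15 ≤ p * q := Nat.mul_le_mul hp5 hq3
    omega
  have hcm1 : c = -1 := by
    have hbb : cf F.base = c := by simp [cf, F.wt_base]
    have hbr : cf (Cfsg.conjFun F.base) = c + 1 := by simp [cf, F.wt_bar, F.bar_ne]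
    have h2 : c ^ 2 + (c + 1) ^ 2 ≤ 1 := by
      refine le_trans ?_ hI
      have e' : c ^ 2 + (c + 1) ^ 2 = cf F.base ^ 2 + cf (Cfsg.conjFun F.base) ^ 2 := by
        rw [hbb, hbr]
      rw [e', ← Finset.sum_pair (f := fun ξ => cf ξ ^ 2) F.bar_ne.symm]
      exact Finset.sum_le_sum_of_subset_of_nonneg
        (Finset.insert_subset_iff.2 ⟨F.base_mem, Finset.singleton_subset_iff.2 F.bar_mem⟩)
        fun _ _ _ => sq_nonneg _
    have hc0 : c = 0 ∨ c = -1 := by
      have hl : -1 ≤ c := by nlinarith [sq_nonneg c, sq_nonneg (c + 1)]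
      have hu : c ≤ 0 := by nlinarith [sq_nonneg c, sq_nonneg (c + 1)]
      omega
    refine hc0.resolve_left fun h0 => ?_
    have h3 : ∀ ξ ∈ F.I, cf ξ ^ 2 = (F.wt ξ : ℤ) ^ 2 - if ξ = F.base then 1 else 0 := by
      intro ξ _
      simp only [cf, h0]
      split_ifs with e'
      · rw [e', F.wt_base]; norm_num
      · simp
    rw [Finset.sum_congr rfl h3, Finset.sum_sub_distrib, Finset.sum_ite_eq', if_pos F.base_mem]
      at hI
    have h4 : (F.size : ℤ) ≤ 2 := by
      rw [Fam.size]; push_cast; linarith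
    omega
  have hτ : F.tau = ∑ ω, (a ω : ℂ) • χ ω - F.psi := by
    have hI1 : ∑ ξ ∈ F.I, cf ξ ^ 2 = 1 := by
      rw [Finset.sum_eq_single F.base (fun ξ _ hne => by simp [cf, hcm1, hne])
        (fun hn => absurd F.base_mem hn)]
      simp [cf, hcm1, F.wt_base]
    have hfull : ∑ ξ ∈ F.I, cf ξ ^ 2 + ∑ ω, a ω ^ 2 = (p : ℤ) * q + 1 :=
      le_antisymm hb1 (by linarith [mul_comm (p : ℤ) q])
    have heq := hb2 hfull
    rw [Finset.sum_disjSum] at heq
    simp only [f, Sum.elim_inl, Sum.elim_inr] at heq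
    rw [heq, Finset.sum_eq_single F.base (fun ξ _ hne => by simp [cf, hcm1, hne])
      (fun hn => absurd F.base_mem hn)]
    simp only [cf, hcm1, F.wt_base, Fam.psi]
    funext g
    simp
    ring
  -- the pointwise bound
  set cA := Finset.univ.filter (· ∈ conjSet (fitSharp S)) with hcA
  set cB := Finset.univ.filter (· ∈ conjSet (fitSharp T)) with hcB
  set cH := Finset.univ.filter (· ∈ conjSet (hat W₁ W₂)) with hcH
  set cK := Finset.univ.filter (· ∈ conjSet (sharpSet H)) with hcK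
  obtain ⟨φ₀, hφ₀, hφ₀1, -⟩ := exists_left_ne hW hW1 1 1
  obtain ⟨ψ₀, hψ₀, hψ₀1, -⟩ := exists_right_ne hW hW2 1 1
  have hpt : ∀ g, g ∉ cA ∪ cB ∪ cH ∪ cK → (1 : ℝ) ≤ ‖F.psi g‖ ^ 2 := by
    intro g hg
    simp only [hcA, hcB, hcH, hcK, Finset.mem_union, Finset.mem_filter, Finset.mem_univ, true_and,
      not_or] at hg
    obtain ⟨⟨⟨hgA, hgB⟩, hgH⟩, hgK⟩ := hg
    have hgS : g ∉ conjSet (supp S W₁ W₂) := fun hh => (supp_subset _ _ _ hh).elim hgA hgH
    have hgT : g ∉ conjSet (supp T W₂ W₁) := fun hh =>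
      (supp_subset _ _ _ hh).elim hgB (by rw [hat_comm]; exact hgH)
    obtain ⟨n, hn⟩ := hS.off_int hχ hgS hψ₀ hψ₀1
    obtain ⟨m, hm⟩ := hT.off_int hχ' hgT (swapHom_isRight hφ₀) (swapHom_ne_one hφ₀1)
    rw [swapFam, swapHom_swapHom] at hm
    have hR : ∀ ψ, IsRight W₁ W₂ ψ → χ ψ g = ((if ψ = 1 then 1 else n : ℤ) : ℂ) := by
      intro ψ hψ
      split_ifs with e'
      · rw [e', hχ.map_one]; simp
      · have := hS.off_indep hχ hgS (isLeft_one (W₁ := W₁) (W₂ := W₂)) hψ hψ₀ e' hψ₀1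
        rw [hom_one_mul, hom_one_mul] at this
        rw [this, hn]
    have hL : ∀ φ, IsLeft W₁ W₂ φ → χ φ g = ((if φ = 1 then 1 else m : ℤ) : ℂ) := by
      intro φ hφ
      split_ifs with e'
      · rw [e', hχ.map_one]; simp
      · have := hT.off_indep hχ' hgT (isLeft_one (W₁ := W₂) (W₂ := W₁)) (swapHom_isRight hφ)
          (swapHom_isRight hφ₀) (swapHom_ne_one e') (swapHom_ne_one hφ₀1)
        rw [hom_one_mul, hom_one_mul, swapFam, swapFam, swapHom_swapHom, swapHom_swapHom] at this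
        rw [this, hm]
    -- the sum over all characters
    let A : (↥(W₁ ⊔ W₂) →* ℂˣ) → ℤ := fun φ => if φ = 1 then 1 else m
    let B : (↥(W₁ ⊔ W₂) →* ℂˣ) → ℤ := fun ψ => if ψ = 1 then 1 else n
    set P := (leftChars hW) ×ˢ (rightChars hW) with hP
    have hsum : ∑ ω, (a ω : ℂ) * χ ω g =
        ((∑ x ∈ P, a (x.1 * x.2) * (A x.1 + B x.2 - 1) : ℤ) : ℂ) := by
      push_cast
      symm
      refine Finset.sum_bij (fun x _ => x.1 * x.2) (fun _ _ => Finset.mem_univ _)
        (fun x hx y hy e' => ?_) (fun ω _ => ?_) fun x hx => ?_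
      · simp only [hP, Finset.mem_product, mem_leftChars, mem_rightChars] at hx hy
        exact Prod.ext_iff.2 (pair_ext hx.1 hy.1 hx.2 hy.2 e')
      · obtain ⟨φ, ψ, hφ, hψ, rfl⟩ := exists_split hW ω
        exact ⟨(φ, ψ), Finset.mem_product.2
          ⟨(mem_leftChars hW).2 hφ, (mem_rightChars hW).2 hψ⟩, rfl⟩
      · simp only [hP, Finset.mem_product, mem_leftChars, mem_rightChars] at hx
        rw [value_eq hW hχ hx.1 hx.2 (fun y hy => hgH ⟨y, hy⟩), hL _ hx.1, hR _ hx.2]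
    have hψg : F.psi g = ((∑ x ∈ P, a (x.1 * x.2) * (A x.1 + B x.2 - 1) : ℤ) : ℂ) := by
      rw [← hsum]
      have h1 := congrFun hτ g
      rw [F.tau_eq_zero hgK, Pi.sub_apply, eq_comm, sub_eq_zero, Finset.sum_apply] at h1
      rw [← h1]
      simp
    rw [hψg, Complex.norm_intCast, sq_abs]
    norm_cast
    refine one_le_sq_int fun h0 => ?_
    have h1 := congrArg (fun z : ℤ => (z : ZMod 2)) h0
    push_cast at h1
    have hone : ∀ ω, ((a ω : ℤ) : ZMod 2) = 1 := fun ω => by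
      obtain ⟨r, hr⟩ := hodd ω
      rw [hr]; push_cast
      rw [show (2 : ZMod 2) = 0 from rfl, zero_mul, zero_add]
    have hsA : ∑ φ ∈ leftChars hW, (A φ : ZMod 2) = 1 := by
      rw [← Finset.add_sum_erase _ _ ((mem_leftChars hW).2 isLeft_one),
        Finset.sum_congr rfl (g := fun _ => (m : ZMod 2)) fun φ hφ => by
          simp [A, (Finset.mem_erase.1 hφ).1],
        Finset.sum_const, Finset.card_erase_of_mem ((mem_leftChars hW).2 isLeft_one),
        card_leftChars hW, hS.card_W₁, nsmul_eq_mul,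
        (ZMod.natCast_eq_zero_iff _ 2).2 (Nat.Odd.sub_odd (hS.q_prime.odd_of_ne_two hS.q_ne_two)
          odd_one).two_dvd]
      simp [A]
    have hsB : ∑ ψ ∈ rightChars hW, (B ψ : ZMod 2) = 1 := by
      rw [← Finset.add_sum_erase _ _ ((mem_rightChars hW).2 isRight_one),
        Finset.sum_congr rfl (g := fun _ => (n : ZMod 2)) fun φ hφ => by
          simp [B, (Finset.mem_erase.1 hφ).1],
        Finset.sum_const, Finset.card_erase_of_mem ((mem_rightChars hW).2 isRight_one),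
        card_rightChars hW, hS.card_W₂, nsmul_eq_mul,
        (ZMod.natCast_eq_zero_iff _ 2).2 (Nat.Odd.sub_odd (hS.p_prime.odd_of_ne_two hS.p_ne_two)
          odd_one).two_dvd]
      simp [B]
    have hq2 : (q : ZMod 2) = 1 :=
      ZMod.natCast_eq_one_iff_odd.2 (hS.q_prime.odd_of_ne_two hS.q_ne_two)
    have hp2 : (p : ZMod 2) = 1 :=
      ZMod.natCast_eq_one_iff_odd.2 (hS.p_prime.odd_of_ne_two hS.p_ne_two)
    simp only [hone, one_mul, hP, Finset.sum_product, Finset.sum_sub_distrib, Finset.sum_add_distrib,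
      Finset.sum_const, card_leftChars hW, card_rightChars hW, hS.card_W₁, hS.card_W₂,
      nsmul_eq_mul, ← Finset.mul_sum, hsA, hsB, hq2, hp2, mul_one, Finset.card_product,
      Nat.cast_mul] at h1
    exact absurd h1 (by decide)
  -- counting
  have hG : (0 : ℝ) < Nat.card G := by exact_mod_cast Nat.card_pos
  have htot : ∑ g, ‖F.psi g‖ ^ 2 = Nat.card G := by
    have hn := (F.im_sgn _ F.base_mem).norm
    rw [classInner_def, inv_mul_eq_iff_eq_mul₀ (by exact_mod_cast Nat.card_pos.ne'), mul_one] at hn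
    have e' : ∀ g, F.psi g * conj (F.psi g) = ((‖F.psi g‖ ^ 2 : ℝ) : ℂ) := fun g => by
      rw [Complex.mul_conj']; push_cast; rfl
    change ∑ g, F.psi g * conj (F.psi g) = _ at hn
    simp only [e', ← Complex.ofReal_sum] at hn
    exact_mod_cast hn
  set R := Finset.univ \ (cA ∪ cB ∪ cH ∪ cK) with hRdef
  have hR1 : (R.card : ℝ) ≤ ∑ g ∈ R, ‖F.psi g‖ ^ 2 := by
    have := Finset.card_nsmul_le_sum R (fun g => ‖F.psi g‖ ^ 2) (1 : ℝ)
      fun g hg => hpt g (Finset.mem_sdiff.1 hg).2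
    simpa using this
  have hR2 : (Nat.card G : ℝ) ≤ R.card + cA.card + cB.card + cH.card + cK.card := by
    have h1 : Fintype.card G ≤ R.card + cA.card + cB.card + cH.card + cK.card := by
      rw [← Finset.card_univ]
      have h2 : (Finset.univ : Finset G) ⊆ R ∪ cA ∪ cB ∪ cH ∪ cK := fun g _ => by
        simp only [hRdef, Finset.mem_union, Finset.mem_sdiff, Finset.mem_univ, true_and]
        tauto
      refine (Finset.card_le_card h2).trans ?_
      exact (Finset.card_union_le _ _).trans (Nat.add_le_add_right ((Finset.card_union_le _ _).trans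
        (Nat.add_le_add_right ((Finset.card_union_le _ _).trans
          (Nat.add_le_add_right (Finset.card_union_le _ _) _)) _)) _)
    rw [Nat.card_eq_fintype_card]
    exact_mod_cast h1
  have hR3 : (Nat.card G : ℝ) * (1 - 1 / (F.size : ℝ)) + R.card ≤ Nat.card G := by
    conv_rhs => rw [← htot]
    refine (add_le_add F.mass hR1).trans ?_
    rw [← Finset.sum_union]
    · exact Finset.sum_le_sum_of_subset_of_nonneg (Finset.subset_univ _) fun g _ _ => sq_nonneg _
    · exact Finset.disjoint_left.2 fun g hg hg' =>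
        (Finset.mem_sdiff.1 hg').2 (Finset.mem_union_right _ hg)
  have eA : (cA.card : ℝ) = Nat.card G * ((p : ℝ) ^ q - 1) / Nat.card S := by
    rw [hcA, card_conjSet S (fitSharp S)
      (fun _ hs _ hx => ⟨hS.conj_mem_fitting hs hx.1, fun e' => hx.2 (conj_eq_one_iff.1 e')⟩)
      (fun _ _ hx hgx => hS.mem_of_conj hx.1 hx.2 hgx.1), hS.card_fitSharp, h.centU_eq_bot,
      Subgroup.card_bot, Nat.cast_one, mul_one]
  have eB : (cB.card : ℝ) = Nat.card G * ((q : ℝ) ^ p - 1) / Nat.card T := by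
    rw [hcB, card_conjSet T (fitSharp T)
      (fun _ hs _ hx => ⟨hT.conj_mem_fitting hs hx.1, fun e' => hx.2 (conj_eq_one_iff.1 e')⟩)
      (fun _ _ hx hgx => hT.mem_of_conj hx.1 hx.2 hgx.1), hT.card_fitSharp, h.symm.centU_eq_bot,
      Subgroup.card_bot, Nat.cast_one, mul_one]
  have hcomm := CTI.commute_of_mem hW
  have eH : (cH.card : ℝ) ≤ Nat.card G * ((q : ℝ) * p - q - p + 1) / ((q : ℝ) * p) := by
    rw [hcH, card_conjSet (W₁ ⊔ W₂) (hat W₁ W₂) (fun s hs x hx => by
        have e' := congrArg Subtype.val (hcomm ⟨s, hs⟩ ⟨x, hx.1⟩)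
        change s * x = x * s at e'
        rwa [e', mul_inv_cancel_right])
      (fun g x hx hgx => by
        by_contra hn
        exact CTI.ti_of_selfNormalizing hW _ hn _ hx hgx.1), h.card_W]
    push_cast
    exact div_le_div_of_nonneg_right (mul_le_mul_of_nonneg_left h.card_hat hG.le) (by positivity)
  have hLc : Nat.card L = p * q * Nat.card H := by
    have h1 := Subgroup.relIndex_mul_relIndex ⊥ H L bot_le F.le
    rw [Subgroup.relIndex_bot_left, Subgroup.relIndex_bot_left, F.index] at h1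
    rw [← h1, mul_comm]
  have eK : (cK.card : ℝ) = Nat.card G * ((Nat.card H : ℝ) - 1) / Nat.card L := by
    rw [hcK, card_conjSet L (sharpSet H)
      (fun s hs x hx => ⟨F.normal s hs x hx.1, fun e' => hx.2 (conj_eq_one_iff.1 e')⟩)
      (fun g x hx hgx => F.ti g x hx.1 hx.2 hgx.1), card_sharpSet]
  -- the inequality
  have hqR : (3 : ℝ) ≤ q := by exact_mod_cast hq3
  have hpR : (5 : ℝ) ≤ p := by exact_mod_cast hp5
  have hPq : (0 : ℝ) < (p : ℝ) ^ q := by positivity
  have hQp : (0 : ℝ) < (q : ℝ) ^ p := by positivity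
  have hu7 : (7 : ℝ) ≤ Nat.card U := by exact_mod_cast h.card_U_ge hqp
  have hvq : (q : ℝ) ≤ Nat.card V := by
    have h3 : q ≤ q ^ (p - 1) := Nat.le_self_pow (by omega) q
    exact_mod_cast (by omega : q ≤ Nat.card V)
  have hk1 : (1 : ℝ) ≤ Nat.card H := by exact_mod_cast Nat.card_pos
  have hsR : (3 : ℝ) ≤ F.size := by exact_mod_cast hsz
  have key : (1 : ℝ) - 1 / F.size ≤ 1 / (Nat.card U * q) + 1 / (Nat.card V * p) +
      ((q : ℝ) * p - q - p + 1) / (q * p) + 1 / (p * q) := by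
    refine le_of_mul_le_mul_left ?_ hG
    have a1 : (cA.card : ℝ) ≤ Nat.card G * (1 / (Nat.card U * q)) := by
      rw [eA, hS.card_S, ← mul_div_assoc, mul_one]
      push_cast
      refine le_trans (div_le_div_of_nonneg_right
        (mul_le_mul_of_nonneg_left (sub_le_self _ zero_le_one) hG.le) (by positivity)) (le_of_eq ?_)
      field_simp
    have b1 : (cB.card : ℝ) ≤ Nat.card G * (1 / (Nat.card V * p)) := by
      rw [eB, hT.card_S, ← mul_div_assoc, mul_one]
      push_cast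
      refine le_trans (div_le_div_of_nonneg_right
        (mul_le_mul_of_nonneg_left (sub_le_self _ zero_le_one) hG.le) (by positivity)) (le_of_eq ?_)
      field_simp
    have k1 : (cK.card : ℝ) ≤ Nat.card G * (1 / (p * q)) := by
      rw [eK, hLc, ← mul_div_assoc, mul_one]
      push_cast
      refine le_trans (div_le_div_of_nonneg_right
        (mul_le_mul_of_nonneg_left (sub_le_self _ zero_le_one) hG.le) (by positivity)) (le_of_eq ?_)
      field_simp
    have h1' : (cH.card : ℝ) ≤ Nat.card G * (((q : ℝ) * p - q - p + 1) / (q * p)) := by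
      rw [← mul_div_assoc]; exact eH
    nlinarith [hR2, hR3]
  have hU0 : (0 : ℝ) < Nat.card U := by linarith
  have hV0 : (0 : ℝ) < Nat.card V := by linarith
  have key2 : (p : ℝ) + q - 2 ≤ p / Nat.card U + q / Nat.card V + p * q / F.size := by
    have h1 := mul_le_mul_of_nonneg_left key (show (0 : ℝ) ≤ p * q by positivity)
    have e1 : (p : ℝ) * q * (1 - 1 / F.size) = p * q - p * q / F.size := by ring
    have e2 : (p : ℝ) * q * (1 / (Nat.card U * q) + 1 / (Nat.card V * p) +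
        ((q : ℝ) * p - q - p + 1) / (q * p) + 1 / (p * q)) =
        p / Nat.card U + q / Nat.card V + (p * q - q - p + 1) + 1 := by
      field_simp
    rw [e1, e2] at h1
    linarith
  have t1 : (p : ℝ) / Nat.card U ≤ p / 7 :=
    div_le_div_of_nonneg_left (Nat.cast_nonneg _) (by norm_num) hu7
  have t2 : (q : ℝ) / Nat.card V ≤ 1 := (div_le_one hV0).2 hvq
  have t3 : (p : ℝ) * q / F.size ≤ 4 := by
    rw [div_le_iff₀ (by positivity)]
    have h2 : p ^ 2 * q ^ 2 ≤ 4 * (p * q * F.size) := by omega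
    have h2' : ((p ^ 2 * q ^ 2 : ℕ) : ℝ) ≤ ((4 * (p * q * F.size) : ℕ) : ℝ) := Nat.cast_le.2 h2
    push_cast at h2'
    nlinarith [show (0 : ℝ) < p * q by positivity]
  linarith

end PairData

end CfsgLib.OddChar.Pair
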