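import Cfsg.Agent.Lib.OddChar.PairGrid
import Cfsg.Agent.Lib.Char.TI

/-!
# Sums over the conjugates of a set with trivial intersections

* `conjSet X`: the union of the conjugates of `X`;
* `sum_conjSet`: `|S| ∑_{g ∈ conjSet X} f g = |G| ∑_{x ∈ X} f x` for a set `X` normalised by `S`
  whose distinct conjugates are disjoint;
* `test_bound`: the lower bound for `∑_{x ≠ 1} |f x|²` from the coefficients of `f`.
-/

set_option autoImplicit false
set_option linter.unusedSectionVars false

namespace CfsgLib.OddChar.Pair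

open CfsgLib.Char
open scoped ComplexConjugate Classical

universe u

/-- The union of the conjugates of `X`. -/
def conjSet {G : Type u} [Group G] (X : Set G) : Set G := {g | ∃ y : G, y⁻¹ * g * y ∈ X}

variable {G : Type u} [Group G]

theorem mem_conjSet {X : Set G} {g : G} : g ∈ conjSet X ↔ ∃ y : G, y⁻¹ * g * y ∈ X := Iff.rfl

theorem subset_conjSet (X : Set G) : X ⊆ conjSet X := fun x hx => ⟨1, by simpa using hx⟩

theorem sum_conjSet [Fintype G] {R : Type*} [CommRing R] (S : Subgroup G) (X : Set G)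
    (hn : ∀ s ∈ S, ∀ x ∈ X, s * x * s⁻¹ ∈ X)
    (hti : ∀ g : G, ∀ x ∈ X, g * x * g⁻¹ ∈ X → g ∈ S)
    (f : G → R) (hf : ∀ g y : G, f (y * g * y⁻¹) = f g) :
    (Nat.card S : R) * ∑ g ∈ Finset.univ.filter (· ∈ conjSet X), f g =
      (Nat.card G : R) * ∑ x ∈ Finset.univ.filter (· ∈ X), f x := by
  set XF : Finset G := Finset.univ.filter (· ∈ X) with hXF
  have h1 : (Nat.card G : R) * ∑ x ∈ XF, f x =
      ∑ a ∈ Finset.univ ×ˢ XF, f (a.1 * a.2 * a.1⁻¹) := by
    rw [Finset.sum_product, Nat.card_eq_fintype_card]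
    simp only [hf]
    rw [Finset.sum_const, Finset.card_univ, nsmul_eq_mul]
  rw [h1, ← Finset.sum_fiberwise_of_maps_to (g := fun a : G × G => a.1 * a.2 * a.1⁻¹)
    (t := Finset.univ.filter (· ∈ conjSet X)) (fun a ha => by
      simp only [Finset.mem_filter, Finset.mem_univ, true_and]
      refine ⟨a.1, ?_⟩
      have := (Finset.mem_product.1 ha).2
      simp only [hXF, Finset.mem_filter, Finset.mem_univ, true_and] at this
      convert this using 1
      group), Finset.mul_sum]
  refine Finset.sum_congr rfl fun g hg => ?_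
  simp only [Finset.mem_filter, Finset.mem_univ, true_and] at hg
  obtain ⟨y₀, hy₀⟩ := hg
  rw [Finset.sum_congr rfl (g := fun _ => f g) fun a ha => by
    rw [(Finset.mem_filter.1 ha).2], Finset.sum_const, nsmul_eq_mul]
  congr 1
  rw [Nat.card_eq_fintype_card, ← Finset.card_univ]
  refine congrArg Nat.cast ?_
  refine Finset.card_bij (fun (s : S) _ => (y₀ * (s : G), (s : G)⁻¹ * (y₀⁻¹ * g * y₀) * s))
    (fun s _ => ?_) (fun s _ t _ e => ?_) (fun a ha => ?_)
  · simp only [Finset.mem_filter, Finset.mem_product, Finset.mem_univ, true_and, hXF]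
    refine ⟨?_, by group⟩
    have := hn _ (inv_mem s.2) _ hy₀
    simpa using this
  · exact Subtype.ext (mul_left_cancel (congrArg Prod.fst e))
  · simp only [Finset.mem_filter, Finset.mem_product, Finset.mem_univ, true_and, hXF] at ha
    have hs : y₀⁻¹ * a.1 ∈ S := hti _ _ ha.1 (by
      convert hy₀ using 1
      rw [← ha.2]
      group)
    refine ⟨⟨_, hs⟩, Finset.mem_univ _, ?_⟩
    refine Prod.ext (by simp) ?_
    show (y₀⁻¹ * a.1)⁻¹ * (y₀⁻¹ * g * y₀) * (y₀⁻¹ * a.1) = a.2
    rw [← ha.2]
    group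

/-- The test function bound: if the coefficients of `f` on a set `L` of non-trivial linear
characters are a constant plus `ε` on `O ⊆ L`, then
`∑_{x ≠ 1} |f x|² ≥ |F| ε² |O| (1 - |O| / |L|)`. -/
theorem test_bound {F : Type*} [Group F] [Fintype F] [DecidableEq F] (f : F → ℂ) (L O : Finset (F →* ℂˣ))
    (hO : O ⊆ L) (n ε : ℝ)
    (hcoef : ∀ l ∈ L, Cfsg.classInner f (fun x => (l x : ℂ)) =
      ((n + if l ∈ O then ε else 0 : ℝ) : ℂ)) :
    (Nat.card F : ℝ) * (ε ^ 2 * (O.card * (1 - (O.card : ℝ) / L.card))) ≤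
      ∑ x ∈ Finset.univ.erase 1, ‖f x‖ ^ 2 := by
  rcases Finset.eq_empty_or_nonempty L with rfl | hne
  · rw [Finset.subset_empty.1 hO]
    simp only [Finset.card_empty, Nat.cast_zero, zero_mul, mul_zero]
    positivity
  set r : ℝ := (O.card : ℝ) / L.card with hr
  have hrL : r * L.card = O.card := by
    rw [hr, div_mul_cancel₀]
    exact_mod_cast hne.card_pos.ne'
  set a : (F →* ℂˣ) → ℝ := fun l => ε * ((if l ∈ O then 1 else 0) - r) with ha
  set h : F → ℂ := fun x => ∑ l ∈ L, (a l : ℂ) * (l x : ℂ) with hh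
  have hone : ∀ g : (F →* ℂˣ) → ℝ, ∑ l ∈ L, g l * (if l ∈ O then 1 else 0) = ∑ l ∈ O, g l := by
    intro g
    simp only [mul_ite, mul_one, mul_zero]
    rw [Finset.sum_ite, Finset.sum_const_zero, add_zero, Finset.filter_mem_eq_inter,
      Finset.inter_eq_right.2 hO]
  have hsum : ∑ l ∈ L, a l = 0 := by
    have := hone fun _ => 1
    simp only [one_mul, Finset.sum_const, nsmul_eq_mul, mul_one] at this
    rw [ha]
    simp only [← Finset.mul_sum, Finset.sum_sub_distrib, Finset.sum_const, nsmul_eq_mul, this]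
    rw [mul_comm (L.card : ℝ) r, hrL, sub_self, mul_zero]
  have h1 : h 1 = 0 := by
    simp only [hh, map_one, Units.val_one, mul_one]
    exact_mod_cast hsum
  -- the two inner products
  have hfh : Cfsg.classInner f h = ((ε ^ 2 * (O.card * (1 - r)) : ℝ) : ℂ) := by
    have e : Cfsg.classInner f h = ∑ l ∈ L, (a l : ℂ) * Cfsg.classInner f (fun x => (l x : ℂ)) := by
      simp only [classInner_def, hh, map_sum, map_mul, Complex.conj_ofReal, Finset.mul_sum]
      rw [Finset.sum_comm]
      exact Finset.sum_congr rfl fun x _ => Finset.sum_congr rfl fun l _ => by ring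
    rw [e, Finset.sum_congr rfl fun l hl => by rw [hcoef l hl, ← Complex.ofReal_mul]]
    norm_cast
    have e1 : ∀ l, a l * (n + if l ∈ O then ε else 0) =
        n * a l + (ε ^ 2 * (1 - r)) * (if l ∈ O then 1 else 0) := by
      intro l
      simp only [ha]
      split_ifs <;> ring
    rw [Finset.sum_congr rfl fun l _ => e1 l, Finset.sum_add_distrib, ← Finset.mul_sum, hsum,
      mul_zero, zero_add, hone, Finset.sum_const, nsmul_eq_mul]
    ring
  have hlin : ∀ l, Cfsg.classInner (fun x => (l x : ℂ)) h = if l ∈ L then (a l : ℂ) else 0 := by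
    intro l
    have e : Cfsg.classInner (fun x => (l x : ℂ)) h =
        ∑ m ∈ L, (a m : ℂ) * Cfsg.classInner (CTI.lin l) (CTI.lin m) := by
      simp only [classInner_def, hh, map_sum, map_mul, Complex.conj_ofReal, Finset.mul_sum,
        CTI.lin_apply]
      rw [Finset.sum_comm]
      exact Finset.sum_congr rfl fun x _ => Finset.sum_congr rfl fun m _ => by ring
    rw [e]
    simp only [CTI.classInner_lin, mul_ite, mul_one, mul_zero]
    rw [Finset.sum_ite_eq]
  have hhh : Cfsg.classInner h h = ((ε ^ 2 * (O.card * (1 - r)) : ℝ) : ℂ) := by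
    have e : Cfsg.classInner h h = ∑ l ∈ L, (a l : ℂ) * Cfsg.classInner (fun x => (l x : ℂ)) h := by
      simp only [classInner_def, Finset.mul_sum]
      rw [Finset.sum_comm]
      refine Finset.sum_congr rfl fun x _ => ?_
      conv_lhs => arg 2; arg 1; rw [hh]
      simp only [Finset.sum_mul, Finset.mul_sum]
      exact Finset.sum_congr rfl fun l _ => by ring
    rw [e, Finset.sum_congr rfl fun l hl => by rw [hlin l, if_pos hl, ← Complex.ofReal_mul]]
    norm_cast
    have e1 : ∀ l, a l * a l =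
        (ε ^ 2 * r ^ 2) + (ε ^ 2 * (1 - 2 * r)) * (if l ∈ O then 1 else 0) := by
      intro l
      simp only [ha]
      split_ifs <;> ring
    rw [Finset.sum_congr rfl fun l _ => e1 l, Finset.sum_add_distrib, hone, Finset.sum_const,
      Finset.sum_const, nsmul_eq_mul, nsmul_eq_mul]
    calc (L.card : ℝ) * (ε ^ 2 * r ^ 2) + O.card * (ε ^ 2 * (1 - 2 * r))
        = ε ^ 2 * r * (r * L.card) + O.card * (ε ^ 2 * (1 - 2 * r)) := by ring
      _ = _ := by rw [hrL]; ring
  -- the expansion
  have hN : ∀ g g' : F → ℂ, (Nat.card F : ℂ) * Cfsg.classInner g g' = ∑ x, g x * conj (g' x) := by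
    intro g g'
    rw [classInner_def, ← mul_assoc, mul_inv_cancel₀ (by exact_mod_cast Nat.card_pos.ne'), one_mul]
  have key : ∀ x, 2 * (f x * conj (h x)).re - (h x * conj (h x)).re ≤
      ‖f x‖ ^ 2 := by
    intro x
    have h0 := Complex.normSq_nonneg (f x - h x)
    rw [Complex.normSq_apply] at h0
    rw [Complex.sq_norm, Complex.normSq_apply, Complex.mul_re, Complex.mul_re, Complex.conj_re,
      Complex.conj_im]
    simp only [Complex.sub_re, Complex.sub_im] at h0
    nlinarith [h0]
  have hA : ∀ g g' : F → ℂ, g' 1 = 0 →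
      ∑ x ∈ Finset.univ.erase 1, (g x * conj (g' x)).re =
        ((Nat.card F : ℂ) * Cfsg.classInner g g').re := by
    intro g g' hg'
    rw [hN, Complex.re_sum, ← Finset.add_sum_erase _ _ (Finset.mem_univ (1 : F)), hg']
    simp
  refine le_trans (le_of_eq ?_) (Finset.sum_le_sum fun x _ => key x)
  rw [Finset.sum_sub_distrib, ← Finset.mul_sum, hA f h h1, hA h h h1, hfh, hhh,
    ← Complex.ofReal_natCast, ← Complex.ofReal_mul, Complex.ofReal_re]
  ring

end CfsgLib.OddChar.Pair
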