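import Cfsg.Agent.Lib.OddChar.Inertia
import Cfsg.Agent.Lib.CharNormal.Kernel
import Cfsg.Agent.Lib.CharNormal.Gallagher
import Cfsg.Agent.Lib.Char.TI
import Cfsg.Agent.S1536

/-!
# Characters above the kernel of a group of Frobenius type

`H` normal Hall in `M`, `U` a complement, `U₁ ≤ U` abelian containing every `C_U(h)`, `h ∈ H \ {1}`.
* `exists_cons`: `Ind θ` is a multiplicity free sum of irreducibles of one degree;
* `apply_eq_zero_of_cent`: characters not trivial on `H` vanish where `C_H(g) = 1`;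
* `coset_const`: a class function pairing equally with the constituents of each `Ind θ` is
  constant on the cosets of `H` other than `H`.
-/

set_option autoImplicit false

namespace CfsgLib.OddChar.TypeFChars

open CfsgLib.Char CfsgLib.CharNormal
open scoped ComplexConjugate

universe u

variable {M : Type u} [Group M] [Fintype M] (H : Subgroup M) [hH : H.Normal]

/-- The data used about the complement. -/
structure Data (U U₁ : Subgroup M) : Prop where
  compl : Subgroup.IsComplement' H U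
  coprime : (Nat.card H).Coprime H.index
  le : U₁ ≤ U
  comm : ∀ a ∈ U₁, ∀ b ∈ U₁, a * b = b * a
  cent : ∀ h ∈ H, h ≠ 1 → U ⊓ Subgroup.centralizer ({h} : Set M) ≤ U₁

variable {H} {U U₁ : Subgroup M}

/-- The constituents of an induced non-principal character. -/
theorem exists_cons (hD : Data H U U₁) [Fintype H] {θ : H → ℂ} (hθ : Cfsg.IsIrrCharacter H θ)
    (h1 : θ ≠ fun _ => 1) :
    ∃ C : Finset (M → ℂ), (∀ χ ∈ C, Cfsg.IsIrrCharacter M χ) ∧
      Cfsg.indFun H θ = ∑ χ ∈ C, χ ∧ ∀ χ ∈ C, ∀ χ' ∈ C, χ 1 = χ' 1 := by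
  classical
  let T : Subgroup M := CfsgLib.CharNormal.inertia H θ
  have hT : ∀ g : M, g ∈ T ↔ CfsgLib.CharNormal.conjFun H g θ = θ := fun g => Iff.rfl
  have hHT : H ≤ T := le_inertia H (isClassFunction_of_isIrr hθ)
  have hU1 : ∀ x ∈ T, ∀ h ∈ H, ∀ u ∈ U, x = h * u → u ∈ U₁ := by
    intro x hx h hh u hu hxu
    have hut : u ∈ T := by
      have := mul_mem (inv_mem (hHT hh)) hx
      rwa [hxu, inv_mul_cancel_left] at this
    obtain ⟨k, hk, hk1, hc⟩ := (Cfsg.Agent.S1536.result H hD.coprime u).mp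
      ⟨θ, hθ, h1, (hT u).mp hut⟩
    exact hD.cent k hk hk1 ⟨hu, Subgroup.mem_centralizer_singleton_iff.mpr hc⟩
  have hab : ∀ x ∈ T, ∀ y ∈ T, x * y * x⁻¹ * y⁻¹ ∈ H := by
    intro x hx y hy
    obtain ⟨⟨⟨h, hh⟩, ⟨a, ha⟩⟩, hxa⟩ := (hD.compl.existsUnique x).exists
    obtain ⟨⟨⟨h', hh'⟩, ⟨b, hb⟩⟩, hyb⟩ := (hD.compl.existsUnique y).exists
    have hab' := hD.comm a (hU1 x hx h hh a ha hxa.symm) b (hU1 y hy h' hh' b hb hyb.symm)
    rw [← QuotientGroup.eq_one_iff]
    simp only [← hxa, ← hyb, QuotientGroup.mk_mul, QuotientGroup.mk_inv,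
      (QuotientGroup.eq_one_iff h).mpr hh, (QuotientGroup.eq_one_iff h').mpr hh', one_mul]
    rw [← QuotientGroup.mk_inv, ← QuotientGroup.mk_inv, ← QuotientGroup.mk_mul,
      ← QuotientGroup.mk_mul, ← QuotientGroup.mk_mul, hab', mul_inv_cancel_right, mul_inv_cancel,
      QuotientGroup.mk_one]
  have := Fintype.ofFinite T
  obtain ⟨e, C, -, hC, -, hind, hdeg, hcop⟩ := exists_constituents_inertia H T hθ hT hab
  have he : e = 1 := hcop (hD.coprime.coprime_dvd_right (by
    rw [← Subgroup.relIndex_mul_index hHT]; exact dvd_mul_right _ _))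
  refine ⟨C, hC, by rw [hind, he, Nat.cast_one, one_smul], fun χ hχ χ' hχ' => ?_⟩
  rw [hdeg χ hχ, hdeg χ' hχ']

omit hH in
theorem classInner_cons {C : Finset (M → ℂ)} (hC : ∀ χ ∈ C, Cfsg.IsIrrCharacter M χ) {φ : M → ℂ}
    (hφ : Cfsg.IsIrrCharacter M φ) [DecidableEq (M → ℂ)] :
    Cfsg.classInner (∑ χ ∈ C, χ) φ = if φ ∈ C then 1 else 0 := by
  rw [classInner_sum_left]
  split_ifs with h
  · rw [Finset.sum_eq_single φ, classInner_irr_self hφ]
    · exact fun χ hχ hne => classInner_irr_ne (hC χ hχ) hφ hne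
    · exact fun hn => absurd h hn
  · exact Finset.sum_eq_zero fun χ hχ => classInner_irr_ne (hC χ hχ) hφ fun e => h (e ▸ hχ)

/-- A character not trivial on `H` vanishes at `g` when `C_H(g) = 1`. -/
theorem apply_eq_zero_of_cent {χ : M → ℂ} (hχ : Cfsg.IsIrrCharacter M χ)
    (hker : ∃ h ∈ H, χ h ≠ χ 1) {g : M}
    (hg : ∀ h ∈ H, g * h = h * g → h = 1) : χ g = 0 := by
  classical
  have := Fintype.ofFinite (M ⧸ H)
  have hcard : Nat.card (Subgroup.centralizer ({g} : Set M)) ≤
      Nat.card (Subgroup.centralizer ({(g : M ⧸ H)} : Set (M ⧸ H))) := by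
    refine Nat.card_le_card_of_injective (fun c => ⟨((c : M) : M ⧸ H), ?_⟩) fun a b hab => ?_
    · rw [Subgroup.mem_centralizer_singleton_iff, ← QuotientGroup.mk_mul, ← QuotientGroup.mk_mul,
        Subgroup.mem_centralizer_singleton_iff.mp c.2]
    · have h1 : ((a : M)⁻¹ * b) ∈ H := QuotientGroup.eq.mp (congrArg Subtype.val hab)
      have h2 : (a : M)⁻¹ * b ∈ Subgroup.centralizer ({g} : Set M) := mul_mem (inv_mem a.2) b.2
      exact Subtype.ext (inv_mul_eq_one.mp
        (hg _ h1 (Subgroup.mem_centralizer_singleton_iff.mp h2).symm))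
  have h1 := second_orthogonality g g
  rw [if_pos (IsConj.refl g)] at h1
  have h2 := second_orthogonality (g : M ⧸ H) (g : M ⧸ H)
  rw [if_pos (IsConj.refl _)] at h2
  have hre : ∀ z : ℂ, z * conj z = ((‖z‖ ^ 2 : ℝ) : ℂ) := fun z => by
    rw [Complex.mul_conj']; push_cast; rfl
  simp only [hre] at h1 h2
  have h1' : ∑ φ : Cfsg.IrrCharacter M, ‖(φ : M → ℂ) g‖ ^ 2 =
      (Nat.card (Subgroup.centralizer ({g} : Set M)) : ℝ) := by exact_mod_cast h1
  have h2' : ∑ β : Cfsg.IrrCharacter (M ⧸ H), ‖(β : M ⧸ H → ℂ) (g : M ⧸ H)‖ ^ 2 =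
      (Nat.card (Subgroup.centralizer ({(g : M ⧸ H)} : Set (M ⧸ H))) : ℝ) := by exact_mod_cast h2
  let P : Cfsg.IrrCharacter M → Prop := fun φ => ∀ n ∈ H, (φ : M → ℂ) n = (φ : M → ℂ) 1
  have hinfl : ∑ φ ∈ Finset.univ.filter P, ‖(φ : M → ℂ) g‖ ^ 2 =
      ∑ β : Cfsg.IrrCharacter (M ⧸ H), ‖(β : M ⧸ H → ℂ) (g : M ⧸ H)‖ ^ 2 := by
    symm
    refine Finset.sum_bij (fun β _ => (inflEquiv H β).1)
      (fun β _ => Finset.mem_filter.mpr ⟨Finset.mem_univ _, (inflEquiv H β).2⟩)
      (fun a _ b _ hab => (inflEquiv H).injective (Subtype.ext hab))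
      (fun φ hφ => ?_) (fun β _ => by rw [inflEquiv_apply])
    obtain ⟨β, hβ⟩ := (inflEquiv H).surjective ⟨φ, (Finset.mem_filter.mp hφ).2⟩
    exact ⟨β, Finset.mem_univ _, congrArg Subtype.val hβ⟩
  rw [← Finset.sum_filter_add_sum_filter_not Finset.univ P, hinfl, h2'] at h1'
  have h3 : ∑ φ ∈ Finset.univ.filter (fun φ => ¬ P φ), ‖(φ : M → ℂ) g‖ ^ 2 ≤ 0 := by
    have : (Nat.card (Subgroup.centralizer ({g} : Set M)) : ℝ) ≤
        Nat.card (Subgroup.centralizer ({(g : M ⧸ H)} : Set (M ⧸ H))) := by exact_mod_cast hcard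
    linarith
  have hmem : (⟨χ, hχ⟩ : Cfsg.IrrCharacter M) ∈ Finset.univ.filter fun φ => ¬ P φ := by
    refine Finset.mem_filter.mpr ⟨Finset.mem_univ _, fun h => ?_⟩
    obtain ⟨n, hn, hne⟩ := hker
    exact hne (h n hn)
  have h4 := le_antisymm ((Finset.single_le_sum (f := fun φ : Cfsg.IrrCharacter M =>
    ‖(φ : M → ℂ) g‖ ^ 2) (fun φ _ => sq_nonneg _) hmem).trans h3) (sq_nonneg _)
  simpa using h4

/-- The multiplicities of the non-principal characters of `H` below a character not trivial on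
`H` weighted by degrees add up to its degree. -/
theorem sum_mult_degree [Fintype H] {φ : M → ℂ} (hφ : Cfsg.IsIrrCharacter M φ)
    (hker : ∃ h ∈ H, φ h ≠ φ 1) [DecidableEq (Cfsg.IrrCharacter H)] :
    ∑ θ ∈ Finset.univ.erase (irrOne : Cfsg.IrrCharacter H),
      Cfsg.classInner (fun h : H => φ h) (θ : H → ℂ) * (θ : H → ℂ) 1 = φ 1 := by
  have h := classFun_eq_sum (isClassFunction_of_isCharacter
    (isCharacter_res H (isCharacter_of_isIrr hφ)))
  have h1 := congrFun h 1
  rw [Finset.sum_apply, ← Finset.sum_erase_add _ _ (Finset.mem_univ irrOne)] at h1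
  simp only [Pi.smul_apply, smul_eq_mul] at h1
  have h0 : Cfsg.classInner (fun k : H => φ k) ((irrOne : Cfsg.IrrCharacter H) : H → ℂ) = 0 := by
    by_contra hne
    obtain ⟨k, hk, hk'⟩ := hker
    exact hk' (res_eq_degree_of_constituent_one H hφ hne k hk)
  rw [h0, zero_mul, add_zero] at h1
  exact h1.symm

/-- A class function with equal pairings against the constituents of each `Ind θ` is constant on
the cosets of `H` other than `H`. -/
theorem coset_const (hD : Data H U U₁) [Fintype H] {f : M → ℂ} (hf : Cfsg.IsClassFunction M f)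
    (heq : ∀ θ : H → ℂ, Cfsg.IsIrrCharacter H θ → θ ≠ (fun _ => 1) →
      ∀ φ φ' : M → ℂ, Cfsg.IsIrrCharacter M φ → Cfsg.IsIrrCharacter M φ' →
        Cfsg.classInner (Cfsg.indFun H θ) φ ≠ 0 → Cfsg.classInner (Cfsg.indFun H θ) φ' ≠ 0 →
        Cfsg.classInner f φ = Cfsg.classInner f φ') {y h : M} (hy : y ∉ H) (hh : h ∈ H) :
    f (y * h) = f y := by
  classical
  let P : Cfsg.IrrCharacter M → Prop := fun φ => ∀ n ∈ H, (φ : M → ℂ) n = (φ : M → ℂ) 1
  have key : ∀ z : M, z ∉ H →
      f z = ∑ φ ∈ Finset.univ.filter P, Cfsg.classInner f φ * (φ : M → ℂ) z := by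
    intro z hz
    have h := congrFun (classFun_eq_sum hf) z
    rw [Finset.sum_apply, ← Finset.sum_filter_add_sum_filter_not Finset.univ P] at h
    simp only [Pi.smul_apply, smul_eq_mul] at h
    rw [h, add_eq_left]
    -- weights
    have hw : ∀ φ ∈ Finset.univ.filter (fun φ => ¬ P φ),
        Cfsg.classInner f φ * (φ : M → ℂ) z =
          ∑ θ ∈ Finset.univ.erase (irrOne : Cfsg.IrrCharacter H),
            (θ : H → ℂ) 1 * (Cfsg.classInner (fun k : H => (φ : M → ℂ) k) (θ : H → ℂ) *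
              (Cfsg.classInner f φ / (φ : M → ℂ) 1) * (φ : M → ℂ) z) := by
      intro φ hφ
      have hker : ∃ k ∈ H, (φ : M → ℂ) k ≠ (φ : M → ℂ) 1 := by
        have := (Finset.mem_filter.mp hφ).2
        simp only [P, not_forall] at this
        obtain ⟨k, hk, hne⟩ := this
        exact ⟨k, hk, hne⟩
      rw [Finset.sum_congr rfl (g := fun θ : Cfsg.IrrCharacter H =>
        Cfsg.classInner (fun k : H => (φ : M → ℂ) k) (θ : H → ℂ) * (θ : H → ℂ) 1 *
          ((Cfsg.classInner f φ / (φ : M → ℂ) 1) * (φ : M → ℂ) z)) fun θ _ => by ring,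
        ← Finset.sum_mul, sum_mult_degree φ.2 hker]
      field_simp [irr_one_ne_zero φ.2]
    rw [Finset.sum_congr rfl hw, Finset.sum_comm]
    refine Finset.sum_eq_zero fun θ hθ => ?_
    rw [← Finset.mul_sum]
    refine mul_eq_zero_of_right _ ?_
    have hθ1 : (θ : H → ℂ) ≠ fun _ => 1 := fun e =>
      (Finset.mem_erase.mp hθ).1 (Subtype.ext e)
    obtain ⟨C, hC, hind, hdeg⟩ := exists_cons hD θ.2 hθ1
    have hm : ∀ φ : Cfsg.IrrCharacter M,
        Cfsg.classInner (fun k : H => (φ : M → ℂ) k) (θ : H → ℂ) =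
          if (φ : M → ℂ) ∈ C then 1 else 0 := fun φ => by
      rw [← classInner_conj_symm, ← frobenius_reciprocity H _ (isClassFunction_of_isIrr φ.2),
        hind, classInner_cons hC φ.2]
      split_ifs <;> simp
    have hne : C.Nonempty := by
      rw [Finset.nonempty_iff_ne_empty]
      rintro rfl
      have := congrFun hind 1
      rw [indFun_one] at this
      simp only [Finset.sum_empty, Pi.zero_apply, mul_eq_zero] at this
      rcases this with h | h
      · exact Subgroup.index_ne_zero_of_finite (Nat.cast_eq_zero.mp h)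
      · exact irr_one_ne_zero θ.2 h
    obtain ⟨χ₀, hχ₀⟩ := hne
    have hsum : Cfsg.indFun H (θ : H → ℂ) z = 0 :=
      indFun_eq_zero_of_forall H fun x hxm => absurd
        (by simpa [mul_assoc] using hH.conj_mem _ hxm x) hz
    rw [hind, Finset.sum_apply] at hsum
    have hconst : ∀ χ ∈ C, Cfsg.classInner f χ / χ 1 = Cfsg.classInner f χ₀ / χ₀ 1 := by
      intro χ hχ
      rw [hdeg χ hχ χ₀ hχ₀, heq (θ : H → ℂ) θ.2 hθ1 χ χ₀ (hC χ hχ) (hC χ₀ hχ₀)
        (by rw [hind, classInner_cons hC (hC χ hχ), if_pos hχ]; exact one_ne_zero)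
        (by rw [hind, classInner_cons hC (hC χ₀ hχ₀), if_pos hχ₀]; exact one_ne_zero)]
    calc ∑ φ ∈ Finset.univ.filter (fun φ => ¬ P φ),
        Cfsg.classInner (fun k : H => (φ : M → ℂ) k) (θ : H → ℂ) *
          (Cfsg.classInner f φ / (φ : M → ℂ) 1) * (φ : M → ℂ) z
        = ∑ χ ∈ C, Cfsg.classInner f χ₀ / χ₀ 1 * χ z := by
          symm
          refine Finset.sum_bij_ne_zero (fun χ hχ _ => (⟨χ, hC χ hχ⟩ : Cfsg.IrrCharacter M))
            (fun χ hχ _ => ?_) (fun a _ _ b _ _ hab => congrArg Subtype.val hab) (fun φ _ hφ => ?_)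
            (fun χ hχ _ => by rw [hm ⟨χ, hC χ hχ⟩, if_pos hχ, one_mul, hconst χ hχ])
          · refine Finset.mem_filter.mpr ⟨Finset.mem_univ _, fun hP => ?_⟩
            have hres : (fun k : H => χ k) = χ 1 • fun _ => (1 : ℂ) :=
              funext fun k => by simpa using hP k k.2
            have hmm := hm ⟨χ, hC χ hχ⟩
            rw [if_pos hχ] at hmm
            change Cfsg.classInner (fun k : H => χ k) (θ : H → ℂ) = 1 at hmm
            rw [hres, classInner_smul_left, classInner_irr_ne isIrrCharacter_one θ.2 hθ1.symm,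
              mul_zero] at hmm
            exact zero_ne_one hmm
          · rw [hm φ] at hφ
            split_ifs at hφ with hmem
            · exact ⟨φ, hmem, by
                rw [one_mul, hconst _ hmem] at hφ
                exact hφ, rfl⟩
            · simp at hφ
      _ = 0 := by rw [← Finset.mul_sum, hsum, mul_zero]
  have hyh : y * h ∉ H := fun h' => hy (by simpa using mul_mem h' (inv_mem hh))
  rw [key _ hyh, key _ hy]
  refine Finset.sum_congr rfl fun φ hφ => ?_
  rw [apply_mul_eq_one (isCharacter_of_isIrr φ.2) ((Finset.mem_filter.mp hφ).2 h hh)]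

end CfsgLib.OddChar.TypeFChars
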