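import Cfsg.Agent.Lib.OddChar.TypeIMeet
import Cfsg.Agent.Lib.OddChar.PairBessel
import Cfsg.Agent.Lib.OddChar.TypeFChars
import Cfsg.Agent.S1500
import Cfsg.Agent.S1509
import Cfsg.Agent.S1518

/-!
# A coherent character of `L` on another maximal subgroup `N` of Type I

For `ψ` with `ψ - ψ'` a Dade image from `L`, both irreducible up to sign:
* `dade_inner_psi_eq_zero`: the images of differences of constituents are orthogonal to `ψ`;
* `avg`: the averaged function on the Dade set;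
* `psi_coset`: `ψ` is constant on the cosets of `N_F` inside `A(N)`, outside `N_F`.
-/

set_option autoImplicit false

namespace CfsgLib.OddChar.TypeIOrth

open CfsgLib.Char CfsgLib.CharNormal CfsgLib.OddChar.TypeIProps
open scoped ComplexConjugate

universe u

variable {G : Type u} [Group G]

section Avg

variable [Fintype G] {A : Set G} {L : Subgroup G} {H : G → Subgroup G}

/-- The average of `f` over the coset of the supporting subgroup, on the Dade set. -/
noncomputable def avg (A : Set G) (L : Subgroup G) (H : G → Subgroup G) (f : G → ℂ) : L → ℂ :=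
  fun a => open Classical in if (a : G) ∈ A then
    (Nat.card (H a) : ℂ)⁻¹ * ∑ᶠ u ∈ (H a : Set G), f (a * u) else 0

theorem avg_apply {f : G → ℂ} {a : L} (ha : (a : G) ∈ A) :
    avg A L H f a = (Nat.card (H a) : ℂ)⁻¹ * ∑ᶠ u ∈ (H a : Set G), f (a * u) := by
  simp [avg, ha]

theorem avg_apply_none {f : G → ℂ} {a : L} (ha : (a : G) ∉ A) : avg A L H f a = 0 := by
  simp [avg, ha]

theorem avg_eq_of_forall {f : G → ℂ} {a : L} (ha : (a : G) ∈ A) {c : ℂ}
    (h : ∀ u ∈ H a, f ((a : G) * u) = c) : avg A L H f a = c := by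
  classical
  rw [avg_apply ha, ← finsum_set_coe_eq_finsum_mem, finsum_eq_sum_of_fintype,
    Finset.sum_congr rfl (g := fun _ => c) fun (u : (H (a : G) : Set G)) _ => h u u.2, Finset.sum_const, Finset.card_univ,
    nsmul_eq_mul, ← mul_assoc]
  simp only [SetLike.coe_sort_coe, ← Nat.card_eq_fintype_card]
  rw [inv_mul_cancel₀ (by exact_mod_cast Nat.card_pos.ne'), one_mul]

theorem avg_eq_of_bot {f : G → ℂ} {a : L} (ha : (a : G) ∈ A) (h : H a = ⊥) :
    avg A L H f a = f a :=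
  avg_eq_of_forall ha fun u hu => by
    rw [h, Subgroup.mem_bot] at hu
    rw [hu, mul_one]

theorem isClassFunction_avg (hD : Cfsg.DadeHypothesis A L H) {f : G → ℂ}
    (hf : Cfsg.IsClassFunction G f) : Cfsg.IsClassFunction L (avg A L H f) := by
  classical
  intro a c
  have hmem : ((c * a * c⁻¹ : L) : G) = (c : G) * a * (c : G)⁻¹ := by simp
  by_cases ha : (a : G) ∈ A
  swap
  · rw [avg_apply_none ha, avg_apply_none]
    intro h
    rw [hmem] at h
    have h' := hD.conj_mem _ (inv_mem c.2) _ h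
    exact ha (by simpa [mul_assoc] using h')
  have hca : ((c * a * c⁻¹ : L) : G) ∈ A := hmem ▸ hD.conj_mem _ c.2 _ ha
  rw [avg_apply ha, avg_apply hca, hmem, Dade.H_conj hD ha c.2,
    Subgroup.card_map_of_injective (MulEquiv.injective _)]
  congr 1
  rw [← finsum_set_coe_eq_finsum_mem, ← finsum_set_coe_eq_finsum_mem,
    finsum_eq_sum_of_fintype, finsum_eq_sum_of_fintype]
  symm
  refine Fintype.sum_equiv
    ((H (a : G)).equivMapOfInjective _ (MulEquiv.injective (MulAut.conj (c : G)))).toEquiv _ _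
    fun u => ?_
  show f ((a : G) * u) = f ((c : G) * a * (c : G)⁻¹ * ((c : G) * u * (c : G)⁻¹))
  rw [show (c : G) * a * (c : G)⁻¹ * ((c : G) * u * (c : G)⁻¹) = c * (a * u) * (c : G)⁻¹ by group,
    hf]

/-- The adjoint property of `avg`. -/
theorem classInner_dade [Fintype L] (hD : Cfsg.DadeHypothesis A L H) {α : L → ℂ}
    (hα : Cfsg.IsClassFunction L α) (hαA : ∀ x : L, (x : G) ∉ A → α x = 0) {f : G → ℂ}
    (hf : Cfsg.IsClassFunction G f) :
    Cfsg.classInner (Cfsg.dadeIsometry A L H α) f = Cfsg.classInner α (avg A L H f) :=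
  Dade.dade_classInner hD hα hαA hf fun _ ha => avg_apply ha

omit [Fintype G] in
theorem dade_sub (α β : L → ℂ) : Cfsg.dadeIsometry A L H (α - β) =
    Cfsg.dadeIsometry A L H α - Cfsg.dadeIsometry A L H β := by
  funext g
  simp only [Cfsg.dadeIsometry, Pi.sub_apply]
  split_ifs <;> simp

end Avg

variable [Fintype G] (P : Props G) {L N : Subgroup G} [Fintype L] [Fintype N]

/-- Irreducible characters of `N` not trivial on `N_F`. -/
def NotTriv (N : Subgroup G) (φ : N → ℂ) : Prop :=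
  Cfsg.IsIrrCharacter N φ ∧ ∃ h ∈ Cfsg.fittingHall N, φ h ≠ φ 1

omit [Fintype G] [Fintype L] in
theorem notTriv_conj {φ : N → ℂ} (h : NotTriv N φ) : NotTriv N (Cfsg.conjFun φ) := by
  obtain ⟨k, hk, hne⟩ := h.2
  exact ⟨PairBessel.isIrr_conjFun h.1, k, hk, fun e => hne ((starRingEnd ℂ).injective e)⟩

include P

omit [Fintype L] in
theorem notTriv_ne_conj (hN : IsCoatom N) (hNI : CfsgLib.OddLocal.S15.IsTypeICore N) {φ : N → ℂ}
    (h : NotTriv N φ) : φ ≠ Cfsg.conjFun φ := by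
  intro e
  have _ := hN
  have h1 : (⟨φ, h.1⟩ : Cfsg.IrrCharacter N) = irrOne :=
    irr_real_eq_one hNI.1.2.1 (χ := ⟨φ, h.1⟩) (Subtype.ext e.symm)
  obtain ⟨k, -, hne⟩ := h.2
  have h2 : φ = fun _ => 1 := congrArg Subtype.val h1
  exact hne (by rw [h2])

omit P [Fintype L] in
theorem notTriv_apply_eq_zero (hNI : CfsgLib.OddLocal.S15.IsTypeICore N) {φ : N → ℂ} (h : NotTriv N φ) {x : N}
    (hx1 : x ≠ 1) (hx : (x : G) ∉ CfsgLib.OddLocal.S15.typeACore N) : φ x = 0 := by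
  refine TypeFChars.apply_eq_zero_of_cent (H := Cfsg.fittingHall N) h.1 h.2 fun k hk hxk => ?_
  by_contra hk1
  exact hx ((mem_typeA_iff hNI).2 ⟨x.2, fun e => hx1 (Subtype.ext e), k,
    TypeICoherence.mem_fittingHallOf_iff.2 hk, fun e => hk1 (Subtype.ext e),
    congrArg Subtype.val hxk⟩)

omit P [Fintype L] in
theorem sum_apply_eq_zero (hNI : CfsgLib.OddLocal.S15.IsTypeICore N) (A B : Finset (N → ℂ))
    (hA : ∀ φ ∈ A, NotTriv N φ) (hB : ∀ φ ∈ B, NotTriv N φ)
    (h1 : ∑ φ ∈ A, φ 1 = ∑ φ ∈ B, φ 1) {x : N} (hx : (x : G) ∉ CfsgLib.OddLocal.S15.typeACore N) :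
    (∑ φ ∈ A, φ - ∑ φ ∈ B, φ) x = 0 := by
  rw [Pi.sub_apply, Finset.sum_apply, Finset.sum_apply]
  by_cases hx1 : x = 1
  · rw [hx1, h1, sub_self]
  · rw [Finset.sum_eq_zero fun φ hφ => notTriv_apply_eq_zero hNI (hA φ hφ) hx1 hx,
      Finset.sum_eq_zero fun φ hφ => notTriv_apply_eq_zero hNI (hB φ hφ) hx1 hx, sub_zero]

variable (hL : IsCoatom L) (hLI : CfsgLib.OddLocal.S15.IsTypeICore L)
  (hfrob : ∀ x ∈ Cfsg.fittingHallOf L, x ≠ 1 →
    L ⊓ Subgroup.centralizer ({x} : Set G) ≤ Cfsg.fittingHallOf L)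
  (hN : IsCoatom N) (hNI : CfsgLib.OddLocal.S15.IsTypeICore N)
  (hne : ∀ g : G, N ≠ L.map (MulAut.conj g).toMonoidHom)
  {ψ ψ' : G → ℂ} (hψ : Cfsg.IsIrrCharacter G ψ ∨ Cfsg.IsIrrCharacter G (-ψ))
  (hψ' : Cfsg.IsIrrCharacter G ψ' ∨ Cfsg.IsIrrCharacter G (-ψ')) (hψ1 : ψ 1 = ψ' 1)
  (hψo : Cfsg.classInner ψ ψ' = 0) {α : L → ℂ} (hα : Cfsg.IsClassFunction L α)
  (hψd : ψ - ψ' = Cfsg.dadeIsometry (CfsgLib.OddLocal.S15.typeACore L) L (Cfsg.supportR L) α)

include hN hNI

/-- The pair of characters of `G` attached to `φ`. -/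
theorem exists_mu {φ : N → ℂ} (h : NotTriv N φ) :
    ∃ μ : G → ℂ, Cfsg.IsIrrCharacter G μ ∧ μ ≠ Cfsg.conjFun μ ∧
      Cfsg.dadeIsometry (CfsgLib.OddLocal.S15.typeACore N) N (Cfsg.supportR N) (φ - Cfsg.conjFun φ) =
        μ - Cfsg.conjFun μ := by
  classical
  obtain ⟨μ, hμ, he⟩ := Cfsg.Agent.S1518.result (CfsgLib.OddLocal.S15.typeACore N) N (Cfsg.supportR N) (P.dade N hN)
    φ h.1 fun x hx1 hx => notTriv_apply_eq_zero hNI h hx1 hx
  refine ⟨μ, hμ, fun e => ?_, he⟩
  have hne' := notTriv_ne_conj P hN hNI h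
  have hcl : Cfsg.IsClassFunction N (φ - Cfsg.conjFun φ) :=
    isClassFunction_sub (isClassFunction_of_isIrr h.1)
      (isClassFunction_of_isIrr (notTriv_conj h).1)
  have hA : ∀ x : N, (x : G) ∉ CfsgLib.OddLocal.S15.typeACore N → (φ - Cfsg.conjFun φ) x = 0 := fun x hx => by
    have := sum_apply_eq_zero hNI {φ} {Cfsg.conjFun φ} (by simpa using h)
      (by simpa using notTriv_conj h) (by
        rw [Finset.sum_singleton, Finset.sum_singleton]
        exact (char_conj_one (isCharacter_of_isIrr h.1)).symm) hx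
    simpa using this
  have hiso := (Cfsg.Agent.S1500.result _ N _ (P.dade N hN) _ hcl hA).1 _ hcl hA
  rw [he, ← e, sub_self, classInner_zero_left, classInner_sub_left, classInner_sub_right,
    classInner_sub_right, classInner_irr_self h.1, classInner_irr_self (notTriv_conj h).1,
    classInner_irr_ne h.1 (notTriv_conj h).1 hne',
    classInner_irr_ne (notTriv_conj h).1 h.1 hne'.symm] at hiso
  norm_num at hiso

omit hN hNI in
theorem pair_classInner (hN : IsCoatom N) (hNI : CfsgLib.OddLocal.S15.IsTypeICore N) (A B : Finset (N → ℂ))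
    (hA : ∀ φ ∈ A, NotTriv N φ) (hB : ∀ φ ∈ B, NotTriv N φ)
    (h1 : ∑ φ ∈ A, φ 1 = ∑ φ ∈ B, φ 1) {φ : N → ℂ} (h : NotTriv N φ) {μ : G → ℂ}
    (he : Cfsg.dadeIsometry (CfsgLib.OddLocal.S15.typeACore N) N (Cfsg.supportR N) (φ - Cfsg.conjFun φ) =
      μ - Cfsg.conjFun μ) :
    Cfsg.classInner (Cfsg.dadeIsometry (CfsgLib.OddLocal.S15.typeACore N) N (Cfsg.supportR N)
        (∑ χ ∈ A, χ - ∑ χ ∈ B, χ)) μ -
      Cfsg.classInner (Cfsg.dadeIsometry (CfsgLib.OddLocal.S15.typeACore N) N (Cfsg.supportR N)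
        (∑ χ ∈ A, χ - ∑ χ ∈ B, χ)) (Cfsg.conjFun μ) =
    Cfsg.classInner (∑ χ ∈ A, χ - ∑ χ ∈ B, χ) (φ - Cfsg.conjFun φ) := by
  rw [← classInner_sub_right, ← he]
  refine (Cfsg.Agent.S1500.result _ N _ (P.dade N hN) _ ?_ ?_).1 _ ?_ ?_
  · exact isClassFunction_sub (isClassFunction_sum A fun χ hχ => isClassFunction_of_isIrr (hA χ hχ).1)
      (isClassFunction_sum B fun χ hχ => isClassFunction_of_isIrr (hB χ hχ).1)
  · exact fun x hx => sum_apply_eq_zero hNI A B hA hB h1 hx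
  · exact isClassFunction_sub (isClassFunction_of_isIrr h.1)
      (isClassFunction_of_isIrr (notTriv_conj h).1)
  · intro x hx
    have := sum_apply_eq_zero hNI {φ} {Cfsg.conjFun φ} (by simpa using h)
      (by simpa using notTriv_conj h) (by
        rw [Finset.sum_singleton, Finset.sum_singleton]
        exact (char_conj_one (isCharacter_of_isIrr h.1)).symm) hx
    simpa using this

theorem mu_disjoint {φ φ' : N → ℂ} (h : NotTriv N φ) (h' : NotTriv N φ') (hd : φ ≠ φ')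
    (hd' : φ ≠ Cfsg.conjFun φ') {μ μ' : G → ℂ} (hμ : Cfsg.IsIrrCharacter G μ)
    (hμ' : Cfsg.IsIrrCharacter G μ') (hμn : μ ≠ Cfsg.conjFun μ) (hμn' : μ' ≠ Cfsg.conjFun μ')
    (he : Cfsg.dadeIsometry (CfsgLib.OddLocal.S15.typeACore N) N (Cfsg.supportR N) (φ - Cfsg.conjFun φ) =
      μ - Cfsg.conjFun μ)
    (he' : Cfsg.dadeIsometry (CfsgLib.OddLocal.S15.typeACore N) N (Cfsg.supportR N) (φ' - Cfsg.conjFun φ') =
      μ' - Cfsg.conjFun μ') :
    μ ≠ μ' ∧ μ ≠ Cfsg.conjFun μ' := by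
  classical
  have h0 := pair_classInner P hN hNI {φ} {Cfsg.conjFun φ} (by simpa using h)
    (by simpa using notTriv_conj h) (by
      rw [Finset.sum_singleton, Finset.sum_singleton]
      exact (char_conj_one (isCharacter_of_isIrr h.1)).symm) h' he'
  simp only [Finset.sum_singleton] at h0
  rw [he, ← classInner_sub_right] at h0
  have hd'' : Cfsg.conjFun φ ≠ φ' := fun e => hd' (by rw [← e, PairBessel.conjFun_conjFun])
  have hd3 : Cfsg.conjFun φ ≠ Cfsg.conjFun φ' := fun e => hd (by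
    rw [← PairBessel.conjFun_conjFun φ, e, PairBessel.conjFun_conjFun])
  have hz : Cfsg.classInner (φ - Cfsg.conjFun φ) (φ' - Cfsg.conjFun φ') = 0 := by
    simp only [classInner_sub_left, classInner_sub_right, classInner_irr_ne h.1 h'.1 hd,
      classInner_irr_ne h.1 (notTriv_conj h').1 hd',
      classInner_irr_ne (notTriv_conj h).1 h'.1 hd'',
      classInner_irr_ne (notTriv_conj h).1 (notTriv_conj h').1 hd3]
    ring
  rw [hz] at h0
  have hμc := PairBessel.isIrr_conjFun hμ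
  have hμc' := PairBessel.isIrr_conjFun hμ'
  obtain ⟨o1, o2, -, -⟩ := Cfsg.Agent.S1509.result μ (Cfsg.conjFun μ) μ' (Cfsg.conjFun μ')
    (Or.inl hμ) (Or.inl hμc) (Or.inl hμ') (Or.inl hμc') 1 1 one_ne_zero one_ne_zero
    (classInner_irr_ne hμ hμc hμn) (classInner_irr_ne hμ' hμc' hμn') (by simpa using h0)
    (char_conj_one (isCharacter_of_isIrr hμ)).symm
    (by simpa [Cfsg.conjFun] using (char_conj_one (isCharacter_of_isIrr hμ')).symm)
  constructor
  · rintro rfl
    rw [classInner_irr_self hμ] at o1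
    exact one_ne_zero o1
  · intro e
    rw [e, classInner_irr_self hμc'] at o2
    exact one_ne_zero o2

include hL hLI hfrob hne hψ hψ' hψ1 hψo hα hψd

theorem psi_orth_mu {φ : N → ℂ} (h : NotTriv N φ) {μ : G → ℂ} (hμ : Cfsg.IsIrrCharacter G μ)
    (hμn : μ ≠ Cfsg.conjFun μ)
    (he : Cfsg.dadeIsometry (CfsgLib.OddLocal.S15.typeACore N) N (Cfsg.supportR N) (φ - Cfsg.conjFun φ) =
      μ - Cfsg.conjFun μ) :
    Cfsg.classInner ψ μ = 0 ∧ Cfsg.classInner ψ (Cfsg.conjFun μ) = 0 := by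
  classical
  have hμc := PairBessel.isIrr_conjFun hμ
  have horth := TypeIMeet.orth P hL hLI hfrob hN hNI hne hα
    (β := φ - Cfsg.conjFun φ)
    (isClassFunction_sub (isClassFunction_of_isIrr h.1)
      (isClassFunction_of_isIrr (notTriv_conj h).1))
    (fun x hx => by
      have := sum_apply_eq_zero hNI {φ} {Cfsg.conjFun φ} (by simpa using h)
        (by simpa using notTriv_conj h) (by
          rw [Finset.sum_singleton, Finset.sum_singleton]
          exact (char_conj_one (isCharacter_of_isIrr h.1)).symm) hx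
      simpa using this)
    (fun n _ => by
      simp only [Pi.sub_apply, Finset.sum_sub_distrib]
      rw [PairBessel.sum_coset_eq_zero _ h.1 h.2, PairBessel.sum_coset_eq_zero _ (notTriv_conj h).1
        (notTriv_conj h).2, sub_zero])
  rw [he, ← hψd, ← classInner_conj_symm, map_eq_zero] at horth
  obtain ⟨o1, o2, -, -⟩ := Cfsg.Agent.S1509.result ψ ψ' μ (Cfsg.conjFun μ) hψ hψ'
    (Or.inl hμ) (Or.inl hμc) 1 1 one_ne_zero one_ne_zero hψo
    (classInner_irr_ne hμ hμc hμn) (by simpa using horth) hψ1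
    (by simpa [Cfsg.conjFun] using (char_conj_one (isCharacter_of_isIrr hμ)).symm)
  exact ⟨o1, o2⟩

/-- The images of differences of constituents are orthogonal to `ψ`. -/
theorem dade_inner_psi_eq_zero (A B : Finset (N → ℂ))
    (hA : ∀ φ ∈ A, NotTriv N φ) (hB : ∀ φ ∈ B, NotTriv N φ) (hAB : ∀ φ ∈ A, φ ∉ B)
    (hAA : ∀ φ ∈ A, Cfsg.conjFun φ ∉ A) (hBB : ∀ φ ∈ B, Cfsg.conjFun φ ∉ B)
    (h1 : ∑ φ ∈ A, φ 1 = ∑ φ ∈ B, φ 1) :
    Cfsg.classInner (Cfsg.dadeIsometry (CfsgLib.OddLocal.S15.typeACore N) N (Cfsg.supportR N)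
      (∑ φ ∈ A, φ - ∑ φ ∈ B, φ)) ψ = 0 := by
  classical
  set β := ∑ φ ∈ A, φ - ∑ φ ∈ B, φ with hβ
  set B' := B.filter fun φ => Cfsg.conjFun φ ∉ A with hB'
  have hgen : Cfsg.IsGeneralizedCharacter N β :=
    isGen_sub (isGen_sum A fun φ hφ => isGen_of_irr (hA φ hφ).1)
      (isGen_sum B fun φ hφ => isGen_of_irr (hB φ hφ).1)
  have hV := Dade.isGen_dade (P.dade N hN) hgen fun x hx => sum_apply_eq_zero hNI A B hA hB h1 hx
  have hS : ∀ φ ∈ A ∪ B', NotTriv N φ := fun φ hφ => (Finset.mem_union.1 hφ).elim (hA φ)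
    fun h => hB φ (Finset.mem_filter.1 h).1
  choose μ hμ hμn he using fun φ : {φ // φ ∈ A ∪ B'} => exists_mu P hN hNI (hS φ.1 φ.2)
  have hcoef : ∀ (C : Finset (N → ℂ)), (∀ φ ∈ C, NotTriv N φ) → ∀ φ : N → ℂ,
      Cfsg.IsIrrCharacter N φ →
      Cfsg.classInner (∑ χ ∈ C, χ) φ = if φ ∈ C then 1 else 0 := fun C hC φ hφ =>
    TypeFChars.classInner_cons (fun χ hχ => (hC χ hχ).1) hφ
  let need : (N → ℂ) → ℤ := fun φ => if φ ∈ A ∧ Cfsg.conjFun φ ∈ B then 2 else 1
  let d : (N → ℂ) → ℤ := fun φ => if φ ∈ A then (if Cfsg.conjFun φ ∈ B then 2 else 1) else -1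
  have hneed : ∀ φ : N → ℂ, ∀ a b : ℤ, a - b = d φ → need φ ≤ a ^ 2 + b ^ 2 := by
    intro φ a b hab
    simp only [d, need] at hab ⊢
    by_cases hφA : φ ∈ A <;> by_cases hc : Cfsg.conjFun φ ∈ B <;>
      simp [hφA, hc] at hab ⊢ <;> nlinarith [sq_nonneg (a + b), sq_nonneg a, sq_nonneg b]
  have hnorm : Cfsg.classInner β β = (A.card : ℂ) + B.card := by
    rw [hβ, classInner_sub_left, classInner_sub_right, classInner_sub_right, classInner_sum_right,
      classInner_sum_right, classInner_sum_right, classInner_sum_right]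
    rw [Finset.sum_congr rfl fun φ hφ => hcoef A hA φ (hA φ hφ).1,
      Finset.sum_congr rfl fun φ hφ => hcoef A hA φ (hB φ hφ).1,
      Finset.sum_congr rfl fun φ hφ => hcoef B hB φ (hA φ hφ).1,
      Finset.sum_congr rfl fun φ hφ => hcoef B hB φ (hB φ hφ).1]
    rw [Finset.sum_congr rfl fun φ hφ => if_pos hφ,
      Finset.sum_congr rfl (g := fun _ => (0 : ℂ)) fun φ hφ => if_neg fun h => hAB φ h hφ,
      Finset.sum_congr rfl (g := fun _ => (0 : ℂ)) fun φ hφ => if_neg (hAB φ hφ),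
      Finset.sum_congr rfl fun φ hφ => if_pos hφ]
    simp
  have hsum : ∑ φ ∈ A ∪ B', need φ = (A.card : ℤ) + B.card := by
    have hdis : Disjoint A B' := Finset.disjoint_left.2 fun φ h h' =>
      hAB φ h (Finset.mem_filter.1 h').1
    rw [Finset.sum_union hdis]
    have h2 : ∑ φ ∈ A, need φ =
        (A.card : ℤ) + (A.filter fun φ => Cfsg.conjFun φ ∈ B).card := by
      rw [Finset.sum_congr rfl (g := fun φ : N → ℂ =>
        (1 : ℤ) + if Cfsg.conjFun φ ∈ B then 1 else 0) fun φ hφ => by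
          simp only [need]; split_ifs <;> simp_all, Finset.sum_add_distrib, Finset.sum_boole]
      simp
    have h3 : ∑ φ ∈ B', need φ = (B'.card : ℤ) := by
      rw [Finset.sum_congr rfl (g := fun _ => (1 : ℤ)) fun φ hφ => if_neg fun h =>
        hAB φ h.1 (Finset.mem_filter.1 hφ).1]
      simp [hB']
    have h4 : (A.filter fun φ => Cfsg.conjFun φ ∈ B).card =
        (B.filter fun φ => Cfsg.conjFun φ ∈ A).card := by
      refine Finset.card_bij' (fun φ _ => Cfsg.conjFun φ) (fun φ _ => Cfsg.conjFun φ)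
        (fun φ hφ => ?_) (fun φ hφ => ?_) (fun φ _ => PairBessel.conjFun_conjFun φ)
        (fun φ _ => PairBessel.conjFun_conjFun φ)
      all_goals
        rw [Finset.mem_filter] at hφ ⊢
        exact ⟨hφ.2, by rw [PairBessel.conjFun_conjFun]; exact hφ.1⟩
    have h5 : (B.filter fun φ => Cfsg.conjFun φ ∈ A).card + B'.card = B.card :=
      Finset.card_filter_add_card_filter_not _
    rw [h2, h3, h4]
    have : ((B.filter fun φ => Cfsg.conjFun φ ∈ A).card : ℤ) + B'.card = B.card := by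
      exact_mod_cast h5
    linarith
  have hmemB : ∀ φ ∈ A ∪ B', φ ∉ A → φ ∈ B ∧ Cfsg.conjFun φ ∉ A := fun φ hφ h =>
    Finset.mem_filter.1 ((Finset.mem_union.1 hφ).resolve_left h)
  have hd : ∀ φ : {φ // φ ∈ A ∪ B'},
      Cfsg.classInner β (φ.1 - Cfsg.conjFun φ.1) = (d φ.1 : ℂ) := by
    rintro ⟨φ, hφ⟩
    have hφn := hS φ hφ
    rw [hβ, classInner_sub_left, classInner_sub_right, classInner_sub_right,
      hcoef A hA φ hφn.1, hcoef A hA _ (notTriv_conj hφn).1, hcoef B hB φ hφn.1,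
      hcoef B hB _ (notTriv_conj hφn).1]
    simp only [d]
    by_cases hφA : φ ∈ A
    · rw [if_pos hφA, if_pos hφA, if_neg (hAA φ hφA), if_neg (hAB φ hφA)]
      split_ifs <;> norm_num
    · obtain ⟨hφB, hcA⟩ := hmemB φ hφ hφA
      rw [if_neg hφA, if_neg hφA, if_neg hcA, if_pos hφB, if_neg (hBB φ hφB)]
      norm_num
  have hcl := isClassFunction_of_isGen hgen
  have hsupp : ∀ x : N, (x : G) ∉ CfsgLib.OddLocal.S15.typeACore N → β x = 0 :=
    fun x hx => sum_apply_eq_zero hNI A B hA hB h1 hx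
  have key : ∀ ξ : G → ℂ, Cfsg.IsIrrCharacter G ξ →
      (∀ φ : {φ // φ ∈ A ∪ B'}, ξ ≠ μ φ ∧ ξ ≠ Cfsg.conjFun (μ φ)) →
      Cfsg.classInner (Cfsg.dadeIsometry (CfsgLib.OddLocal.S15.typeACore N) N (Cfsg.supportR N) β) ξ = 0 := by
    intro ξ hξ hξne
    refine PairBessel.classInner_eq_zero_of_pairs (A ∪ B').attach hV
      (μ := μ) (fun φ _ => hμ φ) (fun φ _ => hμn φ) (fun φ _ φ' _ hne' => ?_)
      (fun φ => d φ.1) (fun φ => need φ.1) (fun φ _ => ?_) (fun φ _ => hneed φ.1) ?_ hξ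
      (fun φ _ => hξne φ)
    · refine mu_disjoint P hN hNI (hS φ.1 φ.2) (hS φ'.1 φ'.2) (fun e => hne' (Subtype.ext e))
        (fun e => ?_) (hμ φ) (hμ φ') (hμn φ) (hμn φ') (he φ) (he φ')
      rcases Finset.mem_union.1 φ'.2 with h' | h'
      · rcases Finset.mem_union.1 φ.2 with h | h
        · exact hAA φ'.1 h' (e ▸ h)
        · exact (Finset.mem_filter.1 h).2 (by rw [e, PairBessel.conjFun_conjFun]; exact h')
      · rcases Finset.mem_union.1 φ.2 with h | h
        · exact (Finset.mem_filter.1 h').2 (e ▸ h)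
        · exact hBB φ'.1 (Finset.mem_filter.1 h').1 (e ▸ (Finset.mem_filter.1 h).1)
    · rw [pair_classInner P hN hNI A B hA hB h1 (hS φ.1 φ.2) (he φ), hd φ]
    · rw [(Cfsg.Agent.S1500.result _ N _ (P.dade N hN) β hcl hsupp).1 β hcl hsupp, hnorm,
        Finset.sum_attach (A ∪ B') need, hsum]
      simp
  rcases hψ with h | h
  · refine key ψ h fun φ => ?_
    obtain ⟨o1, o2⟩ := psi_orth_mu P hL hLI hfrob hN hNI hne (Or.inl h) hψ' hψ1 hψo hα hψd
      (hS φ.1 φ.2) (hμ φ) (hμn φ) (he φ)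
    constructor <;> intro e
    · rw [e, classInner_irr_self (hμ φ)] at o1; exact one_ne_zero o1
    · rw [e, classInner_irr_self (PairBessel.isIrr_conjFun (hμ φ))] at o2; exact one_ne_zero o2
  · have h0 := key (-ψ) h fun φ => by
      obtain ⟨o1, o2⟩ := psi_orth_mu P hL hLI hfrob hN hNI hne (Or.inr h) hψ' hψ1 hψo hα hψd
        (hS φ.1 φ.2) (hμ φ) (hμn φ) (he φ)
      constructor <;> intro e <;> rw [neg_eq_iff_eq_neg] at e
      · rw [e, classInner_neg_left, classInner_irr_self (hμ φ), neg_eq_zero] at o1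
        exact one_ne_zero o1
      · rw [e, classInner_neg_left, classInner_irr_self (PairBessel.isIrr_conjFun (hμ φ)),
          neg_eq_zero] at o2
        exact one_ne_zero o2
    rwa [classInner_neg_right, neg_eq_zero] at h0

/-- `ψ` is constant on the cosets of `N_F` inside `A(N)`, outside `N_F`. -/
theorem psi_coset {y h : G} (hy : y ∈ CfsgLib.OddLocal.S15.typeACore N) (hyF : y ∉ Cfsg.fittingHallOf N)
    (hh : h ∈ Cfsg.fittingHallOf N) (hyh : y * h ∈ CfsgLib.OddLocal.S15.typeACore N) : ψ (y * h) = ψ y := by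
  classical
  have hψcl : Cfsg.IsClassFunction G ψ := by
    rcases hψ with h' | h'
    · exact isClassFunction_of_isIrr h'
    · exact fun g c => by simpa using isClassFunction_of_isIrr h' g c
  obtain ⟨U, -, hU, ⟨U₁, hU₁, -, hc, hcent⟩, -⟩ := hNI.1.2.2.2.2
  have hdata : TypeFChars.Data (Cfsg.fittingHall N) U U₁ := ⟨hU,
    CfsgLib.OddLocal.fittingHall_spec.2.2, hU₁,
    fun a ha b hb => congrArg Subtype.val (hc.is_comm.comm (⟨a, ha⟩ : U₁) ⟨b, hb⟩), hcent⟩
  have hD := P.dade N hN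
  set f := avg (CfsgLib.OddLocal.S15.typeACore N) N (Cfsg.supportR N) ψ with hf
  have hval : ∀ z : N, (z : G) ∈ CfsgLib.OddLocal.S15.typeACore N → (z : G) ∉ Cfsg.fittingHallOf N →
      f z = ψ z := fun z hz hzF =>
    avg_eq_of_bot hz (supportR_eq_bot (cent_le_of_mem_typeA P hN hNI hz hzF))
  have hyN : y ∈ N := ((mem_typeA_iff hNI).1 hy).1
  have hhN : h ∈ N := CfsgLib.OddLocal.fittingHallOf_le N hh
  have hyhF : y * h ∉ Cfsg.fittingHallOf N := fun e => hyF (by
    simpa using mul_mem e (inv_mem hh))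
  have key := TypeFChars.coset_const hdata (f := f) (isClassFunction_avg hD hψcl) ?_
    (y := ⟨y, hyN⟩) (h := ⟨h, hhN⟩)
    (fun e => hyF (TypeICoherence.mem_fittingHallOf_iff.2 e))
    ((TypeICoherence.mem_fittingHallOf_iff (x := ⟨h, hhN⟩)).1 hh)
  · rwa [hval _ hyh hyhF, hval ⟨y, hyN⟩ hy hyF] at key
  intro θ hθ hθ1 φ φ' hφ hφ' hc1 hc2
  by_cases heq : φ = φ'
  · rw [heq]
  have hnt : ∀ χ : N → ℂ, Cfsg.IsIrrCharacter N χ →
      Cfsg.classInner (Cfsg.indFun (Cfsg.fittingHall N) θ) χ ≠ 0 → NotTriv N χ := by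
    intro χ hχ hne'
    refine ⟨hχ, ?_⟩
    by_contra htriv
    push Not at htriv
    refine hne' ?_
    rw [frobenius_reciprocity _ θ (isClassFunction_of_isIrr hχ),
      show (fun k : Cfsg.fittingHall N => χ k) = χ 1 • fun _ => (1 : ℂ) from
        funext fun k => by simpa using htriv k k.2,
      classInner_smul_right, classInner_irr_ne hθ isIrrCharacter_one hθ1, mul_zero]
  obtain ⟨C, hC, hind, hdeg⟩ := TypeFChars.exists_cons hdata hθ hθ1
  have hmem : ∀ χ : N → ℂ, Cfsg.IsIrrCharacter N χ →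
      Cfsg.classInner (Cfsg.indFun (Cfsg.fittingHall N) θ) χ ≠ 0 → χ ∈ C := by
    intro χ hχ hne'
    by_contra hχC
    rw [hind, TypeFChars.classInner_cons hC hχ, if_neg hχC] at hne'
    exact hne' rfl
  have h0 := dade_inner_psi_eq_zero P hL hLI hfrob hN hNI hne hψ hψ' hψ1 hψo hα hψd {φ} {φ'}
    (by simpa using hnt φ hφ hc1) (by simpa using hnt φ' hφ' hc2) (by simpa using heq)
    (by simpa using (notTriv_ne_conj P hN hNI (hnt φ hφ hc1)).symm)
    (by simpa using (notTriv_ne_conj P hN hNI (hnt φ' hφ' hc2)).symm)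
    (by simpa using hdeg φ (hmem φ hφ hc1) φ' (hmem φ' hφ' hc2))
  rw [classInner_dade hD (isClassFunction_sub
      (isClassFunction_sum _ fun χ hχ => by
        rw [Finset.mem_singleton] at hχ; subst hχ; exact isClassFunction_of_isIrr hφ)
      (isClassFunction_sum _ fun χ hχ => by
        rw [Finset.mem_singleton] at hχ; subst hχ; exact isClassFunction_of_isIrr hφ'))
    (fun x hx => sum_apply_eq_zero hNI {φ} {φ'} (by simpa using hnt φ hφ hc1)
      (by simpa using hnt φ' hφ' hc2)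
      (by simpa using hdeg φ (hmem φ hφ hc1) φ' (hmem φ' hφ' hc2)) hx) hψcl,
    Finset.sum_singleton, Finset.sum_singleton, classInner_sub_left, sub_eq_zero] at h0
  rw [← classInner_conj_symm φ f, ← classInner_conj_symm φ' f, ← hf] at *
  rw [h0]

end CfsgLib.OddChar.TypeIOrth
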