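import Cfsg.Agent.Lib.OddChar.PowCongr
import Cfsg.Agent.Lib.OddChar.TypeIOrth
import Cfsg.Agent.Lib.OddChar.NormalInd
import Cfsg.Agent.Lib.CharNormal.Clifford
import Cfsg.Agent.Lib.Char.Linear

/-!
# General lemmas for the bound in S1540

* `indFun_const_one`, `exists_linear_ne_one`;
* `conj_notMem_cons`: no two conjugate characters below a non-principal `θ` in odd order;
* `sum_coset_of_equal`: coset sums of a virtual character with equal linear pairings;
* `congr_fixed`: congruence with the fixed points of a `p`-group;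
* `dade_mono`, `arith_c`, `arith_final`.
-/

set_option autoImplicit false

namespace CfsgLib.OddChar.TypeIBoundPre

open CfsgLib.Char CfsgLib.CharNormal
open scoped ComplexConjugate

universe u

variable {M : Type u} [Group M] [Fintype M] (H : Subgroup M) [hH : H.Normal]

open Classical in
theorem indFun_const_one [Fintype H] :
    Cfsg.indFun H (fun _ => (1 : ℂ)) = fun g => if g ∈ H then (H.index : ℂ) else 0 := by
  funext g
  rw [indFun_apply]
  have hmem : ∀ x : M, x⁻¹ * g * x ∈ H ↔ g ∈ H := fun x =>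
    ⟨fun h => by simpa [mul_assoc] using hH.conj_mem _ h x,
      fun h => by simpa [mul_assoc] using hH.conj_mem _ h x⁻¹⟩
  split_ifs with hg
  · rw [Finset.sum_congr rfl (g := fun _ => (1 : ℂ)) fun x _ =>
      extendByZero_of_mem _ ((hmem x).2 hg), Finset.sum_const, Finset.card_univ,
      ← Nat.card_eq_fintype_card, nsmul_eq_mul, mul_one, ← Subgroup.card_mul_index H,
      Nat.cast_mul, ← mul_assoc, inv_mul_cancel₀ (card_subgroup_ne_zero H), one_mul]
  · rw [Finset.sum_eq_zero fun x _ => extendByZero_of_notMem _ fun h => hg ((hmem x).1 h),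
      mul_zero]

omit [Fintype M] in
/-- A group with proper derived subgroup has a non-principal linear character. -/
theorem exists_linear_ne_one {K : Type u} [Group K] [Fintype K] (h : commutator K ≠ ⊤) :
    ∃ θ : K → ℂ, Cfsg.IsIrrCharacter K θ ∧ θ 1 = 1 ∧ θ ≠ fun _ => 1 := by
  by_contra hcon
  push Not at hcon
  refine h (Subgroup.index_eq_one.1 ?_)
  rw [← card_linear]
  refine Nat.card_eq_one_iff_unique.2 ⟨⟨fun a b => ?_⟩, ⟨⟨irrOne, rfl⟩⟩⟩
  exact Subtype.ext (Subtype.ext ((hcon _ a.1.2 a.2).trans (hcon _ b.1.2 b.2).symm))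

/-- In odd order no two conjugate characters lie below the same non-principal character. -/
theorem conj_notMem_cons [Fintype H] [DecidableEq (M → ℂ)] (hodd : Odd (Nat.card M)) {θ : H → ℂ}
    (hθ : Cfsg.IsIrrCharacter H θ) (h1 : θ ≠ fun _ => 1) {C : Finset (M → ℂ)}
    (hC : ∀ φ ∈ C, Cfsg.IsIrrCharacter M φ) (hind : Cfsg.indFun H θ = ∑ φ ∈ C, φ)
    {φ : M → ℂ} (hφ : φ ∈ C) : Cfsg.conjFun φ ∉ C := by
  intro hφ'
  have hθc : Cfsg.IsIrrCharacter H (Cfsg.conjFun θ) := PairBessel.isIrr_conjFun hθ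
  -- the two induced characters have a common constituent
  have hne : Cfsg.classInner (Cfsg.indFun H θ) (Cfsg.indFun H (Cfsg.conjFun θ)) ≠ 0 := by
    rw [← Above.conjFun_indFun H θ, hind]
    have hconj : Cfsg.conjFun (∑ χ ∈ C, χ) = ∑ χ ∈ C, Cfsg.conjFun χ := by
      funext g
      simp [Cfsg.conjFun, Finset.sum_apply]
    rw [hconj, classInner_sum_right,
      Finset.sum_congr rfl fun χ hχ =>
        TypeFChars.classInner_cons hC (PairBessel.isIrr_conjFun (hC χ hχ)),
      Finset.sum_boole, Nat.cast_ne_zero]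
    exact Finset.card_ne_zero.2 ⟨φ, Finset.mem_filter.2 ⟨hφ, hφ'⟩⟩
  rw [frobenius_reciprocity H θ (isClassFunction_indFun H _),
    res_indFun_normal H (Cfsg.conjFun θ), classInner_smul_right, classInner_sum_right] at hne
  obtain ⟨g, -, hg⟩ := Finset.exists_ne_zero_of_sum_ne_zero (right_ne_zero_of_mul hne)
  have hgθ : CfsgLib.CharNormal.conjFun H g (Cfsg.conjFun θ) = θ := by
    by_contra hne'
    exact hg (classInner_irr_ne hθ (CfsgLib.CharNormal.isIrr_conjFun H hθc g) (Ne.symm hne'))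
  have hcomm : ∀ (x : M) (η : H → ℂ), CfsgLib.CharNormal.conjFun H x (Cfsg.conjFun η) =
      Cfsg.conjFun (CfsgLib.CharNormal.conjFun H x η) := fun _ _ => rfl
  have hg1 : CfsgLib.CharNormal.conjFun H g θ = Cfsg.conjFun θ := by
    rw [← PairBessel.conjFun_conjFun θ, hcomm, hgθ, PairBessel.conjFun_conjFun]
  let S : Subgroup M :=
    { carrier := {x | CfsgLib.CharNormal.conjFun H x θ = θ}
      one_mem' := CfsgLib.CharNormal.conjFun_one H θ
      mul_mem' := fun {a b} (ha : CfsgLib.CharNormal.conjFun H a θ = θ)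
          (hb : CfsgLib.CharNormal.conjFun H b θ = θ) => by
        show CfsgLib.CharNormal.conjFun H (a * b) θ = θ
        rw [← CfsgLib.CharNormal.conjFun_conjFun, ha, hb]
      inv_mem' := fun {a} (ha : CfsgLib.CharNormal.conjFun H a θ = θ) => by
        show CfsgLib.CharNormal.conjFun H a⁻¹ θ = θ
        nth_rw 1 [← ha]
        exact CfsgLib.CharNormal.conjFun_inv_conjFun H a θ }
  have hg2 : g ^ 2 ∈ S := by
    show CfsgLib.CharNormal.conjFun H (g ^ 2) θ = θ
    rw [pow_two, ← CfsgLib.CharNormal.conjFun_conjFun, hg1, hgθ]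
  obtain ⟨k, hk⟩ : Odd (orderOf g) := hodd.of_dvd_nat (orderOf_dvd_natCard g)
  have hgS : g ∈ S := by
    have e : (g ^ 2) ^ (k + 1) = g := by
      rw [← pow_mul, show 2 * (k + 1) = orderOf g + 1 by omega, pow_succ, pow_orderOf_eq_one,
        one_mul]
    exact e ▸ pow_mem hg2 _
  have hreal : Cfsg.conjFun θ = θ := hg1.symm.trans hgS
  refine h1 ?_
  exact congrArg Subtype.val (irr_real_eq_one (hodd.of_dvd_nat (Subgroup.card_subgroup_dvd_card H))
    (χ := ⟨θ, hθ⟩) (Subtype.ext hreal))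

omit hH

/-- Coset sums over the derived subgroup of a virtual character pairing equally with all
non-principal linear characters. -/
theorem sum_coset_of_equal {K : Type u} [Group K] [Fintype K] [Fintype (commutator K)]
    {f : K → ℂ} (hf : Cfsg.IsGeneralizedCharacter K f)
    (heq : ∀ θ θ' : K → ℂ, Cfsg.IsIrrCharacter K θ → Cfsg.IsIrrCharacter K θ' →
      θ 1 = 1 → θ' 1 = 1 → θ ≠ (fun _ => 1) → θ' ≠ (fun _ => 1) →
      Cfsg.classInner f θ = Cfsg.classInner f θ') :
    ∃ c : ℤ, ∀ h : K, h ∉ commutator K →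
      ∑ d : commutator K, f (h * d) = (Nat.card (commutator K) : ℂ) * c := by
  classical
  set D := commutator K with hD
  have := Fintype.ofFinite (K ⧸ D)
  by_cases htop : D = ⊤
  · exact ⟨0, fun h hh => absurd (show h ∈ D by rw [htop]; exact Subgroup.mem_top h) hh⟩
  obtain ⟨θ₁, hθ₁, hθ₁1, hθ₁n⟩ := exists_linear_ne_one htop
  obtain ⟨a, ha⟩ := classInner_gen_int hf (isGen_of_irr (isIrrCharacter_one (G := K)))
  obtain ⟨l, hl⟩ := classInner_gen_int hf (isGen_of_irr hθ₁)
  refine ⟨a - l, fun h hh => ?_⟩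
  let T : Cfsg.IrrCharacter K → Prop := fun χ => ∀ n ∈ D, (χ : K → ℂ) n = (χ : K → ℂ) 1
  have hsum : ∀ χ : Cfsg.IrrCharacter K, ∑ d : D, (χ : K → ℂ) (h * d) =
      if T χ then (Nat.card D : ℂ) * (χ : K → ℂ) h else 0 := by
    intro χ
    split_ifs with hχ
    · rw [Finset.sum_congr rfl (g := fun _ => (χ : K → ℂ) h) fun (d : D) _ =>
        CfsgLib.CharNormal.apply_mul_eq_one (isCharacter_of_isIrr χ.2) (hχ d d.2) h,
        Finset.sum_const, Finset.card_univ, nsmul_eq_mul, Nat.card_eq_fintype_card]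
    · simp only [T, not_forall] at hχ
      obtain ⟨n, hn, hne⟩ := hχ
      rw [Finset.sum_congr rfl (g := fun d : D => (χ : K → ℂ) ((d : K) * h)) fun (d : D) _ =>
        char_mul_comm' (isCharacter_of_isIrr χ.2) h d]
      exact PairBessel.sum_coset_eq_zero D χ.2 ⟨n, hn, hne⟩ h
  have hlin : ∀ χ : Cfsg.IrrCharacter K, T χ → (χ : K → ℂ) 1 = 1 := by
    intro χ hχ
    obtain ⟨β, hβ, he⟩ := exists_irr_eq_comp_mk' D χ.2 hχ
    rw [← he, Function.comp_apply, QuotientGroup.mk_one]
    exact irr_one_eq_one_of_comm (fun a b => by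
      induction a using QuotientGroup.induction_on with
      | _ a =>
      induction b using QuotientGroup.induction_on with
      | _ b =>
      rw [← QuotientGroup.mk_mul, ← QuotientGroup.mk_mul, QuotientGroup.eq]
      have := Subgroup.commutator_mem_commutator (Subgroup.mem_top b⁻¹) (Subgroup.mem_top a⁻¹)
      simpa [commutatorElement_def, mul_assoc, hD, _root_.commutator] using this) hβ
  have hsumlin : ∑ χ ∈ Finset.univ.filter T, (χ : K → ℂ) h = 0 := by
    have h0 : ((h : K) : K ⧸ D) ≠ 1 := fun e => hh ((QuotientGroup.eq_one_iff h).1 e)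
    have h1 := sum_degree_mul_apply ((h : K) : K ⧸ D)
    rw [if_neg h0] at h1
    rw [← h1]
    symm
    refine Finset.sum_bij (fun β _ => (inflEquiv D β).1)
      (fun β _ => Finset.mem_filter.2 ⟨Finset.mem_univ _, (inflEquiv D β).2⟩)
      (fun x _ y _ hxy => (inflEquiv D).injective (Subtype.ext hxy))
      (fun χ hχ => ?_) (fun β _ => ?_)
    · obtain ⟨β, hβ⟩ := (inflEquiv D).surjective ⟨χ, (Finset.mem_filter.1 hχ).2⟩
      exact ⟨β, Finset.mem_univ _, congrArg Subtype.val hβ⟩
    · have h2 := hlin _ (inflEquiv D β).2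
      rw [inflEquiv_apply, QuotientGroup.mk_one] at h2
      rw [inflEquiv_apply, h2, one_mul]
  have hone : T (irrOne : Cfsg.IrrCharacter K) := fun n _ => by simp [irrOne_apply]
  rw [Finset.sum_congr rfl (g := fun d : D => ∑ χ : Cfsg.IrrCharacter K,
      Cfsg.classInner f χ * (χ : K → ℂ) (h * d)) fun d _ => by
    have := congrFun (classFun_eq_sum (isClassFunction_of_isGen hf)) (h * d)
    simpa [Finset.sum_apply] using this, Finset.sum_comm]
  rw [Finset.sum_congr rfl (g := fun χ : Cfsg.IrrCharacter K =>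
      Cfsg.classInner f χ * if T χ then (Nat.card D : ℂ) * (χ : K → ℂ) h else 0) fun χ _ => by
    rw [← Finset.mul_sum]; exact congrArg _ (by convert hsum χ using 2; ext; simp)]
  simp only [mul_ite, mul_zero]
  have hmem1 : (irrOne : Cfsg.IrrCharacter K) ∈ Finset.univ.filter T :=
    Finset.mem_filter.2 ⟨Finset.mem_univ _, hone⟩
  rw [← Finset.sum_erase_add _ _ hmem1] at hsumlin
  rw [← Finset.sum_filter, ← Finset.sum_erase_add _ _ hmem1]
  rw [Finset.sum_congr rfl (g := fun χ : Cfsg.IrrCharacter K =>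
      (l : ℂ) * Nat.card D * (χ : K → ℂ) h) fun χ hχ => by
    obtain ⟨hne, hT⟩ := Finset.mem_erase.1 hχ
    rw [heq _ θ₁ χ.2 hθ₁ (hlin χ (Finset.mem_filter.1 hT).2) hθ₁1
      (fun e => hne (Subtype.ext e)) hθ₁n, hl]
    ring, ← Finset.mul_sum]
  rw [eq_neg_of_add_eq_zero_left hsumlin, irrOne_apply]
  have ha' : Cfsg.classInner f ((irrOne : Cfsg.IrrCharacter K) : K → ℂ) = a := ha
  rw [ha']
  push_cast
  ring

open Classical in
/-- Congruence of an invariant sum with the fixed points of a `p`-element. -/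
theorem congr_fixed {G : Type u} [Group G] [Fintype G] {p : ℕ} [Fact p.Prime] {x : G}
    (hx : x ^ p = 1) (D : Subgroup G) (hxD : ∀ d ∈ D, x * d * x⁻¹ ∈ D) (f : G → ℂ)
    (hint : ∀ d, IsIntegral ℤ (f d)) (hf : ∀ d ∈ D, f (x * d * x⁻¹) = f d) :
    CongrP p (∑ d : D, f d) (∑ d : ↥(D ⊓ Subgroup.centralizer ({x} : Set G)), f d) ∧
    CongrP p (Nat.card D : ℂ) (Nat.card ↥(D ⊓ Subgroup.centralizer ({x} : Set G)) : ℂ) := by
  have hxN : x ∈ Subgroup.normalizer (D : Set G) := by
    rw [Subgroup.mem_normalizer_iff_map_conj_eq]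
    refine Subgroup.eq_of_le_of_card_ge ?_
      (Subgroup.card_map_of_injective (MulEquiv.injective _)).ge
    rintro _ ⟨d, hd, rfl⟩
    exact hxD d hd
  have hX : Subgroup.zpowers x ≤ Subgroup.normalizer (D : Set G) := Subgroup.zpowers_le.2 hxN
  letI : MulAction (Subgroup.zpowers x) D := MulAction.compHom D
    (D.normalizerMonoidHom.comp (Subgroup.inclusion hX))
  have hval : ∀ (s : Subgroup.zpowers x) (d : D), ((s • d : D) : G) = s * d * (s : G)⁻¹ :=
    fun _ _ => rfl
  have hp : IsPGroup p (Subgroup.zpowers x) := by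
    rintro ⟨_, i, rfl⟩
    refine ⟨1, Subtype.ext ?_⟩
    rw [pow_one, Subgroup.coe_pow, Subgroup.coe_one]
    show (x ^ i) ^ p = 1
    rw [← zpow_natCast, ← zpow_mul, mul_comm, zpow_mul, zpow_natCast, hx, one_zpow]
  have hfix : ∀ d : D, d ∈ MulAction.fixedPoints (Subgroup.zpowers x) D ↔
      (d : G) ∈ Subgroup.centralizer ({x} : Set G) := by
    intro d
    rw [Subgroup.mem_centralizer_singleton_iff]
    constructor
    · intro h
      have h1 := congrArg Subtype.val (h ⟨x, Subgroup.mem_zpowers x⟩)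
      rw [hval] at h1
      exact (mul_inv_eq_iff_eq_mul.1 h1).symm
    · intro h s
      apply Subtype.ext
      rw [hval]
      obtain ⟨i, hi⟩ := s.2
      rw [← hi, ((show Commute (d : G) x from h).zpow_right i).symm.eq, mul_inv_cancel_right]
  have hinv : ∀ g : G → ℂ, (∀ d ∈ D, g (x * d * x⁻¹) = g d) →
      ∀ (s : Subgroup.zpowers x) (d : D), g ((s • d : D) : G) = g d := by
    intro g hg s d
    obtain ⟨n, hn⟩ := (isOfFinOrder_of_finite x).mem_zpowers_iff_mem_range_orderOf.1 s.2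
      |> Finset.mem_image.1
    rw [hval, ← hn.2]
    clear hn
    induction n generalizing d with
    | zero => simp
    | succ n ih =>
      have hmem : x ^ n * d * (x ^ n)⁻¹ ∈ D := by
        have := ((⟨x ^ n, pow_mem (Subgroup.mem_zpowers x) n⟩ : Subgroup.zpowers x) • d : D).2
        rwa [hval] at this
      rw [show x ^ (n + 1) * d * (x ^ (n + 1))⁻¹ = x * (x ^ n * d * (x ^ n)⁻¹) * x⁻¹ by
        rw [pow_succ']; group, hg _ hmem, ih]
  have key : ∀ g : G → ℂ, (∀ d, IsIntegral ℤ (g d)) → (∀ d ∈ D, g (x * d * x⁻¹) = g d) →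
      CongrP p (∑ d : D, g d) (∑ d : ↥(D ⊓ Subgroup.centralizer ({x} : Set G)), g d) := by
    intro g hgi hg
    refine (congrP_sum_fixed hp (fun d : D => g d) (fun d => hgi _) (hinv g hg)).trans ?_
    have e : ∑ d : D with d ∈ MulAction.fixedPoints (Subgroup.zpowers x) D, g (d : G) =
        ∑ d : ↥(D ⊓ Subgroup.centralizer ({x} : Set G)), g d := by
      refine Finset.sum_bij (fun d hd => ⟨(d : G), d.2, (hfix d).1 (Finset.mem_filter.1 hd).2⟩)
        (fun d _ => Finset.mem_univ _)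
        (fun d _ d' _ h => Subtype.ext (Subtype.mk.inj h))
        (fun d _ => ⟨⟨d.1, (Subgroup.mem_inf.1 d.2).1⟩, Finset.mem_filter.2
          ⟨Finset.mem_univ _, (hfix _).2 (Subgroup.mem_inf.1 d.2).2⟩, rfl⟩)
        (fun d _ => rfl)
    rw [e]
    exact .refl _
  refine ⟨key f hint hf, ?_⟩
  have h := key (fun _ => 1) (fun _ => isIntegral_one) (fun _ _ => rfl)
  simp only [Finset.sum_const, Finset.card_univ, nsmul_eq_mul, mul_one] at h
  rwa [Nat.card_eq_fintype_card, Nat.card_eq_fintype_card]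

/-- The Dade set-up on an invariant subset. -/
theorem dade_mono {G : Type u} [Group G] {A B : Set G} {L : Subgroup G} {R : G → Subgroup G}
    (h : Cfsg.DadeHypothesis A L R) (hBA : B ⊆ A) (hB : ∀ x ∈ L, ∀ b ∈ B, x * b * x⁻¹ ∈ B) :
    Cfsg.DadeHypothesis B L R where
  one_not_mem := fun h1 => h.one_not_mem (hBA h1)
  subset := hBA.trans h.subset
  conj_mem := hB
  fusion := fun a ha g hg => h.fusion a (hBA ha) g (hBA hg)
  le_centralizer := fun a ha => h.le_centralizer a (hBA ha)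
  conj_mem_H := fun a ha => h.conj_mem_H a (hBA ha)
  inf_eq_bot := fun a ha => h.inf_eq_bot a (hBA ha)
  sup_eq := fun a ha => h.sup_eq a (hBA ha)
  coprime := fun a ha b hb => h.coprime a (hBA ha) b (hBA hb)

/-- `c² k ≤ (e + c)²` forces `c = 0` for large `k`. -/
theorem arith_c {c e k : ℤ} (he : 0 < e) (hk : (e + 2) ^ 2 ≤ k) (h : c ^ 2 * k ≤ (e + c) ^ 2) :
    c = 0 := by
  by_contra hc
  have h1 : 1 ≤ |c| := Int.one_le_abs hc
  have h2 : c ^ 2 * (e + 2) ^ 2 ≤ c ^ 2 * k := mul_le_mul_of_nonneg_left hk (sq_nonneg c)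
  have h3 : (e + c) ^ 2 ≤ (|c| * (e + 1)) ^ 2 := by
    rw [sq_le_sq, abs_of_nonneg (by positivity : 0 ≤ |c| * (e + 1))]
    calc |e + c| ≤ |e| + |c| := abs_add_le e c
      _ ≤ |c| * (e + 1) := by rw [abs_of_pos he]; nlinarith
  rw [mul_pow, sq_abs] at h3
  have h4 : 0 < c ^ 2 := by positivity
  nlinarith

/-- The final inequality has no solution. -/
theorem arith_final {e c m p : ℤ} (hc : p ∣ c - e) (hp : 2 * e ≤ p + 1) (he : 3 ≤ e)
    (hm : 5 ≤ m) (h : 3 * c ^ 2 * (m - 1) ≤ e ^ 2 * m) : False := by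
  have hc1 : (e - 1) ^ 2 ≤ c ^ 2 := by
    obtain ⟨t, ht⟩ := hc
    rcases lt_trichotomy t 0 with ht0 | ht0 | ht0
    · have : c ≤ -(e - 1) := by nlinarith
      nlinarith
    · subst ht0
      have : c = e := by linarith
      nlinarith
    · have : e ≤ c := by nlinarith
      nlinarith
  have h1 : 3 * (e - 1) ^ 2 * (m - 1) ≤ e ^ 2 * m :=
    le_trans (mul_le_mul_of_nonneg_right (by linarith) (by linarith)) h
  nlinarith [mul_nonneg (by nlinarith : 0 ≤ 3 * (e - 1) ^ 2 - e ^ 2) (by linarith : 0 ≤ m - 5)]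

end CfsgLib.OddChar.TypeIBoundPre
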