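import Cfsg.Agent.Lib.OddChar.PairGrid
import Cfsg.Agent.Lib.OddChar.PairTI
import Cfsg.Agent.Lib.OddChar.TypeIBoundPre
import Cfsg.Agent.Lib.Char.PermLemma
import Cfsg.Agent.Lib.Char.TI
import Cfsg.Agent.Lib.OddChar.Above

/-!
# Coherent families on a subgroup with trivial intersections

`Fam M K e`: a finite set of irreducible characters of `M` vanishing outside `K` with images in the
virtual characters of `G` of norm `1`.  With `γ = Ind_K^M 1 - base` and `ψ` the image of `base`:
* `X = Ind γ + ψ` is real (`real_X`);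
* `coef`: a function vanishing on the conjugates of `K#` has coefficients proportional to the weights;
* `orth_grid`, `orth_fam`: orthogonality to the family `η` and to a second family;
* `mass`: `∑ |ψ|²` over the conjugates of `K#` is at least `|G| (1 - 1/n)`, `n = ∑ wt²`;
* `parity`: two real virtual characters of a group of odd order.
-/

set_option autoImplicit false
set_option linter.unusedSectionVars false

namespace CfsgLib.OddChar.Pair

open CfsgLib.Char CfsgLib.CharNormal
open scoped ComplexConjugate Classical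

universe u

/-- An irreducible character up to sign. -/
def SIrr {G : Type u} [Group G] (a : G → ℂ) : Prop :=
  Cfsg.IsIrrCharacter G a ∨ Cfsg.IsIrrCharacter G (-a)

/-- The elements of `K` different from `1`. -/
def sharpSet {G : Type u} [Group G] (K : Subgroup G) : Set G := {x | x ∈ K ∧ x ≠ 1}

section SIrr

variable {G : Type u} [Group G] [Fintype G] {a b : G → ℂ}

theorem SIrr.neg (h : SIrr a) : SIrr (-a) := by
  rcases h with h | h
  · exact Or.inr (by rwa [neg_neg])
  · exact Or.inl h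

theorem SIrr.conjFun (h : SIrr a) : SIrr (Cfsg.conjFun a) := by
  rcases h with h | h
  · exact Or.inl (PairBessel.isIrr_conjFun h)
  · refine Or.inr ?_
    have := PairBessel.isIrr_conjFun h
    convert this using 1
    funext g
    simp [Cfsg.conjFun]

theorem SIrr.gen (h : SIrr a) : Cfsg.IsGeneralizedCharacter G a := by
  rcases h with h | h
  · exact isGen_of_irr h
  · exact neg_neg a ▸ isGen_neg (isGen_of_irr h)

theorem SIrr.classFun (h : SIrr a) : Cfsg.IsClassFunction G a := isClassFunction_of_isGen h.gen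

theorem SIrr.norm (h : SIrr a) : Cfsg.classInner a a = 1 := by
  rcases h with h | h
  · exact classInner_irr_self h
  · have := classInner_irr_self h
    rwa [classInner_neg_left, classInner_neg_right, neg_neg] at this

theorem SIrr.cases (ha : SIrr a) (hb : SIrr b) :
    a = b ∨ a = -b ∨ Cfsg.classInner a b = 0 := by
  rcases ha with ha | ha <;> rcases hb with hb | hb
  · exact (em (a = b)).elim Or.inl fun e => Or.inr (Or.inr (classInner_irr_ne ha hb e))
  · refine (em (a = -b)).elim (fun e => Or.inr (Or.inl e)) fun e => Or.inr (Or.inr ?_)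
    have := classInner_irr_ne ha hb e
    rwa [classInner_neg_right, neg_eq_zero] at this
  · refine (em (-a = b)).elim (fun e => Or.inr (Or.inl (by rw [← e, neg_neg])))
      fun e => Or.inr (Or.inr ?_)
    have := classInner_irr_ne ha hb e
    rwa [classInner_neg_left, neg_eq_zero] at this
  · refine (em (-a = -b)).elim (fun e => Or.inl (neg_inj.1 e)) fun e => Or.inr (Or.inr ?_)
    have := classInner_irr_ne ha hb e
    rwa [classInner_neg_left, classInner_neg_right, neg_neg] at this

theorem SIrr.one_ne_zero (ha : SIrr a) : a 1 ≠ 0 := by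
  rcases ha with h | h
  · exact irr_one_ne_zero h
  · intro e
    exact irr_one_ne_zero h (by simp [e])

end SIrr

section Bessel

variable {G : Type u} [Group G] [Fintype G]

/-- Bessel's inequality with integers, and the case of equality. -/
theorem bessel_int {ι : Type*} (s : Finset ι) (f : ι → G → ℂ)
    (horth : ∀ i ∈ s, ∀ j ∈ s, Cfsg.classInner (f i) (f j) = if i = j then 1 else 0)
    (V : G → ℂ) (c : ι → ℤ) (hc : ∀ i ∈ s, Cfsg.classInner V (f i) = c i) (N : ℤ)
    (hN : Cfsg.classInner V V = N) :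
    ∑ i ∈ s, c i ^ 2 ≤ N ∧ (∑ i ∈ s, c i ^ 2 = N → V = ∑ i ∈ s, (c i : ℂ) • f i) := by
  set P : G → ℂ := ∑ i ∈ s, (c i : ℂ) • f i with hP
  have hVP : Cfsg.classInner V P = ((∑ i ∈ s, c i ^ 2 : ℤ) : ℂ) := by
    rw [hP, classInner_sum_right]
    push_cast
    refine Finset.sum_congr rfl fun i hi => ?_
    rw [classInner_smul_right, hc i hi, map_intCast, sq]
  have hPV : Cfsg.classInner P V = ((∑ i ∈ s, c i ^ 2 : ℤ) : ℂ) := by
    rw [← classInner_conj_symm, hVP, map_intCast]
  have hPP : Cfsg.classInner P P = ((∑ i ∈ s, c i ^ 2 : ℤ) : ℂ) := by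
    rw [hP, classInner_sum_left]
    push_cast
    refine Finset.sum_congr rfl fun i hi => ?_
    rw [classInner_smul_left, classInner_sum_right, Finset.sum_congr rfl fun j hj => by
      rw [classInner_smul_right, horth i hi j hj, map_intCast], Finset.sum_eq_single i
        (fun j _ hj => by rw [if_neg hj.symm, mul_zero]) fun hni => absurd hi hni,
      if_pos rfl, mul_one, sq]
  have hR : Cfsg.classInner (V - P) (V - P) = ((N - ∑ i ∈ s, c i ^ 2 : ℤ) : ℂ) := by
    rw [classInner_sub_left, classInner_sub_right, classInner_sub_right, hN, hVP, hPV, hPP]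
    push_cast
    ring
  refine ⟨?_, fun e => ?_⟩
  · have h1 : (0 : ℝ) ≤ (Cfsg.classInner (V - P) (V - P)).re := by
      rw [classInner_def, ← Complex.ofReal_natCast, ← Complex.ofReal_inv, Complex.re_ofReal_mul]
      refine mul_nonneg (by positivity) ?_
      rw [Complex.re_sum]
      refine Finset.sum_nonneg fun g _ => ?_
      rw [Complex.mul_conj, Complex.ofReal_re]
      exact Complex.normSq_nonneg _
    rw [hR, ← Complex.ofReal_intCast, Complex.ofReal_re] at h1
    have : (0 : ℤ) ≤ N - ∑ i ∈ s, c i ^ 2 := by exact_mod_cast h1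
    linarith
  · rw [e, sub_self, Int.cast_zero] at hR
    exact sub_eq_zero.1 (eq_zero_of_classInner_self_eq_zero hR)

/-- Parity of the inner product of two real virtual characters of a group of odd order. -/
theorem parity (hodd : Odd (Nat.card G)) {X Y : G → ℂ} (hX : Cfsg.IsGeneralizedCharacter G X)
    (hY : Cfsg.IsGeneralizedCharacter G Y) (hXr : Cfsg.conjFun X = X) (hYr : Cfsg.conjFun Y = Y)
    (x y z : ℤ) (hx : Cfsg.classInner X (fun _ => 1) = x)
    (hy : Cfsg.classInner Y (fun _ => 1) = y) (hz : Cfsg.classInner X Y = z) :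
    ((z : ℤ) : ZMod 2) = (x : ZMod 2) * y := by
  choose a ha using fun i : Cfsg.IrrCharacter G => classInner_gen_int hX (isGen_of_irr i.2)
  choose b hb using fun i : Cfsg.IrrCharacter G => classInner_gen_int hY (isGen_of_irr i.2)
  have hconj : ∀ {Z : G → ℂ}, Cfsg.conjFun Z = Z → ∀ {c : Cfsg.IrrCharacter G → ℤ},
      (∀ i : Cfsg.IrrCharacter G, Cfsg.classInner Z (i : G → ℂ) = c i) → ∀ i, c (irrConj i) = c i := by
    intro Z hZ c hc i
    have h1 : Cfsg.classInner Z (irrConj i : G → ℂ) = conj (Cfsg.classInner Z (i : G → ℂ)) := by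
      conv_lhs => rw [← hZ]
      rw [← PairBessel.classInner_conjFun]
      rfl
    rw [hc, hc, map_intCast] at h1
    exact_mod_cast h1
  have hza : z = ∑ i, a i * b i := by
    have h1 := classInner_eq_sum (f' := Y) (isClassFunction_of_isGen hX)
    rw [hz] at h1
    have h2 : (z : ℂ) = ((∑ i, a i * b i : ℤ) : ℂ) := by
      rw [h1]; push_cast
      exact Finset.sum_congr rfl fun i _ => by simp [ha i, hb i]
    exact_mod_cast h2
  have hx0 : a irrOne = x := by
    have h1 := ha irrOne
    rw [show ((irrOne : Cfsg.IrrCharacter G) : G → ℂ) = fun _ => 1 from rfl, hx] at h1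
    exact_mod_cast h1.symm
  have hy0 : b irrOne = y := by
    have h1 := hb irrOne
    rw [show ((irrOne : Cfsg.IrrCharacter G) : G → ℂ) = fun _ => 1 from rfl, hy] at h1
    exact_mod_cast h1.symm
  rw [hza, Int.cast_sum, ← Finset.add_sum_erase _ _ (Finset.mem_univ irrOne), hx0, hy0,
    Int.cast_mul]
  have hone : irrConj (irrOne : Cfsg.IrrCharacter G) = irrOne := by
    refine (irrConj_eq_self_iff _).2 fun g => ?_
    simp [irrOne_apply]
  have hinv : ∀ i : Cfsg.IrrCharacter G, irrConj (irrConj i) = i := fun i =>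
    Subtype.ext (funext fun g => Complex.conj_conj _)
  have hzero : ∑ i ∈ Finset.univ.erase irrOne, ((a i * b i : ℤ) : ZMod 2) = 0 := by
    refine Finset.sum_involution (fun i _ => irrConj i) (fun i _ => ?_) (fun i hi _ e => ?_)
      (fun i hi => ?_) (fun i _ => hinv i)
    · rw [hconj hXr ha i, hconj hYr hb i]
      exact CharTwo.add_self_eq_zero _
    · exact (Finset.mem_erase.1 hi).1 (irr_real_eq_one hodd e)
    · refine Finset.mem_erase.2 ⟨fun e => (Finset.mem_erase.1 hi).1 ?_, Finset.mem_univ _⟩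
      rw [← hinv i, e, hone]
  rw [hzero, add_zero]

end Bessel

/-- A coherent family. -/
structure Fam {G : Type u} [Group G] [Fintype G] (M K : Subgroup G) [Fintype M] (e : ℕ) where
  I : Finset (M → ℂ)
  wt : (M → ℂ) → ℕ
  im : (M → ℂ) → (G → ℂ)
  base : M → ℂ
  le : K ≤ M
  normal : ∀ m ∈ M, ∀ k ∈ K, m * k * m⁻¹ ∈ K
  ti : ∀ g x : G, x ∈ K → x ≠ 1 → g * x * g⁻¹ ∈ K → g ∈ M
  index : K.relIndex M = e
  one_lt : 1 < e
  base_mem : base ∈ I
  bar_mem : Cfsg.conjFun base ∈ I
  bar_ne : Cfsg.conjFun base ≠ base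
  wt_base : wt base = 1
  wt_bar : wt (Cfsg.conjFun base) = 1
  irr : ∀ ξ ∈ I, Cfsg.IsIrrCharacter M ξ
  zero_off : ∀ ξ ∈ I, ∀ m : M, (m : G) ∉ K → ξ m = 0
  deg : ∀ ξ ∈ I, ξ 1 = (e : ℂ) * wt ξ
  im_sgn : ∀ ξ ∈ I, SIrr (im ξ)
  im_orth : ∀ ξ ∈ I, ∀ ξ' ∈ I, Cfsg.classInner (im ξ) (im ξ') = if ξ = ξ' then 1 else 0
  im_diff : ∀ ξ ∈ I, Cfsg.indFun M (ξ - (wt ξ : ℂ) • base) = im ξ - (wt ξ : ℂ) • im base

namespace Fam

variable {G : Type u} [Group G] [Fintype G] {M K : Subgroup G} [Fintype M] {e : ℕ} (F : Fam M K e)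

/-- `K` inside `M`. -/
def kM (_F : Fam M K e) : Subgroup M := K.subgroupOf M

/-- `γ`. -/
noncomputable def gam : M → ℂ := Cfsg.indFun F.kM (fun _ => 1) - F.base

/-- `Ind γ`. -/
noncomputable def tau : G → ℂ := Cfsg.indFun M F.gam

/-- The image of the base. -/
def psi : G → ℂ := F.im F.base

/-- `n`. -/
def size : ℕ := ∑ ξ ∈ F.I, F.wt ξ ^ 2

theorem kM_normal : F.kM.Normal := ⟨fun k hk m => F.normal m m.2 k hk⟩

theorem gam_eq (m : M) :
    F.gam m = (if (m : G) ∈ K then (e : ℂ) else 0) - F.base m := by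
  haveI := F.kM_normal
  haveI := Fintype.ofFinite F.kM
  have hi : F.kM.index = e := F.index
  rw [gam, Pi.sub_apply, TypeIBoundPre.indFun_const_one]
  simp only [hi]
  rfl

theorem gen_gam : Cfsg.IsGeneralizedCharacter M F.gam :=
  isGen_sub (isGen_indFun F.kM (isGen_of_irr isIrrCharacter_one))
    (isGen_of_irr (F.irr _ F.base_mem))

theorem gam_supp (m : M) (hm : (m : G) ∉ sharpSet K) : F.gam m = 0 := by
  rw [F.gam_eq]
  by_cases hK : (m : G) ∈ K
  · have h1 : (m : G) = 1 := by
      by_contra hne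
      exact hm ⟨hK, hne⟩
    have h2 : m = 1 := Subtype.ext h1
    rw [if_pos hK, h2, F.deg _ F.base_mem, F.wt_base, Nat.cast_one, mul_one, sub_self]
  · rw [if_neg hK, F.zero_off _ F.base_mem m hK, sub_zero]

theorem diff_supp {ξ : M → ℂ} (hξ : ξ ∈ F.I) (m : M) (hm : (m : G) ∉ sharpSet K) :
    (ξ - (F.wt ξ : ℂ) • F.base) m = 0 := by
  simp only [Pi.sub_apply, Pi.smul_apply, smul_eq_mul]
  by_cases hK : (m : G) ∈ K
  · have h1 : (m : G) = 1 := by
      by_contra hne
      exact hm ⟨hK, hne⟩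
    rw [show m = 1 from Subtype.ext h1, F.deg _ hξ, F.deg _ F.base_mem, F.wt_base, Nat.cast_one]
    ring
  · rw [F.zero_off _ hξ m hK, F.zero_off _ F.base_mem m hK, mul_zero, sub_zero]

theorem diff_classFun {ξ : M → ℂ} (hξ : ξ ∈ F.I) :
    Cfsg.IsClassFunction M (ξ - (F.wt ξ : ℂ) • F.base) :=
  isClassFunction_sub (isClassFunction_of_isIrr (F.irr _ hξ))
    (isClassFunction_smul (isClassFunction_of_isIrr (F.irr _ F.base_mem)) _)

include F in
theorem ind_eq_zero {α : M → ℂ} (hα : ∀ m : M, (m : G) ∉ sharpSet K → α m = 0) {g : G}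
    (hg : g ∉ conjSet (sharpSet K)) : Cfsg.indFun M α g = 0 :=
  indFun_eq_zero_of_forall M fun x hx => hα ⟨_, hx⟩ fun hs => hg ⟨x, hs⟩

include F in
theorem iso {α β : M → ℂ} (hβ : Cfsg.IsClassFunction M β)
    (hα : ∀ m : M, (m : G) ∉ sharpSet K → α m = 0)
    (hβ0 : ∀ m : M, (m : G) ∉ sharpSet K → β m = 0) :
    Cfsg.classInner (Cfsg.indFun M α) (Cfsg.indFun M β) = Cfsg.classInner α β :=
  classInner_indFun_of_TI M (sharpSet K)
    (fun g hg t ht hgt => absurd (F.ti g t ht.1 ht.2 hgt.1) hg) hβ hα hβ0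
    (hα 1 fun hh => hh.2 rfl)

theorem tau_eq_zero {g : G} (hg : g ∉ conjSet (sharpSet K)) : F.tau g = 0 :=
  F.ind_eq_zero F.gam_supp hg

theorem gen_tau : Cfsg.IsGeneralizedCharacter G F.tau := isGen_indFun M F.gen_gam

theorem base_not_const : F.base ≠ fun _ => 1 := fun hh => by
  have h1 := F.deg _ F.base_mem
  rw [F.wt_base, hh, Nat.cast_one, mul_one] at h1
  change (1 : ℂ) = _ at h1
  have : (1 : ℕ) = e := by exact_mod_cast h1
  have := F.one_lt
  omega

theorem inner_one_ind (f : M → ℂ) (hf : ∀ m : M, (m : G) ∉ K → f m = 0) :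
    Cfsg.classInner (Cfsg.indFun F.kM (fun _ => 1)) f =
      (e : ℂ) * Cfsg.classInner (fun _ => 1) f := by
  haveI := F.kM_normal
  haveI := Fintype.ofFinite F.kM
  have hi : F.kM.index = e := F.index
  rw [classInner_def, classInner_def, TypeIBoundPre.indFun_const_one, hi, mul_left_comm,
    Finset.mul_sum Finset.univ _ (e : ℂ)]
  congr 1
  refine Finset.sum_congr rfl fun m _ => ?_
  dsimp only
  by_cases hm : (m : G) ∈ K
  · rw [if_pos (show m ∈ F.kM from hm)]; ring
  · rw [hf m hm, map_zero]; ring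

theorem one_inner_member {ξ : M → ℂ} (hξ : ξ ∈ F.I) :
    Cfsg.classInner (fun _ => 1) ξ = 0 := by
  refine classInner_irr_ne isIrrCharacter_one (F.irr _ hξ) fun e' => ?_
  have h1 := F.deg _ hξ
  have h0 : ξ 1 = 1 := by rw [← e']
  rw [h0] at h1
  have : (1 : ℕ) = e * F.wt ξ := by exact_mod_cast h1
  have h2 := (mul_eq_one.1 this.symm).1
  have := F.one_lt
  omega

theorem gam_inner_member {ξ : M → ℂ} (hξ : ξ ∈ F.I) :
    Cfsg.classInner F.gam ξ = if ξ = F.base then -1 else 0 := by
  rw [gam, classInner_sub_left, F.inner_one_ind ξ (F.zero_off _ hξ), F.one_inner_member hξ,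
    mul_zero, zero_sub, classInner_irr (F.irr _ F.base_mem) (F.irr _ hξ)]
  rcases eq_or_ne ξ F.base with h | h
  · subst h; simp
  · rw [if_neg h, if_neg h.symm, neg_zero]

theorem gam_inner_one : Cfsg.classInner F.gam (fun _ => 1) = 1 := by
  have h1 : Cfsg.classInner (Cfsg.indFun F.kM fun _ => (1 : ℂ)) (fun _ => 1) = 1 := by
    rw [frobenius_reciprocity F.kM _ (isClassFunction_const 1), classInner_irr_self
      isIrrCharacter_one]
  rw [gam, classInner_sub_left, h1, ← classInner_conj_symm, F.one_inner_member F.base_mem,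
    map_zero, sub_zero]

theorem gam_norm : Cfsg.classInner F.gam F.gam = ((e + 1 : ℤ) : ℂ) := by
  haveI := F.kM_normal
  haveI := Fintype.ofFinite F.kM
  have hi : F.kM.index = e := F.index
  set i1 := Cfsg.indFun F.kM fun _ => (1 : ℂ) with hi1
  have h1 : Cfsg.classInner i1 i1 = e := by
    rw [hi1, frobenius_reciprocity F.kM _ (isClassFunction_indFun F.kM _),
      show (fun k : F.kM => Cfsg.indFun F.kM (fun _ => (1 : ℂ)) k) = (e : ℂ) • fun _ => (1 : ℂ) from
        funext fun k => by rw [TypeIBoundPre.indFun_const_one]; simp [k.2, hi],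
      classInner_smul_right, classInner_irr_self isIrrCharacter_one, mul_one, map_natCast]
  have h2 : Cfsg.classInner i1 F.base = 0 := by
    rw [hi1, F.inner_one_ind F.base (F.zero_off _ F.base_mem), F.one_inner_member F.base_mem,
      mul_zero]
  have h3 : Cfsg.classInner F.base i1 = 0 := by rw [← classInner_conj_symm, h2, map_zero]
  rw [gam, classInner_sub_left, classInner_sub_right, classInner_sub_right, h1, h2, h3,
    classInner_irr_self (F.irr _ F.base_mem)]
  push_cast
  ring

theorem tau_norm : Cfsg.classInner F.tau F.tau = ((e + 1 : ℤ) : ℂ) := by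
  rw [tau, F.iso (isClassFunction_of_isGen F.gen_gam) F.gam_supp F.gam_supp, F.gam_norm]

theorem tau_one : Cfsg.classInner F.tau (fun _ => 1) = 1 := by
  rw [tau, frobenius_reciprocity M _ (isClassFunction_const 1)]
  exact F.gam_inner_one

theorem psi_bar : Cfsg.conjFun F.psi = F.im (Cfsg.conjFun F.base) := by
  set b := Cfsg.conjFun F.base with hb
  have ha := F.im_sgn _ F.base_mem
  have hbb := F.im_sgn _ F.bar_mem
  have hd := F.im_diff _ F.bar_mem
  rw [F.wt_bar, Nat.cast_one, one_smul, one_smul] at hd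
  have hconj : Cfsg.conjFun (F.im b - F.im F.base) = -(F.im b - F.im F.base) := by
    rw [← hd, Above.conjFun_indFun]
    have e1 : Cfsg.conjFun (b - F.base) = -(b - F.base) := by
      funext m; simp [hb, Cfsg.conjFun]
    rw [e1, indFun_neg]
  -- `conj ψ + ψ = conj (im b) + im b`
  have hsum : Cfsg.conjFun F.psi + F.psi = Cfsg.conjFun (F.im b) + F.im b := by
    funext g
    have := congrFun hconj g
    simp only [Cfsg.conjFun, Pi.sub_apply, Pi.neg_apply, Pi.add_apply, map_sub, psi] at this ⊢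
    linear_combination -this
  have h1 := congrArg (fun f => Cfsg.classInner f F.psi) hsum
  simp only [classInner_add_left] at h1
  rw [show Cfsg.classInner (F.im b) F.psi = 0 from by
    rw [psi, F.im_orth _ F.bar_mem _ F.base_mem, if_neg F.bar_ne], add_zero,
    show Cfsg.classInner F.psi F.psi = 1 from ha.norm] at h1
  rcases ha.conjFun.cases ha with h2 | h2 | h2
  · rw [show Cfsg.conjFun F.psi = F.psi from h2, show Cfsg.classInner F.psi F.psi = 1 from ha.norm]
      at h1
    rcases hbb.conjFun.cases ha with h3 | h3 | h3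
    · rw [show Cfsg.conjFun (F.im b) = F.psi from h3,
        show Cfsg.classInner F.psi F.psi = 1 from ha.norm] at h1
      norm_num at h1
    · rw [show Cfsg.conjFun (F.im b) = -F.psi from h3, classInner_neg_left,
        show Cfsg.classInner F.psi F.psi = 1 from ha.norm] at h1
      norm_num at h1
    · rw [show Cfsg.classInner (Cfsg.conjFun (F.im b)) F.psi = 0 from h3] at h1
      norm_num at h1
  · exfalso
    refine ha.one_ne_zero ?_
    have e1 := congrFun h2 1
    obtain ⟨z, hz⟩ := gen_one_int ha.gen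
    simp only [Cfsg.conjFun, Pi.neg_apply, hz, map_intCast] at e1
    have : z = 0 := by
      have e2 : ((2 * z : ℤ) : ℂ) = 0 := by push_cast; linear_combination e1
      have : (2 * z : ℤ) = 0 := by exact_mod_cast e2
      omega
    rw [hz, this, Int.cast_zero]
  · rw [show Cfsg.classInner (Cfsg.conjFun F.psi) F.psi = 0 from h2, zero_add] at h1
    rcases hbb.conjFun.cases ha with h3 | h3 | h3
    · rw [show F.psi = Cfsg.conjFun (F.im b) from h3.symm, PairBessel.conjFun_conjFun]
    · rw [show Cfsg.conjFun (F.im b) = -F.psi from h3, classInner_neg_left,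
        show Cfsg.classInner F.psi F.psi = 1 from ha.norm] at h1
      norm_num at h1
    · rw [show Cfsg.classInner (Cfsg.conjFun (F.im b)) F.psi = 0 from h3] at h1
      norm_num at h1

theorem gen_psi : Cfsg.IsGeneralizedCharacter G F.psi := (F.im_sgn _ F.base_mem).gen

theorem psi_inner_one : Cfsg.classInner F.psi (fun _ => 1) = 0 := by
  have hb : Cfsg.classInner F.psi (Cfsg.conjFun F.psi) = 0 := by
    rw [F.psi_bar, psi, F.im_orth _ F.base_mem _ F.bar_mem, if_neg F.bar_ne.symm]
  have hn : Cfsg.classInner F.psi F.psi = 1 := (F.im_sgn _ F.base_mem).norm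
  rcases (F.im_sgn _ F.base_mem).cases (b := fun _ => 1) (Or.inl isIrrCharacter_one)
    with h | h | h
  · exfalso
    rw [show Cfsg.conjFun F.psi = F.psi by
      funext g; simp [Cfsg.conjFun, psi, h], hn] at hb
    exact one_ne_zero hb
  · exfalso
    rw [show Cfsg.conjFun F.psi = F.psi by
      funext g; simp [Cfsg.conjFun, psi, h], hn] at hb
    exact one_ne_zero hb
  · exact h

theorem real_X : Cfsg.conjFun (F.tau + F.psi) = F.tau + F.psi := by
  have hd := F.im_diff _ F.bar_mem
  rw [F.wt_bar, Nat.cast_one, one_smul, one_smul, ← F.psi_bar] at hd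
  have h1 : Cfsg.conjFun F.tau = F.tau + (F.psi - Cfsg.conjFun F.psi) := by
    rw [tau, Above.conjFun_indFun,
      show Cfsg.conjFun F.gam = F.gam + (F.base - Cfsg.conjFun F.base) by
        funext m
        simp only [Cfsg.conjFun, Pi.add_apply, Pi.sub_apply, F.gam_eq, map_sub, apply_ite conj,
          map_natCast, map_zero]
        ring, indFun_add, ← neg_sub (Cfsg.conjFun F.base), indFun_neg, hd, neg_sub]
    rfl
  funext g
  have h2 := congrFun h1 g
  simp only [Cfsg.conjFun, Pi.add_apply, Pi.sub_apply, map_add] at h2 ⊢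
  linear_combination h2

theorem X_one : Cfsg.classInner (F.tau + F.psi) (fun _ => 1) = ((1 : ℤ) : ℂ) := by
  rw [classInner_add_left, F.tau_one, F.psi_inner_one]
  norm_num

include F in
theorem inner_ind_zero {α : M → ℂ} (hα : ∀ m : M, (m : G) ∉ sharpSet K → α m = 0) {V : G → ℂ}
    (hV0 : ∀ g ∈ conjSet (sharpSet K), V g = 0) :
    Cfsg.classInner (Cfsg.indFun M α) V = 0 := by
  rw [classInner_def, Finset.sum_eq_zero fun g _ => ?_, mul_zero]
  by_cases hg : g ∈ conjSet (sharpSet K)
  · rw [hV0 g hg, map_zero, mul_zero]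
  · rw [F.ind_eq_zero hα hg, zero_mul]

theorem coef {V : G → ℂ} (hV0 : ∀ g ∈ conjSet (sharpSet K), V g = 0) {ξ : M → ℂ}
    (hξ : ξ ∈ F.I) :
    Cfsg.classInner (F.im ξ) V = (F.wt ξ : ℂ) * Cfsg.classInner F.psi V := by
  have h := F.inner_ind_zero (F.diff_supp hξ) hV0
  rw [F.im_diff _ hξ, classInner_sub_left, classInner_smul_left, sub_eq_zero] at h
  exact h

theorem coef_tau {ξ : M → ℂ} (hξ : ξ ∈ F.I) :
    Cfsg.classInner (F.im ξ) F.tau =
      (F.wt ξ : ℂ) * (Cfsg.classInner F.psi F.tau + 1) - (if ξ = F.base then 1 else 0) := by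
  have h := F.iso (isClassFunction_of_isGen F.gen_gam) (F.diff_supp hξ) F.gam_supp
  rw [F.im_diff _ hξ] at h
  change Cfsg.classInner _ F.tau = _ at h
  rw [classInner_sub_left, classInner_smul_left, classInner_sub_left, classInner_smul_left] at h
  have h1 : ∀ η ∈ F.I, Cfsg.classInner η F.gam = if η = F.base then -1 else 0 := fun η hη => by
    rw [← classInner_conj_symm, F.gam_inner_member hη]
    split_ifs <;> simp
  rw [h1 _ hξ, h1 _ F.base_mem, if_pos rfl] at h
  rw [psi]
  split_ifs with hb <;> simp only [hb, if_true, if_false] at h ⊢ <;> linear_combination h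

theorem psi_inner_bar : Cfsg.classInner F.psi (Cfsg.conjFun F.psi) = 0 := by
  rw [F.psi_bar, psi, F.im_orth _ F.base_mem _ F.bar_mem, if_neg F.bar_ne.symm]

section Grid

variable {W₁ W₂ : Subgroup G} {χ : (↥(W₁ ⊔ W₂) →* ℂˣ) → (G → ℂ)}
variable (hW : Cfsg.IsSelfNormalizingCyclic W₁ W₂) (hχ : Cfsg.IsCyclicTIFamily W₁ W₂ χ)
  (h1 : 3 ≤ Nat.card W₁) (h2 : 3 ≤ Nat.card W₂)
  (hdis : ∀ g ∈ hat W₁ W₂, g ∉ conjSet (sharpSet K))

include hW hχ h1 h2 hdis in
theorem orth_grid {ξ : M → ℂ} (hξ : ξ ∈ F.I) (ω : ↥(W₁ ⊔ W₂) →* ℂˣ) :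
    Cfsg.classInner (F.im ξ) (χ ω) = 0 := by
  have hχs : ∀ ω, SIrr (χ ω) := hχ.irr_or_neg
  have hD : ∀ ξ ∈ F.I, Cfsg.IsClassFunction G (F.im ξ - (F.wt ξ : ℂ) • F.im F.base) ∧
      ∀ z ∈ hat W₁ W₂, (F.im ξ - (F.wt ξ : ℂ) • F.im F.base) z = 0 := fun ξ hξ => by
    rw [← F.im_diff _ hξ]
    exact ⟨isClassFunction_indFun M _, fun z hz => F.ind_eq_zero (F.diff_supp hξ) (hdis z hz)⟩
  have hzero : ∀ {a b : G → ℂ}, SIrr a → Cfsg.classInner a b = 0 → ∀ ω,
      (a = χ ω ∨ a = -χ ω) → Cfsg.classInner (χ ω) b = 0 := by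
    intro a b _ hab ω hω
    rcases hω with rfl | rfl
    · exact hab
    · rwa [classInner_neg_left, neg_eq_zero] at hab
  -- the base
  have hbase : ∀ ω, Cfsg.classInner F.psi (χ ω) = 0 := by
    intro ω₀
    by_contra hne
    have hψω : F.psi = χ ω₀ ∨ F.psi = -χ ω₀ := by
      rcases (F.im_sgn _ F.base_mem).cases (hχs ω₀) with h | h | h
      exacts [Or.inl h, Or.inr h, absurd h hne]
    have hb : ∀ ω, Cfsg.classInner F.psi (χ ω) ≠ 0 → ω = ω₀ := by
      intro ω hω
      by_contra hne'
      refine hω ?_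
      rcases hψω with e | e <;> rw [e]
      · rw [hχ.orthonormal, if_neg (Ne.symm hne')]
      · rw [classInner_neg_left, hχ.orthonormal, if_neg (Ne.symm hne'), neg_zero]
    obtain ⟨hcl, hvan⟩ := hD _ F.bar_mem
    rw [F.wt_bar, Nat.cast_one, one_smul, ← F.psi_bar] at hcl hvan
    change Cfsg.IsClassFunction G (Cfsg.conjFun F.psi - F.psi) at hcl
    set φ := Cfsg.conjFun F.psi with hφ
    have hφs : SIrr φ := (F.im_sgn _ F.base_mem).conjFun
    obtain ⟨ω₁, hω₁⟩ : ∃ ω₁, ∀ ω, Cfsg.classInner φ (χ ω) ≠ 0 → ω = ω₁ := by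
      by_cases hex : ∃ ω₁, Cfsg.classInner φ (χ ω₁) ≠ 0
      · obtain ⟨ω₁, hw⟩ := hex
        refine ⟨ω₁, fun ω hω => ?_⟩
        by_contra hne'
        refine hω ?_
        rcases hφs.cases (hχs ω₁) with e | e | e
        · rw [e, hχ.orthonormal, if_neg (Ne.symm hne')]
        · rw [e, classInner_neg_left, hχ.orthonormal, if_neg (Ne.symm hne'), neg_zero]
        · exact absurd e hw
      · push Not at hex
        exact ⟨ω₀, fun ω hω => absurd (hex ω) hω⟩
    have hall := eq_zero_of_few hW hχ h1 h2 hcl hvan ω₀ ω₁ (fun ω ha hb' => by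
      rw [classInner_sub_left, not_not.1 fun hh => hb' (hω₁ ω hh),
        not_not.1 fun hh => ha (hb ω hh), sub_zero]) ω₀
    have h0 : Cfsg.classInner φ (χ ω₀) = 0 := by
      have h3 := hzero (F.im_sgn _ F.base_mem) F.psi_inner_bar ω₀ hψω
      rw [← classInner_conj_symm, h3, map_zero]
    rw [classInner_sub_left, h0, zero_sub, neg_eq_zero] at hall
    exact hne hall
  by_contra hne
  obtain ⟨hcl, hvan⟩ := hD _ hξ
  have hall := eq_zero_of_few hW hχ h1 h2 hcl hvan ω ω (fun ω' ha _ => by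
    rw [classInner_sub_left, classInner_smul_left, show Cfsg.classInner (F.im F.base) (χ ω') = 0
      from hbase ω', mul_zero, sub_zero]
    rcases (F.im_sgn _ hξ).cases (hχs ω) with e | e | e
    · rw [e, hχ.orthonormal, if_neg (Ne.symm ha)]
    · rw [e, classInner_neg_left, hχ.orthonormal, if_neg (Ne.symm ha), neg_zero]
    · exact absurd e hne) ω
  rw [classInner_sub_left, classInner_smul_left, show Cfsg.classInner (F.im F.base) (χ ω) = 0
    from hbase ω, mul_zero, sub_zero] at hall
  exact hne hall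

end Grid

section Two

variable {M' K' : Subgroup G} [Fintype M'] {e' : ℕ} (F' : Fam M' K' e')
  (hdis : ∀ g ∈ conjSet (sharpSet K), g ∉ conjSet (sharpSet K'))

include F F' in
theorem inner_diffs (hdis : ∀ g ∈ conjSet (sharpSet K), g ∉ conjSet (sharpSet K'))
    {α : M → ℂ} (hα : ∀ m : M, (m : G) ∉ sharpSet K → α m = 0)
    {β : M' → ℂ} (hβ : ∀ m : M', (m : G) ∉ sharpSet K' → β m = 0) :
    Cfsg.classInner (Cfsg.indFun M α) (Cfsg.indFun M' β) = 0 :=
  F.inner_ind_zero hα fun g hg => F'.ind_eq_zero hβ (hdis g hg)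

include hdis in
theorem psi_orth :
    Cfsg.classInner F.psi F'.psi = 0 ∧ Cfsg.classInner F.psi (Cfsg.conjFun F'.psi) = 0 := by
  have hz := F.inner_diffs F' hdis (F.diff_supp F.bar_mem) (F'.diff_supp F'.bar_mem)
  rw [F.im_diff _ F.bar_mem, F'.im_diff _ F'.bar_mem, F.wt_bar, F'.wt_bar, Nat.cast_one, one_smul,
    one_smul, ← F.psi_bar, ← F'.psi_bar] at hz
  change Cfsg.classInner (Cfsg.conjFun F.psi - F.psi) (Cfsg.conjFun F'.psi - F'.psi) = 0 at hz
  rw [classInner_sub_left, classInner_sub_right, classInner_sub_right,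
    PairBessel.classInner_conjFun] at hz
  have e2 : Cfsg.classInner (Cfsg.conjFun F.psi) F'.psi =
      conj (Cfsg.classInner F.psi (Cfsg.conjFun F'.psi)) := by
    rw [← PairBessel.classInner_conjFun, PairBessel.conjFun_conjFun]
  rw [e2] at hz
  have hn : Cfsg.classInner F'.psi F'.psi = 1 := (F'.im_sgn _ F'.base_mem).norm
  have hb := F'.psi_inner_bar
  have hb' : Cfsg.classInner (Cfsg.conjFun F'.psi) F'.psi = 0 := by
    rw [← classInner_conj_symm, hb, map_zero]
  have hn' : Cfsg.classInner (Cfsg.conjFun F'.psi) (Cfsg.conjFun F'.psi) = 1 := by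
    rw [PairBessel.classInner_conjFun, hn, map_one]
  have s := F.im_sgn _ F.base_mem
  have s' := F'.im_sgn _ F'.base_mem
  rcases s.cases s' with h | h | h
  · exfalso
    rw [show F.psi = F'.psi from h, hn, hb] at hz
    norm_num at hz
  · exfalso
    rw [show F.psi = -F'.psi from h, classInner_neg_left, classInner_neg_left, hn, hb] at hz
    norm_num at hz
  refine ⟨h, ?_⟩
  rcases s.cases s'.conjFun with h2 | h2 | h2
  · exfalso
    rw [show F.psi = Cfsg.conjFun F'.psi from h2, hb', hn'] at hz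
    norm_num at hz
  · exfalso
    rw [show F.psi = -Cfsg.conjFun F'.psi from h2, classInner_neg_left, classInner_neg_left, hb',
      hn'] at hz
    norm_num at hz
  · exact h2

include hdis in
theorem orth_fam {ξ : M → ℂ} (hξ : ξ ∈ F.I) :
    Cfsg.classInner (F.im ξ) F'.psi = 0 ∧
      Cfsg.classInner (F.im ξ) (Cfsg.conjFun F'.psi) = 0 := by
  obtain ⟨h1, h2⟩ := F.psi_orth F' hdis
  have hz := F.inner_diffs F' hdis (F.diff_supp hξ) (F'.diff_supp F'.bar_mem)
  rw [F.im_diff _ hξ, F'.im_diff _ F'.bar_mem, F'.wt_bar, Nat.cast_one, one_smul,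
    ← F'.psi_bar] at hz
  change Cfsg.classInner (F.im ξ - (F.wt ξ : ℂ) • F.psi) (Cfsg.conjFun F'.psi - F'.psi) = 0 at hz
  rw [classInner_sub_left, classInner_sub_right, classInner_sub_right, classInner_smul_left,
    classInner_smul_left, h1, h2, mul_zero, sub_zero, sub_zero, sub_eq_zero] at hz
  have hn : Cfsg.classInner F'.psi F'.psi = 1 := (F'.im_sgn _ F'.base_mem).norm
  have hb := F'.psi_inner_bar
  rcases (F.im_sgn _ hξ).cases (F'.im_sgn _ F'.base_mem) with h | h | h
  · exfalso
    rw [show F.im ξ = F'.psi from h, hn, hb] at hz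
    norm_num at hz
  · exfalso
    rw [show F.im ξ = -F'.psi from h, classInner_neg_left, classInner_neg_left, hn, hb] at hz
    norm_num at hz
  · exact ⟨h, hz ▸ h⟩

end Two

/-- The weight of `ψ` on the conjugates of `K#`. -/
theorem mass : (Nat.card G : ℝ) * (1 - 1 / (F.size : ℝ)) ≤
    ∑ g ∈ Finset.univ.filter (· ∈ conjSet (sharpSet K)), ‖F.psi g‖ ^ 2 := by
  have hnpos : 0 < F.size := lt_of_lt_of_le (by rw [F.wt_base]; norm_num)
    (Finset.single_le_sum (f := fun ξ => F.wt ξ ^ 2) (fun _ _ => Nat.zero_le _) F.base_mem)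
  set r : ℂ := (F.size : ℂ)⁻¹ with hr
  set E : G → ℂ := F.psi - r • ∑ ξ ∈ F.I, (F.wt ξ : ℂ) • F.im ξ with hE
  have hn0 : (F.size : ℂ) ≠ 0 := by exact_mod_cast hnpos.ne'
  have hsum : (F.size : ℂ) = ∑ ξ ∈ F.I, (F.wt ξ : ℂ) ^ 2 := by rw [size]; push_cast; rfl
  have hEeq : E = -(r • ∑ ξ ∈ F.I, (F.wt ξ : ℂ) • (F.im ξ - (F.wt ξ : ℂ) • F.im F.base)) := by
    simp only [smul_sub, Finset.sum_sub_distrib, smul_smul, ← sq, ← Finset.sum_smul, ← hsum]
    rw [hE, hr, inv_mul_cancel₀ hn0, one_smul, neg_sub]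
    rfl
  have hE0 : ∀ g, g ∉ conjSet (sharpSet K) → E g = 0 := fun g hg => by
    rw [hEeq]
    simp only [Pi.neg_apply, Pi.smul_apply, Finset.sum_apply, smul_eq_mul]
    rw [Finset.sum_eq_zero fun ξ hξ => by
      rw [← F.im_diff _ hξ, F.ind_eq_zero (F.diff_supp hξ) hg, mul_zero], mul_zero, neg_zero]
  have hpe : ∀ ξ ∈ F.I, Cfsg.classInner F.psi (F.im ξ) = if ξ = F.base then 1 else 0 :=
    fun ξ hξ => by
      rw [psi, F.im_orth _ F.base_mem _ hξ]
      simp [eq_comm]
  have hψE : Cfsg.classInner F.psi E = 1 - r := by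
    rw [hE, classInner_sub_right, (F.im_sgn _ F.base_mem).norm.trans rfl |> fun h => (h :
      Cfsg.classInner F.psi F.psi = 1), classInner_smul_right, classInner_sum_right,
      Finset.sum_congr rfl fun ξ hξ => by rw [classInner_smul_right, hpe ξ hξ, map_natCast],
      Finset.sum_eq_single F.base (fun ξ _ hne => by rw [if_neg hne, mul_zero])
        (fun hn => absurd F.base_mem hn), if_pos rfl, F.wt_base, hr, map_inv₀, map_natCast]
    simp
  have hEψ : Cfsg.classInner E F.psi = 1 - r := by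
    rw [← classInner_conj_symm, hψE, hr, map_sub, map_one, map_inv₀, map_natCast]
  have hEE : Cfsg.classInner E E = 1 - r := by
    conv_lhs => arg 2; rw [hE]
    rw [classInner_sub_right, hEψ, classInner_smul_right, classInner_sum_right,
      Finset.sum_congr rfl fun ξ hξ => by
        rw [classInner_smul_right, hE, classInner_sub_left, hpe ξ hξ, classInner_smul_left,
          classInner_sum_left, Finset.sum_congr rfl fun η hη => by
            rw [classInner_smul_left, F.im_orth _ hη _ hξ],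
          Finset.sum_eq_single ξ (fun η _ hne => by rw [if_neg hne, mul_zero])
            (fun hn => absurd hξ hn), if_pos rfl, mul_one, map_natCast, mul_sub, ← mul_assoc,
          mul_comm _ r, mul_assoc, ← sq],
      Finset.sum_sub_distrib, ← Finset.mul_sum, ← hsum, Finset.sum_eq_single F.base
        (fun ξ _ hne => by rw [if_neg hne, mul_zero]) (fun hn => absurd F.base_mem hn), if_pos rfl,
      F.wt_base, hr, map_inv₀, map_natCast, inv_mul_cancel₀ hn0]
    simp
  set A := Finset.univ.filter (· ∈ conjSet (sharpSet K)) with hA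
  have key : ∀ g, 2 * (F.psi g * conj (E g)).re - (E g * conj (E g)).re ≤ ‖F.psi g‖ ^ 2 := by
    intro g
    have h0 := Complex.normSq_nonneg (F.psi g - E g)
    rw [Complex.normSq_apply] at h0
    rw [Complex.sq_norm, Complex.normSq_apply, Complex.mul_re, Complex.mul_re, Complex.conj_re,
      Complex.conj_im]
    simp only [Complex.sub_re, Complex.sub_im] at h0
    nlinarith [h0]
  have hsumA : ∀ f : G → ℂ, ∑ g ∈ A, (f g * conj (E g)).re =
      ((Nat.card G : ℂ) * Cfsg.classInner f E).re := by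
    intro f
    rw [card_mul_classInner, Complex.re_sum]
    refine Finset.sum_subset (Finset.subset_univ _) fun g _ hg => ?_
    rw [hE0 g fun hh => hg (Finset.mem_filter.2 ⟨Finset.mem_univ _, hh⟩)]
    simp
  refine le_trans (le_of_eq ?_) (Finset.sum_le_sum fun g _ => key g)
  rw [Finset.sum_sub_distrib, ← Finset.mul_sum, hsumA, hsumA, hψE, hEE, hr]
  rw [show ((Nat.card G : ℂ) * (1 - (F.size : ℂ)⁻¹)) =
    (((Nat.card G : ℝ) * (1 - 1 / (F.size : ℝ)) : ℝ) : ℂ) by push_cast; ring, Complex.ofReal_re]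
  ring

end Fam

end CfsgLib.OddChar.Pair
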