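import Cfsg.Agent.Lib.OddChar.PairFpf

/-!
# Centralisers in the maximal subgroups of a pair

* `typeA_subset`: for a maximal subgroup `N` the set `A(N)` lies in `A₁(N)`;
* `cent_le_typeA`: the centraliser of an element of `A(N)` lies in `N`;
* `ti_over`: the kernel of a maximal subgroup over `N(U)` has trivial intersections;
* `ti_derived`: so has `T'` when `N(V) ≤ T`.
-/

set_option autoImplicit false
set_option linter.unusedSectionVars false

namespace CfsgLib.OddChar.Pair

universe u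

namespace PairData

variable {G : Type u} [Group G] [Finite G] {S T W₁ W₂ U V : Subgroup G} {q p : ℕ}
variable (h : PairData S T W₁ W₂ U V q p)
include h

theorem typeA_subset_conj_S (g : G) :
    CfsgLib.OddLocal.S15.typeACore (S.map (MulAut.conj g).toMonoidHom) ⊆
      Cfsg.typeA1 (S.map (MulAut.conj g).toMonoidHom) := by
  have hS := h.side_S
  set N := S.map (MulAut.conj g).toMonoidHom with hN
  intro a ha
  by_cases hI : CfsgLib.OddLocal.S15.IsTypeICore N
  · have hcoatom : IsCoatom N := TypeIMeet.isCoatom_map_conj hS.max g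
    rw [TypeICoherence.typeA_eq hI (h.frobenius N hcoatom hI)] at ha
    refine ⟨?_, ha.2⟩
    rw [(h.local_props.typeI_core N hcoatom hI).2]
    exact ha.1
  rw [CfsgLib.OddLocal.S15.typeACore, if_neg hI] at ha
  obtain ⟨haN, ha1, x, hx, hx1, hax⟩ := ha
  refine ⟨?_, ha1⟩
  unfold Cfsg.typeCore at hx ⊢
  split_ifs at hx ⊢ with hc
  · exact haN
  rw [NotAllTypeI.fittingHallOf_map_conj] at hx ⊢
  rw [hN, ← Subgroup.map_commutator] at haN
  obtain ⟨s, hs, rfl⟩ := hx
  obtain ⟨t, ht, rfl⟩ := haN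
  obtain ⟨y, hy, v, hv, rfl⟩ := hS.data.U_compl.2.2.2 t ht
  have hts : y * v * s = s * (y * v) := (MulAut.conj g).injective (by simpa using hax)
  refine ⟨y * v, ?_, rfl⟩
  have hv1 : v = 1 := by
    by_contra hne
    have hvs : v * s = s * v := by
      have hys : y * s = s * y := hS.P_comm hy hs
      apply mul_left_cancel (a := y)
      calc y * (v * s) = y * v * s := (mul_assoc _ _ _).symm
        _ = s * (y * v) := hts
        _ = (s * y) * v := (mul_assoc _ _ _).symm
        _ = y * (s * v) := by rw [← hys, mul_assoc]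
    exact hx1 (by rw [h.fpf_elem hv hne hs hvs, map_one])
  rw [hv1, mul_one]
  exact hy

theorem typeA_subset {N : Subgroup G} (hN : IsCoatom N) :
    CfsgLib.OddLocal.S15.typeACore N ⊆ Cfsg.typeA1 N := by
  rcases h.classes N hN with hI | ⟨g, rfl | rfl⟩
  · intro a ha
    rw [TypeICoherence.typeA_eq hI (h.frobenius N hN hI)] at ha
    refine ⟨?_, ha.2⟩
    rw [(h.local_props.typeI_core N hN hI).2]
    exact ha.1
  · exact h.typeA_subset_conj_S g
  · exact h.symm.typeA_subset_conj_S g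

/-- The centralisers stay inside. -/
theorem cent_le_typeA {N : Subgroup G} (hN : IsCoatom N) {x : G}
    (hx : x ∈ CfsgLib.OddLocal.S15.typeACore N) : Subgroup.centralizer ({x} : Set G) ≤ N := by
  by_contra hne
  obtain ⟨h1, h2⟩ := h.local_props.tame N hN
  obtain ⟨-, M, ⟨hM, hCM⟩, -⟩ := h1 x hx hne
  obtain ⟨-, ⟨hxM, hxM1⟩, -, -⟩ := h2 x hx hne M hM hCM
  exact hxM1 (h.typeA_subset hM hxM)

theorem mem_of_conj_typeA {N : Subgroup G} (hN : IsCoatom N) {x g : G}
    (hx : x ∈ CfsgLib.OddLocal.S15.typeACore N)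
    (hgx : g * x * g⁻¹ ∈ CfsgLib.OddLocal.S15.typeACore N) : g ∈ N := by
  obtain ⟨m, hm, hmx⟩ := (h.local_props.dade N hN).fusion x hx g hgx
  have hc : m⁻¹ * g ∈ Subgroup.centralizer ({x} : Set G) := by
    refine Subgroup.mem_centralizer_singleton_iff.2 ?_
    calc m⁻¹ * g * x = m⁻¹ * (g * x * g⁻¹) * g := by group
      _ = x * (m⁻¹ * g) := by rw [← hmx]; group
  simpa using mul_mem hm (h.cent_le_typeA hN hx hc)

variable {L : Subgroup G} (hnu : ¬ Subgroup.normalizer (U : Set G) ≤ S)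
  (hL : IsCoatom L) (hNU : Subgroup.normalizer (U : Set G) ≤ L)

include hnu hL hNU in
/-- The kernel over `N(U)`. -/
theorem ti_over {g x : G} (hx : x ∈ Cfsg.fittingHallOf L) (hx1 : x ≠ 1)
    (hgx : g * x * g⁻¹ ∈ Cfsg.fittingHallOf L) : g ∈ L := by
  have hI := h.over_typeI hnu hL hNU
  exact h.mem_of_conj_typeA hL (TypeIProps.mem_typeA_of_mem_fitting hI hx hx1)
    (TypeIProps.mem_typeA_of_mem_fitting hI hgx fun e => hx1 (conj_eq_one_iff.1 e))

/-- `T'` when `N(V) ≤ T`. -/
theorem ti_derived (hT : Subgroup.normalizer (V : Set G) ≤ T) {g x : G} (hx : x ∈ ⁅T, T⁆)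
    (hx1 : x ≠ 1) (hgx : g * x * g⁻¹ ∈ ⁅T, T⁆) : g ∈ T := by
  have hcore : Cfsg.typeCore T = ⁅T, T⁆ := h.nu_T.resolve_left fun hn => hn hT
  have hA : ∀ y ∈ ⁅T, T⁆, y ≠ 1 → y ∈ CfsgLib.OddLocal.S15.typeACore T := by
    intro y hy hy1
    rw [CfsgLib.OddLocal.S15.typeACore, if_neg h.not_I_T, hcore]
    exact ⟨hy, hy1, y, hy, hy1, rfl⟩
  exact h.mem_of_conj_typeA h.side_T.max (hA x hx hx1)
    (hA _ hgx fun e => hx1 (conj_eq_one_iff.1 e))

end PairData

end CfsgLib.OddChar.Pair
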