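import Cfsg.Agent.Lib.OddChar.TIFrobenius

/-!
# The characters induced from a nilpotent Frobenius kernel with the TI property

* `dvd_card_central`, `subgroup_eq_sylow`;
* `system_TI`, `coherent_TI`: a coherence system and coherence.
-/

namespace CfsgLib.OddChar.Above

open CfsgLib.Char CfsgLib.CharNormal CfsgLib.OddChar.Coh

/-- A central subgroup of the kernel has order `1` modulo the index. -/
theorem dvd_card_central {L : Type*} [Group L] [Finite L] (K : Subgroup L) [K.Normal]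
    (hC : ∀ k ∈ K, k ≠ 1 → Subgroup.centralizer ({k} : Set L) ≤ K) (Z : Subgroup L) [Z.Normal]
    (hZK : Z ≤ K) (hZc : ∀ z ∈ Z, ∀ k ∈ K, z * k = k * z) : K.index ∣ Nat.card Z - 1 :=
  dvd_card_sub_one Z K.index fun z hz hz1 => by
    rw [le_antisymm (hC z (hZK hz) hz1) fun k hk =>
      Subgroup.mem_centralizer_singleton_iff.mpr (hZc z hz k hk).symm]

variable {G : Type*} [Group G] [Fintype G]

/-- A kernel of `p`-power order whose normalizer has `p'` index is a Sylow subgroup. -/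
theorem subgroup_eq_sylow {p : ℕ} [Fact p.Prime] (H L : Subgroup G) (hH : IsPGroup p H)
    (hN : Subgroup.normalizer (H : Set G) = L) [(H.subgroupOf L).Normal]
    (hcop : Nat.Coprime p (H.subgroupOf L).index) : ∃ P : Sylow p G, (P : Subgroup G) = H := by
  obtain ⟨P, hP⟩ := hH.exists_le_sylow
  refine ⟨P, le_antisymm ?_ hP⟩
  by_contra hle
  have := P.isPGroup'.isNilpotent
  have hlt : H.subgroupOf (P : Subgroup G) < ⊤ :=
    lt_top_iff_ne_top.mpr fun e => hle (Subgroup.subgroupOf_eq_top.mp e)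
  obtain ⟨⟨x, hxP⟩, hxn, hxH⟩ := SetLike.exists_of_lt
    (Group.normalizerCondition_of_isNilpotent (H.subgroupOf (P : Subgroup G)) hlt)
  have hxL : x ∈ L := by
    rw [← hN, Subgroup.mem_normalizer_iff]
    intro h
    have key := Subgroup.mem_normalizer_iff.mp hxn
    constructor
    · intro hh
      simpa [Subgroup.mem_subgroupOf] using (key ⟨h, hP hh⟩).mp (by simpa [Subgroup.mem_subgroupOf] using hh)
    · intro hh
      have hm : h ∈ (P : Subgroup G) := by
        have := (P : Subgroup G).mul_mem ((P : Subgroup G).mul_mem ((P : Subgroup G).inv_mem hxP) (hP hh)) hxP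
        simpa [mul_assoc] using this
      simpa [Subgroup.mem_subgroupOf] using (key ⟨h, hm⟩).mpr (by simpa [Subgroup.mem_subgroupOf] using hh)
  obtain ⟨k, hk⟩ := P.isPGroup' ⟨x, hxP⟩
  have hco : Nat.Coprime (H.subgroupOf L).index (orderOf (⟨x, hxL⟩ : L)) := by
    refine Nat.Coprime.coprime_dvd_right (orderOf_dvd_of_pow_eq_one ?_) (Nat.Coprime.pow_left k hcop).symm
    exact Subtype.ext (congrArg Subtype.val hk :)
  obtain ⟨j, hj⟩ := exists_pow_eq_self_of_coprime hco
  exact hxH (hj ▸ Subgroup.pow_mem _ ((H.subgroupOf L).pow_index_mem ⟨x, hxL⟩) j :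
    (⟨x, hxL⟩ : L) ∈ H.subgroupOf L)

variable (H L : Subgroup G) [Fintype L] [(H.subgroupOf L).Normal]

/-- Induction gives a coherence system on the characters induced from the kernel. -/
theorem system_TI (hodd : Odd (Nat.card L))
    (hC : ∀ k ∈ H.subgroupOf L, k ≠ 1 → Subgroup.centralizer ({k} : Set L) ≤ H.subgroupOf L)
    (hnt : H.subgroupOf L ≠ ⊥) (hsolv : Group.IsSolvable (H.subgroupOf L))
    (hN : Subgroup.normalizer (H : Set G) = L) (hTI : Cfsg.IsTISubset (H : Set G)) :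
    (Cfsg.IsLinearIsometryOn (Cfsg.zspanOn (Cfsg.inducedIrrAbove (H.subgroupOf L) ⊥) {1}ᶜ)
        (fun α : L → ℂ => Cfsg.indFun L α) ∧
      ∀ α ∈ Cfsg.zspanOn (Cfsg.inducedIrrAbove (H.subgroupOf L) ⊥) {1}ᶜ, Cfsg.indFun L α 1 = 0) ∧
    ∃ R, Cfsg.IsCoherenceSystem (Cfsg.inducedIrrAbove (H.subgroupOf L) ⊥)
      (fun α : L → ℂ => Cfsg.indFun L α) R := by
  classical
  have := Fintype.ofFinite (H.subgroupOf L)
  set K := H.subgroupOf L
  have hiso := indFun_isometry H L hN hTI (Cfsg.inducedIrrAbove K ⊥)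
    (fun φ h => isGen_of_irr (irr_of_above K hC h)) (fun φ h x hx => above_support K h hx)
  obtain ⟨φ, hφ, -⟩ := exists_deg_index K ⊥ hsolv (bot_lt_iff_ne_bot.mpr hnt)
  exact ⟨hiso, Cfsg.Agent.S1514.result _ ⟨φ, hφ⟩ (fun _ h => irr_of_above K hC h)
    (fun _ h => ⟨above_conj K ⊥ h, above_conj_ne K hC hodd h⟩) _ hiso.1 hiso.2⟩

/-- The characters induced from the kernel are coherent. -/
theorem coherent_TI (hodd : Odd (Nat.card L))
    (hC : ∀ k ∈ H.subgroupOf L, k ≠ 1 → Subgroup.centralizer ({k} : Set L) ≤ H.subgroupOf L)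
    (hnt : H.subgroupOf L ≠ ⊥) (hKL : H.subgroupOf L < ⊤) (hnil : Group.IsNilpotent (H.subgroupOf L))
    (hHL : H ≤ L) (hN : Subgroup.normalizer (H : Set G) = L) (hTI : Cfsg.IsTISubset (H : Set G)) :
    Cfsg.IsCoherent (Cfsg.inducedIrrAbove (H.subgroupOf L) ⊥) {1}ᶜ
      (fun α : L → ℂ => Cfsg.indFun L α) := by
  classical
  have := Fintype.ofFinite (H.subgroupOf L)
  set K := H.subgroupOf L with hKdef
  have hsolv : Group.IsSolvable K := inferInstance
  obtain ⟨⟨hiso, hiso1⟩, R, hS⟩ := system_TI H L hodd hC hnt hsolv hN hTI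
  have := Subgroup.commutator_normal K K
  have : Nontrivial K := K.nontrivial_iff_ne_bot.mpr hnt
  have hH₁K : ⁅K, K⁆ < K := by
    refine lt_of_le_of_ne (Subgroup.commutator_le_left K K) fun e => ?_
    refine (Group.IsSolvable.commutator_lt_top_of_nontrivial K).ne
      (Subgroup.map_injective K.subtype_injective ?_)
    rw [commutator_def, Subgroup.map_commutator, ← MonoidHom.range_eq_map, K.range_subtype, e]
  have hfrob := mem_of_comm_mem K hC ⁅K, K⁆ hH₁K.le
  have hker := coherent_kernel K hsolv hS hodd ⊥ bot_le inferInstance ⁅K, K⁆ (sup_bot_eq _).symm hH₁K hKL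
    hfrob
  by_cases hpp : ∃ p n : ℕ, p.Prime ∧ (⊥ : Subgroup L).relIndex K = p ^ n
  swap
  · exact hker (Or.inr (Or.inr (Or.inl hpp)))
  by_cases hab : ⁅K, K⁆ ≤ ⊥
  · exact hker (Or.inr (Or.inr (Or.inr (Or.inl hab))))
  obtain ⟨p, n, hp, hpn⟩ := hpp
  rw [Subgroup.relIndex_bot_left] at hpn
  have := Fact.mk hp
  -- a central subgroup inside the derived subgroup
  have hpK : IsPGroup p K := IsPGroup.of_card hpn
  set Z : Subgroup L := (Subgroup.center K).map K.subtype ⊓ ⁅K, K⁆ with hZdef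
  have hZK : Z ≤ K := inf_le_right.trans hH₁K.le
  have hZc : ∀ z ∈ Z, ∀ k ∈ K, z * k = k * z := by
    rintro _ ⟨⟨z, hz, rfl⟩, -⟩ k hk
    exact congrArg Subtype.val (Subgroup.mem_center_iff.mp hz ⟨k, hk⟩).symm
  have hZ1 : Z ≠ ⊥ := by
    have hmap : (commutator K).map K.subtype = ⁅K, K⁆ := by
      rw [commutator_def, Subgroup.map_commutator, ← MonoidHom.range_eq_map, K.range_subtype]
    have hne : commutator K ≠ ⊥ := fun e =>
      hab (by rw [← hmap, e, Subgroup.map_bot])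
    intro e
    rw [hZdef, ← hmap, ← Subgroup.map_inf _ _ _ K.subtype_injective,
      Subgroup.map_eq_bot_iff_of_injective _ K.subtype_injective, inf_comm] at e
    exact CfsgLib.PGroup.inf_center_ne_bot hpK (commutator K) hne e
  have hdiff := diff_eq K Z hZK fun χ h => irr_of_above K hC h.1
  have hTcoh := coherent_nontriv_center K hsolv hS hodd hnil hH₁K hKL hfrob Z hZ1 hZK hZc
    fun χ h => irr_of_above K hC h.1
  set T := (above_finite K ⊥).toFinset \ (above_finite K Z).toFinset with hT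
  have hcoe : (↑T : Set (L → ℂ)) = Cfsg.inducedIrrAbove K ⊥ \ Cfsg.inducedIrrAbove K Z := by
    simp [hT]
  rw [← hcoe] at hTcoh
  have hTS : ↑T ⊆ Cfsg.inducedIrrAbove K ⊥ := hcoe ▸ Set.sdiff_subset
  have hTc : ∀ φ ∈ T, Cfsg.conjFun φ ∈ T := fun φ h => by
    rw [← Finset.mem_coe, hcoe] at h ⊢
    exact ⟨above_conj K ⊥ h.1, fun h' => h.2 (Coh.conjFun_conjFun φ ▸ above_conj K Z h')⟩
  obtain ⟨a, -, ha⟩ := (Nat.dvd_prime_pow hp).mp (hpn ▸ Subgroup.index_dvd_card (Z.subgroupOf K) :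
    Z.relIndex K ∣ p ^ n)
  have hcardZ : Nat.card K = p ^ a * Nat.card Z := by
    rw [← ha, ← Nat.card_congr (Subgroup.subgroupOfEquivOfLe hZK).toEquiv]
    exact (Z.subgroupOf K).index_mul_card.symm
  have hepos : 0 < K.index := Nat.pos_of_ne_zero K.index_ne_zero_of_finite
  have hodde : Odd K.index := hodd.of_dvd_nat (Subgroup.index_dvd_card K)
  have hoddK : Odd (Nat.card K) := hodd.of_dvd_nat (Subgroup.card_subgroup_dvd_card K)
  have hn0 : n ≠ 0 := fun e => by
    have := Finite.one_lt_card (α := K)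
    rw [hpn, e, pow_zero] at this
    exact lt_irrefl _ this
  have hpodd : Odd p := hoddK.of_dvd_nat (hpn ▸ dvd_pow_self p hn0)
  have hcop : Nat.Coprime p K.index :=
    (hpn ▸ coprime_card_index_of_centralizer_le K hC : Nat.Coprime (p ^ n) K.index).coprime_dvd_left
      (dvd_pow_self p hn0)
  have hdeg : ∀ φ ∈ Cfsg.inducedIrrAbove K ⊥, ∃ l, deg φ = K.index * p ^ l := fun φ h =>
    (deg_above_prime_pow K ⊥ hp (by rw [Subgroup.relIndex_bot_left, hpn]) h).imp fun _ h => h.2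
  -- the least member of `T` and a character of degree `[L:K]`
  have hTne : T.Nonempty := by
    obtain ⟨⟨α, hα, hα0⟩, -⟩ := hTcoh
    by_contra hemp
    rw [Finset.not_nonempty_iff_eq_empty] at hemp
    exact hα0 (by simpa [hemp, Cfsg.zspan] using hα.1)
  obtain ⟨ψ, hψ, hmin⟩ := Finset.exists_min_image T deg hTne
  obtain ⟨m, hm⟩ := hdeg ψ (hTS hψ)
  obtain ⟨χ, hχ, hdχ⟩ := exists_deg_index K ⁅K, K⁆ hsolv hH₁K
  have hχZ : χ ∈ Cfsg.inducedIrrAbove K Z :=
    above_mono K (fun _ h _ => (inf_le_right : Z ≤ ⁅K, K⁆) h) hχ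
  have hχS : χ ∈ Cfsg.inducedIrrAbove K ⊥ := above_le_bot K _ hχ
  have hχT : χ ∉ T := fun h => by
    rw [← Finset.mem_coe, hcoe] at h
    exact h.2 hχZ
  obtain ⟨P, hP⟩ := subgroup_eq_sylow H L
    ((IsPGroup.of_card hpn : IsPGroup p K).of_equiv (Subgroup.subgroupOfEquivOfLe hHL)) hN hcop
  have hPmem : ∀ {y : L}, (y : G) ∈ (P : Subgroup G) ↔ y ∈ K := fun {y} => by
    rw [hP, hKdef, Subgroup.mem_subgroupOf]
  have hU := exists_extension P (by rw [hP]; exact hN) (by rw [hP]; exact hTI) hodd Z hZ1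
    (fun z hz => hPmem.mpr (hZK hz)) (fun z hz y hy => hZc z hz y (hPmem.mp hy))
    (Cfsg.inducedIrrAbove K ⊥) (fun _ h => irr_of_above K hC h)
    (fun _ h => above_conj_ne K hC hodd h) hiso hiso1 T hTS hTc
    (fun φ hi hr => by rw [← Finset.mem_coe, hcoe, hdiff]; exact ⟨hi, hr⟩)
    hTcoh hψ hχS (above_conj K ⊥ hχS) hχT (m := m) (by rw [hdχ, hm, mul_comm])
    (fun φ hφ => by
      obtain ⟨l, hl⟩ := hdeg φ (hTS hφ)
      have hle := hmin φ hφ
      rw [hm, hl] at hle ⊢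
      have hml : m ≤ l :=
        (Nat.pow_le_pow_iff_right hp.one_lt).mp (Nat.le_of_mul_le_mul_left hle hepos)
      obtain ⟨d, rfl⟩ := Nat.exists_eq_add_of_le hml
      rw [pow_add, ← mul_assoc]
      refine ⟨Dvd.intro _ rfl, ?_⟩
      rw [Nat.mul_div_cancel_left _ (by have := hp.pos; positivity)]
      exact hpodd.pow)
    (by
      rw [hdχ, hP, ← Nat.card_congr (Subgroup.subgroupOfEquivOfLe hHL).toEquiv]
      exact K.index_mul_card)
  -- the remaining characters
  set U := T ∪ {χ, Cfsg.conjFun χ} with hUdef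
  have hUS : ↑U ⊆ Cfsg.inducedIrrAbove K ⊥ := fun φ h => by
    rcases Finset.mem_union.mp h with h | h
    · exact hTS h
    · rcases Finset.mem_insert.mp h with rfl | h
      · exact hχS
      · rw [Finset.mem_singleton.mp h]; exact above_conj K ⊥ hχS
  have hUc : ∀ φ ∈ U, Cfsg.conjFun φ ∈ U := fun φ h => by
    rcases Finset.mem_union.mp h with h | h
    · exact Finset.mem_union_left _ (hTc φ h)
    · rcases Finset.mem_insert.mp h with rfl | h
      · simp [hUdef]
      · rw [Finset.mem_singleton.mp h, Coh.conjFun_conjFun]; simp [hUdef]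
  have hall := extend_all hS U (above_finite K ⊥).toFinset hUS
    (by rw [Set.Finite.coe_toFinset])
    hUc (fun φ h => (Set.Finite.mem_toFinset _).mpr (above_conj K ⊥ ((Set.Finite.mem_toFinset _).mp h)))
    hU (χ₁ := χ) (by simp [hUdef]) (fun φ hφ _ => ?_)
  · rwa [Finset.union_eq_right.mpr fun x hx => (Set.Finite.mem_toFinset _).mpr (hUS hx),
      Set.Finite.coe_toFinset] at hall
  obtain ⟨l, hl⟩ := hdeg φ ((Set.Finite.mem_toFinset _).mp hφ)
  rw [hdχ, hl]
  refine ⟨Dvd.intro _ rfl, ?_⟩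
  refine lt_of_lt_of_le ?_ (Finset.sum_le_sum_of_subset_of_nonneg
    (Finset.subset_union_left : T ⊆ U) fun φ _ _ => wt_nonneg φ)
  rw [hT, sum_wt_diff K Z, hcardZ, ha]
  have hla : 2 * l ≤ a := two_mul_le_of_central K Z hZK hZc hp ha ((Set.Finite.mem_toFinset _).mp hφ) hl
  have ha0 : a ≠ 0 := fun e => by
    rw [e, pow_zero, Subgroup.relIndex_eq_one] at ha
    exact hH₁K.not_ge (ha.trans inf_le_right)
  have hla' : p ^ l < p ^ a := Nat.pow_lt_pow_right hp.one_lt (by omega)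
  have hz : 2 * K.index + 1 ≤ Nat.card Z := by
    have hd := dvd_card_central K hC Z hZK hZc
    have hoz : Odd (Nat.card Z) := hodd.of_dvd_nat (Subgroup.card_subgroup_dvd_card Z)
    have h1 : 1 < Nat.card Z := (Subgroup.one_lt_card_iff_ne_bot Z).mpr hZ1
    obtain ⟨w, hw⟩ := hd
    obtain ⟨u, hu⟩ := hoz
    rcases Nat.prime_two.dvd_mul.mp (⟨u, by omega⟩ : 2 ∣ K.index * w) with h | h
    · exact absurd h hodde.not_two_dvd_nat
    · have hw2 : 2 ≤ w := Nat.le_of_dvd (by
        rcases Nat.eq_zero_or_pos w with rfl | h0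
        · omega
        · exact h0) h
      have := Nat.mul_le_mul_left K.index hw2
      omega
  push_cast
  have h1 : (2 : ℝ) * K.index + 1 ≤ (Nat.card Z : ℝ) := by exact_mod_cast hz
  have h2 : (p : ℝ) ^ l < (p : ℝ) ^ a := by exact_mod_cast hla'
  have h3 : (0 : ℝ) < K.index := by exact_mod_cast hepos
  have h4 : (0 : ℝ) ≤ (p : ℝ) ^ a := by positivity
  nlinarith [mul_le_mul_of_nonneg_left h1 (mul_nonneg h3.le h4),
    mul_lt_mul_of_pos_left h2 (mul_pos h3 h3)]

end CfsgLib.OddChar.Above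

namespace CfsgLib.OddChar.Above

/-- A complement acting without fixed points makes the kernel contain its centralizers. -/
theorem centralizer_le_of_fpf {G : Type*} [Group G] [Finite G] (H L W : Subgroup G) (hHL : H ≤ L)
    (hHn : ∀ x ∈ L, ∀ h ∈ H, x * h * x⁻¹ ∈ H) (hsup : H ⊔ W = L)
    (hfpf : ∀ w ∈ W, w ≠ 1 → ∀ h ∈ H, w * h = h * w → h = 1) :
    ∀ k ∈ H.subgroupOf L, k ≠ 1 → Subgroup.centralizer ({k} : Set L) ≤ H.subgroupOf L := by
  intro k hk hk1 x hx
  by_contra hxK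
  rw [Subgroup.mem_subgroupOf] at hk hxK
  have hWn : W ≤ Subgroup.normalizer (H : Set G) := fun w hw => by
    have hwL : w ∈ L := hsup ▸ Subgroup.mem_sup_right hw
    rw [Subgroup.mem_normalizer_iff]
    refine fun h => ⟨hHn w hwL h, fun hh => ?_⟩
    have := hHn w⁻¹ (L.inv_mem hwL) _ hh
    simpa [mul_assoc] using this
  have hxmem : (x : G) ∈ ((H ⊔ W : Subgroup G) : Set G) := by rw [hsup]; exact x.2
  rw [Subgroup.coe_mul_of_right_le_normalizer_left H W hWn] at hxmem
  obtain ⟨h, hh, w, hw, hxe⟩ := hxmem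
  have hw1 : w ≠ 1 := fun e => hxK (by rw [← hxe, e]; simpa using hh)
  -- `u ↦ u⁻¹ (w u w⁻¹)` is a bijection of `H`
  let f : H → H := fun u => ⟨(u : G)⁻¹ * (w * u * w⁻¹),
    H.mul_mem (H.inv_mem u.2) (hHn w (hsup ▸ Subgroup.mem_sup_right hw) u u.2)⟩
  have hinj : Function.Injective f := by
    intro u v huv
    have e : (u : G)⁻¹ * (w * u * w⁻¹) = (v : G)⁻¹ * (w * v * w⁻¹) := congrArg Subtype.val huv
    have h1 := hfpf w hw hw1 ((v : G) * (u : G)⁻¹) (H.mul_mem v.2 (H.inv_mem u.2)) (by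
      calc w * ((v : G) * (u : G)⁻¹)
          = (v : G) * ((v : G)⁻¹ * (w * v * w⁻¹)) * (w * (u : G)⁻¹) := by group
        _ = _ := by rw [← e]; group)
    exact Subtype.ext (mul_inv_eq_one.mp h1).symm
  obtain ⟨u, hu⟩ := Finite.surjective_of_injective hinj ⟨h, hh⟩
  have hxu : (x : G) = (u : G)⁻¹ * w * u := by
    have hu' : (u : G)⁻¹ * (w * u * w⁻¹) = h := congrArg Subtype.val hu
    show (x : G) = _
    rw [← hxe, ← hu']
    show (u : G)⁻¹ * (w * u * w⁻¹) * w = _
    group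
  have hcomm : (x : G) * k = (k : G) * x :=
    congrArg Subtype.val (Subgroup.mem_centralizer_singleton_iff.mp hx)
  have h2 := hfpf w hw hw1 ((u : G) * k * (u : G)⁻¹) (H.mul_mem (H.mul_mem u.2 hk) (H.inv_mem u.2)) (by
    calc w * ((u : G) * k * (u : G)⁻¹)
        = (u : G) * (((u : G)⁻¹ * w * u) * k) * (u : G)⁻¹ := by group
      _ = (u : G) * ((x : G) * k) * (u : G)⁻¹ := by rw [hxu]
      _ = (u : G) * ((k : G) * x) * (u : G)⁻¹ := by rw [hcomm]
      _ = _ := by rw [hxu]; group)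
  exact hk1 (Subtype.ext (conj_eq_one_iff.mp h2))

end CfsgLib.OddChar.Above
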