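import Cfsg.Agent.Lib.OddChar.PairFam
import Cfsg.Agent.Lib.OddChar.PairTame
import Cfsg.Agent.Lib.OddChar.TICoherent
import Cfsg.Agent.Lib.OddChar.IrrKernel

/-!
# The coherent families in the pair argument

* `exists_fam`: a family from coherence of the characters induced from `K`;
* `exists_fam_over`: the family of a maximal subgroup over `N(U)`, `e n + 1 = |H|`;
* `exists_fam_derived`: the family of `T` when `N(V) ≤ T`, `p n + 1 = |V|`.
-/

set_option autoImplicit false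
set_option linter.unusedSectionVars false

namespace CfsgLib.OddChar.Pair

open CfsgLib.Char CfsgLib.CharNormal CfsgLib.OddChar.Coh CfsgLib.OddChar.Above
open scoped ComplexConjugate Classical

universe u

variable {G : Type u} [Group G] [Fintype G]

/-- A family from coherence. -/
theorem exists_fam (M K : Subgroup G) [Fintype M] (A : Subgroup M) [A.Normal] {e : ℕ}
    (le : K ≤ M) (normal : ∀ m ∈ M, ∀ k ∈ K, m * k * m⁻¹ ∈ K)
    (ti : ∀ g x : G, x ∈ K → x ≠ 1 → g * x * g⁻¹ ∈ K → g ∈ M)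
    (index : K.relIndex M = e) (one_lt : 1 < e) (hodd : Odd (Nat.card M))
    (hsolv : Group.IsSolvable (K.subgroupOf M)) (hA : A < K.subgroupOf M)
    (hirr : ∀ φ ∈ Cfsg.inducedIrrAbove (K.subgroupOf M) A, Cfsg.IsIrrCharacter M φ)
    (hcoh : Cfsg.IsCoherent (Cfsg.inducedIrrAbove (K.subgroupOf M) A) {1}ᶜ
      (fun α : M → ℂ => Cfsg.indFun M α)) :
    ∃ F : Fam M K e, e * F.size + 1 = A.relIndex (K.subgroupOf M) := by
  set KM := K.subgroupOf M with hKM
  haveI hKn : KM.Normal := ⟨fun k hk m => normal m m.2 k hk⟩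
  haveI := Fintype.ofFinite KM
  set S := Cfsg.inducedIrrAbove KM A with hS
  have hidx : KM.index = e := index
  obtain ⟨φ₀, hφ₀, hd₀⟩ := exists_deg_index KM A hsolv hA
  obtain ⟨-, σ, ⟨hσa, hσs, hσi, hσg⟩, hag⟩ := hcoh
  have hch : ∀ φ ∈ S, Cfsg.IsCharacter M φ := fun φ h => isCharacter_of_isIrr (hirr φ h)
  have hdeg : ∀ φ ∈ S, ∃ n : ℕ, deg φ = e * n ∧ φ 1 = (e : ℂ) * n := by
    intro φ hφ
    obtain ⟨θ, hθ, -, -, rfl⟩ := id hφ
    obtain ⟨n, hn⟩ := exists_degree (isCharacter_of_isIrr hθ)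
    exact ⟨n, by rw [deg_indFun KM hn, hidx], by rw [indFun_one, hn, hidx]⟩
  set wt : (M → ℂ) → ℕ := fun φ => deg φ / e with hwt
  have hwtd : ∀ φ ∈ S, deg φ = e * wt φ ∧ φ 1 = (e : ℂ) * wt φ := fun φ hφ => by
    obtain ⟨n, h1, h2⟩ := hdeg φ hφ
    have : wt φ = n := by
      simp only [hwt, h1]
      exact Nat.mul_div_cancel_left n (by omega)
    rw [this]
    exact ⟨h1, h2⟩
  have hb₀ : wt φ₀ = 1 := by
    simp only [hwt, hd₀, hidx]
    exact Nat.div_self (by omega)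
  have hbS : Cfsg.conjFun φ₀ ∈ S := above_conj KM A hφ₀
  have hb₁ : wt (Cfsg.conjFun φ₀) = 1 := by
    have h0 : Cfsg.conjFun φ₀ 1 = φ₀ 1 := by
      rw [Cfsg.conjFun, (hwtd φ₀ hφ₀).2, map_mul, map_natCast, map_natCast]
    rw [(hwtd φ₀ hφ₀).2, (hwtd _ hbS).2, hb₀] at h0
    have : e * wt (Cfsg.conjFun φ₀) = e * 1 := by exact_mod_cast h0
    exact Nat.eq_of_mul_eq_mul_left (by omega) this
  have hbne : Cfsg.conjFun φ₀ ≠ φ₀ := fun e' => by
    have h1 := irr_real_eq_one hodd (χ := ⟨φ₀, hirr _ hφ₀⟩) (Subtype.ext e')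
    have h2 : φ₀ = fun _ => (1 : ℂ) := congrArg Subtype.val h1
    have h3 := (hwtd φ₀ hφ₀).2
    rw [hb₀, h2, Nat.cast_one, mul_one] at h3
    change (1 : ℂ) = _ at h3
    have : (1 : ℕ) = e := by exact_mod_cast h3
    omega
  have hzero : ∀ φ ∈ S, ∀ m : M, (m : G) ∉ K → φ m = 0 := by
    intro φ hφ m hm
    obtain ⟨θ, -, -, -, rfl⟩ := hφ
    refine indFun_eq_zero_of_forall _ fun y hy => absurd ?_ hm
    simpa [hKM, Subgroup.mem_subgroupOf, mul_assoc] using hKn.conj_mem _ hy y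
  have hmem : ∀ φ ∈ S, φ ∈ Cfsg.zspan S := fun φ hφ => Coh.mem_zspan hφ
  have hdiff : ∀ φ ∈ S, Cfsg.indFun M (φ - (wt φ : ℂ) • φ₀) = σ φ - (wt φ : ℂ) • σ φ₀ := by
    intro φ hφ
    have hα : φ - (wt φ : ℤ) • φ₀ ∈ Cfsg.zspanOn S {1}ᶜ :=
      mem_zspanOn_one (Submodule.sub_mem _ (hmem φ hφ) (Submodule.smul_mem _ _ (hmem _ hφ₀))) (by
        simp [(hwtd φ hφ).2, (hwtd φ₀ hφ₀).2, hb₀, mul_comm])
    have h1 := hag _ hα
    rw [sub_eq_add_neg (a := φ), ← neg_smul, hσa _ (hmem φ hφ) _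
      (Submodule.smul_mem _ _ (hmem _ hφ₀)), hσs _ (hmem _ hφ₀)] at h1
    simp only [← Int.cast_smul_eq_zsmul ℂ, Int.cast_neg, Int.cast_natCast, neg_smul,
      ← sub_eq_add_neg] at h1
    exact h1.symm
  let F : Fam M K e :=
    { I := (above_finite KM A).toFinset
      wt := wt
      im := σ
      base := φ₀
      le := le
      normal := normal
      ti := ti
      index := index
      one_lt := one_lt
      base_mem := (Set.Finite.mem_toFinset _).2 hφ₀
      bar_mem := (Set.Finite.mem_toFinset _).2 hbS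
      bar_ne := hbne
      wt_base := hb₀
      wt_bar := hb₁
      irr := fun φ hφ => hirr φ ((Set.Finite.mem_toFinset _).1 hφ)
      zero_off := fun φ hφ => hzero φ ((Set.Finite.mem_toFinset _).1 hφ)
      deg := fun φ hφ => (hwtd φ ((Set.Finite.mem_toFinset _).1 hφ)).2
      im_sgn := fun φ hφ => by
        have h1 := (Set.Finite.mem_toFinset _).1 hφ
        exact gen_norm_one (hσg φ (hmem φ h1))
          (by rw [hσi _ (hmem φ h1) _ (hmem φ h1), classInner_irr_self (hirr φ h1)])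
      im_orth := fun φ hφ φ' hφ' => by
        have h1 := (Set.Finite.mem_toFinset _).1 hφ
        have h2 := (Set.Finite.mem_toFinset _).1 hφ'
        rw [hσi _ (hmem φ h1) _ (hmem φ' h2), classInner_irr (hirr φ h1) (hirr φ' h2)]
      im_diff := fun φ hφ => hdiff φ ((Set.Finite.mem_toFinset _).1 hφ) }
  refine ⟨F, ?_⟩
  have h := sum_deg_above KM A hirr
  have hsum : ∑ φ ∈ (above_finite KM A).toFinset, deg φ ^ 2 = e * (e * F.size) := by
    rw [show F.size = ∑ φ ∈ (above_finite KM A).toFinset, wt φ ^ 2 from rfl, Finset.mul_sum,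
      Finset.mul_sum]
    refine Finset.sum_congr rfl fun φ hφ => ?_
    rw [(hwtd φ ((Set.Finite.mem_toFinset _).1 hφ)).1]
    ring
  rw [hsum, hidx] at h
  have h2 := Nat.eq_of_mul_eq_mul_left (by omega) h
  have h3 : 0 < A.relIndex KM := Nat.pos_of_ne_zero (Subgroup.index_ne_zero_of_finite)
  omega

/-- `S'` is abelian modulo `S_F`. -/
theorem Side.commutator_mem {S W₁ U W₂ : Subgroup G} {q p : ℕ} (h : Side S W₁ U W₂ q p) {d c : G}
    (hd : d ∈ ⁅S, S⁆) (hc : c ∈ ⁅S, S⁆) : d * c * d⁻¹ * c⁻¹ ∈ Cfsg.fittingHallOf S := by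
  obtain ⟨a, ha, x, hx, rfl⟩ := h.data.U_compl.2.2.2 d hd
  obtain ⟨b, hb, y, hy, rfl⟩ := h.data.U_compl.2.2.2 c hc
  have hxy : x * y = y * x := h.U_mul_comm hx hy
  have e' : a * x * (b * y) * (a * x)⁻¹ * (b * y)⁻¹ =
      a * (x * b * x⁻¹) * (y * a⁻¹ * y⁻¹) * b⁻¹ := by
    calc a * x * (b * y) * (a * x)⁻¹ * (b * y)⁻¹
        = a * (x * b * x⁻¹) * ((x * y) * x⁻¹) * a⁻¹ * y⁻¹ * b⁻¹ := by group
      _ = _ := by rw [hxy]; group
  rw [e']
  exact mul_mem (mul_mem (mul_mem ha (h.conj_mem_P (h.U_le hx) hb))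
    (h.conj_mem_P (h.U_le hy) (inv_mem ha))) (inv_mem hb)

namespace PairData

variable {S T W₁ W₂ U V : Subgroup G} {q p : ℕ}
variable (h : PairData S T W₁ W₂ U V q p)
include h

/-- The family of a maximal subgroup over `N(U)`. -/
theorem exists_fam_over {L : Subgroup G} [Fintype L]
    (hnu : ¬ Subgroup.normalizer (U : Set G) ≤ S) (hL : IsCoatom L)
    (hNU : Subgroup.normalizer (U : Set G) ≤ L) :
    ∃ F : Fam L (Cfsg.fittingHallOf L) ((Cfsg.fittingHallOf L).relIndex L),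
      (Cfsg.fittingHallOf L).relIndex L * F.size + 1 = Nat.card (Cfsg.fittingHallOf L) := by
  set H := Cfsg.fittingHallOf L with hH
  have hI := h.over_typeI hnu hL hNU
  have hne := TypeIProps.fitting_ne_bot hI
  have hlt := TypeIProps.fitting_lt hI
  have hle : H ≤ L := hlt.le
  have hnorm : ∀ m ∈ L, ∀ k ∈ H, m * k * m⁻¹ ∈ H := fun m hm k hk =>
    TypeIProps.conj_mem_fittingHallOf hm hk
  have hti : ∀ g x : G, x ∈ H → x ≠ 1 → g * x * g⁻¹ ∈ H → g ∈ L := fun g x hx hx1 hgx =>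
    h.ti_over hnu hL hNU hx hx1 hgx
  have hN : Subgroup.normalizer (H : Set G) = L :=
    TypeICoherence.normalizer_fittingHallOf h.side_S.minSimple hL hne
  have hTI : Cfsg.IsTISubset (H : Set G) := by
    intro g hg x hx hgx
    by_contra hx1
    exact hg (hN ▸ hti g x hx hx1 hgx)
  haveI : (H.subgroupOf L).Normal := ⟨fun k hk m => hnorm m m.2 k hk⟩
  have eK : H.subgroupOf L = Cfsg.fittingHall L :=
    Subgroup.comap_map_eq_self_of_injective L.subtype_injective _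
  have hC : ∀ k ∈ H.subgroupOf L, k ≠ 1 →
      Subgroup.centralizer ({k} : Set L) ≤ H.subgroupOf L := by
    rw [eK]
    exact TypeICoherence.centralizer_le_fittingHall (h.over_frob hnu hL hNU)
  have hodd : Odd (Nat.card L) := h.side_S.odd_of_le L
  have hnt : H.subgroupOf L ≠ ⊥ := fun e' => hne (by
    rwa [Subgroup.subgroupOf_eq_bot, disjoint_iff, inf_eq_left.2 hle] at e')
  have hKL : H.subgroupOf L < ⊤ :=
    lt_top_iff_ne_top.2 fun e' => hlt.not_ge (Subgroup.subgroupOf_eq_top.1 e')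
  haveI hnil : Group.IsNilpotent (H.subgroupOf L) := by
    rw [eK]
    exact CfsgLib.OddLocal.fittingHall_spec.2.1
  haveI := Fintype.ofFinite (H.subgroupOf L)
  have he : 1 < H.relIndex L := by
    have h0 : H.relIndex L ≠ 0 := Subgroup.index_ne_zero_of_finite
    have h1 : H.relIndex L ≠ 1 := fun e' => hlt.not_ge (Subgroup.relIndex_eq_one.1 e')
    omega
  obtain ⟨F, hF⟩ := exists_fam L H (⊥ : Subgroup L) hle hnorm hti rfl he hodd inferInstance
    (bot_lt_iff_ne_bot.2 hnt) (fun φ hφ => irr_of_above _ hC hφ)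
    (coherent_TI H L hodd hC hnt hKL hnil hle hN hTI)
  refine ⟨F, ?_⟩
  rw [hF, Subgroup.relIndex_bot_left, Nat.card_congr (Subgroup.subgroupOfEquivOfLe hle).toEquiv]

/-- The family of `T`. -/
theorem exists_fam_derived [Fintype T] (hT : Subgroup.normalizer (V : Set G) ≤ T) :
    ∃ F : Fam T ⁅T, T⁆ p, p * F.size + 1 = Nat.card V := by
  have hS := h.side_T
  set K : Subgroup G := ⁅T, T⁆ with hK
  set Q := Cfsg.fittingHallOf T with hQ
  have hle : K ≤ T := hS.derived_le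
  have hnorm : ∀ m ∈ T, ∀ k ∈ K, m * k * m⁻¹ ∈ K := by
    intro m hm k hk
    rw [show m * k * m⁻¹ = (m * k * m⁻¹ * k⁻¹) * k by group]
    exact mul_mem (Subgroup.commutator_mem_commutator hm (hle hk)) hk
  have hti : ∀ g x : G, x ∈ K → x ≠ 1 → g * x * g⁻¹ ∈ K → g ∈ T := fun g x hx hx1 hgx =>
    h.ti_derived hT hx hx1 hgx
  have hKne : K ≠ ⊥ := fun e' => hS.P_ne (le_bot_iff.1 (e' ▸ hS.P_le_derived))
  have hN : Subgroup.normalizer (K : Set G) = T := by
    refine le_antisymm (fun g hg => ?_) fun g hg => mem_normalizer_of_map_le (hnorm g hg)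
    obtain ⟨⟨x, hx⟩, hx1⟩ := Subgroup.ne_bot_iff_exists_ne_one.1 hKne
    exact hti g x hx (fun e' => hx1 (Subtype.ext e')) ((Subgroup.mem_normalizer_iff.1 hg x).1 hx)
  have hTI : Cfsg.IsTISubset (K : Set G) := by
    intro g hg x hx hgx
    by_contra hx1
    exact hg (hN ▸ hti g x hx hx1 hgx)
  set A : Subgroup T := Q.subgroupOf T with hA
  haveI : A.Normal := ⟨fun a ha t => hS.conj_mem_P t.2 ha⟩
  set KT := K.subgroupOf T with hKT
  haveI hKn : KT.Normal := ⟨fun k hk m => hnorm m m.2 k hk⟩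
  haveI := Fintype.ofFinite KT
  haveI : Group.IsSolvable K :=
    hS.minSimple.2.2.2 K (fun e' => hS.max.1 (top_le_iff.1 (e' ▸ hle)))
  have hsolv : Group.IsSolvable KT :=
    Group.isSolvable_of_isSolvable_injective (f := (Subgroup.subgroupOfEquivOfLe hle).toMonoidHom)
      (Subgroup.subgroupOfEquivOfLe hle).injective
  have hrel : A.relIndex KT = Nat.card V := by
    have e1 : A.relIndex KT = Q.relIndex K := by
      rw [hA, hKT, Subgroup.relIndex_subgroupOf hle]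
    rw [e1, (OddLocal.relIndex_of_isComplIn hS.data.U_compl).2]
  have hAlt : A < KT := by
    refine lt_of_le_of_ne (fun a ha => hS.P_le_derived ha) fun e' => hS.U_ne ?_
    rw [← Subgroup.card_eq_one, ← hrel, e', Subgroup.relIndex_self]
  have hidx : K.relIndex T = p := by
    rw [(OddLocal.relIndex_of_isComplIn hS.data.W₁_compl).2, hS.card_W₁]
  have hirr : ∀ φ ∈ Cfsg.inducedIrrAbove KT A, Cfsg.IsIrrCharacter T φ := by
    rintro φ ⟨θ, hθ, hθne, htriv, rfl⟩
    obtain ⟨n, hn0, hn⟩ := exists_degree_pos hθ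
    have hcomm : ∀ d c : KT, ((d * c * d⁻¹ * c⁻¹ : KT) : T) ∈ A := fun d c =>
      hS.commutator_mem d.2 c.2
    have hn1 : n = 1 := by
      have h1 := Above.sq_degree_le hθ ⊤ (fun d _ c => htriv _ (hcomm d c)) hn
      rw [Subgroup.card_top] at h1
      have h2 : n ^ 2 * Nat.card KT ≤ 1 * Nat.card KT := by simpa using h1
      have h3 := Nat.le_of_mul_le_mul_right h2 Nat.card_pos
      nlinarith
    have hθ1 : θ 1 = 1 := by rw [hn, hn1, Nat.cast_one]
    set l := linearHom (isCharacter_of_isIrr hθ) hθ1 with hl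
    have hlθ : ∀ x, (l x : ℂ) = θ x := fun x => linearHom_apply _ _ x
    refine irr_of_norm_one (isCharacter_indFun KT (isCharacter_of_isIrr hθ)) ?_
    have hc := card_mul_classInner_indFun_normal KT hθ hθ
    have hI : ∀ g : T, CharNormal.conjFun KT g θ = θ ↔ g ∈ KT := by
      refine fun g => ⟨fun hg => ?_,
        fun hg => conjFun_of_mem KT (isClassFunction_of_isIrr hθ) hg⟩
      obtain ⟨k, hk, w, hw, hgw⟩ := hS.data.W₁_compl.2.2.2 _ g.2
      by_cases hw1 : w = 1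
      · show (g : G) ∈ K
        rw [hgw, hw1, mul_one]
        exact hk
      exfalso
      -- `l` is invariant under `w`
      set k' : KT := ⟨⟨k, hle hk⟩, hk⟩ with hk'
      have hwinv : ∀ x : KT, ∀ (hm : (⟨w, hS.W₁_le hw⟩ : T) * x * ⟨w, hS.W₁_le hw⟩⁻¹ ∈ KT),
          l ⟨_, hm⟩ = l x := by
        intro x hm
        apply Units.ext
        rw [hlθ, hlθ]
        have e1 := congrFun hg x
        rw [conjFun_apply] at e1
        refine Eq.trans ?_ e1
        have e2 := isClassFunction_of_isIrr hθ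
          (⟨(⟨w, hS.W₁_le hw⟩ : T) * x * ⟨w, hS.W₁_le hw⟩⁻¹, hm⟩ : KT) k'
        refine e2.symm.trans (congrArg θ ?_)
        apply Subtype.ext
        apply Subtype.ext
        show k * (w * ((x : T) : G) * w⁻¹) * k⁻¹ = (g : G) * ((x : T) : G) * (g : G)⁻¹
        rw [hgw]; group
      -- hence trivial on `V`
      have hVinj : Function.Injective fun v : V =>
          (⟨(v : G)⁻¹ * (w * v * w⁻¹),
            mul_mem (inv_mem v.2) (hS.conj_mem_U hw v.2)⟩ : V) := by
        intro a b hab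
        have e1 : (a : G)⁻¹ * (w * a * w⁻¹) = (b : G)⁻¹ * (w * b * w⁻¹) :=
          congrArg Subtype.val hab
        have hac : (a : G) * (b : G)⁻¹ = (b : G)⁻¹ * a := hS.U_mul_comm a.2 (inv_mem b.2)
        have e2 := hS.fixed_U hw hw1 (mul_mem a.2 (inv_mem b.2)) (by
          calc w * ((a : G) * (b : G)⁻¹)
              = (a : G) * ((a : G)⁻¹ * (w * a * w⁻¹)) * (w * b * w⁻¹)⁻¹ * w := by group
            _ = (a : G) * ((b : G)⁻¹ * (w * b * w⁻¹)) * (w * b * w⁻¹)⁻¹ * w := by rw [e1]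
            _ = (a : G) * (b : G)⁻¹ * w := by group)
        exact Subtype.ext (mul_inv_eq_one.1 e2)
      have hlV : ∀ v : KT, ((v : T) : G) ∈ V → l v = 1 := by
        intro v hv
        obtain ⟨u, hu⟩ := Finite.surjective_of_injective hVinj ⟨_, hv⟩
        have hu' : (u : G)⁻¹ * (w * u * w⁻¹) = ((v : T) : G) := congrArg Subtype.val hu
        set u' : KT := ⟨⟨u, hS.U_le u.2⟩, hS.U_le_derived u.2⟩ with hu''
        have hm : (⟨w, hS.W₁_le hw⟩ : T) * u' * ⟨w, hS.W₁_le hw⟩⁻¹ ∈ KT :=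
          hnorm w (hS.W₁_le hw) u (hS.U_le_derived u.2)
        rw [show v = u'⁻¹ * ⟨_, hm⟩ from Subtype.ext (Subtype.ext hu'.symm), map_mul, map_inv,
          hwinv u' hm, inv_mul_cancel]
      refine hθne (funext fun x => ?_)
      obtain ⟨a, ha, v, hv, hx⟩ := hS.data.U_compl.2.2.2 _ x.2
      set a' : KT := ⟨⟨a, hS.P_le ha⟩, hS.P_le_derived ha⟩ with ha'
      set v' : KT := ⟨⟨v, hS.U_le hv⟩, hS.U_le_derived hv⟩ with hv'
      rw [← hlθ, show x = a' * v' from Subtype.ext (Subtype.ext hx), map_mul, hlV v' hv, mul_one,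
        hlθ, htriv a' ha, hθ1]
    rw [Nat.card_congr (Equiv.subtypeEquivRight hI)] at hc
    exact mul_left_cancel₀ (Nat.cast_ne_zero.2 Nat.card_pos.ne') (hc.trans (mul_one _).symm)
  have hp1 : 1 < p := h.side_S.p_prime.one_lt
  have hodd := hS.odd_of_le T
  have hSdeg : ∀ φ ∈ Cfsg.inducedIrrAbove KT A, φ 1 = (p : ℂ) := by
    rintro φ ⟨θ, hθ, -, htriv, rfl⟩
    obtain ⟨n, hn0, hn⟩ := exists_degree_pos hθ
    have hi : KT.index = p := hidx
    have h1 := Above.sq_degree_le hθ ⊤ (fun d _ c => htriv _ ?_) hn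
    · rw [Subgroup.card_top] at h1
      have h3 : n ^ 2 ≤ 1 :=
        Nat.le_of_mul_le_mul_right (by simpa using h1 : n ^ 2 * Nat.card KT ≤ 1 * Nat.card KT)
          Nat.card_pos
      have hn1 : n = 1 := by nlinarith
      rw [indFun_one, hn, hn1, hi, Nat.cast_one, mul_one]
    · exact hS.commutator_mem d.2 c.2
  obtain ⟨φ₀, hφ₀, -⟩ := exists_deg_index KT A hsolv hAlt
  have hne : φ₀ ≠ Cfsg.conjFun φ₀ := fun e' => by
    have h1 := irr_real_eq_one hodd (χ := ⟨φ₀, hirr _ hφ₀⟩) (Subtype.ext e'.symm)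
    have h2 : φ₀ = fun _ => (1 : ℂ) := congrArg Subtype.val h1
    have h3 := hSdeg φ₀ hφ₀
    rw [h2] at h3
    change (1 : ℂ) = _ at h3
    have : (1 : ℕ) = p := by exact_mod_cast h3
    omega
  have hiso := indFun_isometry K T hN hTI (Cfsg.inducedIrrAbove KT A)
    (fun φ hφ => isGen_of_irr (hirr φ hφ)) (fun φ hφ x hx => above_support KT hφ hx)
  have hcoh := irr_coherent_equal hirr hiso.1 hiso.2 hφ₀ (above_conj KT A hφ₀) hne
    (fun φ hφ => by rw [hSdeg φ hφ, hSdeg φ₀ hφ₀])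
  obtain ⟨F, hF⟩ := exists_fam T K A hle hnorm hti hidx hp1 hodd hsolv hAlt hirr hcoh
  exact ⟨F, hF.trans hrel⟩

end PairData

end CfsgLib.OddChar.Pair
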