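import Cfsg.Agent.Lib.OddChar.PairOver

/-!
# `U` acts without fixed points on `S_F`

`fpf`: on both sides of a pair (with `N(U) ≰ S` when `|W₁| < |W₂|`).
-/

set_option autoImplicit false
set_option linter.unusedSectionVars false

namespace CfsgLib.OddChar.Pair

universe u

theorem mem_of_pow_mem_of_coprime {G : Type*} [Group G] {X : Subgroup G} {g : G} {m n : ℕ}
    (hc : m.Coprime n) (hm : g ^ m ∈ X) (hn : g ^ n ∈ X) : g ∈ X := by
  have e : g = (g ^ (m : ℤ)) ^ m.gcdA n * (g ^ (n : ℤ)) ^ m.gcdB n := by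
    rw [← zpow_mul, ← zpow_mul, ← zpow_add, ← Nat.gcd_eq_gcd_ab, hc.gcd_eq_one]
    simp
  rw [e, zpow_natCast, zpow_natCast]
  exact mul_mem (zpow_mem hm _) (zpow_mem hn _)

theorem two_mul_le_of_dvd {r p : ℕ} (hp : p.Prime) (hp2 : p ≠ 2) (hr : r % 2 = 1)
    (hd : r ∣ p - 1) : 2 * r ≤ p - 1 := by
  have h1 := hp.odd_of_ne_two hp2
  rw [Nat.odd_iff] at h1
  have h2 : 2 * r ∣ p - 1 :=
    (Nat.coprime_two_left.2 (Nat.odd_iff.2 hr)).mul_dvd_of_dvd_of_dvd (by omega) hd
  exact Nat.le_of_dvd (by have := hp.two_le; omega) h2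

namespace Side

variable {G : Type u} [Group G] [Finite G] {S W₁ U W₂ : Subgroup G} {q p : ℕ}
variable (h : Side S W₁ U W₂ q p)
include h

theorem act_pow {x : G} (hx : x ∈ S) :
    ∀ n : ℕ, h.act (x ^ n) (pow_mem hx n) = h.act x hx ^ n := by
  intro n
  induction n with
  | zero =>
    refine MulEquiv.ext fun a => Subtype.ext ?_
    rw [h.act_apply]
    simp
  | succ n ih =>
    rw [pow_succ (h.act x hx), ← ih, ← h.act_mul]
    congr 1
    exact pow_succ x n

/-- The elements of `U` of order dividing `r`. -/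
theorem card_U_torsion_le {r : ℕ} (hr : r.Prime) :
    Nat.card {a : U // a ^ r = 1} ≤ r ^ 2 := by
  let A : Subgroup U :=
    { carrier := {a | a ^ r = 1}
      one_mem' := one_pow r
      mul_mem' := fun {a b} ha hb => by
        show (a * b) ^ r = 1
        rw [(show Commute a b from Subtype.ext (h.U_mul_comm a.2 b.2)).mul_pow,
          show a ^ r = 1 from ha, show b ^ r = 1 from hb, one_mul]
      inv_mem' := fun {a} ha => by
        show a⁻¹ ^ r = 1
        rw [inv_pow, show a ^ r = 1 from ha, inv_one] }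
  exact h.U_rank r hr A ⟨⟨fun a b => Subtype.ext (Subtype.ext (h.U_mul_comm a.1.2 b.1.2))⟩⟩
    fun a ha => ha

end Side

namespace PairData

variable {G : Type u} [Group G] [Finite G] {S T W₁ W₂ U V : Subgroup G} {q p : ℕ}
variable (h : PairData S T W₁ W₂ U V q p)
include h

theorem pow_sub_one_eq_one (hn : ¬ Fpf S U) {x : G} (hx : x ∈ U) : x ^ (p - 1) = 1 := by
  have hS := h.side_S
  have := (hS.dichotomy.resolve_left hn) _ (hS.act_mem hx)
  rw [← hS.act_pow (hS.U_le hx)] at this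
  exact h.eq_one_of_mem_centU ((hS.act_eq_one (pow_mem hx _)).1 this)

theorem exists_fixed_prime (hn : ¬ Fpf S U) :
    ∃ x ∈ U, (orderOf x).Prime ∧ orderOf x ∣ p - 1 ∧ 2 * orderOf x ≤ p - 1 ∧
      ∃ z ∈ Cfsg.fittingHallOf S, z ≠ 1 ∧ x * z = z * x := by
  have hS := h.side_S
  have hn' := hn
  simp only [Fpf, not_forall, exists_prop] at hn'
  obtain ⟨a, ha, ha1, z, hz, hz1⟩ := hn'
  obtain ⟨x, hx, rfl⟩ := hS.mem_Ubar.1 ha
  have hx1 : x ≠ 1 := fun e => ha1 ((hS.act_eq_one hx).2 (e ▸ one_mem _))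
  obtain ⟨r, hr, hrd⟩ := Nat.exists_prime_and_dvd (n := orderOf x)
    (fun e => hx1 (orderOf_eq_one_iff.1 e))
  have ho := orderOf_pow_orderOf_div (orderOf_pos x).ne' hrd
  have hxz : x * z = (z : G) * x := by
    have e := hS.act_apply (hS.U_le hx) z
    rw [hz] at e
    exact mul_inv_eq_iff_eq_mul.1 e.symm
  refine ⟨x ^ (orderOf x / r), pow_mem hx _, by rwa [ho], ?_, ?_, z, z.2,
    fun e => hz1 (Subtype.ext e), ((show Commute x z from hxz).pow_left _).eq⟩
  · exact orderOf_dvd_of_pow_eq_one (h.pow_sub_one_eq_one hn (pow_mem hx _))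
  · refine two_mul_le_of_dvd hS.p_prime hS.p_ne_two ?_
      (orderOf_dvd_of_pow_eq_one (h.pow_sub_one_eq_one hn (pow_mem hx _)))
    exact Nat.odd_iff.1 ((hS.odd_of_le U).of_dvd_nat
      (Subgroup.orderOf_dvd_natCard U (pow_mem hx _)))

variable {L : Subgroup G} (hnu : ¬ Subgroup.normalizer (U : Set G) ≤ S)
  (hL : IsCoatom L) (hNU : Subgroup.normalizer (U : Set G) ≤ L)
include hnu hL hNU

theorem cent_le_S {x z : G} (hx : x ∈ U) (hrp : (orderOf x).Prime)
    (hr2 : 2 * orderOf x ≤ p - 1) (hz : z ∈ Cfsg.fittingHallOf S) (hz1 : z ≠ 1)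
    (hxz : x * z = z * x) : Subgroup.centralizer ({x} : Set G) ≤ S := by
  have hS := h.side_S
  have hT := h.side_T
  have hI := h.over_typeI hnu hL hNU
  have hxH := h.over_U_le hnu hL hNU hx
  have hx1 : x ≠ 1 := fun e => hrp.ne_one (by rw [e, orderOf_one])
  have hzc : z ∈ Subgroup.centralizer ({x} : Set G) :=
    Subgroup.mem_centralizer_singleton_iff.2 hxz.symm
  have hnot : ¬ Subgroup.centralizer ({x} : Set G) ≤ L := fun hle => by
    have hzH := h.over_frob hnu hL hNU x hxH hx1 ⟨hle hzc, hzc⟩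
    refine h.over_not_dvd_p hnu hL hNU ?_
    rw [← hS.orderOf_P hz hz1]
    exact Subgroup.orderOf_dvd_natCard _ hzH
  obtain ⟨ht1, ht2⟩ := h.local_props.tame L hL
  have hxA := TypeIProps.mem_typeA_of_mem_fitting hI hxH hx1
  obtain ⟨-, N, ⟨hN, hCN⟩, -⟩ := ht1 x hxA hnot
  obtain ⟨-, ⟨hxN, hxN1⟩, -, -⟩ := ht2 x hxA hnot N hN hCN
  have hNnI : ¬ CfsgLib.OddLocal.S15.IsTypeICore N := fun hNI => by
    rw [TypeICoherence.typeA_eq hNI (h.frobenius N hN hNI)] at hxN
    refine hxN1 ⟨?_, hxN.2⟩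
    rw [(h.local_props.typeI_core N hN hNI).2]
    exact hxN.1
  obtain ⟨g, hg | hg⟩ := (h.classes N hN).resolve_left hNnI
  · -- a conjugate of `S`
    obtain ⟨s, hs, hse⟩ : z ∈ S.map (MulAut.conj g).toMonoidHom := hg ▸ hCN hzc
    have hse' : g * s * g⁻¹ = z := hse
    have hsP : s ∈ Cfsg.fittingHallOf S := hS.mem_P_of_orderOf hs (by
      rw [← orderOf_conjugate g s, hse', hS.orderOf_P hz hz1])
    have hgS : g ∈ S := hS.mem_of_conj (hS.P_le_fitting hsP) (fun e => hz1 (by
      rw [← hse', e]; group)) (by rw [hse']; exact hS.P_le_fitting hz)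
    intro c hc
    obtain ⟨t, ht, rfl⟩ : c ∈ S.map (MulAut.conj g).toMonoidHom := hg ▸ hCN hc
    exact mul_mem (mul_mem hgS ht) (inv_mem hgS)
  · -- a conjugate of `T`
    exfalso
    obtain ⟨t, ht, hte⟩ : x ∈ T.map (MulAut.conj g).toMonoidHom :=
      hg ▸ hCN (Subgroup.mem_centralizer_singleton_iff.2 rfl)
    have ho : orderOf t = orderOf x := by
      rw [← orderOf_conjugate g t, show g * t * g⁻¹ = x from hte]
    have hd : orderOf x ∣ q ^ p * Nat.card V * p := by
      rw [← hT.card_S, ← ho]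
      exact Subgroup.orderOf_dvd_natCard _ ht
    obtain ⟨hxq, hxp⟩ := hS.orderOf_U_coprime hx
    have hdV : orderOf x ∣ Nat.card V :=
      (hxq.pow_right p).dvd_of_dvd_mul_left (hxp.dvd_of_dvd_mul_right hd)
    have := hT.le_succ_of_prime_dvd hrp (h.symm.relIndex_eq_card.symm ▸ hdV)
    have := hrp.two_le
    omega

/-- A fixed point gives a contradiction. -/
theorem no_fixed {x z : G} (hx : x ∈ U) (hrp : (orderOf x).Prime)
    (hr2 : 2 * orderOf x ≤ p - 1) (hz : z ∈ Cfsg.fittingHallOf S) (hz1 : z ≠ 1)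
    (hxz : x * z = z * x) : False := by
  have hS := h.side_S
  set r := orderOf x with hr
  haveI := Fact.mk hrp
  set H := Cfsg.fittingHallOf L with hH
  have hUH := h.over_U_le hnu hL hNU
  by_cases hHU : H = U
  · -- then `L` normalises `U`
    obtain ⟨E, hE, hcase⟩ := h.over_complement hnu hL hNU
    rcases hcase with rfl | ⟨y, hy, rfl⟩
    · refine hnu (fun a ha => ?_)
      obtain ⟨b, hb, c, hc, rfl⟩ := hE.2.2.2 a (hNU ha)
      exact mul_mem (hS.U_le (hHU ▸ hb)) (hS.W₁_le hc)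
    · obtain ⟨z₀, hz₀, hz₀1⟩ := hS.exists_W₂
      set c := y * z₀ * y⁻¹ with hc
      have hcE : c ∈ W₁ ⊔ W₂.map (MulAut.conj y).toMonoidHom :=
        Subgroup.mem_sup_right ⟨z₀, hz₀, rfl⟩
      have hco : orderOf c = p := by rw [hc, orderOf_conjugate, hS.orderOf_W₂ hz₀ hz₀1]
      have hc1 : c ≠ 1 := fun e => hS.p_prime.ne_one (by rw [← hco, e, orderOf_one])
      have hcU : ∀ a ∈ U, c * a * c⁻¹ ∈ U := fun a ha =>
        hHU.le (TypeIProps.conj_mem_fittingHallOf (hE.2.1 hcE) (hHU.ge ha))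
      let A : Subgroup G :=
        { carrier := {a | a ∈ U ∧ a ^ r = 1}
          one_mem' := ⟨one_mem _, one_pow r⟩
          mul_mem' := fun {a b} ha hb => ⟨mul_mem ha.1 hb.1, by
            rw [(show Commute a b from hS.U_mul_comm ha.1 hb.1).mul_pow, ha.2, hb.2, one_mul]⟩
          inv_mem' := fun {a} ha => ⟨inv_mem ha.1, by rw [inv_pow, ha.2, inv_one]⟩ }
      have hAn : ∀ d ∈ Subgroup.zpowers c, ∀ a ∈ A, d * a * d⁻¹ ∈ A := by
        intro d hd a ha
        obtain ⟨n, rfl⟩ := (IsOfFinOrder.mem_powers_iff_mem_zpowers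
          (isOfFinOrder_of_finite c)).2 hd
        refine ⟨?_, by rw [conj_pow, ha.2, mul_one, mul_inv_cancel]⟩
        simp only
        induction n with
        | zero => simpa using ha.1
        | succ n ih =>
          rw [show c ^ (n + 1) * a * (c ^ (n + 1))⁻¹ = c * (c ^ n * a * (c ^ n)⁻¹) * c⁻¹ by
            rw [pow_succ']; group]
          exact hcU _ (ih (pow_mem (Subgroup.mem_zpowers c) n))
      letI : MulAction (Subgroup.zpowers c) A :=
        { smul := fun d a => ⟨(d : G) * a * (d : G)⁻¹, hAn d d.2 a a.2⟩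
          one_smul := fun a => Subtype.ext
            (show ((1 : Subgroup.zpowers c) : G) * a * ((1 : Subgroup.zpowers c) : G)⁻¹ = a by simp)
          mul_smul := fun d e a => Subtype.ext
            (show ((d * e : Subgroup.zpowers c) : G) * a * ((d * e : Subgroup.zpowers c) : G)⁻¹ =
              (d : G) * ((e : G) * a * (e : G)⁻¹) * (d : G)⁻¹ by simp [mul_assoc]) }
      haveI := Fact.mk hS.p_prime
      have hm := (IsPGroup.of_card (n := 1) (by rw [Nat.card_zpowers, hco, pow_one]) :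
        IsPGroup p (Subgroup.zpowers c)).card_modEq_card_fixedPoints A
      have hfix : MulAction.fixedPoints (Subgroup.zpowers c) A = {1} := by
        ext a
        simp only [MulAction.mem_fixedPoints, Set.mem_singleton_iff]
        refine ⟨fun ha => ?_, fun ha d => ?_⟩
        · have e : c * (a : G) * c⁻¹ = a := congrArg Subtype.val (ha ⟨c, Subgroup.mem_zpowers c⟩)
          by_contra ha1
          have haH : (a : G) ∈ H := hUH a.2.1
          have h4 := h.over_frob hnu hL hNU (a : G) haH (fun e => ha1 (Subtype.ext e))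
            ⟨hE.2.1 hcE, Subgroup.mem_centralizer_singleton_iff.2 (mul_inv_eq_iff_eq_mul.1 e)⟩
          exact hc1 (Subgroup.mem_bot.1 (hE.2.2.1 ▸ Subgroup.mem_inf.2 ⟨h4, hcE⟩))
        · subst ha
          exact Subtype.ext (show (d : G) * ((1 : A) : G) * (d : G)⁻¹ = ((1 : A) : G) by simp)
      rw [hfix, Nat.card_eq_fintype_card (α := ({1} : Set A)), Set.card_singleton] at hm
      obtain ⟨n, hn⟩ := IsPGroup.iff_card.1
        (show IsPGroup r A from fun a => ⟨1, Subtype.ext (by simpa using a.2.2)⟩)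
      have hn0 : n ≠ 0 := fun e => by
        rw [e, pow_zero, Subgroup.card_eq_one] at hn
        have : x ∈ A := ⟨hx, hr ▸ pow_orderOf_eq_one x⟩
        rw [hn, Subgroup.mem_bot] at this
        rw [hr, this, orderOf_one] at hrp
        exact Nat.not_prime_one hrp
      have hn2 : r ^ n ≤ r ^ 2 := by
        rw [← hn]
        refine le_trans ?_ (hS.card_U_torsion_le hrp)
        exact Nat.card_le_card_of_injective
          (fun a : A => (⟨⟨a, a.2.1⟩, Subtype.ext a.2.2⟩ : {a : U // a ^ r = 1}))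
          fun a b e => Subtype.ext (congrArg (fun t : {a : U // a ^ r = 1} => (t.1 : G)) e)
      have hn2' : n ≤ 2 := (Nat.pow_le_pow_iff_right hrp.one_lt).1 hn2
      rw [hn] at hm
      have hpd : p ∣ r ^ n - 1 :=
        (Nat.modEq_iff_dvd' (Nat.one_le_pow _ _ hrp.pos)).1 hm.symm
      rcases (show n = 1 ∨ n = 2 by omega) with rfl | rfl
      · rw [pow_one] at hpd
        have h2r := hrp.two_le
        have h3 := Nat.le_of_dvd (by omega) hpd
        omega
      · rw [show r ^ 2 - 1 = (r + 1) * (r - 1) by simpa using Nat.sq_sub_sq r 1] at hpd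
        have := hrp.two_le
        rcases hS.p_prime.dvd_mul.1 hpd with h1 | h1
        · have := Nat.le_of_dvd (by omega) h1; omega
        · have := Nat.le_of_dvd (by omega) h1; omega
  -- `U < H`
  haveI hnil : Group.IsNilpotent H :=
    CfsgLib.Cores.isNilpotent_map CfsgLib.OddLocal.fittingHall_spec.2.1 _
  obtain ⟨g, hgH, hgN, hgU⟩ : ∃ g ∈ H, (∀ a ∈ U, g * a * g⁻¹ ∈ U) ∧ g ∉ U := by
    have hlt : U.subgroupOf H < ⊤ := lt_top_iff_ne_top.2 fun e => hHU
      (le_antisymm (Subgroup.subgroupOf_eq_top.1 e) hUH)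
    obtain ⟨g, hg, hg'⟩ := SetLike.exists_of_lt
      (Group.normalizerCondition_of_isNilpotent (U.subgroupOf H) hlt)
    exact ⟨g, g.2, fun a ha => (Subgroup.mem_normalizer_iff.1 hg ⟨a, hUH ha⟩).1 ha, hg'⟩
  have hcent : ∀ c ∈ H, c * x = x * c → c ∈ U := fun c hc e => by
    rw [← h.over_inf_S hnu hL hNU]
    exact ⟨hc, h.cent_le_S hnu hL hNU hx hrp hr2 hz hz1 hxz
      (Subgroup.mem_centralizer_singleton_iff.2 e)⟩
  obtain ⟨a, m, hm, hgo⟩ := Nat.exists_eq_pow_mul_and_not_dvd (orderOf_pos g).ne' r hrp.ne_one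
  have hra : g ^ (r ^ a) ∈ U := by
    refine hcent _ (pow_mem hgH _) ?_
    refine congrArg Subtype.val (OddLocal.commute_of_coprime_orderOf
      (⟨g ^ r ^ a, pow_mem hgH _⟩ : H) ⟨x, hUH hx⟩ ?_)
    rw [Subgroup.orderOf_mk, Subgroup.orderOf_mk, ← hr]
    refine Nat.Coprime.coprime_dvd_left (orderOf_dvd_of_pow_eq_one ?_)
      ((hrp.coprime_iff_not_dvd).2 hm).symm
    rw [← pow_mul, ← hgo, pow_orderOf_eq_one]
  set g' := g ^ m with hg'
  have hg'U : g' ∉ U := fun hin => hgU
    (mem_of_pow_mem_of_coprime ((((hrp.coprime_iff_not_dvd).2 hm)).pow_left a) hra hin)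
  have hg'N : ∀ (n : ℕ), ∀ b ∈ U, g' ^ n * b * (g' ^ n)⁻¹ ∈ U := by
    have hg0 : ∀ (n : ℕ), ∀ b ∈ U, g ^ n * b * (g ^ n)⁻¹ ∈ U := by
      intro n
      induction n with
      | zero => intro b hb; simpa using hb
      | succ n ih =>
        intro b hb
        rw [show g ^ (n + 1) * b * (g ^ (n + 1))⁻¹ = g * (g ^ n * b * (g ^ n)⁻¹) * g⁻¹ by
          rw [pow_succ']; group]
        exact hgN _ (ih b hb)
    intro n b hb
    rw [hg', ← pow_mul]
    exact hg0 _ b hb
  have hg'pow : g' ^ (r ^ a) = 1 := by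
    rw [hg', ← pow_mul, mul_comm, ← hgo, pow_orderOf_eq_one]
  have hfree : ∀ d : ℕ, g' ^ d ∈ U → r ∣ d := fun d hd => by
    by_contra hn
    exact hg'U (mem_of_pow_mem_of_coprime ((((hrp.coprime_iff_not_dvd).2 hn)).pow_left a)
      (hg'pow.symm ▸ one_mem _) hd)
  -- the two points
  obtain ⟨w, hw, hw1⟩ := hS.exists_W₁
  set x₂ := w * x * w⁻¹ with hx₂
  set pt : Bool → G := fun b => if b then x else x₂ with hpt
  set pz : Bool → G := fun b => if b then z else w * z * w⁻¹ with hpz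
  have hptU : ∀ b, pt b ∈ U := fun b => by
    cases b
    · exact hS.conj_mem_U hw hx
    · exact hx
  have hpto : ∀ b, orderOf (pt b) = r := fun b => by
    cases b
    · exact (orderOf_conjugate w x)
    · rfl
  have hpzP : ∀ b, pz b ∈ Cfsg.fittingHallOf S ∧ pz b ≠ 1 ∧ pt b * pz b = pz b * pt b := fun b => by
    cases b
    · refine ⟨hS.conj_mem_P (hS.W₁_le hw) hz, fun e => hz1 (conj_eq_one_iff.1 e), ?_⟩
      show w * x * w⁻¹ * (w * z * w⁻¹) = w * z * w⁻¹ * (w * x * w⁻¹)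
      calc w * x * w⁻¹ * (w * z * w⁻¹) = w * (x * z) * w⁻¹ := by group
        _ = _ := by rw [hxz]; group
    · exact ⟨hz, hz1, hxz⟩
  have hx₂n : ∀ j : ℕ, x ^ j ≠ x₂ := by
    intro j e
    refine hz1 (hS.key (X := Subgroup.zpowers x) (Subgroup.zpowers_le.2 hx) ?_ ?_ hz ?_)
    · intro v hv b hb
      rw [← hS.W₁_eq_zpowers hw hw1] at hv
      obtain ⟨n, rfl⟩ := (IsOfFinOrder.mem_powers_iff_mem_zpowers (isOfFinOrder_of_finite w)).2 hv
      simp only
      induction n generalizing b with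
      | zero => simpa using hb
      | succ n ih =>
        obtain ⟨i, rfl⟩ := hb
        rw [show w ^ (n + 1) * x ^ i * (w ^ (n + 1))⁻¹ = w ^ n * ((w * x * w⁻¹) ^ i) * (w ^ n)⁻¹ by
          rw [conj_zpow, pow_succ]; group]
        have hmem₂ : w * x * w⁻¹ ∈ Subgroup.zpowers x := by
          rw [← hx₂, ← e]; exact pow_mem (Subgroup.mem_zpowers x) j
        exact ih _ (zpow_mem hmem₂ i) (pow_mem (Subgroup.mem_zpowers w) n)
    · intro hle
      have h0 := h.eq_one_of_mem_centU (hle (Subgroup.mem_zpowers x))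
      rw [hr, h0, orderOf_one] at hrp
      exact Nat.not_prime_one hrp
    · intro b hb
      obtain ⟨i, rfl⟩ := hb
      exact ((show Commute x z from hxz).zpow_left i).eq
  -- the injection
  let A := {a : U // a ^ r = 1}
  have hmem : ∀ (i : Fin r) (b : Bool) (j : Fin (r - 1)),
      g' ^ (i : ℕ) * pt b ^ ((j : ℕ) + 1) * (g' ^ (i : ℕ))⁻¹ ∈ U := fun i b j =>
    hg'N i _ (pow_mem (hptU b) _)
  let f : Option (Fin r × Bool × Fin (r - 1)) → A := fun o =>
    match o with
    | none => ⟨1, one_pow r⟩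
    | some (i, b, j) => ⟨⟨_, hmem i b j⟩, Subtype.ext (by
        show (g' ^ (i : ℕ) * pt b ^ ((j : ℕ) + 1) * (g' ^ (i : ℕ))⁻¹) ^ r = 1
        have h0 : pt b ^ r = 1 := orderOf_dvd_iff_pow_eq_one.1 (hpto b).dvd
        rw [conj_pow, show (pt b ^ ((j : ℕ) + 1)) ^ r = 1 by
          rw [← pow_mul, mul_comm, pow_mul, h0, one_pow], mul_one, mul_inv_cancel])⟩
  have hne1 : ∀ b (j : ℕ), 0 < j → j < r → pt b ^ j ≠ 1 := fun b j h0 hj e => by
    have := Nat.le_of_dvd h0 (hpto b ▸ orderOf_dvd_of_pow_eq_one e)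
    omega
  have hinj : Function.Injective f := by
    rintro (_ | ⟨i, b, j⟩) (_ | ⟨i', b', j'⟩) e
    · rfl
    · exfalso
      have e' : (1 : G) = g' ^ (i' : ℕ) * pt b' ^ ((j' : ℕ) + 1) * (g' ^ (i' : ℕ))⁻¹ :=
        congrArg (fun t : A => (t.1 : G)) e
      exact hne1 b' _ (Nat.succ_pos _) (by have := j'.2; omega) (conj_eq_one_iff.1 e'.symm)
    · exfalso
      have e' : g' ^ (i : ℕ) * pt b ^ ((j : ℕ) + 1) * (g' ^ (i : ℕ))⁻¹ = (1 : G) :=
        congrArg (fun t : A => (t.1 : G)) e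
      exact hne1 b _ (Nat.succ_pos _) (by have := j.2; omega) (conj_eq_one_iff.1 e')
    have e' : g' ^ (i : ℕ) * pt b ^ ((j : ℕ) + 1) * (g' ^ (i : ℕ))⁻¹ =
        g' ^ (i' : ℕ) * pt b' ^ ((j' : ℕ) + 1) * (g' ^ (i' : ℕ))⁻¹ :=
      congrArg (fun t : A => (t.1 : G)) e
    have key : ∀ (i i' : ℕ) (b b' : Bool) (j j' : ℕ), i ≤ i' → i' < r → 0 < j → j < r →
        0 < j' → j' < r →
        g' ^ i * pt b ^ j * (g' ^ i)⁻¹ = g' ^ i' * pt b' ^ j' * (g' ^ i')⁻¹ → i = i' := by
      intro i i' b b' j j' hii hi' hj0 hj hj0' hj' e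
      obtain ⟨d, rfl⟩ := Nat.exists_eq_add_of_le hii
      have e2 : pt b ^ j = g' ^ d * pt b' ^ j' * (g' ^ d)⁻¹ := by
        calc pt b ^ j = (g' ^ i)⁻¹ * (g' ^ i * pt b ^ j * (g' ^ i)⁻¹) * g' ^ i := by group
          _ = _ := by rw [e, pow_add]; group
      -- `g' ^ d` maps one point to another
      have hoj : ∀ b (j : ℕ), 0 < j → j < r → orderOf (pt b ^ j) = r := fun b j h0 hj =>
        orderOf_eq_prime (by rw [← pow_mul, mul_comm, pow_mul, ← hpto b, pow_orderOf_eq_one, one_pow])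
          (hne1 b j h0 hj)
      obtain ⟨hP, hP1, hPc⟩ := hpzP b
      obtain ⟨hP', hP1', hPc'⟩ := hpzP b'
      set v := g' ^ d * pz b' * (g' ^ d)⁻¹ with hv
      have hvS : v ∈ S := by
        refine h.cent_le_S hnu hL hNU (pow_mem (hptU b) j) (by rw [hoj b j hj0 hj]; exact hrp)
          (by rw [hoj b j hj0 hj]; exact hr2) hP hP1 ((show Commute _ _ from hPc).pow_left j).eq ?_
        refine Subgroup.mem_centralizer_singleton_iff.2 ?_
        rw [e2, hv]
        have hcc := ((show Commute _ _ from hPc').pow_left j').eq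
        calc g' ^ d * pz b' * (g' ^ d)⁻¹ * (g' ^ d * pt b' ^ j' * (g' ^ d)⁻¹)
            = g' ^ d * (pz b' * pt b' ^ j') * (g' ^ d)⁻¹ := by group
          _ = _ := by rw [← hcc]; group
      have hgS : g' ^ d ∈ S := hS.mem_of_conj (hS.P_le_fitting hP') hP1' (hS.P_le_fitting
        (hS.mem_P_of_orderOf hvS (by rw [orderOf_conjugate, hS.orderOf_P hP' hP1'])))
      have hdU : g' ^ d ∈ U := by
        rw [← h.over_inf_S hnu hL hNU]
        exact ⟨pow_mem (pow_mem hgH m) d, hgS⟩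
      have : d = 0 := Nat.eq_zero_of_dvd_of_lt (hfree d hdU) (by omega)
      omega
    have hj := j.2
    have hj' := j'.2
    have hii : (i : ℕ) = i' := by
      rcases le_total (i : ℕ) i' with hle | hle
      · exact key i i' b b' _ _ hle i'.2 (Nat.succ_pos _) (by omega) (Nat.succ_pos _) (by omega) e'
      · exact (key i' i b' b _ _ hle i.2 (Nat.succ_pos _) (by omega) (Nat.succ_pos _) (by omega)
          e'.symm).symm
    obtain rfl : i = i' := Fin.ext hii
    have e3 := mul_left_cancel (mul_right_cancel e')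
    have hbb : b = b' := by
      by_contra hb
      have hsep : ∀ j j' : ℕ, 0 < j' → j' < r → x ^ j ≠ x₂ ^ j' := by
        intro j j' h0 hj' e4
        obtain ⟨n, hn⟩ := exists_pow_eq_self_of_coprime (x := x₂) (n := j') (by
          rw [hx₂, orderOf_conjugate, ← hr]
          exact ((hrp.coprime_iff_not_dvd).2 fun hd => by
            have := Nat.le_of_dvd h0 hd; omega).symm)
        refine hx₂n (j * n) ?_
        rw [pow_mul, e4, hn]
      cases b <;> cases b'
      · exact hb rfl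
      · exact hsep _ _ (Nat.succ_pos _) (by omega) e3.symm
      · exact hsep _ _ (Nat.succ_pos _) (by omega) e3
      · exact hb rfl
    subst hbb
    refine congrArg some (Prod.ext rfl (Prod.ext rfl (Fin.ext ?_)))
    have e5 := pow_inj_mod.1 e3
    have hb1 : (j : ℕ) + 1 < orderOf (pt b) := by rw [hpto b]; omega
    have hb2 : (j' : ℕ) + 1 < orderOf (pt b) := by rw [hpto b]; omega
    rw [Nat.mod_eq_of_lt hb1, Nat.mod_eq_of_lt hb2] at e5
    exact Nat.add_right_cancel e5
  have hcard := (Nat.card_le_card_of_injective f hinj).trans (hS.card_U_torsion_le hrp)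
  rw [Finite.card_option, Nat.card_prod, Nat.card_prod, Nat.card_fin, Nat.card_fin,
    Nat.card_eq_fintype_card (α := Bool), Fintype.card_bool] at hcard
  have h2 := hrp.two_le
  obtain ⟨s, hs⟩ := Nat.exists_eq_add_of_le h2
  rw [hs] at hcard
  rw [show 2 + s - 1 = 1 + s by omega] at hcard
  nlinarith

end PairData

namespace PairData

variable {G : Type u} [Group G] [Finite G] {S T W₁ W₂ U V : Subgroup G} {q p : ℕ}
variable (h : PairData S T W₁ W₂ U V q p)
include h

/-- `U` acts without fixed points on `S_F`. -/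
theorem fpf : Fpf S U := by
  rcases lt_or_gt_of_ne h.side_S.q_ne_p with hlt | hlt
  · by_contra hn
    obtain ⟨x, hx, hrp, -, hr2, z, hz, hz1, hxz⟩ := h.exists_fixed_prime hn
    obtain ⟨L, hL, hNU⟩ := h.exists_over (h.II_lt_S hlt)
    exact h.no_fixed (h.II_lt_S hlt) hL hNU hx hrp hr2 hz hz1 hxz
  · exact h.side_S.fpf_of_lt hlt

theorem fpf_elem {u z : G} (hu : u ∈ U) (hu1 : u ≠ 1) (hz : z ∈ Cfsg.fittingHallOf S)
    (he : u * z = z * u) : z = 1 := by
  have hS := h.side_S
  have hne : hS.act u (hS.U_le hu) ≠ 1 := fun e =>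
    hu1 (h.eq_one_of_mem_centU ((hS.act_eq_one hu).1 e))
  have := h.fpf _ (hS.act_mem hu) hne ⟨z, hz⟩ (Subtype.ext (by
    rw [hS.act_apply]
    exact mul_inv_eq_iff_eq_mul.2 he))
  exact congrArg Subtype.val this

end PairData

end CfsgLib.OddChar.Pair
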