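import Cfsg.Agent.Lib.OddChar.CyclicTI
import Cfsg.Agent.Lib.CharNormal.Galois
import Cfsg.Agent.Lib.Char.TI
import Cfsg.Agent.S1506

/-!
# The family attached to a self-normalising cyclic subgroup: further properties

For `W = W₁ × W₂` and a family `χ` as in `Cfsg.IsCyclicTIFamily`:
* `left`, `right`: the characters trivial on `W₂`, resp. `W₁`; every character is a product;
* `coeff_eq`: the coefficients of a class function vanishing on `Ẑ` form a rank one table;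
* `eq_of_norm_two`: recognition of `χ (φ ψ) - χ (φ ψ')`;
* `family_unique`, `ringEquiv_comp`: uniqueness and Galois equivariance;
* `value_eq`: the values off the conjugates of `Ẑ`;
* `sum_sq_le`: Bessel's inequality for the family.
-/

set_option autoImplicit false
set_option linter.unusedSectionVars false

namespace CfsgLib.OddChar.Pair

open CfsgLib.Char CfsgLib.CharNormal CfsgLib.OddChar.CTI

universe u

/-- The elements of `W` outside both factors. -/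
def hat {G : Type u} [Group G] (W₁ W₂ : Subgroup G) : Set G :=
  {g | g ∈ W₁ ⊔ W₂ ∧ g ∉ W₁ ∧ g ∉ W₂}

/-- A character of `W` trivial on `W₂`. -/
def IsLeft {G : Type u} [Group G] (W₁ W₂ : Subgroup G) (φ : ↥(W₁ ⊔ W₂) →* ℂˣ) : Prop :=
  ∀ w : ↥(W₁ ⊔ W₂), (w : G) ∈ W₂ → φ w = 1

/-- A character of `W` trivial on `W₁`. -/
def IsRight {G : Type u} [Group G] (W₁ W₂ : Subgroup G) (ψ : ↥(W₁ ⊔ W₂) →* ℂˣ) : Prop :=
  ∀ w : ↥(W₁ ⊔ W₂), (w : G) ∈ W₁ → ψ w = 1

section Homs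

variable {G : Type u} [Group G] {W₁ W₂ : Subgroup G}

theorem isLeft_one : IsLeft W₁ W₂ 1 := fun _ _ => rfl

theorem isRight_one : IsRight W₁ W₂ 1 := fun _ _ => rfl

theorem IsLeft.mul {φ φ' : ↥(W₁ ⊔ W₂) →* ℂˣ} (h : IsLeft W₁ W₂ φ) (h' : IsLeft W₁ W₂ φ') :
    IsLeft W₁ W₂ (φ * φ') := fun w hw => by rw [MonoidHom.mul_apply, h w hw, h' w hw, one_mul]

theorem IsRight.mul {φ φ' : ↥(W₁ ⊔ W₂) →* ℂˣ} (h : IsRight W₁ W₂ φ) (h' : IsRight W₁ W₂ φ') :
    IsRight W₁ W₂ (φ * φ') := fun w hw => by rw [MonoidHom.mul_apply, h w hw, h' w hw, one_mul]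

theorem IsLeft.inv {φ : ↥(W₁ ⊔ W₂) →* ℂˣ} (h : IsLeft W₁ W₂ φ) : IsLeft W₁ W₂ φ⁻¹ :=
  fun w hw => by rw [MonoidHom.inv_apply, h w hw, inv_one]

theorem IsRight.inv {φ : ↥(W₁ ⊔ W₂) →* ℂˣ} (h : IsRight W₁ W₂ φ) : IsRight W₁ W₂ φ⁻¹ :=
  fun w hw => by rw [MonoidHom.inv_apply, h w hw, inv_one]

theorem IsLeft.comp {φ : ↥(W₁ ⊔ W₂) →* ℂˣ} (h : IsLeft W₁ W₂ φ) (f : ℂˣ →* ℂˣ) :
    IsLeft W₁ W₂ (f.comp φ) := fun w hw => by rw [MonoidHom.comp_apply, h w hw, map_one]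

theorem IsRight.comp {φ : ↥(W₁ ⊔ W₂) →* ℂˣ} (h : IsRight W₁ W₂ φ) (f : ℂˣ →* ℂˣ) :
    IsRight W₁ W₂ (f.comp φ) := fun w hw => by rw [MonoidHom.comp_apply, h w hw, map_one]

theorem pair_ext {φ φ' ψ ψ' : ↥(W₁ ⊔ W₂) →* ℂˣ} (hφ : IsLeft W₁ W₂ φ) (hφ' : IsLeft W₁ W₂ φ')
    (hψ : IsRight W₁ W₂ ψ) (hψ' : IsRight W₁ W₂ ψ') (h : φ * ψ = φ' * ψ') : φ = φ' ∧ ψ = ψ' := by
  have h1 := hom_ext_of_sup hφ hφ' hψ hψ' h
  exact h1

theorem exists_split (hW : Cfsg.IsSelfNormalizingCyclic W₁ W₂) (ω : ↥(W₁ ⊔ W₂) →* ℂˣ) :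
    ∃ φ ψ, IsLeft W₁ W₂ φ ∧ IsRight W₁ W₂ ψ ∧ ω = φ * ψ := by
  obtain ⟨π₁, π₂, hp, -, -, h1, h2⟩ := exists_proj hW
  refine ⟨ω.comp π₁, ω.comp π₂, fun w hw => ?_, fun w hw => ?_, MonoidHom.ext fun w => ?_⟩
  · rw [MonoidHom.comp_apply, (h2 w hw).1, map_one]
  · rw [MonoidHom.comp_apply, (h1 w hw).2, map_one]
  · rw [MonoidHom.mul_apply, MonoidHom.comp_apply, MonoidHom.comp_apply, ← map_mul, hp]

theorem finite_chars [Finite G] (hW : Cfsg.IsSelfNormalizingCyclic W₁ W₂) :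
    Finite (↥(W₁ ⊔ W₂) →* ℂˣ) :=
  finite_hom (commute_of_mem hW)

theorem card_left [Finite G] (hW : Cfsg.IsSelfNormalizingCyclic W₁ W₂) :
    Nat.card {φ : ↥(W₁ ⊔ W₂) →* ℂˣ // IsLeft W₁ W₂ φ} = Nat.card W₁ := by
  obtain ⟨π₁, π₂, hp, hm1, hm2, h1, h2⟩ := exists_proj hW
  have hc : ∀ a b : W₁, a * b = b * a := fun a b => by
    have := congrArg Subtype.val (commute_of_mem hW ⟨a, Subgroup.mem_sup_left a.2⟩
      ⟨b, Subgroup.mem_sup_left b.2⟩)
    exact Subtype.ext this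
  rw [← card_hom hc]
  let f : ↥(W₁ ⊔ W₂) →* W₁ := MonoidHom.mk' (fun w => ⟨π₁ w, hm1 w⟩) fun v w =>
    Subtype.ext (by show (π₁ (v * w) : G) = (π₁ v : G) * (π₁ w : G); rw [map_mul]; rfl)
  exact Nat.card_congr
    { toFun := fun φ => φ.1.comp (Subgroup.inclusion le_sup_left)
      invFun := fun α => ⟨α.comp f, fun w hw => by
        rw [MonoidHom.comp_apply, show f w = 1 from Subtype.ext (by
          show (π₁ w : G) = _
          rw [(h2 w hw).1]; rfl), map_one]⟩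
      left_inv := fun φ => Subtype.ext (MonoidHom.ext fun w => by
        show φ.1 (π₁ w) = φ.1 w
        conv_rhs => rw [← hp w, map_mul, φ.2 _ (hm2 w), mul_one])
      right_inv := fun α => MonoidHom.ext fun a => by
        show α (f _) = α a
        congr 1
        have e := congrArg (fun z : ↥(W₁ ⊔ W₂) => (z : G))
          (h1 (Subgroup.inclusion le_sup_left a) a.2).1
        exact Subtype.ext e }

/-- Characters of the left kind other than two given ones. -/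
theorem exists_left_ne [Finite G] (hW : Cfsg.IsSelfNormalizingCyclic W₁ W₂)
    (h3 : 3 ≤ Nat.card W₁) (α β : ↥(W₁ ⊔ W₂) →* ℂˣ) :
    ∃ φ, IsLeft W₁ W₂ φ ∧ φ ≠ α ∧ φ ≠ β := by
  classical
  haveI := finite_chars hW
  by_contra hne
  push Not at hne
  have hle : Nat.card {φ : ↥(W₁ ⊔ W₂) →* ℂˣ // IsLeft W₁ W₂ φ} ≤
      Nat.card ↥({α, β} : Finset (↥(W₁ ⊔ W₂) →* ℂˣ)) := by
    refine Nat.card_le_card_of_injective (fun φ => ⟨φ.1, ?_⟩) fun a b e =>
      Subtype.ext (congrArg Subtype.val e :)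
    rcases eq_or_ne φ.1 α with e | e
    · simp [e]
    · simp [hne φ.1 φ.2 e]
  rw [card_left hW, Nat.card_eq_finsetCard] at hle
  have := Finset.card_le_two (a := α) (b := β)
  omega

theorem exists_right_ne [Finite G] (hW : Cfsg.IsSelfNormalizingCyclic W₁ W₂)
    (h3 : 3 ≤ Nat.card W₂) (α β : ↥(W₁ ⊔ W₂) →* ℂˣ) :
    ∃ φ, IsRight W₁ W₂ φ ∧ φ ≠ α ∧ φ ≠ β := by
  classical
  obtain ⟨π₁, π₂, hp, -, hm2, h1, h2⟩ := exists_proj hW
  haveI := finite_chars hW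
  by_contra hne
  push Not at hne
  have hc : ∀ a b : W₂, a * b = b * a := fun a b => by
    have := congrArg Subtype.val (commute_of_mem hW ⟨a, Subgroup.mem_sup_right a.2⟩
      ⟨b, Subgroup.mem_sup_right b.2⟩)
    exact Subtype.ext this
  let f : ↥(W₁ ⊔ W₂) →* W₂ := MonoidHom.mk' (fun w => ⟨π₂ w, hm2 w⟩) fun v w =>
    Subtype.ext (by show (π₂ (v * w) : G) = (π₂ v : G) * (π₂ w : G); rw [map_mul]; rfl)
  have hle : Nat.card (W₂ →* ℂˣ) ≤ Nat.card ↥({α, β} : Finset (↥(W₁ ⊔ W₂) →* ℂˣ)) := by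
    refine Nat.card_le_card_of_injective (fun γ => ⟨γ.comp f, ?_⟩) fun a b e => ?_
    · have hR : IsRight W₁ W₂ (γ.comp f) := fun w hw => by
        rw [MonoidHom.comp_apply, show f w = 1 from Subtype.ext (by
          show (π₂ w : G) = _
          rw [(h1 w hw).2]; rfl), map_one]
      rcases eq_or_ne (γ.comp f) α with e | e
      · simp [e]
      · simp [hne _ hR e]
    · refine MonoidHom.ext fun x => ?_
      have h := DFunLike.congr_fun (congrArg Subtype.val e :) (Subgroup.inclusion le_sup_right x)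
      have hx : f (Subgroup.inclusion le_sup_right x) = x :=
        Subtype.ext (show (π₂ (Subgroup.inclusion le_sup_right x) : G) = (x : G) by
          rw [(h2 (Subgroup.inclusion le_sup_right x) x.2).2]; rfl)
      simpa [MonoidHom.comp_apply, hx] using h
  rw [card_hom hc, Nat.card_eq_finsetCard] at hle
  have := Finset.card_le_two (a := α) (b := β)
  omega

end Homs

theorem one_le_sq_int {t : ℤ} (ht : t ≠ 0) : 1 ≤ t ^ 2 := by
  have : 0 < t ^ 2 := by positivity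
  omega

section Family

variable {G : Type u} [Group G] [Fintype G] {W₁ W₂ : Subgroup G}
  {χ : (↥(W₁ ⊔ W₂) →* ℂˣ) → (G → ℂ)}
variable (hW : Cfsg.IsSelfNormalizingCyclic W₁ W₂) (hχ : Cfsg.IsCyclicTIFamily W₁ W₂ χ)
include hW hχ

theorem isGen (ω : ↥(W₁ ⊔ W₂) →* ℂˣ) : Cfsg.IsGeneralizedCharacter G (χ ω) := by
  rcases hχ.irr_or_neg ω with h | h
  · exact isGen_of_irr h
  · exact neg_neg (χ ω) ▸ isGen_neg (isGen_of_irr h)

theorem isClassFun (ω : ↥(W₁ ⊔ W₂) →* ℂˣ) : Cfsg.IsClassFunction G (χ ω) :=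
  isClassFunction_of_isGen (isGen hW hχ ω)

/-- The coefficients of a class function vanishing on `Ẑ` form a table `r + c`. -/
theorem coeff_eq {θ : G → ℂ} (hθ : Cfsg.IsClassFunction G θ)
    (hθV : ∀ z ∈ hat W₁ W₂, θ z = 0) {φ ψ : ↥(W₁ ⊔ W₂) →* ℂˣ} (hφ : IsLeft W₁ W₂ φ)
    (hψ : IsRight W₁ W₂ ψ) :
    Cfsg.classInner θ (χ (φ * ψ)) = Cfsg.classInner θ (χ φ) + Cfsg.classInner θ (χ ψ) -
      Cfsg.classInner θ (χ 1) := by
  have h := Cfsg.Agent.S1506.result W₁ W₂ hW χ hχ θ hθ (fun w h₁ h₂ => hθV w ⟨w.2, h₁, h₂⟩)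
    φ 1 ψ 1 (fun w hw => ⟨hφ w hw, rfl⟩) (fun w hw => ⟨hψ w hw, rfl⟩)
  rw [hom_mul_one, hom_mul_one, hom_one_mul] at h
  linear_combination h

/-- Bessel's inequality. -/
theorem sum_sq_le {θ : G → ℂ} (s : Finset (↥(W₁ ⊔ W₂) →* ℂˣ)) (c : (↥(W₁ ⊔ W₂) →* ℂˣ) → ℤ)
    (hc : ∀ ω ∈ s, Cfsg.classInner θ (χ ω) = c ω) :
    ((∑ ω ∈ s, c ω ^ 2 : ℤ) : ℝ) ≤ (Cfsg.classInner θ θ).re := by
  classical
  set ρ : G → ℂ := θ - ∑ ω ∈ s, (c ω : ℂ) • χ ω with hρ
  have h1 : Cfsg.classInner ρ ρ = Cfsg.classInner θ θ - ((∑ ω ∈ s, c ω ^ 2 : ℤ) : ℂ) := by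
    have e1 : ∀ η, Cfsg.classInner (∑ ω ∈ s, (c ω : ℂ) • χ ω) η =
        ∑ ω ∈ s, (c ω : ℂ) * Cfsg.classInner (χ ω) η := fun η => by
      rw [classInner_sum_left]; simp only [classInner_smul_left]
    have e2 : ∀ ω ∈ s, Cfsg.classInner (χ ω) θ = c ω := fun ω hω => by
      rw [← classInner_conj_symm, hc ω hω, map_intCast]
    have e3 : ∀ ω ∈ s, Cfsg.classInner (χ ω) (∑ v ∈ s, (c v : ℂ) • χ v) = c ω := fun ω hω => by
      rw [classInner_sum_right]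
      simp only [classInner_smul_right, hχ.orthonormal, map_intCast, mul_ite, mul_one, mul_zero]
      rw [Finset.sum_ite_eq, if_pos hω]
    rw [hρ, classInner_sub_left, classInner_sub_right (φ := θ), classInner_sub_right, e1, e1,
      classInner_sum_right]
    simp only [classInner_smul_right, map_intCast]
    have f1 : ∀ ω ∈ s, (c ω : ℂ) * Cfsg.classInner θ (χ ω) = (c ω : ℂ) * c ω := fun ω hω => by
      rw [hc ω hω]
    have f2 : ∀ ω ∈ s, (c ω : ℂ) * Cfsg.classInner (χ ω) θ = (c ω : ℂ) * c ω := fun ω hω => by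
      rw [e2 ω hω]
    have f3 : ∀ ω ∈ s, (c ω : ℂ) * Cfsg.classInner (χ ω) (∑ v ∈ s, (c v : ℂ) • χ v) =
        (c ω : ℂ) * c ω := fun ω hω => by
      rw [e3 ω hω]
    rw [Finset.sum_congr rfl f1, Finset.sum_congr rfl f2, Finset.sum_congr rfl f3]
    push_cast
    simp only [sq]
    ring
  have h2 : 0 ≤ (Cfsg.classInner ρ ρ).re := by
    rw [classInner_def]
    simp only [Complex.mul_conj]
    rw [← Complex.ofReal_sum, show ((Nat.card G : ℂ))⁻¹ = (((Nat.card G : ℝ))⁻¹ : ℝ) by simp,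
      ← Complex.ofReal_mul, Complex.ofReal_re]
    exact mul_nonneg (by positivity) (Finset.sum_nonneg fun _ _ => Complex.normSq_nonneg _)
  rw [h1, Complex.sub_re, Complex.intCast_re] at h2
  linarith

theorem indFun_prod_eq_zero {φ ψ : ↥(W₁ ⊔ W₂) →* ℂˣ} (hφ : IsLeft W₁ W₂ φ)
    (hψ : IsRight W₁ W₂ ψ) {g : G} (hg : ∀ x : G, x⁻¹ * g * x ∉ hat W₁ W₂) :
    Cfsg.indFun (W₁ ⊔ W₂) (prod φ ψ) g = 0 := by
  refine indFun_eq_zero_of_forall (W₁ ⊔ W₂) fun x hx => prod_eq_zero hφ hψ ?_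
  by_contra hcon
  push Not at hcon
  exact hg x ⟨hx, hcon.1, hcon.2⟩

/-- The values off the conjugates of `Ẑ`. -/
theorem value_eq {φ ψ : ↥(W₁ ⊔ W₂) →* ℂˣ} (hφ : IsLeft W₁ W₂ φ) (hψ : IsRight W₁ W₂ ψ)
    {g : G} (hg : ∀ x : G, x⁻¹ * g * x ∉ hat W₁ W₂) :
    χ (φ * ψ) g = χ φ g + χ ψ g - 1 := by
  by_cases ha : φ = 1
  · subst ha; rw [hom_one_mul, hχ.map_one]; ring
  by_cases hb : ψ = 1
  · subst hb; rw [hom_mul_one, hχ.map_one]; ring
  have h0 := indFun_prod_eq_zero hW hχ hφ hψ hg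
  have h1 := congrFun (hχ.induced_eq φ ψ ha hb hφ hψ) g
  rw [show (fun w : ↥(W₁ ⊔ W₂) => 1 - (φ w : ℂ) - (ψ w : ℂ) + (φ w : ℂ) * (ψ w : ℂ)) = prod φ ψ
    from rfl, h0] at h1
  linear_combination -h1

theorem value_hat (ω : ↥(W₁ ⊔ W₂) →* ℂˣ) {z : G} (hz : z ∈ hat W₁ W₂) :
    χ ω z = (ω ⟨z, hz.1⟩ : ℂ) := hχ.eq_on ω ⟨z, hz.1⟩ hz.2.1 hz.2.2

/-- A table `r + c` with at most two non-zero entries vanishes. -/
theorem eq_zero_of_few (h1 : 3 ≤ Nat.card W₁) (h2 : 3 ≤ Nat.card W₂) {θ : G → ℂ}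
    (hθ : Cfsg.IsClassFunction G θ) (hθV : ∀ z ∈ hat W₁ W₂, θ z = 0)
    (α β : ↥(W₁ ⊔ W₂) →* ℂˣ) (hfew : ∀ ω, ω ≠ α → ω ≠ β → Cfsg.classInner θ (χ ω) = 0) :
    ∀ ω, Cfsg.classInner θ (χ ω) = 0 := by
  intro ω
  obtain ⟨φ, ψ, hφ, hψ, rfl⟩ := exists_split hW ω
  obtain ⟨αl, αr, hαl, hαr, rfl⟩ := exists_split hW α
  obtain ⟨βl, βr, hβl, hβr, rfl⟩ := exists_split hW β
  obtain ⟨γ, hγ, hγα, hγβ⟩ := exists_left_ne hW h1 αl βl
  obtain ⟨δ, hδ, hδα, hδβ⟩ := exists_right_ne hW h2 αr βr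
  have z : ∀ {a b : ↥(W₁ ⊔ W₂) →* ℂˣ}, IsLeft W₁ W₂ a → IsRight W₁ W₂ b →
      ((a ≠ αl ∧ a ≠ βl) ∨ (b ≠ αr ∧ b ≠ βr)) → Cfsg.classInner θ (χ (a * b)) = 0 := by
    intro a b ha hb hab
    refine hfew _ (fun e => ?_) fun e => ?_
    · obtain ⟨e1, e2⟩ := pair_ext ha hαl hb hαr e
      rcases hab with h | h
      · exact h.1 e1
      · exact h.1 e2
    · obtain ⟨e1, e2⟩ := pair_ext ha hβl hb hβr e
      rcases hab with h | h
      · exact h.2 e1
      · exact h.2 e2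
  have c1 := coeff_eq hW hχ hθ hθV hφ hψ
  have c2 := coeff_eq hW hχ hθ hθV hφ hδ
  have c3 := coeff_eq hW hχ hθ hθV hγ hψ
  have c4 := coeff_eq hW hχ hθ hθV hγ hδ
  rw [z hφ hδ (.inr ⟨hδα, hδβ⟩)] at c2
  rw [z hγ hψ (.inl ⟨hγα, hγβ⟩)] at c3
  rw [z hγ hδ (.inl ⟨hγα, hγβ⟩)] at c4
  linear_combination c1 - c2 - c3 + c4

/-- Recognition of a difference of two members from its values on `Ẑ`. -/
theorem eq_of_norm_two (h1 : 3 ≤ Nat.card W₁) (h2 : 3 ≤ Nat.card W₂) {θ : G → ℂ}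
    (hθ : Cfsg.IsGeneralizedCharacter G θ) (hnorm : Cfsg.classInner θ θ = 2)
    (hone : Cfsg.classInner θ (χ 1) = 0)
    {φ ψ ψ' : ↥(W₁ ⊔ W₂) →* ℂˣ} (hφ : IsLeft W₁ W₂ φ) (hψ : IsRight W₁ W₂ ψ)
    (hψ' : IsRight W₁ W₂ ψ') (hψ1 : ψ ≠ 1) (hψ'1 : ψ' ≠ 1) (hne : ψ ≠ ψ')
    (hval : ∀ z ∈ hat W₁ W₂, θ z = χ (φ * ψ) z - χ (φ * ψ') z) :
    θ = χ (φ * ψ) - χ (φ * ψ') := by
  classical
  set d := χ (φ * ψ) - χ (φ * ψ') with hd
  choose b hb using fun ω => classInner_gen_int hθ (isGen hW hχ ω)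
  have hcf : Cfsg.IsClassFunction G (θ - d) := isClassFunction_sub (isClassFunction_of_isGen hθ)
    (isClassFunction_sub (isClassFun hW hχ _) (isClassFun hW hχ _))
  have hV : ∀ z ∈ hat W₁ W₂, (θ - d) z = 0 := fun z hz => by
    simp [hd, hval z hz]
  have ha : ∀ {x y : ↥(W₁ ⊔ W₂) →* ℂˣ}, IsLeft W₁ W₂ x → IsRight W₁ W₂ y →
      Cfsg.classInner (θ - d) (χ (x * y)) =
      (b (x * y) - ((if x = φ ∧ y = ψ then 1 else 0) - (if x = φ ∧ y = ψ' then 1 else 0)) : ℤ) := by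
    intro x y hx hy
    rw [hd, classInner_sub_left, classInner_sub_left, hχ.orthonormal, hχ.orthonormal, hb]
    have e : ∀ {t}, IsRight W₁ W₂ t → (φ * t = x * y ↔ x = φ ∧ y = t) := fun {t} ht =>
      ⟨fun e => by obtain ⟨e1, e2⟩ := pair_ext hφ hx ht hy e; exact ⟨e1.symm, e2.symm⟩,
        fun e => by rw [e.1, e.2]⟩
    simp only [e hψ, e hψ']
    push_cast
    ring
  set r : (↥(W₁ ⊔ W₂) →* ℂˣ) → ℤ := fun x => b x with hr
  set k : ℤ := b ψ - (if (1 : ↥(W₁ ⊔ W₂) →* ℂˣ) = φ then 1 else 0) with hk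
  set l : ℤ := b ψ' + (if (1 : ↥(W₁ ⊔ W₂) →* ℂˣ) = φ then 1 else 0) with hl
  have hb1 : b 1 = 0 := by exact_mod_cast (hb 1).symm.trans hone
  have hrow : ∀ {x}, IsLeft W₁ W₂ x →
      b (x * ψ) = r x + k + (if x = φ then 1 else 0) ∧
      b (x * ψ') = r x + l - (if x = φ then 1 else 0) := by
    intro x hx
    have key : ∀ {y}, IsRight W₁ W₂ y → y ≠ 1 →
        (b (x * y) - ((if x = φ ∧ y = ψ then 1 else 0) - (if x = φ ∧ y = ψ' then 1 else 0)) : ℤ) =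
        r x + (b y - ((if (1 : ↥(W₁ ⊔ W₂) →* ℂˣ) = φ ∧ y = ψ then 1 else 0) -
          (if (1 : ↥(W₁ ⊔ W₂) →* ℂˣ) = φ ∧ y = ψ' then 1 else 0))) := by
      intro y hy hy1
      have h := coeff_eq hW hχ hcf hV hx hy
      have a1 := ha hx isRight_one
      have a2 := ha isLeft_one hy
      have a3 := ha (isLeft_one (W₁ := W₁) (W₂ := W₂)) isRight_one
      rw [hom_mul_one] at a1
      rw [hom_one_mul] at a2 a3
      rw [ha hx hy, a1, a2, a3] at h
      simp only [Ne.symm hψ1, Ne.symm hψ'1, and_false, if_false, sub_zero, hb1] at h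
      have h' : (b (x * y) - ((if x = φ ∧ y = ψ then 1 else 0) -
          (if x = φ ∧ y = ψ' then 1 else 0)) : ℤ) =
          b x + (b y - ((if (1 : ↥(W₁ ⊔ W₂) →* ℂˣ) = φ ∧ y = ψ then 1 else 0) -
          (if (1 : ↥(W₁ ⊔ W₂) →* ℂˣ) = φ ∧ y = ψ' then 1 else 0))) - 0 := by
        exact_mod_cast h
      rw [h', sub_zero, hr]
    have k1 := key hψ hψ1
    have k2 := key hψ' hψ'1
    simp only [hne, Ne.symm hne, and_true, and_false, if_false, sub_zero, zero_sub] at k1 k2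
    exact ⟨by linarith, by linarith⟩
  -- the three entries of each line
  set T : (↥(W₁ ⊔ W₂) →* ℂˣ) → ℤ := fun x =>
    r x ^ 2 + (r x + k + (if x = φ then 1 else 0)) ^ 2 + (r x + l - (if x = φ then 1 else 0)) ^ 2
    with hT
  have hsum : ∀ s : Finset (↥(W₁ ⊔ W₂) →* ℂˣ), (∀ x ∈ s, IsLeft W₁ W₂ x) →
      ∑ x ∈ s, T x ≤ 2 := by
    intro s hs
    have hinj : ∀ y, Set.InjOn (fun x : ↥(W₁ ⊔ W₂) →* ℂˣ => x * y) (s : Set _) :=
      fun y a _ c _ e => mul_right_cancel e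
    have hd1 : ∀ {y y'}, IsRight W₁ W₂ y → IsRight W₁ W₂ y' → y ≠ y' →
        Disjoint (s.image (· * y)) (s.image (· * y')) := by
      intro y y' hy hy' hyy
      rw [Finset.disjoint_left]
      intro w hw hw'
      obtain ⟨a, haS, rfl⟩ := Finset.mem_image.1 hw
      obtain ⟨c, hcS, e⟩ := Finset.mem_image.1 hw'
      exact hyy (pair_ext (hs a haS) (hs c hcS) hy hy' e.symm).2
    have hle := sum_sq_le hW hχ (θ := θ)
      (s.image (· * 1) ∪ s.image (· * ψ) ∪ s.image (· * ψ')) b fun ω _ => hb ω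
    have hdis : Disjoint (s.image (· * (1 : ↥(W₁ ⊔ W₂) →* ℂˣ)) ∪ s.image (· * ψ))
        (s.image (· * ψ')) :=
      Finset.disjoint_union_left.2 ⟨hd1 isRight_one hψ' hψ'1.symm, hd1 hψ hψ' hne⟩
    rw [Finset.sum_union hdis, Finset.sum_union (hd1 isRight_one hψ hψ1.symm),
      Finset.sum_image (hinj 1), Finset.sum_image (hinj ψ), Finset.sum_image (hinj ψ'),
      ← Finset.sum_add_distrib, ← Finset.sum_add_distrib, hnorm] at hle
    rw [show ∑ x ∈ s, T x = ∑ x ∈ s, (b (x * 1) ^ 2 + b (x * ψ) ^ 2 + b (x * ψ') ^ 2) from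
      Finset.sum_congr rfl fun x hx => by
        rw [(hrow (hs x hx)).1, (hrow (hs x hx)).2, hom_mul_one]]
    have : ((2 : ℂ)).re = (2 : ℝ) := by norm_num
    rw [this] at hle
    exact_mod_cast hle
  have hTnn : ∀ x, 0 ≤ T x := fun x => by rw [hT]; positivity
  obtain ⟨i, hi, hiφ, -⟩ := exists_left_ne hW h1 φ φ
  obtain ⟨j, hj, hjφ, hji⟩ := exists_left_ne hW h1 φ i
  have hbound := hsum {φ, i, j} (by simp [hφ, hi, hj])
  rw [Finset.sum_insert (by simp [hiφ.symm, hjφ.symm]), Finset.sum_pair hji.symm] at hbound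
  have hTφ : T φ = r φ ^ 2 + (r φ + k + 1) ^ 2 + (r φ + l - 1) ^ 2 := by simp [hT]
  have hTi : ∀ {x}, x ≠ φ → T x = r x ^ 2 + (r x + k) ^ 2 + (r x + l) ^ 2 := fun {x} hx => by
    simp [hT, hx]
  rw [hTφ, hTi hiφ, hTi hjφ] at hbound
  have hkl : k = 0 ∧ l = 0 := by
    by_contra hkl
    have pos : ∀ t : ℤ, 1 ≤ t ^ 2 + (t + k) ^ 2 + (t + l) ^ 2 := fun t => by
      rcases eq_or_ne t 0 with rfl | ht
      · rcases not_and_or.1 hkl with e | e <;> nlinarith [one_le_sq_int e, sq_nonneg k, sq_nonneg l]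
      · nlinarith [one_le_sq_int ht, sq_nonneg (t + k), sq_nonneg (t + l)]
    have p1 := pos (r i)
    have p2 := pos (r j)
    have e0 : r φ ^ 2 + (r φ + k + 1) ^ 2 + (r φ + l - 1) ^ 2 = 0 := by
      nlinarith [sq_nonneg (r φ), sq_nonneg (r φ + k + 1), sq_nonneg (r φ + l - 1)]
    obtain ⟨a1, a2, a3⟩ : r φ = 0 ∧ r φ + k + 1 = 0 ∧ r φ + l - 1 = 0 :=
      ⟨by nlinarith [sq_nonneg (r φ + k + 1), sq_nonneg (r φ + l - 1), sq_nonneg (r φ)],
        by nlinarith [sq_nonneg (r φ + k + 1), sq_nonneg (r φ + l - 1), sq_nonneg (r φ)],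
        by nlinarith [sq_nonneg (r φ + k + 1), sq_nonneg (r φ + l - 1), sq_nonneg (r φ)]⟩
    have q1 : 2 ≤ r i ^ 2 + (r i + k) ^ 2 + (r i + l) ^ 2 := by
      rw [show k = -1 by linarith, show l = 1 by linarith]
      nlinarith [sq_nonneg (r i)]
    linarith
  obtain ⟨hk0, hl0⟩ := hkl
  rw [hk0, hl0] at hbound
  have e1 : r φ = 0 := by nlinarith [sq_nonneg (r i), sq_nonneg (r j), sq_nonneg (r φ)]
  have hrow' := hrow hφ
  simp only [if_pos, e1, hk0, hl0, zero_add, sub_zero, zero_sub] at hrow'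
  have hfull : Cfsg.classInner (θ - d) (θ - d) = 0 := by
    have c1 : Cfsg.classInner θ (χ (φ * ψ)) = 1 := by rw [hb, hrow'.1]; simp
    have c2 : Cfsg.classInner θ (χ (φ * ψ')) = -1 := by rw [hb, hrow'.2]; simp
    have c1' : Cfsg.classInner (χ (φ * ψ)) θ = 1 := by rw [← classInner_conj_symm, c1, map_one]
    have c2' : Cfsg.classInner (χ (φ * ψ')) θ = -1 := by
      rw [← classInner_conj_symm, c2, map_neg, map_one]
    have hne' : φ * ψ ≠ φ * ψ' := fun e => hne (mul_left_cancel e)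
    rw [hd]
    simp only [classInner_sub_left, classInner_sub_right, hnorm, c1, c2, c1', c2', hχ.orthonormal,
      if_true, hne', Ne.symm hne', if_false]
    ring
  exact sub_eq_zero.1 (eq_zero_of_classInner_self_eq_zero hfull)

/-- Two families are equal. -/
theorem family_unique (h1 : 3 ≤ Nat.card W₁) (h2 : 3 ≤ Nat.card W₂)
    {χ' : (↥(W₁ ⊔ W₂) →* ℂˣ) → (G → ℂ)} (hχ' : Cfsg.IsCyclicTIFamily W₁ W₂ χ') : χ' = χ := by
  classical
  funext ω
  have hcf : Cfsg.IsClassFunction G (χ ω - χ' ω) :=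
    isClassFunction_sub (isClassFun hW hχ ω) (isClassFun hW hχ' ω)
  have hV : ∀ z ∈ hat W₁ W₂, (χ ω - χ' ω) z = 0 := fun z hz => by
    simp [value_hat hW hχ ω hz, value_hat hW hχ' ω hz]
  obtain ⟨β, hβ⟩ : ∃ β, ∀ v, v ≠ β → Cfsg.classInner (χ' ω) (χ v) = 0 := by
    by_cases hex : ∃ v, Cfsg.classInner (χ' ω) (χ v) ≠ 0
    · obtain ⟨β, hβ⟩ := hex
      refine ⟨β, fun v hv => ?_⟩
      by_contra hne
      have key : ∀ t, Cfsg.classInner (χ' ω) (χ t) ≠ 0 → χ t = χ' ω ∨ χ t = -χ' ω := by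
        intro t ht
        rcases hχ.irr_or_neg t with e1 | e1 <;> rcases hχ'.irr_or_neg ω with e2 | e2 <;>
          by_contra hc <;> push Not at hc
        · exact ht (classInner_irr_ne e2 e1 hc.1.symm)
        · exact ht (by
            rw [← neg_eq_zero, ← classInner_neg_left]
            exact classInner_irr_ne e2 e1 hc.2.symm)
        · exact ht (by
            rw [← neg_eq_zero, ← classInner_neg_right]
            exact classInner_irr_ne e2 e1 fun e => hc.2 (by rw [e, neg_neg]))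
        · exact ht (by
            rw [← classInner_irr_ne e2 e1 (fun e => hc.1 (neg_injective e).symm),
              classInner_neg_left, classInner_neg_right, neg_neg])
      have hh := hχ.orthonormal v β
      rw [if_neg hv] at hh
      have hs := hχ'.orthonormal ω ω
      rw [if_pos rfl] at hs
      rcases key v hne with e1 | e1 <;> rcases key β hβ with e2 | e2 <;>
        simp only [e1, e2, classInner_neg_left, classInner_neg_right, hs, neg_eq_zero,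
          one_ne_zero] at hh
    · push Not at hex
      exact ⟨1, fun v _ => hex v⟩
  have hz := eq_zero_of_few hW hχ h1 h2 hcf hV ω β fun v hv hv' => by
    rw [classInner_sub_left, hχ.orthonormal, if_neg (Ne.symm hv), hβ v hv', sub_zero]
  have h := hz ω
  rw [classInner_sub_left, hχ.orthonormal, if_pos rfl, sub_eq_zero] at h
  have h' : Cfsg.classInner (χ ω) (χ' ω) = 1 := by
    rw [← classInner_conj_symm, ← h, map_one]
  refine (sub_eq_zero.1 (eq_zero_of_classInner_self_eq_zero ?_)).symm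
  simp only [classInner_sub_left, classInner_sub_right, hχ.orthonormal, hχ'.orthonormal, if_true,
    h', ← h]
  ring

/-- Galois equivariance. -/
theorem ringEquiv_comp (h1 : 3 ≤ Nat.card W₁) (h2 : 3 ≤ Nat.card W₂) (σ : ℂ ≃+* ℂ)
    (ω : ↥(W₁ ⊔ W₂) →* ℂˣ) :
    (σ : ℂ → ℂ) ∘ χ ω = χ ((Units.map (σ : ℂ →* ℂ)).comp ω) := by
  classical
  haveI := Fintype.ofFinite ↥(W₁ ⊔ W₂)
  set s : ℂˣ →* ℂˣ := Units.map (σ : ℂ →* ℂ) with hs
  set t : ℂˣ →* ℂˣ := Units.map (σ.symm : ℂ →* ℂ) with ht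
  have hst : ∀ v : ↥(W₁ ⊔ W₂) →* ℂˣ, s.comp (t.comp v) = v := fun v => by
    ext w; simp [hs, ht]
  have hts : ∀ v : ↥(W₁ ⊔ W₂) →* ℂˣ, t.comp (s.comp v) = v := fun v => by
    ext w; simp [hs, ht]
  have htinj : ∀ {v v' : ↥(W₁ ⊔ W₂) →* ℂˣ}, t.comp v = t.comp v' → v = v' := fun {v v'} e => by
    rw [← hst v, e, hst]
  set χ' : (↥(W₁ ⊔ W₂) →* ℂˣ) → G → ℂ := fun v => (σ : ℂ → ℂ) ∘ χ (t.comp v) with hχ'def
  have hval : ∀ (v : ↥(W₁ ⊔ W₂) →* ℂˣ) w, σ ((t.comp v) w : ℂ) = (v w : ℂ) := fun v w => by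
    simp [ht]
  have hχ' : Cfsg.IsCyclicTIFamily W₁ W₂ χ' := by
    refine ⟨fun v => ?_, fun v v' => ?_, ?_, fun v w hw1 hw2 => ?_, fun φ ψ hφ hψ hφ2 hψ1 => ?_⟩
    · rcases hχ.irr_or_neg (t.comp v) with h | h
      · exact .inl (isIrr_ringEquiv σ h)
      · refine .inr ?_
        have := isIrr_ringEquiv σ h
        convert this using 1
        funext g; simp [hχ'def]
    · show Cfsg.classInner ((σ : ℂ → ℂ) ∘ χ (t.comp v)) ((σ : ℂ → ℂ) ∘ χ (t.comp v')) = _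
      rcases hχ.irr_or_neg (t.comp v') with h | h
      · rw [classInner_ringEquiv σ _ (isCharacter_of_isIrr h), hχ.orthonormal]
        rcases eq_or_ne v v' with e | e
        · simp [e]
        · rw [if_neg e, if_neg fun e' => e (htinj e'), map_zero]
      · have e : (σ : ℂ → ℂ) ∘ χ (t.comp v') = -((σ : ℂ → ℂ) ∘ (-χ (t.comp v'))) := by
          funext g; simp
        rw [e, classInner_neg_right, classInner_ringEquiv σ _ (isCharacter_of_isIrr h),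
          classInner_neg_right, map_neg, neg_neg, hχ.orthonormal]
        rcases eq_or_ne v v' with e | e
        · simp [e]
        · rw [if_neg e, if_neg fun e' => e (htinj e'), map_zero]
    · funext g
      simp [hχ'def, MonoidHom.comp_one, hχ.map_one]
    · simp only [hχ'def, Function.comp_apply, hχ.eq_on _ w hw1 hw2]
      exact hval v w
    · have hφ' : t.comp φ ≠ 1 := fun e => hφ (htinj (e.trans (MonoidHom.comp_one t).symm))
      have hψ' : t.comp ψ ≠ 1 := fun e => hψ (htinj (e.trans (MonoidHom.comp_one t).symm))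
      have h := hχ.induced_eq _ _ hφ' hψ' (IsLeft.comp hφ2 t) (IsRight.comp hψ1 t)
      funext g
      have hg := congrArg σ (congrFun h g)
      rw [indFun_apply] at hg
      simp only [map_sub, map_add, map_one, map_mul, map_inv₀, map_natCast, map_sum] at hg
      rw [indFun_apply]
      simp only [hχ'def, Function.comp_apply, MonoidHom.comp_mul]
      rw [← hg]
      refine congrArg _ (Finset.sum_congr rfl fun x _ => ?_)
      by_cases hx : x⁻¹ * g * x ∈ W₁ ⊔ W₂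
      · rw [extendByZero_of_mem _ hx, extendByZero_of_mem _ hx]
        simp only [map_sub, map_add, map_one, map_mul, hval]
      · rw [extendByZero_of_notMem _ hx, extendByZero_of_notMem _ hx, map_zero]
  have h := congrFun (family_unique hW hχ h1 h2 hχ') (s.comp ω)
  rw [← h]
  simp only [hχ'def, hts]

end Family

end CfsgLib.OddChar.Pair
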