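import Cfsg.Agent.Lib.OddChar.PairChars

/-!
# The characters induced from `F(S)`

For a linear character `l` of `F(S)`:
* `twist`, `Rel`: the action of `S`;
* `theta`: the induced character, `inner_theta` its inner products;
* `eq_lamF_of_fix`: the characters fixed by `W₁` are the `lamF ψ`;
* `card_stab_le`: the stabiliser of a character non-trivial on `S_F`.
-/

set_option autoImplicit false
set_option linter.unusedSectionVars false

namespace CfsgLib.OddChar.Pair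

open CfsgLib.Char CfsgLib.CharNormal CfsgLib.OddChar.CTI
open scoped ComplexConjugate commutatorElement

universe u

/-- `F(S)` as a subgroup of `S`. -/
abbrev fitS {G : Type u} [Group G] (S : Subgroup G) : Subgroup S :=
  (Cfsg.fittingOf S).subgroupOf S

/-- A linear character of `F(S)` that is not trivial on `S_F`. -/
def NonTrivP {G : Type u} [Group G] (S : Subgroup G) (l : fitS S →* ℂˣ) : Prop :=
  ∃ x : fitS S, ((x : S) : G) ∈ Cfsg.fittingHallOf S ∧ l x ≠ 1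

/-- The character induced from `F(S)`. -/
noncomputable def theta {G : Type u} [Group G] {S : Subgroup G} [Fintype S] (l : fitS S →* ℂˣ) :
    S → ℂ :=
  Cfsg.indFun (fitS S) fun f => (l f : ℂ)

namespace Side

variable {G : Type u} [Group G] [Fintype G] {S W₁ U W₂ : Subgroup G} {q p : ℕ}
variable (h : Side S W₁ U W₂ q p)
include h

theorem conj_mem_fitS (x : S) (f : fitS S) : x⁻¹ * (f : S) * x ∈ fitS S := by
  have := h.conj_mem_fitting (inv_mem x.2) f.2
  simpa [Subgroup.mem_subgroupOf] using this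

theorem fitS_normal : (fitS S).Normal :=
  ⟨fun f hf x => by simpa using h.conj_mem_fitS x⁻¹ ⟨f, hf⟩⟩

/-- Conjugation on `F(S)`. -/
noncomputable def conjFS (x : S) : fitS S →* fitS S :=
  MonoidHom.mk' (fun f => ⟨_, h.conj_mem_fitS x f⟩) fun a b => Subtype.ext (by
    show x⁻¹ * ((a : S) * b) * x = (x⁻¹ * a * x) * (x⁻¹ * b * x)
    group)

/-- The conjugate of a linear character. -/
noncomputable def twist (x : S) (l : fitS S →* ℂˣ) : fitS S →* ℂˣ := l.comp (h.conjFS x)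

theorem twist_apply (x : S) (l : fitS S →* ℂˣ) (f : fitS S) :
    h.twist x l f = l ⟨_, h.conj_mem_fitS x f⟩ := rfl

theorem twist_one (l : fitS S →* ℂˣ) : h.twist 1 l = l :=
  MonoidHom.ext fun f => by rw [h.twist_apply]; congr 1; exact Subtype.ext (by simp)

theorem twist_mul (x y : S) (l : fitS S →* ℂˣ) : h.twist (x * y) l = h.twist x (h.twist y l) :=
  MonoidHom.ext fun f => by
    rw [h.twist_apply, h.twist_apply, h.twist_apply]
    congr 1
    exact Subtype.ext (by simp [mul_assoc])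

theorem twist_inv_mul {x : S} {l m : fitS S →* ℂˣ} (e : h.twist x l = m) : h.twist x⁻¹ m = l := by
  rw [← e, ← h.twist_mul, inv_mul_cancel, h.twist_one]

/-- Two linear characters of `F(S)` are conjugate in `S`. -/
def Rel (l m : fitS S →* ℂˣ) : Prop := ∃ x : S, h.twist x l = m

theorem rel_refl (l : fitS S →* ℂˣ) : h.Rel l l := ⟨1, h.twist_one l⟩

theorem rel_symm {l m : fitS S →* ℂˣ} (r : h.Rel l m) : h.Rel m l := by
  obtain ⟨x, e⟩ := r
  exact ⟨x⁻¹, h.twist_inv_mul e⟩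

theorem rel_trans {l m k : fitS S →* ℂˣ} (r : h.Rel l m) (r' : h.Rel m k) : h.Rel l k := by
  obtain ⟨x, rfl⟩ := r
  obtain ⟨y, rfl⟩ := r'
  exact ⟨y * x, h.twist_mul y x l⟩

theorem twist_inv_hom (x : S) (l : fitS S →* ℂˣ) : h.twist x l⁻¹ = (h.twist x l)⁻¹ := rfl

theorem rel_inv {l m : fitS S →* ℂˣ} (r : h.Rel l m) : h.Rel l⁻¹ m⁻¹ := by
  obtain ⟨x, rfl⟩ := r
  exact ⟨x, h.twist_inv_hom x l⟩

theorem lamF_inv (ψ : ↥(W₁ ⊔ W₂) →* ℂˣ) : h.lamF ψ⁻¹ = (h.lamF ψ)⁻¹ := rfl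

theorem lamF_W₂ (ψ : ↥(W₁ ⊔ W₂) →* ℂˣ) (z : G) (hz : z ∈ W₂) :
    h.lamF ψ ⟨⟨z, h.W₂_le hz⟩, h.W₂_le_fitting hz⟩ = ψ ⟨z, Subgroup.mem_sup_right hz⟩ :=
  h.lam_W ψ ⟨⟨z, h.W₂_le hz⟩, Subgroup.mem_sup_left (h.W₂_le_fitting hz)⟩
    (Subgroup.mem_sup_right hz)

theorem lamF_nonTriv {ψ : ↥(W₁ ⊔ W₂) →* ℂˣ} (hψ : IsRight W₁ W₂ ψ) (hψ1 : ψ ≠ 1) :
    NonTrivP S (h.lamF ψ) := by
  haveI := Fintype.ofFinite S
  obtain ⟨z, hz, hne⟩ := h.lam_P_ne hψ hψ1
  exact ⟨⟨⟨z, h.W₂_le hz⟩, h.W₂_le_fitting hz⟩, h.W₂_le_P hz,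
    fun e => hne ((h.lamF_W₂ ψ z hz).symm.trans e)⟩

theorem lamF_C (ψ : ↥(W₁ ⊔ W₂) →* ℂˣ) (f : fitS S) (hf : ((f : S) : G) ∈ centU S U) :
    h.lamF ψ f = 1 :=
  h.lam_C ψ _ hf

theorem twist_lamF (ψ : ↥(W₁ ⊔ W₂) →* ℂˣ) {x : S} (hx : (x : G) ∈ FW S W₁) :
    h.twist x (h.lamF ψ) = h.lamF ψ := MonoidHom.ext fun f => by
  have := h.lam_conj ψ ⟨x, hx⟩⁻¹ ⟨f, Subgroup.mem_sup_left f.2⟩
  rw [inv_inv] at this
  exact this

theorem nonTriv_twist {l : fitS S →* ℂˣ} (hl : NonTrivP S l) (x : S) :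
    NonTrivP S (h.twist x l) := by
  obtain ⟨f, hf, hne⟩ := hl
  have hm : x * (f : S) * x⁻¹ ∈ fitS S := by simpa using h.conj_mem_fitS x⁻¹ f
  refine ⟨⟨_, hm⟩, h.conj_mem_P x.2 hf, fun e => hne ?_⟩
  rw [h.twist_apply] at e
  rw [← e]
  congr 1
  exact Subtype.ext (by group)

theorem nonTriv_ne_one {l : fitS S →* ℂˣ} (hl : NonTrivP S l) : l ≠ 1 := by
  obtain ⟨f, -, hne⟩ := hl
  exact fun e => hne (by rw [e]; rfl)

/-- The characters fixed by `W₁`. -/
theorem eq_lamF_of_fix {l : fitS S →* ℂˣ}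
    (hfix : ∀ (w : G) (hw : w ∈ W₁), h.twist ⟨w, h.W₁_le hw⟩ l = l) :
    ∃ ψ, IsRight W₁ W₂ ψ ∧ l = h.lamF ψ := by
  classical
  obtain ⟨π₁, π₂, hp, hm1, hm2, h1, h2⟩ := exists_proj h.data.selfNormalizing
  let g : ↥(W₁ ⊔ W₂) →* fitS S := MonoidHom.mk'
    (fun w => ⟨⟨π₂ w, h.W₂_le (hm2 w)⟩, h.W₂_le_fitting (hm2 w)⟩) fun a b =>
      Subtype.ext (Subtype.ext (by show (π₂ (a * b) : G) = _; rw [map_mul]; rfl))
  refine ⟨l.comp g, fun w hw => ?_, MonoidHom.ext fun f => ?_⟩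
  · rw [MonoidHom.comp_apply, show g w = 1 from Subtype.ext (Subtype.ext (by
      show (π₂ w : G) = _
      rw [(h1 w hw).2]; rfl)), map_one]
  obtain ⟨w, hw, hw1⟩ := h.exists_W₁
  have hnF : ((f : S) : G) * w ∉ Cfsg.fittingOf S := fun hF => hw1 (h.fitting_inf_W₁
    (by simpa using mul_mem (inv_mem (show ((f : S) : G) ∈ Cfsg.fittingOf S from f.2)) hF) hw)
  obtain ⟨e, he, heW, -⟩ := h.exists_conj_mem_W
    (mul_mem (Subgroup.mem_sup_left f.2) (Subgroup.mem_sup_right hw)) hnF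
  obtain ⟨a, ha, z, hz, hab⟩ := CTI.exists_mul_of_mem (fun a ha b hb => h.W₁_comm_W₂ ha hb) heW
  -- `f = e⁻¹ * z * (w * e * w⁻¹)`
  have hconjw : w * e * w⁻¹ ∈ Cfsg.fittingOf S := h.conj_mem_fitting (h.W₁_le hw) he
  have hzF : z ∈ Cfsg.fittingOf S := h.W₂_le_fitting hz
  have haw : a = w := by
    have hd : e * ((f : S) : G) * (w * e⁻¹ * w⁻¹) * z⁻¹ = a * w⁻¹ := by
      have hwz : w⁻¹ * z⁻¹ = z⁻¹ * w⁻¹ := h.W₁_comm_W₂ (inv_mem hw) (inv_mem hz)
      calc e * ((f : S) : G) * (w * e⁻¹ * w⁻¹) * z⁻¹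
          = (e * (((f : S) : G) * w) * e⁻¹) * (w⁻¹ * z⁻¹) := by group
        _ = a * w⁻¹ := by erw [hab]; rw [hwz]; group
    have hF : a * w⁻¹ ∈ Cfsg.fittingOf S := by
      rw [← hd]
      refine mul_mem (mul_mem (mul_mem he f.2) ?_) (inv_mem hzF)
      have := h.conj_mem_fitting (h.W₁_le hw) (inv_mem he)
      exact this
    exact mul_inv_eq_one.1 (h.fitting_inf_W₁ hF (mul_mem ha (inv_mem hw)))
  have hf : ((f : S) : G) = e⁻¹ * z * (w * e * w⁻¹) := by
    rw [haw, h.W₁_comm_W₂ hw hz] at hab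
    calc ((f : S) : G) = e⁻¹ * (e * (((f : S) : G) * w) * e⁻¹) * e * w⁻¹ := by group
      _ = _ := by erw [hab]; group
  have key : ∀ m : fitS S →* ℂˣ,
      (∀ (w : G) (hw : w ∈ W₁), h.twist ⟨w, h.W₁_le hw⟩ m = m) →
      m f = m ⟨⟨z, h.W₂_le hz⟩, hzF⟩ := by
    intro m hm
    have e1 : f = ⟨⟨e, h.fitting_le_S he⟩, he⟩⁻¹ * ⟨⟨z, h.W₂_le hz⟩, hzF⟩ *
        ⟨⟨w * e * w⁻¹, h.fitting_le_S hconjw⟩, hconjw⟩ := Subtype.ext (Subtype.ext hf)
    have e2 : m ⟨⟨w * e * w⁻¹, h.fitting_le_S hconjw⟩, hconjw⟩ =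
        m ⟨⟨e, h.fitting_le_S he⟩, he⟩ := by
      conv_lhs => rw [← hm w hw]
      rw [h.twist_apply]
      congr 1
      exact Subtype.ext (Subtype.ext (show w⁻¹ * (w * e * w⁻¹) * w = e by group))
    rw [e1, map_mul, map_mul, map_inv, e2, mul_comm, ← mul_assoc, mul_inv_cancel, one_mul]
  rw [key l hfix, key _ fun v hv => h.twist_lamF _ (Subgroup.mem_sup_right hv), h.lamF_W₂ _ z hz,
    MonoidHom.comp_apply]
  congr 1
  refine Subtype.ext (Subtype.ext ?_)
  show z = (π₂ ⟨z, _⟩ : G)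
  rw [(h2 ⟨z, Subgroup.mem_sup_right hz⟩ hz).2]

variable [Fintype S]


theorem theta_char (l : fitS S →* ℂˣ) : Cfsg.IsCharacter S (theta l) :=
  isCharacter_indFun _ (isCharacter_of_isIrr (isIrrCharacter_units_hom l))

theorem theta_classFun (l : fitS S →* ℂˣ) : Cfsg.IsClassFunction S (theta l) :=
  isClassFunction_of_isCharacter (h.theta_char l)

theorem theta_gen (l : fitS S →* ℂˣ) : Cfsg.IsGeneralizedCharacter S (theta l) :=
  isGen_of_char (h.theta_char l)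

theorem theta_apply (l : fitS S →* ℂˣ) (f : fitS S) :
    theta l f = (Nat.card (fitS S) : ℂ)⁻¹ * ∑ x : S, (h.twist x l f : ℂ) := by
  rw [theta, indFun_apply]
  congr 1
  refine Finset.sum_congr rfl fun x _ => ?_
  rw [extendByZero_of_mem _ (h.conj_mem_fitS x f)]
  rfl

theorem theta_eq_zero (l : fitS S →* ℂˣ) {s : S} (hs : s ∉ fitS S) : theta l s = 0 := by
  refine indFun_eq_zero_of_forall _ fun x hx => absurd ?_ hs
  simpa [mul_assoc] using h.conj_mem_fitS x⁻¹ ⟨_, hx⟩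

theorem theta_one (l : fitS S →* ℂˣ) : theta l 1 = ((fitS S).index : ℂ) := by
  rw [theta, indFun_one, map_one, Units.val_one, mul_one]

theorem theta_twist (x : S) (l : fitS S →* ℂˣ) : theta (h.twist x l) = theta l := by
  funext s
  by_cases hs : s ∈ fitS S
  · rw [show s = ((⟨s, hs⟩ : fitS S) : S) from rfl, h.theta_apply, h.theta_apply]
    congr 1
    refine Fintype.sum_equiv (Equiv.mulRight x) _ _ fun y => ?_
    rw [Equiv.coe_mulRight, h.twist_mul]
  · rw [h.theta_eq_zero _ hs, h.theta_eq_zero _ hs]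

theorem theta_rel {l m : fitS S →* ℂˣ} (r : h.Rel l m) : theta m = theta l := by
  obtain ⟨x, rfl⟩ := r
  exact h.theta_twist x l

/-- The number of elements carrying `m` to `l`. -/
noncomputable def fixCount (l m : fitS S →* ℂˣ) : ℕ := Nat.card {x : S // h.twist x m = l}

theorem inner_theta (l m : fitS S →* ℂˣ) :
    Cfsg.classInner (theta l) (theta m) =
      (h.fixCount l m : ℂ) / (Nat.card (fitS S) : ℂ) := by
  classical
  haveI := Fintype.ofFinite (fitS S)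
  conv_lhs => arg 1; rw [theta]
  rw [frobenius_reciprocity _ _ (h.theta_classFun m), classInner_def]
  simp only [h.theta_apply, map_mul, map_inv₀, map_natCast, map_sum, Finset.mul_sum]
  rw [Finset.sum_comm]
  have e : ∀ x : S, ∑ f : fitS S, (Nat.card (fitS S) : ℂ)⁻¹ * ((l f : ℂ) *
      ((Nat.card (fitS S) : ℂ)⁻¹ * conj (h.twist x m f : ℂ))) =
      if h.twist x m = l then (Nat.card (fitS S) : ℂ)⁻¹ else 0 := by
    intro x
    have h1 := CTI.classInner_lin l (h.twist x m)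
    rw [classInner_def] at h1
    have h2 : ∑ f : fitS S, (Nat.card (fitS S) : ℂ)⁻¹ * ((l f : ℂ) *
        ((Nat.card (fitS S) : ℂ)⁻¹ * conj (h.twist x m f : ℂ))) = (Nat.card (fitS S) : ℂ)⁻¹ *
        ((Nat.card (fitS S) : ℂ)⁻¹ * ∑ f : fitS S, lin l f * conj (lin (h.twist x m) f)) := by
      simp only [Finset.mul_sum, lin_apply]
      refine Finset.sum_congr rfl fun f _ => ?_
      ring
    rw [h2, h1]
    split_ifs with a b b
    · rw [mul_one]
    · exact absurd a.symm b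
    · exact absurd b.symm a
    · rw [mul_zero]
  rw [Finset.sum_congr rfl fun x _ => e x, ← Finset.sum_filter, Finset.sum_const, nsmul_eq_mul,
    fixCount, div_eq_mul_inv]
  congr 1
  norm_cast
  rw [Nat.card_eq_fintype_card, Fintype.card_subtype]

theorem inner_theta_eq_zero {l m : fitS S →* ℂˣ} (hr : ¬ h.Rel m l) :
    Cfsg.classInner (theta l) (theta m) = 0 := by
  rw [h.inner_theta, fixCount, show Nat.card {x : S // h.twist x m = l} = 0 from
    Nat.card_eq_zero.2 (.inl ⟨fun x => hr ⟨x.1, x.2⟩⟩)]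
  simp

theorem card_fitS : Nat.card (fitS S) = p ^ q * Nat.card (centU S U) := by
  rw [Nat.card_congr (Subgroup.subgroupOfEquivOfLe h.fitting_le_S).toEquiv, h.card_fitting]

/-- The stabiliser. -/
theorem card_stab_le {l : fitS S →* ℂˣ} (hl : NonTrivP S l)
    (hμ : ∀ ψ, IsRight W₁ W₂ ψ → ψ ≠ 1 → ¬ h.Rel (h.lamF ψ) l) :
    2 * h.fixCount l l ≤ (Max.max 2 (p - 1)) * Nat.card (fitS S) := by
  classical
  set X : Subgroup S :=
    { carrier := {x | h.twist x l = l}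
      one_mem' := h.twist_one l
      mul_mem' := fun {a b} ha hb => by
        show h.twist (a * b) l = l
        rw [h.twist_mul, show h.twist b l = l from hb, show h.twist a l = l from ha]
      inv_mem' := fun {a} ha => h.twist_inv_mul (show h.twist a l = l from ha) } with hX
  have hmem : ∀ {x : S}, x ∈ X ↔ h.twist x l = l := fun {x} => Iff.rfl
  -- no element outside `S'` fixes `l`
  have hXd : ∀ x ∈ X, ((x : S) : G) ∈ ⁅S, S⁆ := by
    intro x hx
    by_contra hd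
    have hdn : ∀ y : G, y ∈ ⁅S, S⁆ → ∀ v ∈ S, v * y * v⁻¹ ∈ ⁅S, S⁆ := by
      intro y hy v hv
      rw [show v * y * v⁻¹ = ⁅v, y⁆ * y by rw [commutatorElement_def]; group]
      exact mul_mem (Subgroup.commutator_mem_commutator hv (h.derived_le hy)) hy
    haveI hDn : (⁅S, S⁆.subgroupOf S).Normal :=
      ⟨fun n hn s => hdn _ hn _ s.2⟩
    haveI := Fact.mk h.q_prime
    have hidx : (⁅S, S⁆.subgroupOf S).index = q := by
      rw [← Subgroup.relIndex, (OddLocal.relIndex_of_isComplIn h.data.W₁_compl).2, h.card_W₁]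
    have hq : q ∣ orderOf x := by
      set xb : S ⧸ ⁅S, S⁆.subgroupOf S := (x : S ⧸ ⁅S, S⁆.subgroupOf S) with hxb
      have h1 : orderOf xb ∣ q := by
        rw [← hidx, Subgroup.index_eq_card]; exact orderOf_dvd_natCard xb
      have h2 : orderOf xb ≠ 1 := fun e => hd ((QuotientGroup.eq_one_iff x).1
        (orderOf_eq_one_iff.1 e))
      rw [← ((Nat.dvd_prime h.q_prime).1 h1).resolve_left h2]
      exact orderOf_map_dvd (QuotientGroup.mk' _) x
    set y := x ^ (orderOf x / q) with hy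
    have hyo : orderOf y = q := orderOf_pow_orderOf_div (orderOf_pos x).ne' hq
    have hyX : y ∈ X := pow_mem hx _
    have hW : Nat.card (W₁.subgroupOf S) = q := by
      rw [Nat.card_congr (Subgroup.subgroupOfEquivOfLe h.W₁_le).toEquiv, h.card_W₁]
    have hqn : q.Coprime (W₁.subgroupOf S).index := by
      have := h.data.W₁_hall
      rwa [h.card_W₁] at this
    let P₀ : Sylow q S := Sylow.ofCard (W₁.subgroupOf S) (by
      rw [hW, ← Subgroup.card_mul_index (W₁.subgroupOf S), hW,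
        Nat.factorization_mul h.q_prime.ne_zero Subgroup.index_ne_zero_of_finite, Finsupp.add_apply,
        h.q_prime.factorization_self, Nat.factorization_eq_zero_of_not_dvd
          ((h.q_prime.coprime_iff_not_dvd).1 hqn), add_zero, pow_one])
    obtain ⟨P₁, hP₁⟩ := (IsPGroup.of_card (n := 1)
      (by rw [Nat.card_zpowers, hyo, pow_one]) : IsPGroup q (Subgroup.zpowers y)).exists_le_sylow
    obtain ⟨c, hc⟩ := MulAction.exists_smul_eq S P₁ P₀
    have hcy : c * y * c⁻¹ ∈ W₁.subgroupOf S := by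
      have h1 : c * y * c⁻¹ ∈ ((c • P₁ : Sylow q S) : Subgroup S) := by
        rw [Sylow.coe_subgroup_smul]
        exact Subgroup.smul_mem_pointwise_smul y (MulAut.conj c) _
          (hP₁ (Subgroup.mem_zpowers y))
      rw [hc] at h1
      exact h1
    set m := h.twist c l with hm
    have hfixw : ∀ (w : G) (hw : w ∈ W₁), h.twist ⟨w, h.W₁_le hw⟩ m = m := by
      intro w hw
      have hne : ((c * y * c⁻¹ : S) : G) ≠ 1 := fun e => by
        have e' : c * y * c⁻¹ = 1 := Subtype.ext e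
        rw [conj_eq_one_iff] at e'
        rw [e', orderOf_one] at hyo
        exact h.q_prime.ne_one hyo.symm
      have hw' := hw
      rw [← h.W₁_eq_zpowers hcy hne] at hw'
      obtain ⟨k, hk⟩ := Subgroup.mem_zpowers_iff.1 hw'
      have e1 : (⟨w, h.W₁_le hw⟩ : S) = c * y ^ k * c⁻¹ := by
        rw [← conj_zpow]
        exact Subtype.ext (show w = (((c * y * c⁻¹) ^ k : S) : G) by
          rw [SubgroupClass.coe_zpow]; exact hk.symm)
      rw [e1, hm, ← h.twist_mul, inv_mul_cancel_right, h.twist_mul, hmem.1 (zpow_mem hyX k)]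
    obtain ⟨ψ, hψ, hmψ⟩ := h.eq_lamF_of_fix hfixw
    have hψ1 : ψ ≠ 1 := by
      rintro rfl
      exact h.nonTriv_ne_one (h.nonTriv_twist hl c) (by
        rw [← hm, hmψ]; exact MonoidHom.ext fun f => rfl)
    exact hμ ψ hψ hψ1 (h.rel_symm ⟨c, by rw [← hm, hmψ]⟩)
  -- the image of the stabiliser in `Ubar`
  let α : Cfsg.fittingHallOf S →* ℂˣ :=
    l.comp (MonoidHom.mk' (fun a => ⟨⟨a, h.P_le a.2⟩, h.P_le_fitting a.2⟩) fun _ _ => rfl)
  set Xb : Subgroup (MulAut (Cfsg.fittingHallOf S)) :=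
    { carrier := {a | a ∈ Ubar S U ∧ ∀ x, α (a x) = α x}
      one_mem' := ⟨one_mem _, fun _ => rfl⟩
      mul_mem' := fun {a b} ha hb => ⟨mul_mem ha.1 hb.1, fun x => by
        rw [MulAut.mul_apply, ha.2, hb.2]⟩
      inv_mem' := fun {a} ha => ⟨inv_mem ha.1, fun x => by
        rw [← ha.2 (a⁻¹ x), MulAut.apply_inv_self]⟩ } with hXb
  have hXU : Xb ≤ Ubar S U := fun a ha => ha.1
  have hα : α ≠ 1 := by
    obtain ⟨f, hf, hne⟩ := hl
    intro e
    exact hne (DFunLike.congr_fun e ⟨_, hf⟩)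
  obtain ⟨z, hz, hzX⟩ := h.exists_fixed_of_char hXU hα fun a ha => ha.2
  have hXb2 : 2 * Nat.card Xb ≤ (Max.max 2 (p - 1)) := by
    rcases h.stab_card hXU hz hzX with e | ⟨-, e⟩ <;> omega
  -- count
  choose fy hfy fu hfu he using fun x : X => h.data.U_compl.2.2.2 _ (hXd x x.2)
  have hfuX : ∀ x : X, h.act (fu x) (h.U_le (hfu x)) ∈ Xb := by
    intro x
    have hyX : (⟨fy x, h.P_le (hfy x)⟩ : S) ∈ X := by
      rw [hmem]
      refine MonoidHom.ext fun f => ?_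
      rw [h.twist_apply]
      congr 1
      exact Subtype.ext (Subtype.ext (show (fy x)⁻¹ * ((f : S) : G) * fy x = _ by
        erw [mul_assoc, h.fitting_comm f.2 (h.P_le_fitting (hfy x)), inv_mul_cancel_left]; rfl))
    have huX : (⟨fu x, h.U_le (hfu x)⟩ : S) ∈ X := by
      have h2 := mul_mem (inv_mem hyX) x.2
      rwa [show (⟨fy x, h.P_le (hfy x)⟩ : S)⁻¹ * (x : S) = ⟨fu x, h.U_le (hfu x)⟩ from
        Subtype.ext (show (fy x)⁻¹ * ((x : S) : G) = _ by rw [he x, inv_mul_cancel_left])] at h2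
    refine ⟨h.act_mem (hfu x), fun a => ?_⟩
    have h3 := DFunLike.congr_fun (hmem.1 (inv_mem huX)) ⟨⟨a, h.P_le a.2⟩, h.P_le_fitting a.2⟩
    rw [h.twist_apply] at h3
    refine Eq.trans ?_ h3
    show l _ = l _
    congr 1
    exact Subtype.ext (Subtype.ext (show fu x * (a : G) * (fu x)⁻¹ =
      (fu x)⁻¹⁻¹ * (a : G) * (fu x)⁻¹ by rw [inv_inv]))
  choose rep hrep hrepa using fun a : Xb => h.mem_Ubar.1 a.2.1
  let g : X → fitS S × Xb := fun x =>
    (⟨(x : S) * (⟨rep ⟨_, hfuX x⟩, h.U_le (hrep _)⟩ : S)⁻¹, by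
      show ((x : S) : G) * (rep ⟨_, hfuX x⟩)⁻¹ ∈ Cfsg.fittingOf S
      rw [he x, mul_assoc]
      refine mul_mem (h.P_le_fitting (hfy x)) (h.fitting_compl.2.1 ?_)
      have hmem2 : fu x * (rep ⟨_, hfuX x⟩)⁻¹ ∈ U := mul_mem (hfu x) (inv_mem (hrep _))
      refine (h.act_eq_one hmem2).1 ?_
      have e2 := h.act_mul (h.U_le hmem2) (h.U_le (hrep ⟨_, hfuX x⟩))
      rw [hrepa] at e2
      simp only [inv_mul_cancel_right] at e2
      exact right_eq_mul.1 e2⟩, ⟨_, hfuX x⟩)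
  have hg : Function.Injective g := by
    intro a b e
    obtain ⟨e1, e2⟩ := Prod.ext_iff.1 e
    have e1' : (a : S) * (⟨rep ⟨_, hfuX a⟩, h.U_le (hrep _)⟩ : S)⁻¹ =
        (b : S) * (⟨rep ⟨_, hfuX b⟩, h.U_le (hrep _)⟩ : S)⁻¹ := congrArg Subtype.val e1
    have e3 : (⟨rep ⟨_, hfuX a⟩, h.U_le (hrep _)⟩ : S) =
        ⟨rep ⟨_, hfuX b⟩, h.U_le (hrep _)⟩ := Subtype.ext (congrArg rep e2)
    rw [e3] at e1'
    exact Subtype.ext (mul_right_cancel e1')
  have h1 := Nat.card_le_card_of_injective g hg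
  rw [Nat.card_prod] at h1
  calc 2 * h.fixCount l l = 2 * Nat.card X := rfl
    _ ≤ 2 * (Nat.card (fitS S) * Nat.card Xb) := Nat.mul_le_mul_left 2 h1
    _ = 2 * Nat.card Xb * Nat.card (fitS S) := by ring
    _ ≤ _ := Nat.mul_le_mul_right _ hXb2

end Side

end CfsgLib.OddChar.Pair
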