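import Cfsg.Agent.Lib.OddChar.PairKL
import Cfsg.Agent.Lib.OddChar.PairTI
import Cfsg.Agent.Lib.OddChar.PowCongr
import Cfsg.Agent.Lib.CharNormal.Galois

/-!
# The lower bounds on `F(S) ∖ {1}`

With `c = |C_U(S_F)|`, `u = |U : C_U(S_F)|`, `p ^ q = |S_F|`, and the family `η` of `W`:
* `sum_member_ge`: for `ψ ≠ 1` trivial on `W₁` and `φ` trivial on `W₂`,
  `∑_{F(S)#} |η (φ ψ)|² ≥ |F(S)| u (1 - u / (c (p^q - 1)))`;
* `sum_rowSum_ge`: the same for `∑_φ η (φ ψ)`, with a factor `q²`;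
* `sum_left_ge`: for `φ ≠ 1` trivial on `W₂`, `∑_{F(S) ∖ C} |η φ|² ≥ c (p^q - 1)`;
* `off_indep`, `off_int`: away from the conjugates of the support, `η ψ` does not depend on `ψ`
  and is an integer.
-/

set_option autoImplicit false
set_option linter.unusedSectionVars false

namespace CfsgLib.OddChar.Pair

open CfsgLib.Char CfsgLib.CharNormal CfsgLib.OddChar.CTI CfsgLib.OddChar.PowCongr
open scoped ComplexConjugate Classical

universe u

/-- The sum of the linear characters trivial on a subgroup. -/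
theorem sum_lin_trivial {F : Type*} [Group F] [Fintype F] (hc : ∀ a b : F, a * b = b * a)
    [Fintype (F →* ℂˣ)] (K : Subgroup F) (x : F) :
    (Nat.card K : ℂ) * ∑ l ∈ Finset.univ.filter (fun l : F →* ℂˣ => ∀ y ∈ K, l y = 1), (l x : ℂ) =
      if x ∈ K then (Nat.card F : ℂ) else 0 := by
  have hK : ∀ l : F →* ℂˣ, ∑ y : K, (l y : ℂ) =
      if ∀ y ∈ K, l y = 1 then (Nat.card K : ℂ) else 0 := by
    intro l
    have h0 := CTI.classInner_lin (l.comp K.subtype) 1
    rw [classInner_def] at h0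
    simp only [lin_apply, MonoidHom.comp_apply, Subgroup.coe_subtype, MonoidHom.one_apply,
      Units.val_one, map_one, mul_one] at h0
    have hiff : l.comp K.subtype = 1 ↔ ∀ y ∈ K, l y = 1 :=
      ⟨fun e y hy => DFunLike.congr_fun e ⟨y, hy⟩, fun e => MonoidHom.ext fun y => e y y.2⟩
    have hn : (Nat.card K : ℂ) ≠ 0 := by exact_mod_cast Nat.card_pos.ne'
    rw [inv_mul_eq_iff_eq_mul₀ hn] at h0
    rw [h0]
    by_cases e : l.comp K.subtype = 1
    · rw [if_pos e, if_pos (hiff.1 e), mul_one]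
    · rw [if_neg e, if_neg fun e' => e (hiff.2 e'), mul_zero]
  have e1 : ∑ y : K, ∑ l : F →* ℂˣ, (l (x * y) : ℂ) =
      if x ∈ K then (Nat.card F : ℂ) else 0 := by
    have hl := fun z => CTI.sum_lin hc z
    simp only [lin_apply] at hl
    simp only [hl]
    split_ifs with hx
    · rw [Finset.sum_eq_single ⟨x⁻¹, inv_mem hx⟩ (fun y _ hy => if_neg fun e => hy (Subtype.ext
          (eq_inv_of_mul_eq_one_right e))) (fun h => absurd (Finset.mem_univ _) h)]
      simp
    · exact Finset.sum_eq_zero fun y _ => if_neg fun e => hx (by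
        rw [eq_inv_of_mul_eq_one_left e]; exact inv_mem y.2)
  rw [← e1, Finset.sum_comm, Finset.sum_filter, Finset.mul_sum]
  refine Finset.sum_congr rfl fun l _ => ?_
  simp only [map_mul, Units.val_mul, ← Finset.mul_sum, hK, mul_ite, mul_zero]
  split_ifs <;> ring

/-- A linear character at an inverse. -/
theorem conj_hom_apply {F : Type*} [Group F] [Finite F] (l : F →* ℂˣ) (x : F) :
    conj (l x : ℂ) = ((l x⁻¹ : ℂˣ) : ℂ) := by
  rw [map_inv, Units.val_inv_eq_inv_val,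
    Complex.inv_eq_conj (norm_eq_one_of_pow_eq_one' (orderOf_pos x).ne' (by
      rw [← Units.val_pow_eq_pow_val, ← map_pow, pow_orderOf_eq_one, map_one, Units.val_one]))]

namespace Side

variable {G : Type u} [Group G] [Fintype G] {S W₁ U W₂ : Subgroup G} {q p : ℕ}
  {χ : (↥(W₁ ⊔ W₂) →* ℂˣ) → (G → ℂ)}
variable (h : Side S W₁ U W₂ q p)
include h

theorem fitS_comm (a b : fitS S) : a * b = b * a :=
  Subtype.ext (Subtype.ext (h.fitting_comm a.2 b.2))

theorem finite_fitS_hom : Finite (fitS S →* ℂˣ) := by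
  haveI := Fintype.ofFinite (fitS S)
  exact CTI.finite_hom h.fitS_comm

/-- The linear characters of `F(S)` that are not trivial on `S_F`. -/
noncomputable def ntChars : Finset (fitS S →* ℂˣ) :=
  haveI := h.finite_fitS_hom
  (Set.toFinite {l : fitS S →* ℂˣ | NonTrivP S l}).toFinset

theorem mem_ntChars {l : fitS S →* ℂˣ} : l ∈ h.ntChars ↔ NonTrivP S l :=
  Set.Finite.mem_toFinset _

/-- The orbit of `lamF ψ`. -/
noncomputable def orbit (ψ : ↥(W₁ ⊔ W₂) →* ℂˣ) : Finset (fitS S →* ℂˣ) :=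
  h.ntChars.filter (h.Rel (h.lamF ψ))

/-- `S_F` inside `F(S)`. -/
def pPart (_h : Side S W₁ U W₂ q p) : Subgroup (fitS S) :=
  ((Cfsg.fittingHallOf S).subgroupOf S).subgroupOf (fitS S)

/-- `C_U(S_F)` inside `F(S)`. -/
def cPart (_h : Side S W₁ U W₂ q p) : Subgroup (fitS S) :=
  ((centU S U).subgroupOf S).subgroupOf (fitS S)

theorem mem_pPart {x : fitS S} : x ∈ h.pPart ↔ ((x : S) : G) ∈ Cfsg.fittingHallOf S := Iff.rfl

theorem mem_cPart {x : fitS S} : x ∈ h.cPart ↔ ((x : S) : G) ∈ centU S U := Iff.rfl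

theorem card_pPart : Nat.card h.pPart = p ^ q := by
  have hle : (Cfsg.fittingHallOf S).subgroupOf S ≤ fitS S := fun x hx => h.P_le_fitting hx
  rw [pPart, Nat.card_congr (Subgroup.subgroupOfEquivOfLe hle).toEquiv,
    Nat.card_congr (Subgroup.subgroupOfEquivOfLe h.P_le).toEquiv]
  have h1 := OddLocal.card_of_isComplIn h.fitting_compl
  have h2 := h.card_fitting
  rw [h1] at h2
  exact Nat.eq_of_mul_eq_mul_right Nat.card_pos h2

theorem centU_le_fitting : centU S U ≤ Cfsg.fittingOf S :=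
  h.fittingOf_eq ▸ le_sup_right

theorem card_cPart : Nat.card h.cPart = Nat.card (centU S U) := by
  have hle : (centU S U).subgroupOf S ≤ fitS S := fun x hx => h.centU_le_fitting hx
  rw [cPart, Nat.card_congr (Subgroup.subgroupOfEquivOfLe hle).toEquiv,
    Nat.card_congr (Subgroup.subgroupOfEquivOfLe (centU_le.trans h.U_le)).toEquiv]

theorem pow_q_pos : 0 < p ^ q := pow_pos h.p_prime.pos q

theorem card_ntChars :
    (h.ntChars.card : ℝ) = (Nat.card (centU S U) : ℝ) * ((p : ℝ) ^ q - 1) := by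
  haveI := Fintype.ofFinite (fitS S)
  haveI := h.finite_fitS_hom
  letI := Fintype.ofFinite (fitS S →* ℂˣ)
  have h1 := sum_lin_trivial h.fitS_comm h.pPart 1
  rw [if_pos (one_mem _), h.card_pPart, h.card_fitS] at h1
  simp only [map_one, Units.val_one, Finset.sum_const, nsmul_eq_mul, mul_one] at h1
  have h2 : (p ^ q : ℕ) * (Finset.univ.filter fun l : fitS S →* ℂˣ =>
      ∀ y ∈ h.pPart, l y = 1).card = p ^ q * Nat.card (centU S U) := by
    exact_mod_cast h1
  have h3 := Nat.eq_of_mul_eq_mul_left h.pow_q_pos h2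
  have h4 := Finset.card_filter_add_card_filter_not (s := (Finset.univ : Finset (fitS S →* ℂˣ)))
    fun l => ∀ y ∈ h.pPart, l y = 1
  rw [h3, Finset.card_univ, ← Nat.card_eq_fintype_card, card_hom h.fitS_comm, h.card_fitS] at h4
  have h5 : h.ntChars = Finset.univ.filter fun l : fitS S →* ℂˣ => ¬ ∀ y ∈ h.pPart, l y = 1 := by
    ext l
    simp only [h.mem_ntChars, Finset.mem_filter, Finset.mem_univ, true_and, not_forall]
    exact ⟨fun ⟨x, hx, hne⟩ => ⟨x, hx, hne⟩, fun ⟨x, hx, hne⟩ => ⟨x, hx, hne⟩⟩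
  rw [h5]
  have h6 := congrArg (fun n : ℕ => (n : ℝ)) h4
  push_cast at h6 ⊢
  linarith

variable [Fintype S] [Fintype (fitS S)]

theorem stab_lamF {ψ : ↥(W₁ ⊔ W₂) →* ℂˣ} (hψ : IsRight W₁ W₂ ψ) (hψ1 : ψ ≠ 1) (x : S) :
    h.twist x (h.lamF ψ) = h.lamF ψ ↔ (x : G) ∈ FW S W₁ := by
  refine ⟨fun e => h.fix_lamF hψ hψ1 fun f hf hxf => ?_, h.twist_lamF ψ⟩
  have := DFunLike.congr_fun e ⟨f, hf⟩
  rw [h.twist_apply] at this
  exact this

theorem card_orbit {ψ : ↥(W₁ ⊔ W₂) →* ℂˣ} (hψ : IsRight W₁ W₂ ψ) (hψ1 : ψ ≠ 1) :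
    (h.orbit ψ).card = (centU S U).relIndex U := by
  set l₀ := h.lamF ψ with hl₀
  have hmaps : ∀ x ∈ (Finset.univ : Finset S), h.twist x l₀ ∈ h.orbit ψ := fun x _ => by
    rw [orbit, Finset.mem_filter, h.mem_ntChars]
    exact ⟨h.nonTriv_twist (h.lamF_nonTriv hψ hψ1) x, ⟨x, rfl⟩⟩
  have h1 := Finset.card_eq_sum_card_fiberwise hmaps
  have h2 : ∀ l ∈ h.orbit ψ, (Finset.univ.filter fun x : S => h.twist x l₀ = l).card =
      Nat.card ((FW S W₁).subgroupOf S) := by
    intro l hl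
    rw [orbit, Finset.mem_filter] at hl
    obtain ⟨y, hy⟩ := hl.2
    rw [← Fintype.card_subtype, ← Nat.card_eq_fintype_card]
    refine Nat.card_congr
      { toFun := fun x => ⟨y⁻¹ * x.1, (h.stab_lamF hψ hψ1 (y⁻¹ * x.1)).1 (by
          rw [h.twist_mul, x.2]; exact h.twist_inv_mul hy)⟩
        invFun := fun s => ⟨y * s.1, by
          rw [h.twist_mul, (h.stab_lamF hψ hψ1 _).2 s.2]; exact hy⟩
        left_inv := fun x => Subtype.ext (mul_inv_cancel_left y x.1)
        right_inv := fun s => Subtype.ext (inv_mul_cancel_left y s.1) }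
  rw [Finset.sum_congr rfl h2, Finset.sum_const, smul_eq_mul, Finset.card_univ,
    ← Nat.card_eq_fintype_card, h.card_FW, h.card_fitS, h.card_S, ← h.relIndex_centU_mul] at h1
  have hpos : 0 < q * (p ^ q * Nat.card (centU S U)) :=
    Nat.mul_pos h.q_prime.pos (Nat.mul_pos h.pow_q_pos Nat.card_pos)
  refine Nat.eq_of_mul_eq_mul_right hpos ?_
  rw [← h1]
  ring

variable (hχ : Cfsg.IsCyclicTIFamily W₁ W₂ χ)
include hχ

/-- One member. -/
theorem sum_member_ge {φ ψ : ↥(W₁ ⊔ W₂) →* ℂˣ} (hφ : IsLeft W₁ W₂ φ) (hψ : IsRight W₁ W₂ ψ)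
    (hψ1 : ψ ≠ 1) :
    (Nat.card (fitS S) : ℝ) * (((centU S U).relIndex U : ℝ) *
        (1 - ((centU S U).relIndex U : ℝ) / ((Nat.card (centU S U) : ℝ) * ((p : ℝ) ^ q - 1)))) ≤
      ∑ f ∈ Finset.univ.erase (1 : fitS S), ‖χ (φ * ψ) ((f : S) : G)‖ ^ 2 := by
  obtain ⟨ψ', hψ', hψ'1, ε, hε, hn⟩ := h.coef_right hχ hψ hψ1
  obtain ⟨n, hn⟩ := hn φ hφ
  have hb := test_bound (fun f : fitS S => χ (φ * ψ) ((f : S) : G)) h.ntChars (h.orbit ψ')
    (Finset.filter_subset _ _) (n : ℝ) (ε : ℝ) fun l hl => by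
      have := hn l (h.mem_ntChars.1 hl)
      rw [coef] at this
      rw [this]
      simp only [orbit, Finset.mem_filter, hl, true_and]
      split_ifs <;> push_cast <;> ring
  rw [show ((ε : ℝ)) ^ 2 = 1 by rcases hε with rfl | rfl <;> norm_num, one_mul,
    h.card_orbit hψ' hψ'1, h.card_ntChars] at hb
  exact hb

/-- The sum over a row. -/
theorem sum_rowSum_ge {ψ : ↥(W₁ ⊔ W₂) →* ℂˣ} (hψ : IsRight W₁ W₂ ψ) (hψ1 : ψ ≠ 1) :
    (Nat.card (fitS S) : ℝ) * ((q : ℝ) ^ 2 * (((centU S U).relIndex U : ℝ) *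
        (1 - ((centU S U).relIndex U : ℝ) / ((Nat.card (centU S U) : ℝ) * ((p : ℝ) ^ q - 1))))) ≤
      ∑ f ∈ Finset.univ.erase (1 : fitS S),
        ‖∑ φ ∈ leftChars h.data.selfNormalizing, χ (φ * ψ) ((f : S) : G)‖ ^ 2 := by
  obtain ⟨ψ', hψ', hψ'1, ε, hε, hn⟩ := h.coef_right hχ hψ hψ1
  choose! n hn using hn
  set L := leftChars h.data.selfNormalizing with hL
  have hb := test_bound (fun f : fitS S => ∑ φ ∈ L, χ (φ * ψ) ((f : S) : G)) h.ntChars
    (h.orbit ψ') (Finset.filter_subset _ _) ((∑ φ ∈ L, n φ : ℤ) : ℝ) ((q : ℝ) * ε) fun l hl => by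
      have e : Cfsg.classInner (fun f : fitS S => ∑ φ ∈ L, χ (φ * ψ) ((f : S) : G))
          (fun f => (l f : ℂ)) = ∑ φ ∈ L, coef χ (φ * ψ) l := by
        simp only [coef, classInner_def, Finset.mul_sum, Finset.sum_mul]
        exact Finset.sum_comm
      rw [e, Finset.sum_congr rfl fun φ hφ => hn φ ((mem_leftChars _).1 hφ) l (h.mem_ntChars.1 hl)]
      have hc : L.card = q := by rw [hL, card_leftChars, h.card_W₁]
      simp only [orbit, Finset.mem_filter, hl, true_and]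
      push_cast
      rw [Finset.sum_add_distrib, Finset.sum_const, hc, nsmul_eq_mul]
      split_ifs <;> push_cast <;> ring
  rw [show ((q : ℝ) * (ε : ℝ)) ^ 2 = (q : ℝ) ^ 2 by rcases hε with rfl | rfl <;> push_cast <;> ring,
    h.card_orbit hψ' hψ'1, h.card_ntChars] at hb
  exact hb

/-- The elements of `F(S)` outside `C_U(S_F)`. -/
theorem sum_left_ge {φ : ↥(W₁ ⊔ W₂) →* ℂˣ} (hφ : IsLeft W₁ W₂ φ) :
    (Nat.card (centU S U) : ℝ) * ((p : ℝ) ^ q - 1) ≤
      ∑ f ∈ Finset.univ.filter (fun f : fitS S => f ∉ h.cPart),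
        ‖χ φ ((f : S) : G)‖ ^ 2 := by
  haveI := Fact.mk h.q_prime
  haveI := h.finite_fitS_hom
  letI := Fintype.ofFinite (fitS S →* ℂˣ)
  set fv : fitS S → ℂ := fun f => χ φ ((f : S) : G) with hfv
  obtain ⟨n, hn⟩ := h.coef_left hχ hφ
  obtain ⟨e₀, he₀⟩ := h.coef_int hχ φ 1
  set c := Nat.card (centU S U) with hc
  set T : Finset (fitS S →* ℂˣ) :=
    Finset.univ.filter (fun l => ∀ y ∈ h.cPart, l y = 1) with hT
  have hT1 : (1 : fitS S →* ℂˣ) ∈ T := by simp [hT]
  have hTnt : ∀ l ∈ T.erase 1, NonTrivP S l := by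
    intro l hl
    by_contra hnt
    refine (Finset.mem_erase.1 hl).1 (MonoidHom.ext fun x => ?_)
    obtain ⟨a, ha, b, hb, e⟩ := h.exists_mul_fitting x.2
    let a' : fitS S := ⟨⟨a, h.P_le ha⟩, h.P_le_fitting ha⟩
    let b' : fitS S := ⟨⟨b, h.U_le (centU_le hb)⟩, h.centU_le_fitting hb⟩
    have hx : x = a' * b' := Subtype.ext (Subtype.ext e)
    have h1 : l a' = 1 := by
      by_contra hne
      exact hnt ⟨a', ha, hne⟩
    have h2 : l b' = 1 := by
      have := (Finset.mem_filter.1 (Finset.mem_erase.1 hl).2).2 b' hb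
      exact this
    rw [hx, map_mul, h1, h2, one_mul]; rfl
  have hcp : (c : ℂ) ≠ 0 := by rw [hc]; exact_mod_cast Nat.card_pos.ne'
  have hsl : ∀ x, ∑ l ∈ T, (l x : ℂ) = if x ∈ h.cPart then ((p : ℂ) ^ q) else 0 := by
    intro x
    have e := sum_lin_trivial h.fitS_comm h.cPart x
    rw [h.card_cPart, h.card_fitS, ← hT, ← hc] at e
    refine mul_left_cancel₀ hcp ?_
    rw [e]
    split_ifs <;> push_cast <;> ring
  -- the sum over one coset of `C`
  have hcoset : ∀ z : fitS S, (p : ℂ) ^ q * ∑ y ∈ Finset.univ.filter (· ∈ h.cPart), fv (z * y) =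
      (Nat.card (fitS S) : ℂ) * ((e₀ : ℂ) + (n : ℂ) * ∑ l ∈ T.erase 1, (l z : ℂ)) := by
    intro z
    have hN : ∀ l : fitS S →* ℂˣ, ∑ x, fv x * conj (l x : ℂ) =
        (Nat.card (fitS S) : ℂ) * coef χ φ l := by
      intro l
      rw [coef, classInner_def, ← mul_assoc, mul_inv_cancel₀
        (by exact_mod_cast Nat.card_pos.ne'), one_mul]
    have hl : ∀ x, ∑ l ∈ T, (l z : ℂ) * conj (l x : ℂ) =
        if x⁻¹ * z ∈ h.cPart then ((p : ℂ) ^ q) else 0 := fun x => by
      rw [← hsl]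
      refine Finset.sum_congr rfl fun l _ => ?_
      rw [conj_hom_apply, map_mul, Units.val_mul, mul_comm]
    calc (p : ℂ) ^ q * ∑ y ∈ Finset.univ.filter (· ∈ h.cPart), fv (z * y)
        = ∑ x, fv x * ∑ l ∈ T, (l z : ℂ) * conj (l x : ℂ) := by
          simp only [hl, mul_ite, mul_zero]
          rw [← Finset.sum_filter, Finset.mul_sum]
          refine Finset.sum_bij (fun y _ => z * y) (fun y hy => ?_) (fun _ _ _ _ e => mul_left_cancel e)
            (fun x hx => ⟨z⁻¹ * x, ?_, mul_inv_cancel_left z x⟩) (fun y _ => by ring)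
          · simp only [Finset.mem_filter, Finset.mem_univ, true_and] at hy ⊢
            simpa using inv_mem hy
          · simp only [Finset.mem_filter, Finset.mem_univ, true_and] at hx ⊢
            simpa using inv_mem hx
      _ = ∑ l ∈ T, (l z : ℂ) * ∑ x, fv x * conj (l x : ℂ) := by
          simp only [Finset.mul_sum]
          rw [Finset.sum_comm]
          exact Finset.sum_congr rfl fun l _ => Finset.sum_congr rfl fun x _ => by ring
      _ = _ := by
          simp only [hN]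
          rw [← Finset.add_sum_erase T _ hT1, he₀]
          simp only [Finset.mul_sum, mul_add, MonoidHom.one_apply, Units.val_one, one_mul]
          congr 1
          exact Finset.sum_congr rfl fun l hl => by rw [hn l (hTnt l hl)]; ring
  have hTsum : ∀ z : fitS S, ∑ l ∈ T.erase 1, (l z : ℂ) =
      (if z ∈ h.cPart then ((p : ℂ) ^ q) else 0) - 1 := by
    intro z
    rw [← hsl, ← Finset.add_sum_erase T _ hT1]
    simp
  have hFc : (Nat.card (fitS S) : ℂ) = (p : ℂ) ^ q * (c : ℂ) := by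
    rw [h.card_fitS, ← hc]; push_cast; ring
  have hp0 : (p : ℂ) ^ q ≠ 0 := pow_ne_zero _ (by exact_mod_cast h.p_prime.ne_zero)
  -- the integer
  set m : ℤ := e₀ - n with hm
  have hout : ∀ z, z ∉ h.cPart →
      ∑ y ∈ Finset.univ.filter (· ∈ h.cPart), fv (z * y) = (c : ℂ) * (m : ℂ) := by
    intro z hz
    refine mul_left_cancel₀ hp0 ?_
    rw [hcoset, hTsum, if_neg hz, hFc, hm]
    push_cast
    ring
  have hint : ∀ g : G, IsIntegral ℤ (χ φ g) :=
    fun g => isIntegral_gen (isGen h.data.selfNormalizing hχ φ) g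
  have hm0 : m ≠ 0 := by
    intro hm0
    obtain ⟨z, hz, hz1⟩ := h.exists_W₂
    obtain ⟨w, hw, hw1⟩ := h.exists_W₁
    let z' : fitS S := ⟨⟨z, h.W₂_le hz⟩, h.W₂_le_fitting hz⟩
    have hz' : z' ∉ h.cPart := fun hzc => hz1 (h.U_inf_P (centU_le hzc) (h.W₂_le_P hz))
    have h1 := hout z' hz'
    rw [hm0, Int.cast_zero, mul_zero] at h1
    -- congruence to the value at `z`
    letI act : MulAction W₁ (centU S U) :=
      { smul := fun v y => ⟨v * y * v⁻¹, h.conj_mem_centU v.2 y.2⟩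
        one_smul := fun y => Subtype.ext (show (1 : G) * y * (1 : G)⁻¹ = y by group)
        mul_smul := fun v v' y => Subtype.ext
          (show ((v : G) * v') * y * ((v : G) * v')⁻¹ = v * (v' * y * (v' : G)⁻¹) * (v : G)⁻¹ by group) }
    have hsm : ∀ (v : W₁) (y : centU S U), ((v • y : centU S U) : G) = v * y * (v : G)⁻¹ :=
      fun _ _ => rfl
    have hP : IsPGroup q W₁ := IsPGroup.of_card (n := 1) (by rw [h.card_W₁, pow_one])
    have hcg := congrP_sum_fixed (p := q) hP (fun y : centU S U => χ φ (z * y))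
      (fun y => hint _) fun v y => by
        rw [hsm, ← isClassFun h.data.selfNormalizing hχ φ (z * y) v]
        congr 1
        have := h.W₁_comm_W₂ v.2 hz
        calc z * ((v : G) * y * (v : G)⁻¹) = ((z * v) * y) * (v : G)⁻¹ := by group
          _ = (v : G) * (z * y) * (v : G)⁻¹ := by rw [← this]; group
    have hfix : (Finset.univ.filter fun y : centU S U => y ∈ MulAction.fixedPoints W₁ (centU S U)) =
        {1} := by
      ext y
      simp only [Finset.mem_filter, Finset.mem_univ, true_and, Finset.mem_singleton,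
        MulAction.mem_fixedPoints]
      refine ⟨fun hy => Subtype.ext (h.fixed_U hw hw1 (centU_le y.2) ?_), fun e v => Subtype.ext ?_⟩
      · have := congrArg (fun t : centU S U => (t : G)) (hy ⟨w, hw⟩)
        simp only [hsm] at this
        exact mul_inv_eq_iff_eq_mul.1 this
      · rw [hsm, e]; simp
    rw [hfix, Finset.sum_singleton, OneMemClass.coe_one, mul_one] at hcg
    have hsum : ∑ y : centU S U, χ φ (z * y) =
        ∑ y ∈ Finset.univ.filter (· ∈ h.cPart), fv (z' * y) := by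
      refine Finset.sum_bij
        (fun y _ => (⟨⟨y, h.U_le (centU_le y.2)⟩, h.centU_le_fitting y.2⟩ : fitS S))
        (fun y _ => Finset.mem_filter.2 ⟨Finset.mem_univ _, y.2⟩)
        (fun a _ b _ e => Subtype.ext (congrArg (fun t : fitS S => ((t : S) : G)) e))
        (fun b hb => ⟨⟨_, (Finset.mem_filter.1 hb).2⟩, Finset.mem_univ _, rfl⟩) fun y _ => rfl
    rw [hsum, h1] at hcg
    have hwz : w * z ∈ hat W₁ W₂ := by
      refine ⟨mul_mem (Subgroup.mem_sup_left hw) (Subgroup.mem_sup_right hz), fun hh => hz1 ?_,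
        fun hh => hw1 ?_⟩
      · exact Subgroup.mem_bot.1 (h.data.selfNormalizing.2.2.1 ▸
          Subgroup.mem_inf.2 ⟨by simpa using mul_mem (inv_mem hw) hh, hz⟩)
      · exact Subgroup.mem_bot.1 (h.data.selfNormalizing.2.2.1 ▸
          Subgroup.mem_inf.2 ⟨hw, by simpa using mul_mem hh (inv_mem hz)⟩)
    have hwq : w ^ q = 1 := by rw [← h.orderOf_W₁ hw hw1]; exact pow_orderOf_eq_one w
    have h2 := congr_mul_of_pow_eq_one (p := q) (isGen h.data.selfNormalizing hχ φ) (h.W₁_comm_W₂ hw hz) hwq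
    rw [value_hat h.data.selfNormalizing hχ φ hwz] at h2
    have h3 : φ ⟨w * z, hwz.1⟩ ^ q = 1 := by
      rw [show (⟨w * z, hwz.1⟩ : ↥(W₁ ⊔ W₂)) =
        ⟨w, Subgroup.mem_sup_left hw⟩ * ⟨z, Subgroup.mem_sup_right hz⟩ from rfl, map_mul,
        hφ ⟨z, Subgroup.mem_sup_right hz⟩ hz, mul_one, ← map_pow,
        show (⟨w, Subgroup.mem_sup_left hw⟩ : ↥(W₁ ⊔ W₂)) ^ q = 1 from Subtype.ext hwq, map_one]
    rw [← Units.val_pow_eq_pow_val, h3, Units.val_one] at h2
    obtain ⟨t, ht, he⟩ := hcg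
    rw [zero_sub] at he
    obtain ⟨s, hs, hse⟩ := h2
    have hq0 : CongrP q ((1 : ℤ) : ℂ) ((0 : ℤ) : ℂ) := by
      have hfz : χ φ z = (q : ℂ) * (-t) := by linear_combination -he
      refine ⟨s + (-t) * (χ φ z) ^ (q - 1), hs.add (ht.neg.mul ((hint z).pow _)), ?_⟩
      have e : χ φ z ^ q = (q : ℂ) * (-t) * χ φ z ^ (q - 1) := by
        rw [← hfz, ← pow_succ', Nat.sub_add_cancel h.q_prime.one_le]
      push_cast
      linear_combination hse + e
    have := hq0.int_dvd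
    have h4 := Int.le_of_dvd one_pos (by simpa using this)
    have := h.three_le_q
    omega
  -- Cauchy-Schwarz
  set A : Finset (fitS S) := Finset.univ.filter (fun f => f ∉ h.cPart) with hA
  have hAsum : ∑ f ∈ A, fv f = ((c : ℂ) * ((p : ℂ) ^ q - 1)) * (m : ℂ) := by
    refine mul_left_cancel₀ hp0 ?_
    have h1 := hcoset 1
    simp only [one_mul] at h1
    have h2 : ∑ f, fv f = (Nat.card (fitS S) : ℂ) * (e₀ : ℂ) := by
      rw [← he₀, coef, classInner_def, ← mul_assoc, mul_inv_cancel₀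
        (by exact_mod_cast Nat.card_pos.ne'), one_mul]
      exact Finset.sum_congr rfl fun x _ => by simp [hfv]
    rw [← Finset.sum_filter_add_sum_filter_not Finset.univ (· ∈ h.cPart) fv] at h2
    rw [hTsum, if_pos (one_mem _)] at h1
    rw [hm]
    push_cast
    rw [hFc] at h1 h2
    linear_combination (p : ℂ) ^ q * h2 - h1
  have hAcard : (A.card : ℝ) = (c : ℝ) * ((p : ℝ) ^ q - 1) := by
    have h4 := Finset.card_filter_add_card_filter_not (s := (Finset.univ : Finset (fitS S)))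
      fun f => f ∈ h.cPart
    have h5 : (Finset.univ.filter fun f : fitS S => f ∈ h.cPart).card = c := by
      rw [hc, ← h.card_cPart, ← Fintype.card_subtype, Nat.card_eq_fintype_card]
    rw [← hA, h5, Finset.card_univ, ← Nat.card_eq_fintype_card, h.card_fitS, ← hc] at h4
    have h6 := congrArg (fun k : ℕ => (k : ℝ)) h4
    push_cast at h6
    linarith
  have hpq : (1 : ℝ) < (p : ℝ) ^ q :=
    one_lt_pow₀ (by exact_mod_cast h.p_prime.one_lt) h.q_prime.ne_zero
  have hpos : 0 < (A.card : ℝ) := by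
    rw [hAcard]
    exact mul_pos (by rw [hc]; exact_mod_cast Nat.card_pos) (by linarith)
  have hcs : ‖∑ f ∈ A, fv f‖ ^ 2 ≤ (A.card : ℝ) * ∑ f ∈ A, ‖fv f‖ ^ 2 :=
    (pow_le_pow_left₀ (norm_nonneg _) (norm_sum_le _ _) 2).trans sq_sum_le_card_mul_sum_sq
  rw [← hAcard]
  refine le_of_mul_le_mul_left ?_ hpos
  refine le_trans ?_ hcs
  rw [hAsum, norm_mul, mul_pow]
  have h7 : ‖(c : ℂ) * ((p : ℂ) ^ q - 1)‖ = (A.card : ℝ) := by
    rw [show (c : ℂ) * ((p : ℂ) ^ q - 1) = (((A.card : ℝ)) : ℂ) by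
      rw [hAcard]; push_cast; ring, Complex.norm_real, Real.norm_eq_abs, abs_of_pos hpos]
  have h8 : (1 : ℝ) ≤ ‖(m : ℂ)‖ ^ 2 := by
    rw [Complex.norm_intCast, sq_abs]
    exact_mod_cast one_le_sq_int hm0
  rw [h7]
  calc (A.card : ℝ) * (A.card : ℝ) = (A.card : ℝ) ^ 2 * 1 := by ring
    _ ≤ _ := mul_le_mul_of_nonneg_left h8 (sq_nonneg _)

/-- Away from the conjugates of the support the columns coincide. -/
theorem off_indep {g : G} (hg : g ∉ conjSet (supp S W₁ W₂)) {φ ψ ψ' : ↥(W₁ ⊔ W₂) →* ℂˣ}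
    (hφ : IsLeft W₁ W₂ φ) (hψ : IsRight W₁ W₂ ψ) (hψ' : IsRight W₁ W₂ ψ') (hψ1 : ψ ≠ 1)
    (hψ'1 : ψ' ≠ 1) : χ (φ * ψ) g = χ (φ * ψ') g := by
  rcases eq_or_ne ψ ψ' with rfl | hne
  · rfl
  have e := congrFun (h.ind_sub hχ hφ hψ hψ' hψ1 hψ'1 hne) g
  rw [Pi.sub_apply, indFun_eq_zero_of_forall S fun x hx => ?_] at e
  · exact sub_eq_zero.1 e.symm
  · exact h.diff_supp hφ hψ hψ' ⟨_, hx⟩ fun hs => hg ⟨x, hs⟩

/-- Away from the conjugates of the support `η ψ` is an integer. -/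
theorem off_int {g : G} (hg : g ∉ conjSet (supp S W₁ W₂)) {ψ : ↥(W₁ ⊔ W₂) →* ℂˣ}
    (hψ : IsRight W₁ W₂ ψ) (hψ1 : ψ ≠ 1) : ∃ m : ℤ, χ ψ g = m := by
  have hW₁3 : 3 ≤ Nat.card W₁ := h.card_W₁ ▸ h.three_le_q
  have hW₂3 : 3 ≤ Nat.card W₂ := h.card_W₂ ▸ h.three_le_p
  have key : ∀ k : ℕ, k.Coprime (orderOf g) → ∀ θ : G → ℂ, Cfsg.IsCharacter G θ →
      ∀ a : ℤ, (a = 1 ∨ a = -1) → (∀ y, χ ψ y = a * θ y) → θ (g ^ k) = θ g := by
    intro k hk θ hθ a ha hθa
    obtain ⟨σ, hσ⟩ := exists_ringEquiv_root_pow (orderOf_pos g).ne' hk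
    set ψ' := (Units.map (σ : ℂ →* ℂ)).comp ψ with hψ'def
    have hψ'1 : ψ' ≠ 1 := fun e => hψ1 (MonoidHom.ext fun w => by
      have h' := congrArg (fun u : ℂˣ => (u : ℂ)) (DFunLike.congr_fun e w)
      simp only [hψ'def, MonoidHom.comp_apply, MonoidHom.one_apply, Units.val_one,
        Units.coe_map] at h'
      rw [MonoidHom.one_apply]
      exact Units.ext (σ.injective (by rw [Units.val_one, map_one]; exact h')))
    have e1 := congrFun (ringEquiv_comp h.data.selfNormalizing hχ hW₁3 hW₂3 σ ψ) g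
    have e2 := h.off_indep hχ hg (isLeft_one (W₁ := W₁) (W₂ := W₂)) hψ (hψ.comp _) hψ1 hψ'1
    rw [hom_one_mul, hom_one_mul] at e2
    rw [Function.comp_apply, ← e2, hθa, map_mul, map_intCast,
      ringEquiv_char_apply hσ hθ dvd_rfl] at e1
    rcases ha with rfl | rfl <;> simpa using e1
  rcases hχ.irr_or_neg ψ with hi | hi
  · exact exists_int_of_forall_coprime (isCharacter_of_isIrr hi) g fun k hk =>
      key k hk _ (isCharacter_of_isIrr hi) 1 (.inl rfl) fun y => by simp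
  · obtain ⟨m, hm⟩ := exists_int_of_forall_coprime (isCharacter_of_isIrr hi) g fun k hk =>
      key k hk _ (isCharacter_of_isIrr hi) (-1) (.inr rfl) fun y => by simp
    exact ⟨-m, by rw [Pi.neg_apply] at hm; push_cast; linear_combination -hm⟩

end Side

end CfsgLib.OddChar.Pair
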