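import Cfsg.Agent.Lib.OddChar.PairInduced

/-!
# The coefficients of the family `η` on `F(S)`

For the family `η` of `W = W₁ × W₂` and a linear character `l` of `F(S)` non-trivial on `S_F`,
`coef η ω l = ⟨η ω, l⟩`:
* `coef_left`: for `φ` trivial on `W₂` it does not depend on `l`;
* `coef_right`: for `φ ψ` it is a constant plus `±1` on the orbit of one `lamF ψ'`.
-/

set_option autoImplicit false
set_option linter.unusedSectionVars false

namespace CfsgLib.OddChar.Pair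

open CfsgLib.Char CfsgLib.CharNormal CfsgLib.OddChar.CTI
open scoped ComplexConjugate Classical

universe u

/-- The multiplicity of a linear character of `F(S)` in `η ω`. -/
noncomputable def coef {G : Type u} [Group G] {W₁ W₂ S : Subgroup G} [Fintype (fitS S)]
    (χ : (↥(W₁ ⊔ W₂) →* ℂˣ) → (G → ℂ)) (ω : ↥(W₁ ⊔ W₂) →* ℂˣ) (l : fitS S →* ℂˣ) : ℂ :=
  Cfsg.classInner (fun f : fitS S => χ ω ((f : S) : G)) (fun f => (l f : ℂ))

section Right

variable {G : Type u} [Group G] [Finite G] {W₁ W₂ : Subgroup G}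

theorem finite_right (hW : Cfsg.IsSelfNormalizingCyclic W₁ W₂) :
    {ψ : ↥(W₁ ⊔ W₂) →* ℂˣ | IsRight W₁ W₂ ψ}.Finite :=
  @Set.toFinite _ _ (@Subtype.finite _ (finite_chars hW) _)

/-- The characters trivial on `W₁`. -/
noncomputable def rightChars (hW : Cfsg.IsSelfNormalizingCyclic W₁ W₂) :
    Finset (↥(W₁ ⊔ W₂) →* ℂˣ) :=
  (finite_right hW).toFinset

theorem mem_rightChars (hW : Cfsg.IsSelfNormalizingCyclic W₁ W₂) {ψ : ↥(W₁ ⊔ W₂) →* ℂˣ} :
    ψ ∈ rightChars hW ↔ IsRight W₁ W₂ ψ :=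
  Set.Finite.mem_toFinset _

theorem card_rightChars (hW : Cfsg.IsSelfNormalizingCyclic W₁ W₂) :
    (rightChars hW).card = Nat.card W₂ := by
  obtain ⟨π₁, π₂, hp, hm1, hm2, h1, h2⟩ := exists_proj hW
  have hc : ∀ a b : W₂, a * b = b * a := fun a b => by
    have := congrArg Subtype.val (commute_of_mem hW ⟨a, Subgroup.mem_sup_right a.2⟩
      ⟨b, Subgroup.mem_sup_right b.2⟩)
    exact Subtype.ext this
  let f : ↥(W₁ ⊔ W₂) →* W₂ := MonoidHom.mk' (fun w => ⟨π₂ w, hm2 w⟩) fun v w =>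
    Subtype.ext (by show (π₂ (v * w) : G) = (π₂ v : G) * (π₂ w : G); rw [map_mul]; rfl)
  rw [← Nat.card_eq_finsetCard, ← card_hom hc]
  exact Nat.card_congr
    { toFun := fun ψ => ψ.1.comp (Subgroup.inclusion le_sup_right)
      invFun := fun α => ⟨α.comp f, (mem_rightChars hW).2 fun w hw => by
        rw [MonoidHom.comp_apply, show f w = 1 from Subtype.ext (by
          show (π₂ w : G) = _
          rw [(h1 w hw).2]; rfl), map_one]⟩
      left_inv := fun ψ => Subtype.ext (MonoidHom.ext fun w => by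
        show ψ.1 (π₂ w) = ψ.1 w
        conv_rhs => rw [← hp w, map_mul, (mem_rightChars hW).1 ψ.2 _ (hm1 w), one_mul])
      right_inv := fun α => MonoidHom.ext fun a => by
        show α (f _) = α a
        congr 1
        have e := congrArg (fun z : ↥(W₁ ⊔ W₂) => (z : G))
          (h2 (Subgroup.inclusion le_sup_right a) a.2).2
        exact Subtype.ext e }

theorem hom_inv_ne_one {ω : ↥(W₁ ⊔ W₂) →* ℂˣ} (hω : ω ≠ 1) : ω⁻¹ ≠ 1 := fun e =>
  hω (MonoidHom.ext fun w => by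
    have := DFunLike.congr_fun e w
    rw [MonoidHom.inv_apply, MonoidHom.one_apply, inv_eq_one] at this
    exact this)

theorem inv_ne_self {ω : ↥(W₁ ⊔ W₂) →* ℂˣ} (hodd : Odd (Nat.card ↥(W₁ ⊔ W₂))) (hω : ω ≠ 1) :
    ω⁻¹ ≠ ω := fun e => hω (MonoidHom.ext fun w => by
  have h1 : ω w ^ 2 = 1 := by
    rw [sq]
    nth_rewrite 1 [← e]
    rw [MonoidHom.inv_apply, inv_mul_cancel]
  have h2 : ω w ^ Nat.card ↥(W₁ ⊔ W₂) = 1 := by rw [← map_pow, pow_card_eq_one', map_one]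
  rw [MonoidHom.one_apply, ← orderOf_eq_one_iff]
  exact Nat.eq_one_of_dvd_coprimes (Nat.coprime_two_left.2 hodd) (orderOf_dvd_of_pow_eq_one h1)
    (orderOf_dvd_of_pow_eq_one h2))

end Right

/-- The shape of the coefficients of one difference. -/
theorem rows_eq_zero {p q : ℕ} (hp : 5 ≤ p) (hq : 3 ≤ q) {ι : Type*} [DecidableEq ι]
    (A : Finset ι) (hA : A.card = q) (i₀ : ι) (hi₀ : i₀ ∈ A) (s : ι → ℤ) (t N : ℤ)
    (hs0 : s i₀ = 0) (hN : 2 * N ≤ 2 * (q : ℤ) + (p - 1))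
    (hsum : ∑ i ∈ A, (s i ^ 2 + ((p - 2 : ℤ) * (s i + t) ^ 2 + (s i + t - 1) ^ 2)) ≤ N) :
    t = 0 ∧ ∀ i ∈ A, s i = 0 := by
  set f : ι → ℤ := fun i => s i ^ 2 + ((p - 2 : ℤ) * (s i + t) ^ 2 + (s i + t - 1) ^ 2) with hf
  have hp' : (5 : ℤ) ≤ p := by exact_mod_cast hp
  have hq' : (3 : ℤ) ≤ q := by exact_mod_cast hq
  have hy : ∀ y : ℤ, y ≠ 0 → (p - 2 : ℤ) ≤ (p - 2 : ℤ) * y ^ 2 + (y - 1) ^ 2 := fun y hy => by
    nlinarith [one_le_sq_int hy, sq_nonneg (y - 1)]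
  have h1 : ∀ i, 1 ≤ f i := fun i => by
    rcases eq_or_ne (s i + t) 0 with e | e
    · simp only [hf, e]; nlinarith [sq_nonneg (s i)]
    · simp only [hf]; nlinarith [hy _ e, sq_nonneg (s i)]
  have h2 : ∀ i, s i ≠ 0 ∨ s i + t ≠ 0 → 2 ≤ f i := fun i hi => by
    rcases eq_or_ne (s i + t) 0 with e | e
    · simp only [hf, e]; nlinarith [one_le_sq_int (hi.resolve_right (fun h => h e))]
    · simp only [hf]; nlinarith [hy _ e, sq_nonneg (s i)]
  have ht : t = 0 := by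
    by_contra ht
    have h3 : ∀ i ∈ A.erase i₀, 2 ≤ f i := fun i _ => h2 i (by
      by_contra hh; push Not at hh; exact ht (by linarith [hh.1, hh.2]))
    have h4 := Finset.card_nsmul_le_sum (A.erase i₀) f 2 h3
    rw [Finset.card_erase_of_mem hi₀, hA, nsmul_eq_mul] at h4
    have h5 : (p - 2 : ℤ) ≤ f i₀ := by
      simp only [hf, hs0, zero_add]; nlinarith [hy t ht]
    have h6 : f i₀ + ∑ i ∈ A.erase i₀, f i = ∑ i ∈ A, f i := Finset.add_sum_erase A f hi₀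
    rw [Nat.cast_sub (by omega : 1 ≤ q)] at h4
    push_cast at h4
    linarith [h6, h4, h5, hsum]
  refine ⟨ht, fun i hi => ?_⟩
  by_contra hsi
  have h4 := Finset.card_nsmul_le_sum (A.erase i) f 1 fun j _ => h1 j
  rw [Finset.card_erase_of_mem hi, hA, nsmul_eq_mul, Nat.cast_sub (by omega : 1 ≤ q)] at h4
  push_cast at h4
  have h5 : (p - 1 : ℤ) ≤ f i := by
    have := hy _ (show s i + t ≠ 0 by rw [ht, add_zero]; exact hsi)
    simp only [hf]
    nlinarith [one_le_sq_int hsi]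
  have h6 : f i + ∑ j ∈ A.erase i, f j = ∑ j ∈ A, f j := Finset.add_sum_erase A f hi
  linarith [h6, h4, h5, hsum]

namespace Side

variable {G : Type u} [Group G] [Fintype G] {S W₁ U W₂ : Subgroup G} {q p : ℕ}
  {χ : (↥(W₁ ⊔ W₂) →* ℂˣ) → (G → ℂ)}
variable (h : Side S W₁ U W₂ q p) (hχ : Cfsg.IsCyclicTIFamily W₁ W₂ χ)
variable [Fintype S] [Fintype (fitS S)]
include h hχ

theorem coef_eq (ω : ↥(W₁ ⊔ W₂) →* ℂˣ) (l : fitS S →* ℂˣ) :
    coef χ ω l = Cfsg.classInner (χ ω) (Cfsg.indFun S (theta l)) := by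
  have hc := isClassFun h.data.selfNormalizing hχ ω
  have hcS : Cfsg.IsClassFunction S (fun s : S => χ ω s) := fun g c => hc (g : G) (c : G)
  rw [frobenius_reciprocity' _ _ hc, theta, frobenius_reciprocity' _ _ hcS]
  rfl

theorem coef_int (ω : ↥(W₁ ⊔ W₂) →* ℂˣ) (l : fitS S →* ℂˣ) : ∃ n : ℤ, coef χ ω l = n :=
  classInner_gen_int
    (isGen_comp (isGen_res S (isGen h.data.selfNormalizing hχ ω)) (fitS S).subtype)
    (isGen_of_irr (isIrrCharacter_units_hom l))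

/-- The integer value of `coef`. -/
noncomputable def nco (ω : ↥(W₁ ⊔ W₂) →* ℂˣ) (l : fitS S →* ℂˣ) : ℤ :=
  Classical.choose (h.coef_int hχ ω l)

theorem nco_spec (ω : ↥(W₁ ⊔ W₂) →* ℂˣ) (l : fitS S →* ℂˣ) : coef χ ω l = h.nco hχ ω l :=
  Classical.choose_spec (h.coef_int hχ ω l)

theorem inner_ind_theta (ω : ↥(W₁ ⊔ W₂) →* ℂˣ) (l : fitS S →* ℂˣ) :
    Cfsg.classInner (Cfsg.indFun S (theta l)) (χ ω) = h.nco hχ ω l := by
  rw [← classInner_conj_symm, ← h.coef_eq hχ, h.nco_spec hχ, map_intCast]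

theorem nco_rel (ω : ↥(W₁ ⊔ W₂) →* ℂˣ) {l m : fitS S →* ℂˣ} (r : h.Rel l m) :
    h.nco hχ ω m = h.nco hχ ω l := by
  have := h.inner_ind_theta hχ ω m
  rw [h.theta_rel r, h.inner_ind_theta hχ ω l] at this
  exact_mod_cast this.symm

theorem nco_one {l : fitS S →* ℂˣ} (hl : NonTrivP S l) : h.nco hχ 1 l = 0 := by
  have h1 := h.nco_spec hχ 1 l
  rw [coef, hχ.map_one] at h1
  have h2 := CTI.classInner_lin (W := fitS S) 1 l
  rw [if_neg (Ne.symm (h.nonTriv_ne_one hl))] at h2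
  have h3 : ((0 : ℤ) : ℂ) = h.nco hχ 1 l := by
    rw [← h1, Int.cast_zero, ← h2]
    rfl
  exact_mod_cast h3.symm

theorem nco_inv (ω : ↥(W₁ ⊔ W₂) →* ℂˣ) (l : fitS S →* ℂˣ) :
    h.nco hχ ω⁻¹ l⁻¹ = h.nco hχ ω l := by
  have hu : ∀ {W : Type u} [Group W] [Finite W] (v : W →* ℂˣ) (w : W),
      conj (v w : ℂ) = ((v⁻¹ w : ℂˣ) : ℂ) := by
    intro W _ _ v w
    rw [MonoidHom.inv_apply, Units.val_inv_eq_inv_val,
      Complex.inv_eq_conj (norm_eq_one_of_pow_eq_one' (orderOf_pos w).ne' (by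
        rw [← Units.val_pow_eq_pow_val, ← map_pow, pow_orderOf_eq_one, map_one, Units.val_one]))]
  have hconj := ringEquiv_comp h.data.selfNormalizing hχ (h.card_W₁ ▸ h.three_le_q)
    (h.card_W₂ ▸ h.three_le_p) (starRingAut (R := ℂ)) ω
  have he : (Units.map ((starRingAut (R := ℂ) : ℂ ≃+* ℂ) : ℂ →* ℂ)).comp ω = ω⁻¹ :=
    MonoidHom.ext fun w => Units.ext (hu ω w)
  rw [he] at hconj
  have h1 : coef χ ω⁻¹ l⁻¹ = conj (coef χ ω l) := by
    rw [coef, coef, classInner_def, classInner_def, map_mul, map_inv₀, map_natCast, map_sum]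
    congr 1
    refine Finset.sum_congr rfl fun f _ => ?_
    rw [map_mul, ← hconj, Function.comp_apply, ← hu l f]
    rfl
  rw [h.nco_spec hχ, h.nco_spec hχ, map_intCast] at h1
  exact_mod_cast h1

/-- The first relation between the coefficients on the orbits of the `lamF`. -/
theorem nco_lamF (ω : ↥(W₁ ⊔ W₂) →* ℂˣ) {j k : ↥(W₁ ⊔ W₂) →* ℂˣ} (hj : IsRight W₁ W₂ j)
    (hk : IsRight W₁ W₂ k) (hj1 : j ≠ 1) (hk1 : k ≠ 1) {a : ↥(W₁ ⊔ W₂) →* ℂˣ}
    {b : ↥(W₁ ⊔ W₂) →* ℂˣ} (ha : IsLeft W₁ W₂ a) (hb : IsRight W₁ W₂ b) (hω : ω = a * b):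
    h.nco hχ ω (h.lamF k) - h.nco hχ ω (h.lamF j) =
      (if b = k then 1 else 0) - (if b = j then 1 else 0) := by
  classical
  rcases eq_or_ne k j with rfl | hkj
  · simp
  subst hω
  set hW := h.data.selfNormalizing
  have hsum : ∀ t, IsRight W₁ W₂ t →
      theta (h.lamF t) = ∑ φ ∈ leftChars hW, h.mu (φ * t) := fun t ht => (h.sum_mu t ht).symm
  have e1 : Cfsg.indFun S (theta (h.lamF k)) - Cfsg.indFun S (theta (h.lamF j)) =
      ∑ φ ∈ leftChars hW, (χ (φ * k) - χ (φ * j)) := by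
    rw [hsum k hk, hsum j hj, ← indFun_sub, ← Finset.sum_sub_distrib, indFun_sum]
    exact Finset.sum_congr rfl fun φ hφ =>
      h.ind_sub hχ ((mem_leftChars hW).1 hφ) hk hj hk1 hj1 hkj
  have e2 := congrArg (fun F => Cfsg.classInner F (χ (a * b))) e1
  simp only [classInner_sub_left, classInner_sum_left, h.inner_ind_theta hχ] at e2
  have e3 : ∀ t, IsRight W₁ W₂ t → ∑ φ ∈ leftChars hW,
      Cfsg.classInner (χ (φ * t)) (χ (a * b)) = if b = t then 1 else 0 := by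
    intro t ht
    simp only [hχ.orthonormal]
    rcases eq_or_ne b t with rfl | hne
    · rw [if_pos rfl, Finset.sum_eq_single a]
      · rw [if_pos rfl]
      · exact fun φ _ hne => if_neg fun e => hne (mul_right_cancel e)
      · exact fun hn => absurd ((mem_leftChars hW).2 ha) hn
    · rw [if_neg hne]
      exact Finset.sum_eq_zero fun φ hφ => if_neg fun e =>
        hne (pair_ext ((mem_leftChars hW).1 hφ) ha ht hb e).2.symm
  rw [Finset.sum_sub_distrib, e3 k hk, e3 j hj] at e2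
  have : ((h.nco hχ (a * b) (h.lamF k) - h.nco hχ (a * b) (h.lamF j) : ℤ) : ℂ) =
      (((if b = k then 1 else 0) - (if b = j then 1 else 0) : ℤ) : ℂ) := by
    rw [Int.cast_sub, e2]
    push_cast
    rfl
  exact_mod_cast this

theorem inner_mu_theta {φ ψ t : ↥(W₁ ⊔ W₂) →* ℂˣ} (hφ : IsLeft W₁ W₂ φ) (hψ : IsRight W₁ W₂ ψ)
    (hψ1 : ψ ≠ 1) (ht : IsRight W₁ W₂ t) (ht1 : t ≠ 1) :
    Cfsg.classInner (h.mu (φ * ψ)) (theta (h.lamF t)) = if ψ = t then 1 else 0 := by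
  classical
  set hW := h.data.selfNormalizing
  rw [show theta (h.lamF t) = ∑ c ∈ leftChars hW, h.mu (c * t) from (h.sum_mu t ht).symm,
    classInner_sum_right]
  rcases eq_or_ne ψ t with rfl | hne
  · rw [if_pos rfl, Finset.sum_eq_single φ]
    · exact classInner_irr_self (h.mu_irr hφ hψ hψ1)
    · exact fun c hc hne => classInner_irr_ne (h.mu_irr hφ hψ hψ1)
        (h.mu_irr ((mem_leftChars hW).1 hc) hψ hψ1)
        (h.mu_ne hφ ((mem_leftChars hW).1 hc) hψ hψ fun e => hne (mul_right_cancel e).symm)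
    · exact fun hn => absurd ((mem_leftChars hW).2 hφ) hn
  · rw [if_neg hne]
    exact Finset.sum_eq_zero fun c hc => classInner_irr_ne (h.mu_irr hφ hψ hψ1)
      (h.mu_irr ((mem_leftChars hW).1 hc) ht ht1)
      (h.mu_ne hφ ((mem_leftChars hW).1 hc) hψ ht fun e =>
        hne (pair_ext hφ ((mem_leftChars hW).1 hc) hψ ht e).2)

omit hχ in
theorem inner_mu_theta_other {φ ψ : ↥(W₁ ⊔ W₂) →* ℂˣ} (hφ : IsLeft W₁ W₂ φ)
    (hψ : IsRight W₁ W₂ ψ) {l : fitS S →* ℂˣ} (hr : ¬ h.Rel (h.lamF ψ) l) :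
    Cfsg.classInner (h.mu (φ * ψ)) (theta l) = 0 := by
  classical
  set hW := h.data.selfNormalizing
  have h0 : Cfsg.classInner (theta (h.lamF ψ)) (theta l) = 0 :=
    h.inner_theta_eq_zero fun r => hr (h.rel_symm r)
  rw [show theta (h.lamF ψ) = ∑ c ∈ leftChars hW, h.mu (c * ψ) from (h.sum_mu ψ hψ).symm,
    classInner_sum_left] at h0
  choose m hm using fun c => classInner_char_nat (h.mu_isCharacter (c * ψ)) (h.theta_char l)
  simp only [hm] at h0
  norm_cast at h0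
  rw [Finset.sum_eq_zero_iff] at h0
  rw [hm, h0 φ ((mem_leftChars hW).2 hφ), Nat.cast_zero]

omit hχ in
theorem theta_sub_supp (l m : fitS S →* ℂˣ) (s : S) (hs : (s : G) ∉ supp S W₁ W₂) :
    (theta l - theta m) s = 0 := by
  rw [Pi.sub_apply]
  by_cases hF : s ∈ fitS S
  · have : s = 1 := by
      by_contra hne
      exact hs (.inl ⟨hF, fun e => hne (Subtype.ext e)⟩)
    rw [this, h.theta_one, h.theta_one, sub_self]
  · rw [h.theta_eq_zero _ hF, h.theta_eq_zero _ hF, sub_self]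

omit hχ in
theorem ind_theta_sub_hat (l m : fitS S →* ℂˣ) {z : G} (hz : z ∈ hat W₁ W₂) :
    Cfsg.indFun S (theta l - theta m) z = 0 := by
  have hti : ∀ g : G, g ∉ S → ∀ t ∈ supp S W₁ W₂, g * t * g⁻¹ ∈ supp S W₁ W₂ → t = 1 :=
    fun g hg t ht hgt => absurd (h.supp_ti ht hgt) hg
  have hzS : z ∈ S := h.W_le hz.1
  have hz1 : (⟨z, hzS⟩ : S) ≠ 1 := fun e => hz.2.1 (by
    rw [show z = 1 from congrArg Subtype.val e]; exact one_mem _)
  rw [show Cfsg.indFun S (theta l - theta m) z = (theta l - theta m) ⟨z, hzS⟩ from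
    indFun_eq_of_TI S _ hti (isClassFunction_sub (h.theta_classFun l) (h.theta_classFun m))
      (h.theta_sub_supp l m) (t := ⟨z, hzS⟩) (h.hat_supp hz) hz1, Pi.sub_apply]
  have hF : (⟨z, hzS⟩ : S) ∉ fitS S := h.not_mem_fitting hz.1 hz.2.2
  rw [h.theta_eq_zero _ hF, h.theta_eq_zero _ hF, sub_self]

omit hχ in
theorem inner_ind_sub_ind_sub (D : S → ℂ) (hD : Cfsg.IsClassFunction S D)
    (hD0 : ∀ s : S, (s : G) ∉ supp S W₁ W₂ → D s = 0) (E : S → ℂ) (hE : Cfsg.IsClassFunction S E)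
    (hE0 : ∀ s : S, (s : G) ∉ supp S W₁ W₂ → E s = 0) :
    Cfsg.classInner (Cfsg.indFun S D) (Cfsg.indFun S E) = Cfsg.classInner D E :=
  classInner_indFun_of_TI S _ (fun _ hg _ ht hgt => absurd (h.supp_ti ht hgt) hg) hE hD0 hE0
    (hD0 1 h.supp_one)

/-- A character not in the orbit of any `lamF ψ`. -/
def Other (l : fitS S →* ℂˣ) : Prop :=
  NonTrivP S l ∧ ∀ ψ, IsRight W₁ W₂ ψ → ψ ≠ 1 → ¬ h.Rel (h.lamF ψ) l

omit hχ in
theorem other_inv {l : fitS S →* ℂˣ} (hl : h.Other l) : h.Other l⁻¹ := by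
  obtain ⟨⟨f, hf, hne⟩, h2⟩ := hl
  refine ⟨⟨f, hf, fun e => hne (by rwa [MonoidHom.inv_apply, inv_eq_one] at e)⟩,
    fun ψ hψ hψ1 r => h2 ψ⁻¹ hψ.inv (hom_inv_ne_one hψ1) ?_⟩
  have := h.rel_inv r
  rwa [show l⁻¹⁻¹ = l from MonoidHom.ext fun f => inv_inv (l f), ← h.lamF_inv] at this

variable {j : ↥(W₁ ⊔ W₂) →* ℂˣ} (hj : IsRight W₁ W₂ j) (hj1 : j ≠ 1)
include hj hj1

/-- `a ω = ⟨η ω, l⟩ - ⟨η ω, lamF j⟩`. -/
theorem shape {l : fitS S →* ℂˣ} (hl : h.Other l) {φ ψ : ↥(W₁ ⊔ W₂) →* ℂˣ} (hφ : IsLeft W₁ W₂ φ)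
    (hψ : IsRight W₁ W₂ ψ) (hψ1 : ψ ≠ 1) {ψ' : ↥(W₁ ⊔ W₂) →* ℂˣ} (hψ' : IsRight W₁ W₂ ψ')
    (hψ'1 : ψ' ≠ 1) :
    (h.nco hχ (φ * ψ) l - h.nco hχ (φ * ψ) (h.lamF j) =
      (h.nco hχ φ l - h.nco hχ φ (h.lamF j)) + (h.nco hχ ψ l - h.nco hχ ψ (h.lamF j))) ∧
    (h.nco hχ ψ l - h.nco hχ ψ (h.lamF j)) + (if ψ = j then 1 else 0) =
      (h.nco hχ ψ' l - h.nco hχ ψ' (h.lamF j)) + (if ψ' = j then 1 else 0) := by
  classical
  set hW := h.data.selfNormalizing
  set Z := Cfsg.indFun S (theta l - theta (h.lamF j)) with hZ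
  have hZi : ∀ ω, Cfsg.classInner Z (χ ω) =
      ((h.nco hχ ω l - h.nco hχ ω (h.lamF j) : ℤ) : ℂ) := fun ω => by
    rw [hZ, indFun_sub, classInner_sub_left, h.inner_ind_theta hχ, h.inner_ind_theta hχ]
    push_cast
    rfl
  constructor
  · have := coeff_eq hW hχ (isClassFunction_indFun S _ : Cfsg.IsClassFunction G Z)
      (fun z hz => h.ind_theta_sub_hat l _ hz) hφ hψ
    rw [hZi, hZi, hZi, hZi, h.nco_one hχ hl.1, h.nco_one hχ (h.lamF_nonTriv hj hj1), sub_self,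
      Int.cast_zero, sub_zero] at this
    exact_mod_cast this
  · rcases eq_or_ne ψ ψ' with rfl | hne
    · rfl
    have e1 := h.ind_sub hχ (isLeft_one (W₁ := W₁) (W₂ := W₂)) hψ hψ' hψ1 hψ'1 hne
    simp only [hom_one_mul] at e1
    have e2 : Cfsg.classInner Z (χ ψ - χ ψ') =
        Cfsg.classInner (theta l - theta (h.lamF j)) (h.mu ψ - h.mu ψ') := by
      rw [← e1, hZ]
      refine h.inner_ind_sub_ind_sub _
        (isClassFunction_sub (h.theta_classFun _) (h.theta_classFun _)) (h.theta_sub_supp _ _) _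
        (isClassFunction_sub (h.mu_classFun _) (h.mu_classFun _)) fun s hs => ?_
      have := h.diff_supp (isLeft_one (W₁ := W₁) (W₂ := W₂)) hψ hψ' s hs
      simpa only [hom_one_mul] using this
    have m1 : ∀ t, IsRight W₁ W₂ t → t ≠ 1 →
        Cfsg.classInner (theta l) (h.mu t) = 0 := fun t ht ht1 => by
      have := h.inner_mu_theta_other (isLeft_one (W₁ := W₁) (W₂ := W₂)) ht (hl.2 t ht ht1)
      rw [hom_one_mul] at this
      rw [← classInner_conj_symm, this, map_zero]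
    have m2 : ∀ t, IsRight W₁ W₂ t → t ≠ 1 →
        Cfsg.classInner (theta (h.lamF j)) (h.mu t) = if t = j then 1 else 0 := fun t ht ht1 => by
      have := h.inner_mu_theta hχ (isLeft_one (W₁ := W₁) (W₂ := W₂)) ht ht1 hj hj1
      rw [hom_one_mul] at this
      rw [← classInner_conj_symm, this]
      split_ifs <;> simp
    rw [classInner_sub_right, hZi, hZi, classInner_sub_left, classInner_sub_right,
      classInner_sub_right, m1 ψ hψ hψ1, m1 ψ' hψ' hψ'1, m2 ψ hψ hψ1, m2 ψ' hψ' hψ'1] at e2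
    have e3 : ((h.nco hχ ψ l - h.nco hχ ψ (h.lamF j) + (if ψ = j then 1 else 0) : ℤ) : ℂ) =
        ((h.nco hχ ψ' l - h.nco hχ ψ' (h.lamF j) + (if ψ' = j then 1 else 0) : ℤ) : ℂ) := by
      push_cast at e2 ⊢
      linear_combination e2
    exact_mod_cast e3

/-- The sum of the squares of the coefficients. -/
theorem sum_sq_le' {l : fitS S →* ℂˣ} (hl : h.Other l)
    (c : (↥(W₁ ⊔ W₂) →* ℂˣ) → ℤ)
    (hc : ∀ ω, c ω = h.nco hχ ω l - h.nco hχ ω (h.lamF j)) :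
    2 * (∑ φ ∈ leftChars h.data.selfNormalizing,
      ∑ ψ ∈ rightChars h.data.selfNormalizing, c (φ * ψ) ^ 2) ≤
      2 * (q : ℤ) + (Max.max 2 (p - 1) : ℕ) := by
  set hW := h.data.selfNormalizing
  set Z := Cfsg.indFun S (theta l - theta (h.lamF j)) with hZ
  have hinj : Set.InjOn (fun x : (↥(W₁ ⊔ W₂) →* ℂˣ) × (↥(W₁ ⊔ W₂) →* ℂˣ) => x.1 * x.2)
      ((leftChars hW ×ˢ rightChars hW : Finset _) : Set _) := by
    intro x hx y hy e
    simp only [Finset.coe_product, Set.mem_prod, Finset.mem_coe, mem_leftChars,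
      mem_rightChars] at hx hy
    exact Prod.ext_iff.2 (pair_ext hx.1 hy.1 hx.2 hy.2 e)
  have hb := Pair.sum_sq_le hW hχ (θ := Z)
    ((leftChars hW ×ˢ rightChars hW).image fun x => x.1 * x.2) c fun ω _ => by
      rw [hc, hZ, indFun_sub, classInner_sub_left, h.inner_ind_theta hχ, h.inner_ind_theta hχ]
      push_cast
      rfl
  rw [Finset.sum_image hinj, Finset.sum_product] at hb
  have hF0 : (Nat.card (fitS S) : ℝ) ≠ 0 := Nat.cast_ne_zero.2 Nat.card_pos.ne'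
  have hnorm : (Cfsg.classInner Z Z).re =
      (h.fixCount l l : ℝ) / (Nat.card (fitS S) : ℝ) + q := by
    rw [hZ, h.inner_ind_sub_ind_sub _
        (isClassFunction_sub (h.theta_classFun _) (h.theta_classFun _)) (h.theta_sub_supp _ _) _
        (isClassFunction_sub (h.theta_classFun _) (h.theta_classFun _)) (h.theta_sub_supp _ _),
      classInner_sub_left, classInner_sub_right, classInner_sub_right,
      h.inner_theta_eq_zero (l := l) (m := h.lamF j) (hl.2 j hj hj1),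
      h.inner_theta_eq_zero (l := h.lamF j) (m := l) (fun r => hl.2 j hj hj1 (h.rel_symm r)),
      h.inner_theta]
    have hq : Cfsg.classInner (theta (h.lamF j)) (theta (h.lamF j)) = (q : ℂ) := by
      rw [show theta (h.lamF j) = ∑ a ∈ leftChars hW, h.mu (a * j) from (h.sum_mu j hj).symm,
        classInner_sum_left, Finset.sum_congr rfl fun a ha => (by
          have := h.inner_mu_theta hχ ((mem_leftChars hW).1 ha) hj hj1 hj hj1
          rwa [if_pos rfl, show theta (h.lamF j) = ∑ a ∈ leftChars hW, h.mu (a * j) from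
            (h.sum_mu j hj).symm] at this :
          Cfsg.classInner (h.mu (a * j)) (∑ b ∈ leftChars hW, h.mu (b * j)) = 1),
        Finset.sum_const, card_leftChars hW, h.card_W₁, nsmul_eq_mul, mul_one]
    rw [hq]
    simp [Complex.div_natCast_re]
  rw [hnorm] at hb
  have hst : ((2 * h.fixCount l l : ℕ) : ℝ) ≤
      ((Max.max 2 (p - 1) * Nat.card (fitS S) : ℕ) : ℝ) := by
    exact_mod_cast h.card_stab_le hl.1 hl.2
  push_cast at hst
  have hdiv : 2 * ((h.fixCount l l : ℝ) / (Nat.card (fitS S) : ℝ)) ≤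
      ((Max.max 2 (p - 1) : ℕ) : ℝ) := by
    have hpos : (0 : ℝ) < Nat.card (fitS S) := Nat.cast_pos.2 Nat.card_pos
    rw [← mul_div_assoc, div_le_iff₀ hpos]
    push_cast
    exact hst
  have : ((2 * ∑ φ ∈ leftChars hW, ∑ ψ ∈ rightChars hW, c (φ * ψ) ^ 2 : ℤ) : ℝ) ≤
      ((2 * (q : ℤ) + ((Max.max 2 (p - 1) : ℕ) : ℤ) : ℤ) : ℝ) := by
    push_cast at hb hdiv ⊢
    linarith
  exact_mod_cast this

omit hj hj1 in
theorem exists_base : ∃ j, IsRight W₁ W₂ j ∧ j ≠ 1 := by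
  obtain ⟨ψ, hψ, hne, -⟩ := exists_right_ne h.data.selfNormalizing
    (h.card_W₂ ▸ h.three_le_p) 1 1
  exact ⟨ψ, hψ, hne⟩

/-- The coefficients of a single character. -/
theorem shape_sum {l : fitS S →* ℂˣ} (hl : h.Other l)
    {s : (↥(W₁ ⊔ W₂) →* ℂˣ) → ℤ} (hs : ∀ ω, s ω = h.nco hχ ω l - h.nco hχ ω (h.lamF j))
    {t : ℤ} (ht : t = s j + 1) :
    (∀ φ, IsLeft W₁ W₂ φ → ∀ ψ, IsRight W₁ W₂ ψ → ψ ≠ 1 →
      s (φ * ψ) = s φ + t - (if ψ = j then 1 else 0)) ∧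
    2 * ∑ φ ∈ leftChars h.data.selfNormalizing,
        (s φ ^ 2 + ((p - 2 : ℤ) * (s φ + t) ^ 2 + (s φ + t - 1) ^ 2)) ≤
      2 * (q : ℤ) + (Max.max 2 (p - 1) : ℕ) := by
  set hW := h.data.selfNormalizing
  have h1 : ∀ φ, IsLeft W₁ W₂ φ → ∀ ψ, IsRight W₁ W₂ ψ → ψ ≠ 1 →
      s (φ * ψ) = s φ + t - (if ψ = j then 1 else 0) := fun φ hφ ψ hψ hψ1 => by
    obtain ⟨a, b⟩ := h.shape hχ hj hj1 hl hφ hψ hψ1 hj hj1
    rw [← hs, ← hs, ← hs] at a
    rw [if_pos rfl, ← hs, ← hs, ← ht] at b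
    linarith
  refine ⟨h1, ?_⟩
  refine le_trans (le_of_eq ?_) (h.sum_sq_le' hχ hj hj1 hl s hs)
  congr 1
  refine Finset.sum_congr rfl fun φ hφ => ?_
  have hφ' := (mem_leftChars hW).1 hφ
  rw [← Finset.add_sum_erase _ _ ((mem_rightChars hW).2 isRight_one), hom_mul_one,
    ← Finset.add_sum_erase _ _ (Finset.mem_erase.2 ⟨hj1, (mem_rightChars hW).2 hj⟩),
    h1 φ hφ' j hj hj1, if_pos rfl,
    Finset.sum_congr rfl fun ψ hψ => (by
      obtain ⟨hne, hψ'⟩ := Finset.mem_erase.1 hψ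
      obtain ⟨hne1, hψR⟩ := Finset.mem_erase.1 hψ'
      rw [h1 φ hφ' ψ ((mem_rightChars hW).1 hψR) hne1, if_neg hne, sub_zero] :
      s (φ * ψ) ^ 2 = (s φ + t) ^ 2), Finset.sum_const,
    Finset.card_erase_of_mem (Finset.mem_erase.2 ⟨hj1, (mem_rightChars hW).2 hj⟩),
    Finset.card_erase_of_mem ((mem_rightChars hW).2 isRight_one), card_rightChars hW, h.card_W₂,
    nsmul_eq_mul, Nat.sub_sub, Nat.cast_sub (by have := h.three_le_p; omega : 1 + 1 ≤ p)]
  push_cast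
  ring

/-- The coefficients relative to `lamF j`. -/
theorem core : ∃ t : ℤ, (t = 0 ∨ (t = 1 ∧ p = 3)) ∧ ∀ l, h.Other l →
    (∀ φ, IsLeft W₁ W₂ φ → h.nco hχ φ l = h.nco hχ φ (h.lamF j)) ∧
    ∀ φ, IsLeft W₁ W₂ φ → ∀ ψ, IsRight W₁ W₂ ψ → ψ ≠ 1 →
      h.nco hχ (φ * ψ) l = h.nco hχ (φ * ψ) (h.lamF j) + t - (if ψ = j then 1 else 0) := by
  classical
  set hW := h.data.selfNormalizing
  set d : (fitS S →* ℂˣ) → (↥(W₁ ⊔ W₂) →* ℂˣ) → ℤ :=
    fun l ω => h.nco hχ ω l - h.nco hχ ω (h.lamF j) with hd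
  have hcard : (leftChars hW).card = q := by rw [card_leftChars hW, h.card_W₁]
  have h1L : (1 : ↥(W₁ ⊔ W₂) →* ℂˣ) ∈ leftChars hW := (mem_leftChars hW).2 isLeft_one
  have hd1 : ∀ l, h.Other l → d l 1 = 0 := fun l hl => by
    simp only [hd, h.nco_one hχ hl.1, h.nco_one hχ (h.lamF_nonTriv hj hj1), sub_self]
  rcases eq_or_ne p 3 with hp3 | hp3
  · by_cases hex : ∃ l, h.Other l
    swap
    · exact ⟨0, .inl rfl, fun l hl => absurd ⟨l, hl⟩ hex⟩
    obtain ⟨l₀, hl₀⟩ := hex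
    have hmax : (Max.max 2 (p - 1) : ℕ) = 2 := by omega
    have hb : ∀ l, h.Other l → ∑ φ ∈ leftChars hW,
        (d l φ ^ 2 + ((d l φ + (d l j + 1)) ^ 2 + (d l φ + (d l j + 1) - 1) ^ 2)) ≤ (q : ℤ) + 1 := by
      intro l hl
      have h2 := (h.shape_sum hχ hj hj1 hl (s := d l) (fun _ => rfl) rfl).2
      rw [hmax] at h2
      have e : ((p : ℤ) - 2) = 1 := by rw [hp3]; norm_num
      simp only [e, one_mul] at h2
      push_cast at h2
      linarith
    have hnn : ∀ y : ℤ, 1 ≤ y ^ 2 + (y - 1) ^ 2 := fun y => by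
      rcases eq_or_ne y 0 with rfl | hy
      · norm_num
      · nlinarith [one_le_sq_int hy, sq_nonneg (y - 1)]
    -- universality
    have huniv : ∀ l, h.Other l →
        d l j = d l₀ j ∧ ∀ φ ∈ leftChars hW, d l φ = d l₀ φ := by
      intro l hl
      set Z := Cfsg.indFun S (theta l - theta l₀) with hZ
      have hnorm : (Cfsg.classInner Z Z).re ≤ 2 := by
        rw [hZ, h.inner_ind_sub_ind_sub _
          (isClassFunction_sub (h.theta_classFun _) (h.theta_classFun _)) (h.theta_sub_supp _ _) _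
          (isClassFunction_sub (h.theta_classFun _) (h.theta_classFun _)) (h.theta_sub_supp _ _),
          classInner_sub_left, classInner_sub_right, classInner_sub_right]
        simp only [h.inner_theta]
        have hpos : (0 : ℝ) < Nat.card (fitS S) := Nat.cast_pos.2 Nat.card_pos
        have b1 : (h.fixCount l l : ℝ) / Nat.card (fitS S) ≤ 1 := by
          have := h.card_stab_le hl.1 hl.2
          rw [hmax] at this
          rw [div_le_one hpos]
          exact_mod_cast (by omega : h.fixCount l l ≤ Nat.card (fitS S))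
        have b2 : (h.fixCount l₀ l₀ : ℝ) / Nat.card (fitS S) ≤ 1 := by
          have := h.card_stab_le hl₀.1 hl₀.2
          rw [hmax] at this
          rw [div_le_one hpos]
          exact_mod_cast (by omega : h.fixCount l₀ l₀ ≤ Nat.card (fitS S))
        have b3 : (0 : ℝ) ≤ (h.fixCount l l₀ : ℝ) / Nat.card (fitS S) := by positivity
        have b4 : (0 : ℝ) ≤ (h.fixCount l₀ l : ℝ) / Nat.card (fitS S) := by positivity
        simp only [Complex.sub_re, Complex.div_natCast_re, Complex.natCast_re]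
        linarith
      have hco : ∀ ω, Cfsg.classInner Z (χ ω) = ((d l ω - d l₀ ω : ℤ) : ℂ) := fun ω => by
        rw [hZ, indFun_sub, classInner_sub_left, h.inner_ind_theta hχ, h.inner_ind_theta hχ, hd]
        push_cast
        ring
      have hinj : Set.InjOn (fun x : (↥(W₁ ⊔ W₂) →* ℂˣ) × (↥(W₁ ⊔ W₂) →* ℂˣ) => x.1 * x.2)
          ((leftChars hW ×ˢ rightChars hW : Finset _) : Set _) := by
        intro x hx y hy e
        simp only [Finset.coe_product, Set.mem_prod, Finset.mem_coe, mem_leftChars,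
          mem_rightChars] at hx hy
        exact Prod.ext_iff.2 (pair_ext hx.1 hy.1 hx.2 hy.2 e)
      have hbz := Pair.sum_sq_le hW hχ (θ := Z)
        ((leftChars hW ×ˢ rightChars hW).image fun x => x.1 * x.2) _ fun ω _ => hco ω
      rw [Finset.sum_image hinj, Finset.sum_product] at hbz
      have hbz' : ∑ φ ∈ leftChars hW,
          ∑ ψ ∈ rightChars hW, (d l (φ * ψ) - d l₀ (φ * ψ)) ^ 2 ≤ 2 := by
        exact_mod_cast hbz.trans hnorm
      set τ := d l j - d l₀ j with hτ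
      set σ : (↥(W₁ ⊔ W₂) →* ℂˣ) → ℤ := fun φ => d l φ - d l₀ φ with hσ
      have hrow : ∀ φ ∈ leftChars hW,
          ∑ ψ ∈ rightChars hW, (d l (φ * ψ) - d l₀ (φ * ψ)) ^ 2 =
            σ φ ^ 2 + 2 * (σ φ + τ) ^ 2 := by
        intro φ hφ
        have hφ' := (mem_leftChars hW).1 hφ
        obtain ⟨a1, -⟩ := h.shape_sum hχ hj hj1 hl (s := d l) (fun _ => rfl) rfl
        obtain ⟨a2, -⟩ := h.shape_sum hχ hj hj1 hl₀ (s := d l₀) (fun _ => rfl) rfl
        rw [← Finset.add_sum_erase _ _ ((mem_rightChars hW).2 isRight_one), hom_mul_one,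
          Finset.sum_congr rfl fun ψ hψ => (by
            obtain ⟨hne1, hψR⟩ := Finset.mem_erase.1 hψ
            rw [a1 φ hφ' ψ ((mem_rightChars hW).1 hψR) hne1,
              a2 φ hφ' ψ ((mem_rightChars hW).1 hψR) hne1, hσ, hτ]
            ring : (d l (φ * ψ) - d l₀ (φ * ψ)) ^ 2 = (σ φ + τ) ^ 2), Finset.sum_const,
          Finset.card_erase_of_mem ((mem_rightChars hW).2 isRight_one), card_rightChars hW,
          h.card_W₂, hp3, nsmul_eq_mul]
        push_cast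
        simp only [hσ]
      rw [Finset.sum_congr rfl hrow] at hbz'
      have hσ1 : σ 1 = 0 := by simp [hσ, hd1 l hl, hd1 l₀ hl₀]
      have hge : ∀ φ ∈ leftChars hW, (σ φ ≠ 0 ∨ τ ≠ 0) →
          1 ≤ σ φ ^ 2 + 2 * (σ φ + τ) ^ 2 := by
        intro φ _ hne
        rcases eq_or_ne (σ φ) 0 with e | e
        · rw [e]; nlinarith [one_le_sq_int (hne.resolve_left (fun g => g e))]
        · nlinarith [one_le_sq_int e, sq_nonneg (σ φ + τ)]
      have hτ0 : τ = 0 := by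
        by_contra hne
        have h3 := Finset.card_nsmul_le_sum (leftChars hW) _ (1 : ℤ)
          fun φ hφ => hge φ hφ (.inr hne)
        rw [hcard, nsmul_one] at h3
        have := h.three_le_q
        have : (q : ℤ) ≤ 2 := le_trans h3 hbz'
        omega
      refine ⟨by linarith, fun φ hφ => ?_⟩
      by_contra hne
      have hne' : σ φ ≠ 0 := sub_ne_zero.2 hne
      have h3 := Finset.single_le_sum (f := fun φ => σ φ ^ 2 + 2 * (σ φ + τ) ^ 2)
        (fun i _ => by positivity) hφ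
      rw [hτ0] at h3 hbz'
      have h4 := one_le_sq_int hne'
      simp only [add_zero] at h3 hbz'
      linarith
    -- symmetry under conjugation
    have hsym : ∀ φ ∈ leftChars hW, d l₀ φ⁻¹ = d l₀ φ := by
      intro φ hφ
      have hφ' := (mem_leftChars hW).1 hφ
      have e1 := (huniv l₀⁻¹ (h.other_inv hl₀)).2 φ⁻¹ ((mem_leftChars hW).2 hφ'.inv)
      simp only [hd] at e1 ⊢
      rw [h.nco_inv hχ] at e1
      have e2 := h.nco_lamF hχ φ⁻¹ hj.inv hj (hom_inv_ne_one hj1) hj1 hφ'.inv isRight_one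
        (hom_mul_one _).symm
      rw [h.lamF_inv, h.nco_inv hχ, if_neg hj1.symm, if_neg (Ne.symm (hom_inv_ne_one hj1))] at e2
      linarith
    have hs0 : ∀ φ ∈ leftChars hW, d l₀ φ = 0 := by
      intro φ hφ
      by_contra hne
      have hφ1 : φ ≠ 1 := fun e => hne (e ▸ hd1 l₀ hl₀)
      have hφi : φ⁻¹ ∈ leftChars hW := (mem_leftChars hW).2 ((mem_leftChars hW).1 hφ).inv
      have hne' : φ⁻¹ ≠ φ := inv_ne_self (h.odd_of_le _) hφ1
      set f : (↥(W₁ ⊔ W₂) →* ℂˣ) → ℤ := fun a =>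
        d l₀ a ^ 2 + ((d l₀ a + (d l₀ j + 1)) ^ 2 + (d l₀ a + (d l₀ j + 1) - 1) ^ 2) with hf
      have hsplit : f φ + (f φ⁻¹ + ∑ a ∈ ((leftChars hW).erase φ).erase φ⁻¹, f a) =
          ∑ a ∈ leftChars hW, f a := by
        rw [Finset.add_sum_erase _ f (Finset.mem_erase.2 ⟨hne', hφi⟩), Finset.add_sum_erase _ f hφ]
      have h3 := Finset.card_nsmul_le_sum (((leftChars hW).erase φ).erase φ⁻¹) f 1
        fun a _ => by simp only [hf]; linarith [hnn (d l₀ a + (d l₀ j + 1)), sq_nonneg (d l₀ a)]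
      rw [Finset.card_erase_of_mem (Finset.mem_erase.2 ⟨hne', hφi⟩), Finset.card_erase_of_mem hφ,
        hcard, Nat.sub_sub, nsmul_one, Nat.cast_sub (by have := h.three_le_q; omega)] at h3
      have h4 : 2 ≤ f φ := by
        simp only [hf]
        linarith [hnn (d l₀ φ + (d l₀ j + 1)), one_le_sq_int hne]
      have h5 : 2 ≤ f φ⁻¹ := by
        simp only [hf]
        linarith [hnn (d l₀ φ⁻¹ + (d l₀ j + 1)),
          one_le_sq_int (show d l₀ φ⁻¹ ≠ 0 by rw [hsym φ hφ]; exact hne)]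
      have h6 := hb l₀ hl₀
      push_cast at h3
      linarith
    set t := d l₀ j + 1 with ht
    have ht01 : t = 0 ∨ t = 1 := by
      have h6 := hb l₀ hl₀
      rw [Finset.sum_congr rfl fun φ hφ => (by
        rw [hs0 φ hφ]; ring :
        d l₀ φ ^ 2 + ((d l₀ φ + (d l₀ j + 1)) ^ 2 + (d l₀ φ + (d l₀ j + 1) - 1) ^ 2) =
          t ^ 2 + (t - 1) ^ 2), Finset.sum_const, hcard, nsmul_eq_mul] at h6
      by_contra hne
      push Not at hne
      have hq' : (3 : ℤ) ≤ q := by exact_mod_cast h.three_le_q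
      have : 5 ≤ t ^ 2 + (t - 1) ^ 2 := by
        rcases lt_or_gt_of_ne hne.1 with h0 | h0
        · nlinarith
        · have : 2 ≤ t := by omega
          nlinarith
      nlinarith
    refine ⟨t, ht01.imp_right fun e => ⟨e, hp3⟩, fun l hl => ⟨fun φ hφ => ?_, ?_⟩⟩
    · have := ((huniv l hl).2 φ ((mem_leftChars hW).2 hφ)).trans (hs0 φ ((mem_leftChars hW).2 hφ))
      simp only [hd] at this
      linarith
    · intro φ hφ ψ hψ hψ1
      have h1 := (h.shape_sum hχ hj hj1 hl (s := d l) (fun _ => rfl) rfl).1 φ hφ ψ hψ hψ1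
      rw [(huniv l hl).1, (huniv l hl).2 φ ((mem_leftChars hW).2 hφ),
        hs0 φ ((mem_leftChars hW).2 hφ), zero_add, ← ht] at h1
      simp only [hd] at h1
      split_ifs at h1 ⊢ <;> linarith
  · have hp5 : 5 ≤ p := by
      have h2 := h.three_le_p
      have h4 : p ≠ 4 := fun e => by
        have := h.p_prime
        rw [e] at this
        norm_num at this
      omega
    refine ⟨0, .inl rfl, fun l hl => ?_⟩
    obtain ⟨a, b⟩ := h.shape_sum hχ hj hj1 hl (s := d l) (fun _ => rfl) rfl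
    have hmax : ((Max.max 2 (p - 1) : ℕ) : ℤ) = (p : ℤ) - 1 := by omega
    rw [hmax] at b
    obtain ⟨e0, es⟩ := rows_eq_zero hp5 h.three_le_q (leftChars hW) hcard 1 h1L (d l) _ _
      (hd1 l hl) (by linarith) le_rfl
    refine ⟨fun φ hφ => ?_, ?_⟩
    · have := es φ ((mem_leftChars hW).2 hφ)
      simp only [hd] at this
      linarith
    · intro φ hφ ψ hψ hψ1
      have h1 := a φ hφ ψ hψ hψ1
      rw [es φ ((mem_leftChars hW).2 hφ), e0] at h1
      simp only [hd] at h1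
      split_ifs at h1 ⊢ <;> linarith

omit hj hj1

/-- For `φ` trivial on `W₂` the coefficients are constant. -/
theorem coef_left {φ : ↥(W₁ ⊔ W₂) →* ℂˣ} (hφ : IsLeft W₁ W₂ φ) :
    ∃ n : ℤ, ∀ l, NonTrivP S l → coef χ φ l = n := by
  classical
  obtain ⟨j, hj, hj1⟩ := h.exists_base hχ
  refine ⟨h.nco hχ φ (h.lamF j), fun l hl => ?_⟩
  rw [h.nco_spec hχ]
  congr 1
  by_cases hμ : ∃ ψ, IsRight W₁ W₂ ψ ∧ ψ ≠ 1 ∧ h.Rel (h.lamF ψ) l
  · obtain ⟨ψ, hψ, hψ1, r⟩ := hμ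
    rw [h.nco_rel hχ _ r]
    have := h.nco_lamF hχ φ hj hψ hj1 hψ1 hφ isRight_one (hom_mul_one _).symm
    rw [if_neg hψ1.symm, if_neg hj1.symm] at this
    linarith
  · push Not at hμ
    obtain ⟨t, -, ht⟩ := h.core hχ hj hj1
    exact (ht l ⟨hl, hμ⟩).1 φ hφ

omit hχ in
theorem right_eq_or_inv (hp3 : p = 3) {ψ k : ↥(W₁ ⊔ W₂) →* ℂˣ} (hψ : IsRight W₁ W₂ ψ)
    (hψ1 : ψ ≠ 1) (hk : IsRight W₁ W₂ k) (hk1 : k ≠ 1) : k = ψ ∨ k = ψ⁻¹ := by
  classical
  by_contra hne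
  push Not at hne
  have hψi : ψ⁻¹ ≠ ψ := inv_ne_self (h.odd_of_le _) hψ1
  have hsub : ({1, ψ, ψ⁻¹, k} : Finset (↥(W₁ ⊔ W₂) →* ℂˣ)) ⊆
      rightChars h.data.selfNormalizing := by
    intro a ha
    simp only [Finset.mem_insert, Finset.mem_singleton] at ha
    rw [mem_rightChars]
    rcases ha with rfl | rfl | rfl | rfl
    exacts [isRight_one, hψ, hψ.inv, hk]
  have h1 := Finset.card_le_card hsub
  rw [card_rightChars, h.card_W₂, hp3, Finset.card_insert_of_notMem (by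
      simp [Ne.symm hψ1, Ne.symm hk1, Ne.symm (hom_inv_ne_one hψ1)]),
    Finset.card_insert_of_notMem (by simp [hψi.symm, Ne.symm hne.1]),
    Finset.card_pair (Ne.symm hne.2)] at h1
  omega

/-- For `φ ψ` the coefficients are a constant plus `±1` on one orbit. -/
theorem coef_right {ψ : ↥(W₁ ⊔ W₂) →* ℂˣ} (hψ : IsRight W₁ W₂ ψ) (hψ1 : ψ ≠ 1) :
    ∃ ψ' : ↥(W₁ ⊔ W₂) →* ℂˣ, IsRight W₁ W₂ ψ' ∧ ψ' ≠ 1 ∧ ∃ ε : ℤ, (ε = 1 ∨ ε = -1) ∧
      ∀ φ, IsLeft W₁ W₂ φ → ∃ n : ℤ, ∀ l, NonTrivP S l →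
          coef χ (φ * ψ) l = ((n + if h.Rel (h.lamF ψ') l then ε else 0 : ℤ) : ℂ) := by
  classical
  obtain ⟨t, ht01, ht⟩ := h.core hχ hψ hψ1
  have hR : ∀ {k}, IsRight W₁ W₂ k → k ≠ 1 → ∀ {k'}, IsRight W₁ W₂ k' → k' ≠ 1 →
      h.Rel (h.lamF k) (h.lamF k') → k = k' := by
    intro k hk hk1 k' hk' hk'1 r
    by_contra hne
    have h1 := h.inner_mu_theta hχ (isLeft_one (W₁ := W₁) (W₂ := W₂)) hk hk1 hk hk1
    have h2 := h.inner_mu_theta hχ (isLeft_one (W₁ := W₁) (W₂ := W₂)) hk hk1 hk' hk'1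
    rw [if_pos rfl] at h1
    rw [if_neg hne, h.theta_rel r, h1] at h2
    exact one_ne_zero h2
  rcases ht01 with rfl | ⟨rfl, hp3⟩
  · refine ⟨ψ, hψ, hψ1, 1, .inl rfl, fun φ hφ =>
      ⟨h.nco hχ (φ * ψ) (h.lamF ψ) - 1, fun l hl => ?_⟩⟩
    rw [h.nco_spec hχ]
    congr 1
    by_cases hμ : ∃ k, IsRight W₁ W₂ k ∧ k ≠ 1 ∧ h.Rel (h.lamF k) l
    · obtain ⟨k, hk, hk1, r⟩ := hμ
      have e := h.nco_lamF hχ (φ * ψ) hψ hk hψ1 hk1 hφ hψ rfl
      rw [h.nco_rel hχ _ r]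
      rcases eq_or_ne ψ k with rfl | hne
      · rw [if_pos r]; ring
      · rw [if_pos rfl, if_neg hne] at e
        rw [if_neg fun r' => hne (hR hψ hψ1 hk hk1 (h.rel_trans r' (h.rel_symm r)))]
        linarith
    · push Not at hμ
      rw [if_neg (hμ ψ hψ hψ1), (ht l ⟨hl, hμ⟩).2 φ hφ ψ hψ hψ1, if_pos rfl]
      ring
  · refine ⟨ψ⁻¹, hψ.inv, hom_inv_ne_one hψ1, -1, .inr rfl, fun φ hφ =>
      ⟨h.nco hχ (φ * ψ) (h.lamF ψ), fun l hl => ?_⟩⟩
    rw [h.nco_spec hχ]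
    congr 1
    by_cases hμ : ∃ k, IsRight W₁ W₂ k ∧ k ≠ 1 ∧ h.Rel (h.lamF k) l
    · obtain ⟨k, hk, hk1, r⟩ := hμ
      have e := h.nco_lamF hχ (φ * ψ) hψ hk hψ1 hk1 hφ hψ rfl
      have hψi : ψ⁻¹ ≠ ψ := inv_ne_self (h.odd_of_le _) hψ1
      rw [h.nco_rel hχ _ r]
      rcases h.right_eq_or_inv hp3 hψ hψ1 hk hk1 with rfl | rfl
      · rw [if_neg fun r' => hψi (hR hψ.inv (hom_inv_ne_one hψ1) hψ hψ1
          (h.rel_trans r' (h.rel_symm r)))]
        ring
      · rw [if_pos rfl, if_neg hψi.symm] at e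
        rw [if_pos r]
        linarith
    · push Not at hμ
      rw [if_neg (hμ _ hψ.inv (hom_inv_ne_one hψ1)), (ht l ⟨hl, hμ⟩).2 φ hφ ψ hψ hψ1, if_pos rfl]
      ring

end Side

end CfsgLib.OddChar.Pair
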