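import Cfsg.Agent.Lib.OddChar.PairNorm
import Cfsg.Agent.S1545

/-!
# A maximal subgroup above `N(U)`

For a pair with `N(U) ≰ S` and a maximal subgroup `L ≥ N(U)`, with `H = L_F`:
* `Over.typeI`, `Over.frob`: `L` is of Type I and a Frobenius group with kernel `H`;
* `Over.not_dvd_p`, `Over.not_dvd_q`: `p` and `q` do not divide `|H|`;
* `Over.U_le`: `U ≤ H`; `Over.inf_S`: `S ∩ H = U`.
-/

set_option autoImplicit false
set_option linter.unusedSectionVars false

namespace CfsgLib.OddChar.Pair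

open CfsgLib.OddLocal (commute_of_coprime_orderOf)

universe u

variable {G : Type u} [Group G] [Finite G]

theorem mem_normalizer_of_map_le {X : Subgroup G} {a : G}
    (h : ∀ x ∈ X, a * x * a⁻¹ ∈ X) : a ∈ Subgroup.normalizer (X : Set G) := by
  have e : X.map (MulAut.conj a).toMonoidHom = X := by
    refine Subgroup.eq_of_le_of_card_ge ?_
      (Subgroup.card_map_of_injective (MulAut.conj a).injective).ge
    rintro _ ⟨x, hx, rfl⟩
    exact h x hx
  refine Subgroup.mem_normalizer_iff.2 fun x => ⟨h x, fun hx => ?_⟩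
  rw [← e] at hx
  obtain ⟨y, hy, hyx⟩ := hx
  have : a * y * a⁻¹ = a * x * a⁻¹ := hyx
  rwa [← mul_left_cancel (mul_right_cancel this)]

theorem orderOf_conjugate (g x : G) : orderOf (g * x * g⁻¹) = orderOf x :=
  orderOf_injective (MulAut.conj g).toMonoidHom (MulAut.conj g).injective x

namespace Side

variable {S W₁ U W₂ : Subgroup G} {q p : ℕ}
variable (h : Side S W₁ U W₂ q p)
include h

theorem relIndex_P : (Cfsg.fittingHallOf S).relIndex S = Nat.card U * q := by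
  have e := Subgroup.relIndex_mul_relIndex ⊥ (Cfsg.fittingHallOf S) S bot_le h.P_le
  rw [Subgroup.relIndex_bot_left, Subgroup.relIndex_bot_left, h.P_card, h.card_S, mul_assoc] at e
  exact Nat.eq_of_mul_eq_mul_left (pow_pos h.p_prime.pos q) e

theorem mem_P_of_orderOf {x : G} (hx : x ∈ S) (ho : orderOf x = p) :
    x ∈ Cfsg.fittingHallOf S := by
  refine TypeIProps.mem_fitting_of_coprime hx ?_
  rw [ho, h.relIndex_P]
  exact h.coprime_p_u.mul_right ((Nat.coprime_primes h.p_prime h.q_prime).2 h.q_ne_p.symm)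

theorem mem_derived_of_coprime {x : G} (hx : x ∈ S) (ho : (orderOf x).Coprime q) :
    x ∈ ⁅S, S⁆ := by
  have hn : (⁅S, S⁆.subgroupOf S).Normal := by
    refine ⟨fun n hn s => ?_⟩
    show (s : G) * n * (s : G)⁻¹ ∈ ⁅S, S⁆
    rw [show (s : G) * n * (s : G)⁻¹ = (s * n * (s : G)⁻¹ * (n : G)⁻¹) * n by group]
    exact mul_mem (Subgroup.commutator_mem_commutator s.2 n.2) hn
  have hidx : (⁅S, S⁆.subgroupOf S).index = q := by
    rw [← Subgroup.relIndex, (OddLocal.relIndex_of_isComplIn h.data.W₁_compl).2, h.card_W₁]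
  have h1 : orderOf ((⟨x, hx⟩ : S) : S ⧸ ⁅S, S⁆.subgroupOf S) ∣ q := by
    rw [← hidx, Subgroup.index_eq_card]; exact orderOf_dvd_natCard _
  have h2 : orderOf ((⟨x, hx⟩ : S) : S ⧸ ⁅S, S⁆.subgroupOf S) ∣ orderOf x := by
    rw [← Subgroup.orderOf_mk x hx]
    exact orderOf_map_dvd (QuotientGroup.mk' _) _
  exact (QuotientGroup.eq_one_iff (⟨x, hx⟩ : S)).1
    (orderOf_eq_one_iff.1 (Nat.eq_one_of_dvd_coprimes ho h2 h1))

theorem orderOf_U_coprime {x : G} (hx : x ∈ U) :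
    (orderOf x).Coprime q ∧ (orderOf x).Coprime p := by
  have hd := Subgroup.orderOf_dvd_natCard U hx
  exact ⟨Nat.Coprime.coprime_dvd_left hd h.coprime_q_u.symm,
    Nat.Coprime.coprime_dvd_left hd h.coprime_p_u.symm⟩

end Side

namespace PairData

variable {S T W₁ W₂ U V : Subgroup G} {q p : ℕ}
variable (h : PairData S T W₁ W₂ U V q p)
include h

theorem U_le_normalizer : U ≤ Subgroup.normalizer (U : Set G) := Subgroup.le_normalizer

theorem W₁_le_normalizer : W₁ ≤ Subgroup.normalizer (U : Set G) := fun _ hw =>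
  mem_normalizer_of_map_le fun _ hx => h.side_S.conj_mem_U hw hx

theorem exists_over (hnu : ¬ Subgroup.normalizer (U : Set G) ≤ S) :
    ∃ L : Subgroup G, IsCoatom L ∧ Subgroup.normalizer (U : Set G) ≤ L := by
  rcases eq_top_or_exists_le_coatom (Subgroup.normalizer (U : Set G)) with e | ⟨L, hL, hle⟩
  · exfalso
    haveI := h.side_S.minSimple.2.1
    rcases IsSimpleGroup.eq_bot_or_eq_top_of_normal U (Subgroup.normalizer_eq_top_iff.1 e)
      with e' | e'
    · exact h.side_S.U_ne e'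
    · exact h.side_S.max.1 (top_le_iff.1 (e' ▸ h.side_S.U_le))
  · exact ⟨L, hL, hle⟩

variable {L : Subgroup G} (hnu : ¬ Subgroup.normalizer (U : Set G) ≤ S)
  (hL : IsCoatom L) (hNU : Subgroup.normalizer (U : Set G) ≤ L)
include hnu hNU

theorem not_conj_S (g : G) : L ≠ S.map (MulAut.conj g).toMonoidHom := by
  intro e
  have hS := h.side_S
  set D := ⁅S, S⁆ with hD
  set U' := U.map (MulAut.conj g⁻¹).toMonoidHom with hU'
  have hU'D : U' ≤ D := by
    rintro _ ⟨x, hx, rfl⟩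
    have hxL : x ∈ S.map (MulAut.conj g).toMonoidHom :=
      e ▸ hNU (h.U_le_normalizer hx)
    obtain ⟨s, hs, rfl⟩ := hxL
    refine hS.mem_derived_of_coprime ?_ ?_
    · show g⁻¹ * (g * s * g⁻¹) * g⁻¹⁻¹ ∈ S
      convert (show s ∈ S from hs) using 1
      group
    · show (orderOf (g⁻¹ * (g * s * g⁻¹) * g⁻¹⁻¹)).Coprime q
      rw [orderOf_conjugate]
      exact (hS.orderOf_U_coprime hx).1
  haveI : Group.IsSolvable D :=
    hS.minSimple.2.2.2 D (fun h' => hS.max.1 (top_le_iff.1 (h' ▸ hS.derived_le)))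
  have hUi : (U.subgroupOf D).index = Nat.card (Cfsg.fittingHallOf S) :=
    (OddLocal.relIndex_of_isComplIn hS.data.U_compl).1
  have hcop : (Nat.card U).Coprime (U.subgroupOf D).index := by
    rw [hUi, hS.P_card]
    exact hS.coprime_p_u.symm.pow_right q
  obtain ⟨d, hd⟩ := Solvable.exists_conj_le_of_coprime_index (H := U.subgroupOf D)
    (K := U'.subgroupOf D)
    (by rwa [Nat.card_congr (Subgroup.subgroupOfEquivOfLe hS.U_le_derived).toEquiv])
    (by rwa [Nat.card_congr (Subgroup.subgroupOfEquivOfLe hU'D).toEquiv, hU',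
      Subgroup.card_map_of_injective (MulAut.conj g⁻¹).injective])
  have ha : (d : G) * g⁻¹ ∈ Subgroup.normalizer (U : Set G) := by
    refine mem_normalizer_of_map_le fun x hx => ?_
    have hxU' : g⁻¹ * x * g⁻¹⁻¹ ∈ U' := ⟨x, hx, rfl⟩
    have h1 := hd (Subgroup.smul_mem_pointwise_smul (⟨_, hU'D hxU'⟩ : D) (MulAut.conj d)
      (U'.subgroupOf D) hxU')
    have h2 : (d : G) * (g⁻¹ * x * g⁻¹⁻¹) * (d : G)⁻¹ ∈ U := h1
    convert h2 using 1
    group
  obtain ⟨s, hs, hse⟩ : (d : G) * g⁻¹ ∈ S.map (MulAut.conj g).toMonoidHom := e ▸ hNU ha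
  have hse' : g * s * g⁻¹ = (d : G) * g⁻¹ := hse
  have hg : g ∈ S := by
    have : g = (d : G) * s⁻¹ := by
      calc g = (g * s * g⁻¹) * g * s⁻¹ := by group
        _ = _ := by rw [hse']; group
    rw [this]
    exact mul_mem (hS.derived_le d.2) (inv_mem hs)
  refine hnu fun x hx => ?_
  obtain ⟨t, ht, rfl⟩ : x ∈ S.map (MulAut.conj g).toMonoidHom := e ▸ hNU hx
  exact mul_mem (mul_mem hg ht) (inv_mem hg)

omit hnu in
theorem not_conj_T (g : G) : L ≠ T.map (MulAut.conj g).toMonoidHom := by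
  intro e
  have hS := h.side_S
  have hT := h.side_T
  obtain ⟨w, hw, hw1⟩ := hS.exists_W₁
  obtain ⟨t, ht, hte⟩ : w ∈ T.map (MulAut.conj g).toMonoidHom :=
    e ▸ hNU (h.W₁_le_normalizer hw)
  have hte' : g * t * g⁻¹ = w := hte
  have htQ : t ∈ Cfsg.fittingHallOf T := hT.mem_P_of_orderOf ht (by
    rw [← orderOf_conjugate g t, hte', hS.orderOf_W₁ hw hw1])
  refine hS.U_ne (eq_bot_iff.2 fun x hx => Subgroup.mem_bot.2 ?_)
  refine hS.fixed_U hw hw1 hx ?_
  obtain ⟨s, hs, hse⟩ : x ∈ T.map (MulAut.conj g).toMonoidHom :=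
    e ▸ hNU (h.U_le_normalizer hx)
  have hse' : g * s * g⁻¹ = x := hse
  have hc : w * x * w⁻¹ * x⁻¹ ∈ U := mul_mem (hS.conj_mem_U hw hx) (inv_mem hx)
  have hcQ : t * s * t⁻¹ * s⁻¹ ∈ Cfsg.fittingHallOf T := by
    have h2 := hT.conj_mem_P hs (inv_mem htQ)
    have h1 := mul_mem htQ h2
    simpa [mul_assoc] using h1
  have hce : w * x * w⁻¹ * x⁻¹ = g * (t * s * t⁻¹ * s⁻¹) * g⁻¹ := by
    rw [← hte', ← hse']; group
  have h1 : w * x * w⁻¹ * x⁻¹ = 1 := by
    refine orderOf_eq_one_iff.1 (Nat.eq_one_of_dvd_coprimes (hS.coprime_q_u.pow_left p) ?_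
      (Subgroup.orderOf_dvd_natCard U hc))
    rw [hce, orderOf_conjugate, ← hT.P_card]
    exact Subgroup.orderOf_dvd_natCard _ hcQ
  exact mul_inv_eq_iff_eq_mul.1 (mul_inv_eq_one.1 h1)

include hL

theorem over_typeI : CfsgLib.OddLocal.S15.IsTypeICore L :=
  (h.classes L hL).resolve_right fun ⟨g, hg⟩ =>
    hg.elim (h.not_conj_S hnu hNU g) (h.not_conj_T hNU g)

theorem over_frob : ∀ x ∈ Cfsg.fittingHallOf L, x ≠ 1 →
    L ⊓ Subgroup.centralizer ({x} : Set G) ≤ Cfsg.fittingHallOf L :=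
  h.frobenius L hL (h.over_typeI hnu hL hNU)

theorem over_sigma {r : ℕ} (hr : r.Prime) (hd : r ∣ Nat.card (Cfsg.fittingHallOf L)) :
    r ∈ Cfsg.sigma L := by
  rw [← (h.local_props.typeI_core L hL (h.over_typeI hnu hL hNU)).1] at hd
  exact (h.local_props.sigma_hall L hL).1.2.1 r hr hd

theorem over_not_dvd_p : ¬ p ∣ Nat.card (Cfsg.fittingHallOf L) := by
  intro hd
  have hS := h.side_S
  have hpS : p ∈ Cfsg.sigma S := (h.local_props.sigma_hall S hS.max).1.2.1 p hS.p_prime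
    ((dvd_pow_self p hS.q_prime.ne_zero).trans (hS.P_card ▸
      Subgroup.card_dvd_of_le (h.local_props.fitting_le_sigma S hS.max)))
  obtain ⟨g, hg⟩ := h.local_props.sigma_conj S L hS.max hL
    ⟨p, hpS, h.over_sigma hnu hL hNU hS.p_prime hd⟩
  exact h.not_conj_S hnu hNU g hg

theorem over_not_dvd_q : ¬ q ∣ Nat.card (Cfsg.fittingHallOf L) := by
  intro hd
  have hT := h.side_T
  have hqT : q ∈ Cfsg.sigma T := (h.local_props.sigma_hall T hT.max).1.2.1 q hT.p_prime
    ((dvd_pow_self q hT.q_prime.ne_zero).trans (hT.P_card ▸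
      Subgroup.card_dvd_of_le (h.local_props.fitting_le_sigma T hT.max)))
  obtain ⟨g, hg⟩ := h.local_props.sigma_conj T L hT.max hL
    ⟨q, hqT, h.over_sigma hnu hL hNU hT.p_prime hd⟩
  exact h.not_conj_T hNU g hg

theorem over_inf_W₁ : Cfsg.fittingHallOf L ⊓ W₁ = ⊥ := by
  refine Subgroup.inf_eq_bot_of_coprime ?_
  rw [h.side_S.card_W₁]
  exact ((h.side_S.q_prime.coprime_iff_not_dvd).2 (h.over_not_dvd_q hnu hL hNU)).symm

theorem over_U_le : U ≤ Cfsg.fittingHallOf L := by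
  have hS := h.side_S
  set H := Cfsg.fittingHallOf L with hH
  set k := Nat.card H with hk
  have hUL : U ≤ L := h.U_le_normalizer.trans hNU
  have hfrob := h.over_frob hnu hL hNU
  -- the part of `U` of order prime to `|H|`
  let X : Subgroup G :=
    { carrier := {x | x ∈ U ∧ (orderOf x).Coprime k}
      one_mem' := ⟨one_mem _, by simp⟩
      mul_mem' := fun {a b} ha hb => ⟨mul_mem ha.1 hb.1,
        Nat.Coprime.coprime_dvd_left
          (((show Commute a b from hS.U_mul_comm ha.1 hb.1).orderOf_mul_dvd_lcm).trans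
            (Nat.lcm_dvd_mul _ _))
          (ha.2.mul_left hb.2)⟩
      inv_mem' := fun {a} ha => ⟨inv_mem ha.1, by rw [orderOf_inv]; exact ha.2⟩ }
  have hXU : X ≤ U := fun x hx => hx.1
  have hXn : ∀ w ∈ W₁, ∀ x ∈ X, w * x * w⁻¹ ∈ X := fun w hw x hx =>
    ⟨hS.conj_mem_U hw hx.1, by rw [orderOf_conjugate]; exact hx.2⟩
  have hX : X = ⊥ := by
    by_contra hXne
    have hWX : W₁ ≤ Subgroup.normalizer (X : Set G) := fun w hw =>
      mem_normalizer_of_map_le fun x hx => hXn w hw x hx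
    have hd : X ⊓ W₁ = ⊥ := eq_bot_iff.2 fun a ha =>
      Subgroup.mem_bot.2 (hS.derived_inf_W₁ (hS.U_le_derived (hXU ha.1)) ha.2)
    have hcX : (Nat.card X).Coprime k := by
      refine Nat.coprime_of_dvd fun r hr h1 h2 => ?_
      haveI := Fact.mk hr
      obtain ⟨x, hx⟩ := exists_prime_orderOf_dvd_card' (G := X) r h1
      have h3 : (orderOf (x : G)).Coprime k := x.2.2
      rw [Subgroup.orderOf_coe, hx] at h3
      exact hr.ne_one (Nat.eq_one_of_dvd_coprimes h3 dvd_rfl h2)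
    have hcB : (Nat.card ↥(X ⊔ W₁)).Coprime k := by
      rw [OddLocal.card_of_isComplIn (OddLocal.isComplIn_sup hWX hd), hS.card_W₁]
      exact hcX.mul_left
        ((hS.q_prime.coprime_iff_not_dvd).2 (h.over_not_dvd_q hnu hL hNU))
    have hBL : X ⊔ W₁ ≤ L := sup_le (hXU.trans hUL) (h.W₁_le_normalizer.trans hNU)
    obtain ⟨E, hE, hBE⟩ := TypeIProps.exists_compl_ge hS.minSimple hL hBL hcB
    have hfree : ∀ b ∈ X ⊔ W₁, b ≠ 1 → ∀ y ∈ H, b * y = y * b → y = 1 := by
      intro b hb hb1 y hy hc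
      by_contra hy1
      have h4 : b ∈ H := hfrob y hy hy1
        ⟨hBL hb, Subgroup.mem_centralizer_singleton_iff.2 hc⟩
      exact hb1 (Subgroup.mem_bot.1 (hE.2.2.1 ▸ Subgroup.mem_inf.2 ⟨h4, hBE hb⟩))
    have hbot : ∀ Y : Subgroup G, Y ≤ X ⊔ W₁ → Y ≠ ⊥ →
        H ⊓ Subgroup.centralizer (Y : Set G) = ⊥ := by
      intro Y hY hYne
      obtain ⟨b, hb, hb1⟩ : ∃ b ∈ Y, b ≠ 1 := by
        by_contra hn; push Not at hn; exact hYne ((Subgroup.eq_bot_iff_forall _).2 hn)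
      exact eq_bot_iff.2 fun y hy => Subgroup.mem_bot.2
        (hfree b (hY hb) hb1 y hy.1 (Subgroup.mem_centralizer_iff.1 hy.2 b hb))
    obtain ⟨w, hw, hw1⟩ := hS.exists_W₁
    have hWne : W₁ ≠ ⊥ := fun e => hw1 (Subgroup.mem_bot.1 (e ▸ hw))
    have hBne : X ⊔ W₁ ≠ ⊥ := fun e => hWne (eq_bot_iff.2 (e ▸ le_sup_right))
    have hf := Cfsg.Agent.S1545.result X W₁ H hXne hWne hd hXn
      (fun e he he1 x hx hc => hS.fixed_U he he1 (hXU hx) hc)
      (fun x hx y hy => TypeIProps.conj_mem_fittingHallOf (hBL hx) hy)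
      (eq_bot_iff.2 fun a ha => hE.2.2.1 ▸ Subgroup.mem_inf.2 ⟨ha.1, hBE ha.2⟩)
      (by
        haveI : Group.IsNilpotent H :=
          CfsgLib.Cores.isNilpotent_map CfsgLib.OddLocal.fittingHall_spec.2.1 _
        infer_instance)
      hcB.symm
    rw [hbot _ le_rfl hBne, hbot _ le_sup_left hXne, hbot _ le_sup_right hWne] at hf
    simp only [Subgroup.card_bot, one_pow, one_mul] at hf
    exact TypeIProps.fitting_ne_bot (h.over_typeI hnu hL hNU) (Subgroup.card_eq_one.1 hf)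
  intro x hx
  refine TypeIProps.mem_fitting_of_coprime (hUL hx) ?_
  refine Nat.coprime_of_dvd fun r hr h1 h2 => ?_
  have hrk : r ∣ k := by
    by_contra hn
    have hy : x ^ (orderOf x / r) ∈ X := ⟨pow_mem hx _, by
      rw [orderOf_pow_orderOf_div (orderOf_pos x).ne' h1]
      exact (hr.coprime_iff_not_dvd).2 hn⟩
    rw [hX, Subgroup.mem_bot] at hy
    have := orderOf_pow_orderOf_div (orderOf_pos x).ne' h1
    rw [hy, orderOf_one] at this
    exact hr.ne_one this.symm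
  have hcop : k.Coprime (H.relIndex L) := by
    rw [hk, hH, OddLocal.relIndex_fittingHallOf, OddLocal.card_fittingHallOf]
    exact CfsgLib.OddLocal.fittingHall_spec.2.2
  exact hr.ne_one (Nat.eq_one_of_dvd_coprimes hcop hrk h2)

theorem over_inf_S : Cfsg.fittingHallOf L ⊓ S = U := by
  have hS := h.side_S
  have hle : U ≤ Cfsg.fittingHallOf L ⊓ S := le_inf (h.over_U_le hnu hL hNU) hS.U_le
  refine (Subgroup.eq_of_le_of_card_ge hle (Nat.le_of_dvd Nat.card_pos ?_)).symm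
  have h1 : Nat.card ↥(Cfsg.fittingHallOf L ⊓ S) ∣ p ^ q * Nat.card U * q :=
    hS.card_S ▸ Subgroup.card_dvd_of_le inf_le_right
  have h2 : Nat.card ↥(Cfsg.fittingHallOf L ⊓ S) ∣ Nat.card (Cfsg.fittingHallOf L) :=
    Subgroup.card_dvd_of_le inf_le_left
  have h3 : (Nat.card ↥(Cfsg.fittingHallOf L ⊓ S)).Coprime q := Nat.Coprime.coprime_dvd_left h2
    ((hS.q_prime.coprime_iff_not_dvd).2 (h.over_not_dvd_q hnu hL hNU)).symm
  have h4 : (Nat.card ↥(Cfsg.fittingHallOf L ⊓ S)).Coprime (p ^ q) :=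
    (Nat.Coprime.coprime_dvd_left h2
      ((hS.p_prime.coprime_iff_not_dvd).2 (h.over_not_dvd_p hnu hL hNU)).symm).pow_right q
  exact h4.dvd_of_dvd_mul_left (h3.dvd_of_dvd_mul_right h1)

end PairData

end CfsgLib.OddChar.Pair
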