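import Cfsg.Agent.Lib.OddChar.PairArith

/-!
# The normaliser of `W₁`

* `centU_eq_bot`: `C_U(S_F) = 1` on both sides of a pair;
* `mem_centU_of_conj_W₂`: an element of `U` mapping an element of `W₂` into `W₂` lies in `C`;
* `normalizer_W₁`, `centralizer_W₁`: both are `T_F W₂`.
-/

set_option autoImplicit false
set_option linter.unusedSectionVars false

namespace CfsgLib.OddChar.Pair

universe u

namespace Side

variable {G : Type u} [Group G] [Finite G] {S W₁ U W₂ : Subgroup G} {q p : ℕ}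
variable (h : Side S W₁ U W₂ q p)
include h

theorem mem_centU_of_conj_W₂ {u z : G} (hu : u ∈ U) (hz : z ∈ W₂) (hz1 : z ≠ 1)
    (he : u * z * u⁻¹ ∈ W₂) : u ∈ centU S U := by
  obtain ⟨w, hw, hw1⟩ := h.exists_W₁
  have hwz : w⁻¹ * z * w = z := by
    rw [mul_assoc, ← h.W₁_comm_W₂ hw hz, inv_mul_cancel_left]
  have hwz' : w * (u * z * u⁻¹) * w⁻¹ = u * z * u⁻¹ := by
    rw [h.W₁_comm_W₂ hw he, mul_inv_cancel_right]
  have e3 : (w * u * w⁻¹) * z * (w * u * w⁻¹)⁻¹ = u * z * u⁻¹ := by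
    calc (w * u * w⁻¹) * z * (w * u * w⁻¹)⁻¹
        = w * (u * (w⁻¹ * z * w) * u⁻¹) * w⁻¹ := by group
      _ = u * z * u⁻¹ := by rw [hwz, hwz']
  have hvC : u⁻¹ * (w * u * w⁻¹) ∈ centU S U :=
    h.fixer_W₂ (mul_mem (inv_mem hu) (h.conj_mem_U hw hu)) hz hz1 (mul_inv_eq_iff_eq_mul.1 (by
      calc u⁻¹ * (w * u * w⁻¹) * z * (u⁻¹ * (w * u * w⁻¹))⁻¹
          = u⁻¹ * ((w * u * w⁻¹) * z * (w * u * w⁻¹)⁻¹) * u := by group
        _ = z := by rw [e3]; group))
  exact h.mem_centU_of_fixed hw hw1 hu hvC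

theorem commute_W₁_P_of_T {T V : Subgroup G} (hT : Side T W₂ V W₁ p q) {w a : G} (hw : w ∈ W₁)
    (ha : a ∈ Cfsg.fittingHallOf T) : w * a = a * w :=
  hT.P_comm (hT.W₂_le_P hw) ha

end Side

namespace PairData

variable {G : Type u} [Group G] [Finite G] {S T W₁ W₂ U V : Subgroup G} {q p : ℕ}
variable (h : PairData S T W₁ W₂ U V q p)
include h

theorem centU_eq_bot : centU S U = ⊥ := by
  rw [← Subgroup.card_eq_one]
  rcases lt_or_gt_of_ne h.side_S.q_ne_p with hlt | hlt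
  · exact h.centU_S hlt
  · exact (h.symm.index_T hlt).1

theorem eq_one_of_mem_centU {x : G} (hx : x ∈ centU S U) : x = 1 := by
  rw [h.centU_eq_bot] at hx
  exact Subgroup.mem_bot.1 hx

theorem fittingOf_eq_P : Cfsg.fittingOf S = Cfsg.fittingHallOf S := by
  rw [h.side_S.fittingOf_eq, h.centU_eq_bot, sup_bot_eq]

theorem relIndex_eq_card : (centU S U).relIndex U = Nat.card U := by
  rw [h.centU_eq_bot, Subgroup.relIndex_bot_left]

theorem W₁_le_T : W₁ ≤ T := h.side_T.W₂_le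

theorem normalizer_W₁_le {g : G} (hg : g ∈ Subgroup.normalizer (W₁ : Set G)) :
    g ∈ Cfsg.fittingHallOf T ⊔ W₂ := by
  have hT := h.side_T
  obtain ⟨w, hw, hw1⟩ := h.side_S.exists_W₁
  have hgT : g ∈ T := hT.mem_of_conj (hT.W₂_le_fitting hw) hw1
    (hT.W₂_le_fitting ((Subgroup.mem_normalizer_iff.1 hg w).1 hw))
  obtain ⟨d, hd, z, hz, rfl⟩ := hT.data.W₁_compl.2.2.2 g hgT
  obtain ⟨a, ha, v, hv, rfl⟩ := hT.data.U_compl.2.2.2 d hd
  have h1 : a * v * z * w * (a * v * z)⁻¹ ∈ W₁ := (Subgroup.mem_normalizer_iff.1 hg w).1 hw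
  have hzw : z * w * z⁻¹ = w := by
    rw [← h.side_S.W₁_comm_W₂ hw hz, mul_inv_cancel_right]
  have h2 : a * (v * w * v⁻¹) * a⁻¹ ∈ W₁ := by
    convert h1 using 1
    conv_lhs => rw [← hzw]
    group
  have h3 : v * w * v⁻¹ ∈ W₁ := by
    have h4 : a * (v * w * v⁻¹) * a⁻¹ * a = a * (a * (v * w * v⁻¹) * a⁻¹) :=
      Side.commute_W₁_P_of_T h.side_S hT h2 ha
    have h5 : v * w * v⁻¹ = a * (v * w * v⁻¹) * a⁻¹ := by
      have h6 := congrArg (fun y => a⁻¹ * y) h4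
      simp only [inv_mul_cancel_left] at h6
      calc v * w * v⁻¹ = a⁻¹ * (a * (v * w * v⁻¹) * a⁻¹ * a) := by group
        _ = _ := h6
    rwa [h5]
  have h7 := h.symm.eq_one_of_mem_centU (hT.mem_centU_of_conj_W₂ hv hw hw1 h3)
  rw [h7, mul_one]
  exact mul_mem (Subgroup.mem_sup_left ha) (Subgroup.mem_sup_right hz)

theorem sup_le_centralizer : Cfsg.fittingHallOf T ⊔ W₂ ≤ Subgroup.centralizer (W₁ : Set G) :=
  sup_le (fun _ ha => Subgroup.mem_centralizer_iff.2 fun _ hw =>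
      Side.commute_W₁_P_of_T h.side_S h.side_T hw ha)
    (fun _ hz => Subgroup.mem_centralizer_iff.2 fun _ hw => h.side_S.W₁_comm_W₂ hw hz)

theorem centralizer_W₁ :
    Subgroup.centralizer (W₁ : Set G) = Cfsg.fittingHallOf T ⊔ W₂ :=
  le_antisymm
    (fun _ hg => h.normalizer_W₁_le (Subgroup.centralizer_le_normalizer _ hg))
    h.sup_le_centralizer

theorem normalizer_W₁ :
    Subgroup.normalizer (W₁ : Set G) = Subgroup.centralizer (W₁ : Set G) :=
  le_antisymm (fun _ hg => h.sup_le_centralizer (h.normalizer_W₁_le hg))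
    (Subgroup.centralizer_le_normalizer _)

end PairData

end CfsgLib.OddChar.Pair
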