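import Cfsg.Agent.Lib.OddChar.PairMax
import Cfsg.Agent.Lib.Solvable.FrobeniusComplement

/-!
# The complement in a maximal subgroup above `N(U)`

`over_complement`: `L = H E` with `E = W₁` or `E = W₁ W₂ʸ` for some `y ∈ T_F`.
-/

set_option autoImplicit false
set_option linter.unusedSectionVars false

namespace CfsgLib.OddChar.Pair

universe u

variable {G : Type u} [Group G] [Finite G]

theorem conj_zpowers_eq (y x : G) :
    (Subgroup.zpowers x).map (MulAut.conj y).toMonoidHom = Subgroup.zpowers (y * x * y⁻¹) := by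
  rw [MonoidHom.map_zpowers]
  rfl

namespace Side

variable {S W₁ U W₂ : Subgroup G} {q p : ℕ}
variable (h : Side S W₁ U W₂ q p)
include h

theorem orderOf_W₂ {z : G} (hz : z ∈ W₂) (hz1 : z ≠ 1) : orderOf z = p :=
  h.orderOf_P (h.W₂_le_P hz) hz1

theorem W₂_eq_zpowers {z : G} (hz : z ∈ W₂) (hz1 : z ≠ 1) : Subgroup.zpowers z = W₂ :=
  Subgroup.eq_of_le_of_card_ge (Subgroup.zpowers_le.2 hz)
    (by rw [Nat.card_zpowers, h.orderOf_W₂ hz hz1, h.card_W₂])

end Side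

namespace PairData

variable {S T W₁ W₂ U V : Subgroup G} {q p : ℕ}
variable (h : PairData S T W₁ W₂ U V q p)
include h

theorem W₂_normalizes_Q : W₂ ≤ Subgroup.normalizer (Cfsg.fittingHallOf T : Set G) :=
  h.side_T.W₁_le.trans h.side_T.normalizer_P

theorem Q_inf_W₂ : Cfsg.fittingHallOf T ⊓ W₂ = ⊥ := by
  refine Subgroup.inf_eq_bot_of_coprime ?_
  rw [h.side_T.P_card, h.side_S.card_W₂]
  exact ((Nat.coprime_primes h.side_S.q_prime h.side_S.p_prime).2 h.side_S.q_ne_p).pow_left p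

/-- An element of order `p` centralising `W₁` is conjugate into `W₂` by an element of `T_F`. -/
theorem exists_conj_W₂ {z : G} (hz : z ∈ Cfsg.fittingHallOf T ⊔ W₂) (ho : orderOf z = p) :
    ∃ y ∈ Cfsg.fittingHallOf T, ∃ z₀ ∈ W₂, z₀ ≠ 1 ∧ z = y * z₀ * y⁻¹ := by
  set K := Cfsg.fittingHallOf T ⊔ W₂ with hK
  have hc := OddLocal.isComplIn_sup h.W₂_normalizes_Q h.Q_inf_W₂
  have hKT : K ≤ T := sup_le h.side_T.P_le h.side_T.W₁_le
  haveI : Group.IsSolvable K := h.side_T.minSimple.2.2.2 K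
    (fun e => h.side_T.max.1 (top_le_iff.1 (e ▸ hKT)))
  have hidx : (W₂.subgroupOf K).index = q ^ p := by
    rw [← h.side_T.P_card]
    exact (OddLocal.relIndex_of_isComplIn hc).1
  have hpq : Nat.Coprime p (q ^ p) :=
    ((Nat.coprime_primes h.side_S.p_prime h.side_S.q_prime).2 h.side_S.q_ne_p.symm).pow_right p
  obtain ⟨d, hd⟩ := Solvable.exists_conj_le_of_coprime_index (H := W₂.subgroupOf K)
    (K := Subgroup.zpowers (⟨z, hz⟩ : K))
    (by rwa [Nat.card_congr (Subgroup.subgroupOfEquivOfLe hc.2.1).toEquiv, h.side_S.card_W₂, hidx])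
    (by rwa [Nat.card_zpowers, Subgroup.orderOf_mk, ho, hidx])
  have h1 := hd (Subgroup.smul_mem_pointwise_smul (⟨z, hz⟩ : K) (MulAut.conj d) _
    (Subgroup.mem_zpowers _))
  have h2 : (d : G) * z * (d : G)⁻¹ ∈ W₂ := h1
  obtain ⟨a, ha, b, hb, hab⟩ := hc.2.2.2 (d : G)⁻¹ (inv_mem d.2)
  refine ⟨a, ha, (d : G) * z * (d : G)⁻¹, h2, fun e => ?_, ?_⟩
  · have : z = 1 := by
      calc z = (d : G)⁻¹ * ((d : G) * z * (d : G)⁻¹) * d := by group
        _ = 1 := by rw [e]; group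
    rw [this, orderOf_one] at ho
    exact h.side_S.p_prime.ne_one ho.symm
  · have hcomm : b * ((d : G) * z * (d : G)⁻¹) = (d : G) * z * (d : G)⁻¹ * b :=
      congrArg Subtype.val ((h.side_S.data.selfNormalizing.2.2.2.2.1.commGroup).mul_comm
        ⟨b, Subgroup.mem_sup_right hb⟩ ⟨_, Subgroup.mem_sup_right h2⟩)
    calc z = (d : G)⁻¹ * ((d : G) * z * (d : G)⁻¹) * ((d : G)⁻¹)⁻¹ := by group
      _ = a * (b * ((d : G) * z * (d : G)⁻¹) * b⁻¹) * a⁻¹ := by rw [hab]; group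
      _ = _ := by rw [hcomm]; group

variable {L : Subgroup G} (hnu : ¬ Subgroup.normalizer (U : Set G) ≤ S)
  (hL : IsCoatom L) (hNU : Subgroup.normalizer (U : Set G) ≤ L)
include hnu hL hNU

/-- The complement. -/
theorem over_complement : ∃ E : Subgroup G, Cfsg.IsComplIn (Cfsg.fittingHallOf L) E L ∧
    (E = W₁ ∨ ∃ y ∈ Cfsg.fittingHallOf T, E = W₁ ⊔ W₂.map (MulAut.conj y).toMonoidHom) := by
  have hS := h.side_S
  have hT := h.side_T
  set H := Cfsg.fittingHallOf L with hH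
  have hfrob := h.over_frob hnu hL hNU
  have hW₁L : W₁ ≤ L := h.W₁_le_normalizer.trans hNU
  obtain ⟨E, hE, hWE⟩ := TypeIProps.exists_compl_ge hS.minSimple hL hW₁L (by
    rw [hS.card_W₁]
    exact (hS.q_prime.coprime_iff_not_dvd).2 (h.over_not_dvd_q hnu hL hNU))
  refine ⟨E, hE, ?_⟩
  have hHne : H ≠ ⊥ := TypeIProps.fitting_ne_bot (h.over_typeI hnu hL hNU)
  have hEN : E ≤ Subgroup.normalizer (H : Set G) :=
    hE.2.1.trans (TypeIProps.le_normalizer_fittingHallOf L)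
  have hfpf : ∀ a ∈ E, a ≠ 1 → H ⊓ Subgroup.centralizer {a} = ⊥ := by
    intro a ha ha1
    refine eq_bot_iff.2 fun y hy => Subgroup.mem_bot.2 ?_
    by_contra hy1
    have h4 : a ∈ H := hfrob y hy.1 hy1 ⟨hE.2.1 ha, Subgroup.mem_centralizer_singleton_iff.2
      (Subgroup.mem_centralizer_singleton_iff.1 hy.2).symm⟩
    exact ha1 (Subgroup.mem_bot.1 (hE.2.2.1 ▸ Subgroup.mem_inf.2 ⟨h4, ha⟩))
  have hsame : ∀ {x y : G}, x ∈ E → y ∈ E → x * y = y * x → orderOf x = orderOf y →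
      x ∈ Subgroup.zpowers y :=
    fun hx hy e ho => Solvable.mem_zpowers_of_fpf hHne hEN hfpf hx hy e ho
  obtain ⟨w, hw, hw1⟩ := hS.exists_W₁
  have hQE : ∀ a ∈ E, a ∈ Cfsg.fittingHallOf T → a ∈ W₁ := by
    intro a ha haQ
    rcases eq_or_ne a 1 with rfl | ha1
    · exact one_mem _
    rw [← hS.W₁_eq_zpowers hw hw1]
    exact hsame ha (hWE hw) (hT.P_comm haQ (hT.W₂_le_P hw))
      (by rw [hT.orderOf_P haQ ha1, hS.orderOf_W₁ hw hw1])
  obtain ⟨z, hz⟩ : ∃ z : E, z ∈ Subgroup.center E ∧ (orderOf z).Prime := by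
    have hEne : E ≠ ⊥ := fun e => hw1 (Subgroup.mem_bot.1 (e ▸ hWE hw))
    have hc := Solvable.center_ne_bot_of_fpf hHne hEne hEN hfpf
    obtain ⟨r, hr, hrd⟩ := Nat.exists_prime_and_dvd (n := Nat.card (Subgroup.center E))
      fun e => hc (Subgroup.card_eq_one.1 e)
    haveI := Fact.mk hr
    obtain ⟨z, hz⟩ := exists_prime_orderOf_dvd_card' (G := Subgroup.center E) r hrd
    exact ⟨z, z.2, by rw [Subgroup.orderOf_coe, hz]; exact hr⟩
  have hzc : ∀ x ∈ E, (z : G) * x = x * z := fun x hx =>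
    (congrArg Subtype.val (Subgroup.mem_center_iff.1 hz.1 ⟨x, hx⟩)).symm
  have hzC : (z : G) ∈ Cfsg.fittingHallOf T ⊔ W₂ := by
    rw [← h.centralizer_W₁]
    exact Subgroup.mem_centralizer_iff.2 fun v hv => (hzc v (hWE hv)).symm
  have hc := OddLocal.isComplIn_sup h.W₂_normalizes_Q h.Q_inf_W₂
  have hr : orderOf (z : G) = q ∨ orderOf (z : G) = p := by
    have hd : orderOf (z : G) ∣ q ^ p * p := by
      rw [← hT.P_card, ← hS.card_W₂, ← OddLocal.card_of_isComplIn hc]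
      exact Subgroup.orderOf_dvd_natCard _ hzC
    have hp : (orderOf (z : G)).Prime := by rw [Subgroup.orderOf_coe]; exact hz.2
    rcases hp.dvd_mul.1 hd with h1 | h1
    · exact Or.inl ((Nat.prime_dvd_prime_iff_eq hp hS.q_prime).1 (hp.dvd_of_dvd_pow h1))
    · exact Or.inr ((Nat.prime_dvd_prime_iff_eq hp hS.p_prime).1 h1)
  have hW₁c : ∀ y ∈ Cfsg.fittingHallOf T, ∀ v ∈ W₁, y * v * y⁻¹ = v := fun y hy v hv => by
    rw [hT.P_comm hy (hT.W₂_le_P hv), mul_inv_cancel_right]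
  rcases hr with hr | hr
  · -- `W₁` is central
    have hzW : (z : G) ∈ W₁ := by
      rw [← hS.W₁_eq_zpowers hw hw1]
      exact hsame z.2 (hWE hw) (hzc w (hWE hw)) (by rw [hr, hS.orderOf_W₁ hw hw1])
    have hz1 : (z : G) ≠ 1 := fun e => hS.q_prime.ne_one (by rw [← hr, e, orderOf_one])
    have hEC : E ≤ Cfsg.fittingHallOf T ⊔ W₂ := by
      intro x hx
      rw [← h.centralizer_W₁]
      refine Subgroup.mem_centralizer_iff.2 fun v hv => ?_
      rw [← hS.W₁_eq_zpowers hzW hz1] at hv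
      obtain ⟨i, rfl⟩ := hv
      exact ((show Commute (z : G) x from hzc x hx).zpow_left i).eq
    by_cases hall : ∀ x ∈ E, x ∈ Cfsg.fittingHallOf T
    · exact Or.inl (le_antisymm (fun x hx => hQE x hx (hall x hx)) hWE)
    push Not at hall
    obtain ⟨x, hx, hxQ⟩ := hall
    have hdvd : p ∣ orderOf x := by
      by_contra hn
      refine hxQ ?_
      have hxT : x ∈ T := (sup_le hT.P_le hT.W₁_le) (hEC hx)
      refine TypeIProps.mem_fitting_of_coprime hxT ?_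
      have hd : orderOf x ∣ q ^ p * p := by
        rw [← hT.P_card, ← hS.card_W₂, ← OddLocal.card_of_isComplIn hc]
        exact Subgroup.orderOf_dvd_natCard _ (hEC hx)
      rw [hT.relIndex_P]
      refine Nat.Coprime.coprime_dvd_left
        (((hS.p_prime.coprime_iff_not_dvd).2 hn).symm.dvd_of_dvd_mul_right hd) ?_
      exact (hT.coprime_p_u.mul_right
        ((Nat.coprime_primes hS.q_prime hS.p_prime).2 hS.q_ne_p)).pow_left p
    have ho' := orderOf_pow_orderOf_div (orderOf_pos x).ne' hdvd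
    obtain ⟨y, hy, z₀, hz₀, hz₀1, hze⟩ := h.exists_conj_W₂ (hEC (pow_mem hx _)) ho'
    refine Or.inr ⟨y, hy, ?_⟩
    have hW₂E : W₂.map (MulAut.conj y).toMonoidHom ≤ E := by
      rw [← hS.W₂_eq_zpowers hz₀ hz₀1, conj_zpowers_eq, ← hze, Subgroup.zpowers_le]
      exact pow_mem hx _
    refine le_antisymm (fun x' hx' => ?_) (sup_le hWE hW₂E)
    obtain ⟨a, ha, b, hb, hab⟩ := hc.2.2.2 x' (hEC hx')
    have hb' : y * b * y⁻¹ ∈ W₂.map (MulAut.conj y).toMonoidHom := ⟨b, hb, rfl⟩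
    have h1 : x' * (y * b * y⁻¹)⁻¹ ∈ W₁ := by
      refine hQE _ (mul_mem hx' (inv_mem (hW₂E hb'))) ?_
      rw [show x' * (y * b * y⁻¹)⁻¹ = a * ((b * y * b⁻¹) * y⁻¹) by rw [hab]; group]
      exact mul_mem ha (mul_mem (hT.conj_mem_P (hT.W₁_le hb) hy) (inv_mem hy))
    have := mul_mem (Subgroup.mem_sup_left (T := W₂.map (MulAut.conj y).toMonoidHom) h1)
      (Subgroup.mem_sup_right hb')
    rwa [inv_mul_cancel_right] at this
  · -- a conjugate of `W₂` is central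
    obtain ⟨y, hy, z₀, hz₀, hz₀1, hze⟩ := h.exists_conj_W₂ hzC hr
    refine Or.inr ⟨y, hy, ?_⟩
    have hW₂E : W₂.map (MulAut.conj y).toMonoidHom ≤ E := by
      rw [← hS.W₂_eq_zpowers hz₀ hz₀1, conj_zpowers_eq, ← hze, Subgroup.zpowers_le]
      exact z.2
    refine le_antisymm (fun x hx => ?_) (sup_le hWE hW₂E)
    have hx' : y⁻¹ * x * y ∈ Cfsg.fittingHallOf S ⊔ W₁ := by
      rw [← h.symm.centralizer_W₁]
      refine Subgroup.mem_centralizer_iff.2 fun v hv => ?_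
      rw [← hS.W₂_eq_zpowers hz₀ hz₀1] at hv
      obtain ⟨i, rfl⟩ := hv
      refine ((show Commute z₀ (y⁻¹ * x * y) from ?_).zpow_left i).eq
      calc z₀ * (y⁻¹ * x * y) = y⁻¹ * ((y * z₀ * y⁻¹) * x) * y := by group
        _ = y⁻¹ * (x * (y * z₀ * y⁻¹)) * y := by rw [← hze, hzc x hx]
        _ = y⁻¹ * x * y * z₀ := by group
    have hc' := OddLocal.isComplIn_sup h.symm.W₂_normalizes_Q h.symm.Q_inf_W₂
    obtain ⟨a, ha, v, hv, hav⟩ := hc'.2.2.2 _ hx'
    have hxe : x = (y * a * y⁻¹) * v := by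
      calc x = y * (y⁻¹ * x * y) * y⁻¹ := by group
        _ = (y * a * y⁻¹) * (y * v * y⁻¹) := by rw [hav]; group
        _ = _ := by rw [hW₁c y hy v hv]
    have haE : y * a * y⁻¹ ∈ E := by
      have := mul_mem hx (inv_mem (hWE hv))
      rwa [hxe, mul_inv_cancel_right] at this
    have haW : y * a * y⁻¹ ∈ W₂.map (MulAut.conj y).toMonoidHom := by
      rcases eq_or_ne a 1 with rfl | ha1
      · exact ⟨1, one_mem _, rfl⟩
      rw [← hS.W₂_eq_zpowers hz₀ hz₀1, conj_zpowers_eq, ← hze]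
      refine hsame haE z.2 ?_ ?_
      · exact (hzc _ haE).symm
      · rw [hr, orderOf_conjugate, hS.orderOf_P ha ha1]
    rw [hxe]
    exact mul_mem (Subgroup.mem_sup_right haW) (Subgroup.mem_sup_left hv)

end PairData

end CfsgLib.OddChar.Pair
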