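import Cfsg.Agent.Lib.OddChar.PairFamOf
import Cfsg.Agent.Lib.OddChar.PairIneq

/-!
# Parity arguments between the families of a pair

* `Fam.bessel`: Bessel's inequality with the images of a family and further orthonormal functions;
* `Side.parity_or`: `q n + 1 ≤ |U|`, or all coefficients `⟨τ, η ψ⟩` are odd;
* `Fam.cross`: two families with disjoint supports.
-/

set_option autoImplicit false
set_option linter.unusedSectionVars false

namespace CfsgLib.OddChar.Pair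

open CfsgLib.Char CfsgLib.CharNormal CfsgLib.OddChar.CTI
open scoped ComplexConjugate Classical

universe u

theorem one_le_sq_of_odd {d : ℤ} (hd : Odd d) : 1 ≤ d ^ 2 :=
  one_le_sq_int fun e => by rw [e] at hd; exact absurd hd (by decide)

theorem odd_or_odd_of_add {a d : ℤ} (h : ((a + d : ℤ) : ZMod 2) = 1) : Odd d ∨ Odd a := by
  rcases Int.even_or_odd d with hd | hd
  · refine Or.inr ?_
    rcases Int.even_or_odd a with ha | ha
    · exfalso
      rw [Int.cast_add, (ZMod.intCast_zmod_eq_zero_iff_dvd a 2).2 (even_iff_two_dvd.1 ha),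
        (ZMod.intCast_zmod_eq_zero_iff_dvd d 2).2 (even_iff_two_dvd.1 hd), add_zero] at h
      exact zero_ne_one h
    · exact ha
  · exact Or.inl hd

variable {G : Type u} [Group G] [Fintype G]

theorem inner_eq_zero_of_disjoint {A : Set G} {V V' : G → ℂ} (hV : ∀ g, g ∉ A → V g = 0)
    (hV' : ∀ g ∈ A, V' g = 0) : Cfsg.classInner V V' = 0 := by
  rw [classInner_def, Finset.sum_eq_zero fun g _ => ?_, mul_zero]
  by_cases hg : g ∈ A
  · rw [hV' g hg, map_zero, mul_zero]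
  · rw [hV g hg, zero_mul]

namespace Fam

variable {M K : Subgroup G} [Fintype M] {e : ℕ} (F : Fam M K e)

/-- Bessel's inequality. -/
theorem bessel {ι : Type*} (s : Finset ι) (f : ι → G → ℂ)
    (horth : ∀ i ∈ s, ∀ j ∈ s, Cfsg.classInner (f i) (f j) = if i = j then 1 else 0)
    (horth' : ∀ ξ ∈ F.I, ∀ i ∈ s, Cfsg.classInner (F.im ξ) (f i) = 0)
    (V : G → ℂ) (hV0 : ∀ g ∈ conjSet (sharpSet K), V g = 0) (d : ℤ)
    (hd : Cfsg.classInner F.psi V = d) (c : ι → ℤ) (hc : ∀ i ∈ s, Cfsg.classInner V (f i) = c i)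
    (N : ℤ) (hN : Cfsg.classInner V V = N) :
    d ^ 2 * (F.size : ℤ) + ∑ i ∈ s, c i ^ 2 ≤ N := by
  let f' : (M → ℂ) ⊕ ι → G → ℂ := Sum.elim F.im f
  let c' : (M → ℂ) ⊕ ι → ℤ := Sum.elim (fun ξ => (F.wt ξ : ℤ) * d) c
  have h := (bessel_int (F.I.disjSum s) f' (fun i hi j hj => ?_) V c' (fun i hi => ?_) N hN).1
  · rw [Finset.sum_disjSum] at h
    simp only [c', Sum.elim_inl, Sum.elim_inr] at h
    refine le_trans (le_of_eq ?_) h
    congr 1
    rw [size, Nat.cast_sum, Finset.mul_sum]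
    refine Finset.sum_congr rfl fun ξ _ => ?_
    push_cast
    ring
  · rcases i with ξ | i <;> rcases j with ξ' | j <;>
      simp only [Finset.inl_mem_disjSum, Finset.inr_mem_disjSum] at hi hj <;>
      simp only [f', Sum.elim_inl, Sum.elim_inr]
    · rw [F.im_orth _ hi _ hj]; simp
    · rw [horth' _ hi _ hj]; simp
    · rw [← classInner_conj_symm, horth' _ hj _ hi]; simp
    · rw [horth _ hi _ hj]; simp
  · rcases i with ξ | i <;> simp only [Finset.inl_mem_disjSum, Finset.inr_mem_disjSum] at hi <;>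
      simp only [f', c', Sum.elim_inl, Sum.elim_inr]
    · rw [← classInner_conj_symm, F.coef hV0 hi, hd, map_mul, map_natCast, map_intCast]
      push_cast
      rfl
    · exact hc _ hi

theorem tau_vanish {K' : Subgroup G}
    (hdis : ∀ g ∈ conjSet (sharpSet K), g ∉ conjSet (sharpSet K')) :
    ∀ g ∈ conjSet (sharpSet K'), F.tau g = 0 := fun g hg =>
  F.tau_eq_zero fun hg' => hdis g hg' hg

variable {W₁ W₂ : Subgroup G} {χ : (↥(W₁ ⊔ W₂) →* ℂˣ) → (G → ℂ)}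
  {M' K' : Subgroup G} [Fintype M'] {e' : ℕ} (F' : Fam M' K' e')

/-- Two families with disjoint supports. -/
theorem cross (hodd : Odd (Nat.card G)) (hW : Cfsg.IsSelfNormalizingCyclic W₁ W₂)
    (hχ : Cfsg.IsCyclicTIFamily W₁ W₂ χ) (h1 : 3 ≤ Nat.card W₁) (h2 : 3 ≤ Nat.card W₂)
    (hhat : ∀ g ∈ hat W₁ W₂, g ∉ conjSet (sharpSet K))
    (hhat' : ∀ g ∈ hat W₁ W₂, g ∉ conjSet (sharpSet K'))
    (hdis : ∀ g ∈ conjSet (sharpSet K), g ∉ conjSet (sharpSet K'))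
    (s : Finset (↥(W₁ ⊔ W₂) →* ℂˣ))
    (hs : ∀ ω ∈ s, ∃ a : ℤ, Odd a ∧ Cfsg.classInner F.tau (χ ω) = a) :
    F.size ≤ e' ∨ F'.size + s.card ≤ e + 1 := by
  obtain ⟨δ, hδ⟩ := classInner_gen_int F.gen_tau F'.gen_psi
  obtain ⟨δ', hδ'⟩ := classInner_gen_int F.gen_psi F'.gen_tau
  have hττ : Cfsg.classInner F.tau F'.tau = 0 :=
    inner_eq_zero_of_disjoint (fun g hg => F.tau_eq_zero hg)
      fun g hg => F'.tau_eq_zero fun hg' => hdis g hg hg'
  have hψψ : Cfsg.classInner F.psi F'.psi = 0 := (F.psi_orth F' hdis).1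
  have hz : Cfsg.classInner (F.tau + F.psi) (F'.tau + F'.psi) = ((δ' + δ : ℤ) : ℂ) := by
    rw [classInner_add_left, classInner_add_right, classInner_add_right, hττ, hψψ, hδ, hδ']
    push_cast
    ring
  have hpar := parity hodd (isGen_add F.gen_tau F.gen_psi) (isGen_add F'.gen_tau F'.gen_psi)
    F.real_X F'.real_X 1 1 _ F.X_one F'.X_one hz
  rw [Int.cast_one, one_mul] at hpar
  rcases odd_or_odd_of_add hpar with hd | hd
  · right
    choose! a ha hae using hs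
    have hb := F'.bessel s χ (fun i _ j _ => hχ.orthonormal i j)
      (fun ξ hξ i _ => F'.orth_grid hW hχ h1 h2 hhat' hξ i) F.tau (F.tau_vanish hdis) δ
      (by rw [← classInner_conj_symm, hδ, map_intCast]) a hae _ F.tau_norm
    have h3 : (s.card : ℤ) ≤ ∑ i ∈ s, a i ^ 2 := by
      have := Finset.card_nsmul_le_sum s (fun i => a i ^ 2) 1 fun i hi => one_le_sq_of_odd (ha i hi)
      simpa using this
    have h4 : (F'.size : ℤ) ≤ δ ^ 2 * F'.size :=
      le_mul_of_one_le_left (Nat.cast_nonneg _) (one_le_sq_of_odd hd)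
    have : (F'.size : ℤ) + s.card ≤ (e : ℤ) + 1 := by linarith
    exact_mod_cast this
  · left
    have hb := F.bessel {(1 : ↥(W₁ ⊔ W₂) →* ℂˣ)} χ (fun i _ j _ => hχ.orthonormal i j)
      (fun ξ hξ i _ => F.orth_grid hW hχ h1 h2 hhat hξ i) F'.tau
      (fun g hg => F'.tau_eq_zero fun hg' => hdis g hg hg') δ' hδ' (fun _ => 1)
      (fun i hi => by
        rw [Finset.mem_singleton.1 hi, hχ.map_one, Int.cast_one]
        exact F'.tau_one) _ F'.tau_norm
    rw [Finset.sum_singleton, one_pow] at hb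
    have h4 : (F.size : ℤ) ≤ δ' ^ 2 * F.size :=
      le_mul_of_one_le_left (Nat.cast_nonneg _) (one_le_sq_of_odd hd)
    have : (F.size : ℤ) ≤ (e' : ℤ) := by linarith
    exact_mod_cast this

end Fam

namespace Side

variable {S W₁ U W₂ : Subgroup G} {q p : ℕ} [Fintype S]
variable (h : Side S W₁ U W₂ q p)
include h

/-- `β`. -/
noncomputable def beta (ψ : ↥(W₁ ⊔ W₂) →* ℂˣ) : S → ℂ := h.mu 1 - h.mu ψ

theorem beta_supp {ψ : ↥(W₁ ⊔ W₂) →* ℂˣ} (hψ : IsRight W₁ W₂ ψ) (s : S)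
    (hs : (s : G) ∉ supp S W₁ W₂) : h.beta ψ s = 0 := by
  have := h.diff_supp (isLeft_one (W₁ := W₁) (W₂ := W₂)) isRight_one hψ s hs
  rwa [hom_one_mul, hom_one_mul] at this

theorem beta_classFun (ψ : ↥(W₁ ⊔ W₂) →* ℂˣ) : Cfsg.IsClassFunction S (h.beta ψ) :=
  isClassFunction_sub (h.mu_classFun _) (h.mu_classFun _)

theorem beta_gen (ψ : ↥(W₁ ⊔ W₂) →* ℂˣ) : Cfsg.IsGeneralizedCharacter S (h.beta ψ) :=
  isGen_sub (h.mu_gen _) (h.mu_gen _)

theorem mu_one_apply (m : ↥((FW S W₁).subgroupOf S)) :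
    h.mu 1 m = if ((m : S) : G) ∈ Cfsg.fittingOf S then
      (Nat.card S : ℂ) / Nat.card ((FW S W₁).subgroupOf S) else 1 := by
  split_ifs with hF
  · rw [mu, indFun_apply, Finset.sum_congr rfl (g := fun _ => (1 : ℂ)) fun x _ => ?_,
      Finset.sum_const, Finset.card_univ, nsmul_eq_mul, mul_one, ← Nat.card_eq_fintype_card,
      inv_mul_eq_div]
    rw [extendByZero_of_mem _ (show x⁻¹ * (m : S) * x ∈ (FW S W₁).subgroupOf S from Subgroup.mem_sup_left (by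
      have := h.conj_mem_fitting (inv_mem x.2) hF
      simpa using this))]
    rfl
  · obtain ⟨f, hf, hfW, hfW₂⟩ := h.exists_conj_mem_W m.2 hF
    rw [← (h.mu_classFun 1) (m : S) ⟨f, h.fitting_le_S hf⟩, h.mu_W _ _ hfW hfW₂]
    rfl

theorem sum_mu_one [Fintype ↥((FW S W₁).subgroupOf S)] (f : ↥((FW S W₁).subgroupOf S) → ℂ) :
    ∑ m, f m * conj (h.mu 1 m) =
      ((Nat.card S : ℂ) / Nat.card ((FW S W₁).subgroupOf S) - 1) *
        (∑ m ∈ Finset.univ.filter fun m : ↥((FW S W₁).subgroupOf S) =>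
          ((m : S) : G) ∈ Cfsg.fittingOf S, f m) + ∑ m, f m := by
  rw [sub_mul, one_mul, Finset.mul_sum, sub_add_eq_add_sub, eq_sub_iff_add_eq,
    Finset.sum_filter, Finset.sum_filter, ← Finset.sum_add_distrib, ← Finset.sum_add_distrib]
  refine Finset.sum_congr rfl fun m _ => ?_
  rw [h.mu_one_apply]
  split_ifs <;> simp [mul_comm]

theorem filter_fit_sum [Fintype ↥((FW S W₁).subgroupOf S)] [Fintype (fitS S)] (f : ↥((FW S W₁).subgroupOf S) → ℂ) :
    (∑ m ∈ Finset.univ.filter fun m : ↥((FW S W₁).subgroupOf S) =>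
      ((m : S) : G) ∈ Cfsg.fittingOf S, f m) =
      ∑ x : fitS S, f ⟨x, Subgroup.mem_sup_left x.2⟩ := by
  refine Finset.sum_bij' (fun m hm => ⟨(m : S), (Finset.mem_filter.1 hm).2⟩)
    (fun x _ => ⟨(x : S), Subgroup.mem_sup_left x.2⟩) (fun _ _ => Finset.mem_univ _)
    (fun x _ => Finset.mem_filter.2 ⟨Finset.mem_univ _, x.2⟩) (fun _ _ => rfl) (fun _ _ => rfl)
    fun _ _ => rfl

theorem mu_one_norm (hC : centU S U = ⊥) :
    (q : ℂ) * Cfsg.classInner (h.mu 1) (h.mu 1) = (Nat.card U : ℂ) + q - 1 := by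
  set N := (FW S W₁).subgroupOf S with hN
  haveI := Fintype.ofFinite N
  haveI := Fintype.ofFinite (fitS S)
  conv_lhs => arg 2; arg 1; rw [mu]
  rw [frobenius_reciprocity N _ (h.mu_classFun _), classInner_def]
  have e1 : ∀ m : N, ((h.lam (1 : ↥(W₁ ⊔ W₂) →* ℂˣ) m : ℂˣ) : ℂ) = 1 := fun _ => rfl
  simp only [e1]
  rw [h.sum_mu_one fun _ => 1, h.filter_fit_sum fun _ => 1, Finset.sum_const, Finset.sum_const,
    Finset.card_univ, Finset.card_univ, ← Nat.card_eq_fintype_card, ← Nat.card_eq_fintype_card,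
    nsmul_eq_mul, nsmul_eq_mul, mul_one, mul_one, h.card_fitS, hC, Subgroup.card_bot, mul_one,
    hN, h.card_FW, h.card_S]
  rw [show Nat.card ↥((Cfsg.fittingOf S).subgroupOf S) = p ^ q by
    rw [show (Cfsg.fittingOf S).subgroupOf S = fitS S from rfl, h.card_fitS, hC, Subgroup.card_bot,
      mul_one]]
  have hq : (q : ℂ) ≠ 0 := by exact_mod_cast h.q_prime.ne_zero
  have hp : (p : ℂ) ^ q ≠ 0 := pow_ne_zero _ (by exact_mod_cast h.p_prime.ne_zero)
  push_cast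
  field_simp
  ring

theorem mu_inner_mu_one {ψ : ↥(W₁ ⊔ W₂) →* ℂˣ} (hψ : IsRight W₁ W₂ ψ) (hψ1 : ψ ≠ 1) :
    Cfsg.classInner (h.mu ψ) (h.mu 1) = 0 := by
  set N := (FW S W₁).subgroupOf S with hN
  haveI := Fintype.ofFinite N
  haveI := Fintype.ofFinite (fitS S)
  conv_lhs => arg 1; rw [mu]
  rw [frobenius_reciprocity N _ (h.mu_classFun _), classInner_def,
    h.sum_mu_one fun m => (h.lam ψ m : ℂ), h.filter_fit_sum fun m => (h.lam ψ m : ℂ)]
  have hz : ∀ {A : Type u} [Group A] [Fintype A] (l : A →* ℂˣ), l ≠ 1 →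
      ∑ a : A, (l a : ℂ) = 0 := by
    intro A _ _ l hl
    have h1 := CTI.classInner_lin l 1
    rw [if_neg hl, classInner_def, mul_eq_zero] at h1
    simpa [lin] using h1.resolve_left (inv_ne_zero (by exact_mod_cast Nat.card_pos.ne'))
  have h2 : ∑ x : fitS S, (h.lam ψ ⟨x, Subgroup.mem_sup_left x.2⟩ : ℂ) = 0 :=
    hz (h.lamF ψ) (h.nonTriv_ne_one (h.lamF_nonTriv hψ hψ1))
  have h3 : ∑ m : N, (h.lam ψ m : ℂ) = 0 := hz (h.lam ψ) fun e =>
    h.nonTriv_ne_one (h.lamF_nonTriv hψ hψ1) (by rw [lamF, e]; rfl)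
  rw [h2, h3, mul_zero, add_zero, mul_zero]

theorem mu_one_inner_one : Cfsg.classInner (h.mu 1) (fun _ => 1) = 1 := by
  haveI := Fintype.ofFinite ↥((FW S W₁).subgroupOf S)
  rw [mu, frobenius_reciprocity _ _ (isClassFunction_const 1)]
  exact classInner_irr_self isIrrCharacter_one

theorem mu_irr_right {ψ : ↥(W₁ ⊔ W₂) →* ℂˣ} (hψ : IsRight W₁ W₂ ψ) (hψ1 : ψ ≠ 1) :
    Cfsg.IsIrrCharacter S (h.mu ψ) := by
  have := h.mu_irr (isLeft_one (W₁ := W₁) (W₂ := W₂)) hψ hψ1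
  rwa [hom_one_mul] at this

theorem beta_inner_one {ψ : ↥(W₁ ⊔ W₂) →* ℂˣ} (hψ : IsRight W₁ W₂ ψ) (hψ1 : ψ ≠ 1) :
    Cfsg.classInner (h.beta ψ) (fun _ => 1) = 1 := by
  rw [beta, classInner_sub_left, h.mu_one_inner_one,
    classInner_irr_ne (h.mu_irr_right hψ hψ1) isIrrCharacter_one, sub_zero]
  intro e
  have := h.mu_inner_mu_one hψ hψ1
  rw [e, ← classInner_conj_symm, h.mu_one_inner_one, map_one] at this
  exact one_ne_zero this

theorem beta_norm (hC : centU S U = ⊥) {ψ : ↥(W₁ ⊔ W₂) →* ℂˣ} (hψ : IsRight W₁ W₂ ψ)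
    (hψ1 : ψ ≠ 1) :
    (q : ℂ) * Cfsg.classInner (h.beta ψ) (h.beta ψ) = (Nat.card U : ℂ) + 2 * q - 1 := by
  rw [beta, classInner_sub_left, classInner_sub_right, classInner_sub_right,
    h.mu_inner_mu_one hψ hψ1, classInner_irr_self (h.mu_irr_right hψ hψ1),
    ← classInner_conj_symm (h.mu ψ) (h.mu 1), h.mu_inner_mu_one hψ hψ1, map_zero]
  linear_combination h.mu_one_norm hC

theorem beta_inner_diff {ψ ψ' : ↥(W₁ ⊔ W₂) →* ℂˣ} (hψ : IsRight W₁ W₂ ψ)
    (hψ' : IsRight W₁ W₂ ψ') (hψ1 : ψ ≠ 1) (hψ'1 : ψ' ≠ 1) (hne : ψ ≠ ψ') :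
    Cfsg.classInner (h.beta ψ) (h.mu ψ - h.mu ψ') = -1 := by
  have hne' : h.mu ψ ≠ h.mu ψ' := by
    have := h.mu_ne (isLeft_one (W₁ := W₁) (W₂ := W₂)) isLeft_one hψ hψ'
      (by rwa [hom_one_mul, hom_one_mul])
    rwa [hom_one_mul, hom_one_mul] at this
  rw [beta, classInner_sub_left, classInner_sub_right, classInner_sub_right,
    ← classInner_conj_symm (h.mu ψ) (h.mu 1), h.mu_inner_mu_one hψ hψ1,
    ← classInner_conj_symm (h.mu ψ') (h.mu 1), h.mu_inner_mu_one hψ' hψ'1,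
    classInner_irr_self (h.mu_irr_right hψ hψ1),
    classInner_irr_ne (h.mu_irr_right hψ hψ1) (h.mu_irr_right hψ' hψ'1) hne', map_zero]
  ring

theorem ind_sub' {χ : (↥(W₁ ⊔ W₂) →* ℂˣ) → (G → ℂ)} (hχ : Cfsg.IsCyclicTIFamily W₁ W₂ χ)
    {ψ ψ' : ↥(W₁ ⊔ W₂) →* ℂˣ} (hψ : IsRight W₁ W₂ ψ) (hψ' : IsRight W₁ W₂ ψ')
    (hψ1 : ψ ≠ 1) (hψ'1 : ψ' ≠ 1) (hne : ψ ≠ ψ') :
    Cfsg.indFun S (h.mu ψ - h.mu ψ') = χ ψ - χ ψ' := by
  have := h.ind_sub hχ (isLeft_one (W₁ := W₁) (W₂ := W₂)) hψ hψ' hψ1 hψ'1 hne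
  rwa [hom_one_mul, hom_one_mul] at this

theorem conj_mu (ψ : ↥(W₁ ⊔ W₂) →* ℂˣ) : Cfsg.conjFun (h.mu ψ) = h.mu ψ⁻¹ := by
  rw [mu, mu, Above.conjFun_indFun]
  congr 1
  funext m
  refine (Pair.conj_hom_apply (h.lam ψ) m).trans ?_
  rw [map_inv]
  rfl

theorem inner_ind_beta {ψ : ↥(W₁ ⊔ W₂) →* ℂˣ} (hψ : IsRight W₁ W₂ ψ) {α : S → ℂ}
    (hα : Cfsg.IsClassFunction S α) (hα0 : ∀ s : S, (s : G) ∉ supp S W₁ W₂ → α s = 0) :
    Cfsg.classInner (Cfsg.indFun S (h.beta ψ)) (Cfsg.indFun S α) =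
      Cfsg.classInner (h.beta ψ) α :=
  classInner_indFun_of_TI S (supp S W₁ W₂)
    (fun _ hg _ ht hgt => absurd (h.supp_ti ht hgt) hg) hα (h.beta_supp hψ) hα0
    (h.beta_supp hψ 1 h.supp_one)

/-- The parity argument on one side. -/
theorem parity_or {M K : Subgroup G} [Fintype M] {e : ℕ} (F : Fam M K e) (hC : centU S U = ⊥)
    {χ : (↥(W₁ ⊔ W₂) →* ℂˣ) → (G → ℂ)} (hχ : Cfsg.IsCyclicTIFamily W₁ W₂ χ)
    (hdis : ∀ g ∈ conjSet (sharpSet K), g ∉ conjSet (supp S W₁ W₂)) :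
    q * F.size + 1 ≤ Nat.card U ∨
      ∀ ψ, IsRight W₁ W₂ ψ → ψ ≠ 1 → ∃ a : ℤ, Odd a ∧ Cfsg.classInner F.tau (χ ψ) = a := by
  have hW := h.data.selfNormalizing
  have h1 : 3 ≤ Nat.card W₁ := h.card_W₁ ▸ h.three_le_q
  have h2 : 3 ≤ Nat.card W₂ := h.card_W₂ ▸ h.three_le_p
  have hhat : ∀ g ∈ hat W₁ W₂, g ∉ conjSet (sharpSet K) := fun g hg hg' =>
    hdis g hg' (subset_conjSet _ (h.hat_supp hg))
  by_contra hcon
  push Not at hcon
  obtain ⟨hbig, j, hj, hj1, hja⟩ := hcon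
  obtain ⟨a, ha⟩ := classInner_gen_int F.gen_tau (isGen hW hχ j)
  set B := Cfsg.indFun S (h.beta j) with hB
  have hBgen : Cfsg.IsGeneralizedCharacter G B := isGen_indFun S (h.beta_gen j)
  obtain ⟨d, hd⟩ := classInner_gen_int F.gen_psi hBgen
  have hBzero : ∀ g, g ∉ conjSet (supp S W₁ W₂) → B g = 0 := fun g hg =>
    indFun_eq_zero_of_forall S fun x hx => h.beta_supp hj ⟨_, hx⟩ fun hs => hg ⟨x, hs⟩
  have hB1 : Cfsg.classInner B (fun _ => 1) = 1 := by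
    rw [hB, frobenius_reciprocity S _ (isClassFunction_const 1)]
    exact h.beta_inner_one hj hj1
  -- `Y = B + η ψ`
  have hjj : j⁻¹ ≠ j := inv_ne_self (h.odd_of_le _) hj1
  have hji : j⁻¹ ≠ 1 := hom_inv_ne_one hj1
  have hYr : Cfsg.conjFun (B + χ j) = B + χ j := by
    have e1 : Cfsg.conjFun (χ j) = χ j⁻¹ := by
      have h3 := ringEquiv_comp hW hχ h1 h2 (starRingAut (R := ℂ)) j
      refine Eq.trans (Eq.trans ?_ h3) (congrArg χ ?_)
      · rfl
      · refine MonoidHom.ext fun w => Units.ext ?_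
        exact (Pair.conj_hom_apply j w).trans (by rw [map_inv]; rfl)
    have e2 : Cfsg.conjFun B = B + (χ j - χ j⁻¹) := by
      rw [hB, Above.conjFun_indFun,
        show Cfsg.conjFun (h.beta j) = h.beta j + (h.mu j - h.mu j⁻¹) by
          have e3 : Cfsg.conjFun (h.beta j) = Cfsg.conjFun (h.mu 1) - Cfsg.conjFun (h.mu j) := by
            funext m; simp [beta, Cfsg.conjFun]
          rw [e3, h.conj_mu, h.conj_mu,
            show (1 : ↥(W₁ ⊔ W₂) →* ℂˣ)⁻¹ = 1 from MonoidHom.ext fun _ => inv_one, beta]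
          abel,
        indFun_add, h.ind_sub' hχ hj hj.inv hj1 hji hjj.symm]
    funext g
    have e1' := congrFun e1 g
    have e2' := congrFun e2 g
    simp only [Cfsg.conjFun, Pi.add_apply, Pi.sub_apply, map_add] at e1' e2' ⊢
    linear_combination e1' + e2'
  have hY1 : Cfsg.classInner (B + χ j) (fun _ => 1) = ((1 : ℤ) : ℂ) := by
    rw [classInner_add_left, hB1, ← hχ.map_one, hχ.orthonormal, if_neg hj1, add_zero, Int.cast_one]
  have hz : Cfsg.classInner (F.tau + F.psi) (B + χ j) = ((a + d : ℤ) : ℂ) := by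
    rw [classInner_add_left, classInner_add_right, classInner_add_right, ha, hd,
      show Cfsg.classInner F.tau B = 0 from inner_eq_zero_of_disjoint
        (fun g hg => F.tau_eq_zero hg) (fun g hg => hBzero g (hdis g hg)),
      show Cfsg.classInner F.psi (χ j) = 0 from F.orth_grid hW hχ h1 h2 hhat F.base_mem j]
    push_cast
    ring
  have hpar := parity h.odd_G (isGen_add F.gen_tau F.gen_psi)
    (isGen_add hBgen (isGen hW hχ j)) F.real_X hYr 1 1 _ F.X_one hY1 hz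
  rw [Int.cast_one, one_mul] at hpar
  rcases odd_or_odd_of_add hpar with hd' | ha'
  swap
  · exact hja a ha' ha
  -- Bessel
  obtain ⟨k, hk, hk1, hkj⟩ := exists_right_ne hW h2 1 j
  obtain ⟨cj, hcj⟩ := classInner_gen_int hBgen (isGen hW hχ j)
  obtain ⟨ck, hck⟩ := classInner_gen_int hBgen (isGen hW hχ k)
  have hdiff : cj - ck = -1 := by
    have h3 := h.inner_ind_beta hj (α := h.mu j - h.mu k)
      (isClassFunction_sub (h.mu_classFun _) (h.mu_classFun _)) (fun s hs => by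
        have := h.diff_supp (isLeft_one (W₁ := W₁) (W₂ := W₂)) hj hk s hs
        rwa [hom_one_mul, hom_one_mul] at this)
    rw [h.ind_sub' hχ hj hk hj1 hk1 hkj.symm, h.beta_inner_diff hj hk hj1 hk1 hkj.symm, ← hB,
      classInner_sub_right, hcj, hck] at h3
    exact_mod_cast h3
  obtain ⟨ω, hω1, c, hc0, hcω⟩ : ∃ ω, ω ≠ 1 ∧ ∃ c : ℤ, c ≠ 0 ∧ Cfsg.classInner B (χ ω) = c := by
    rcases eq_or_ne cj 0 with h0 | h0
    · exact ⟨k, hk1, ck, by omega, hck⟩
    · exact ⟨j, hj1, cj, h0, hcj⟩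
  obtain ⟨N, hN⟩ := classInner_gen_int hBgen hBgen
  have hqN : (q : ℤ) * N = (Nat.card U : ℤ) + 2 * q - 1 := by
    have h3 := h.beta_norm hC hj hj1
    rw [← h.inner_ind_beta hj (h.beta_classFun j) (h.beta_supp hj), ← hB, hN] at h3
    exact_mod_cast h3
  have hb := F.bessel {(1 : ↥(W₁ ⊔ W₂) →* ℂˣ), ω} χ (fun i _ i' _ => hχ.orthonormal i i')
    (fun ξ hξ i _ => F.orth_grid hW hχ h1 h2 hhat hξ i) B
    (fun g hg => hBzero g (hdis g hg)) d hd
    (fun i => if i = 1 then 1 else c) (fun i hi => by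
      split_ifs with hi1
      · rw [hi1, hχ.map_one, Int.cast_one]; exact hB1
      · rw [Finset.mem_insert, Finset.mem_singleton] at hi
        rw [hi.resolve_left hi1]; exact hcω) N hN
  rw [Finset.sum_pair hω1.symm, if_pos rfl, if_neg hω1, one_pow] at hb
  have h4 : (F.size : ℤ) ≤ d ^ 2 * F.size :=
    le_mul_of_one_le_left (Nat.cast_nonneg _) (one_le_sq_of_odd hd')
  have h5 := one_le_sq_int hc0
  have h6 : (q : ℤ) * ((F.size : ℤ) + 2) ≤ q * N :=
    mul_le_mul_of_nonneg_left (by linarith) (Nat.cast_nonneg _)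
  rw [hqN] at h6
  have : (q : ℤ) * F.size + 1 ≤ Nat.card U := by linarith
  omega

end Side

end CfsgLib.OddChar.Pair
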