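import Cfsg.Agent.Lib.OddChar.PairAct
import Cfsg.Agent.Lib.OddChar.CyclicTI
import Cfsg.Agent.Lib.OddChar.PairGrid
import Mathlib.GroupTheory.Complement

/-!
# The subgroup `F(S) W₁`

* `exists_pi`: a projection of `F(S) W₁` onto `W = W₁ × W₂` trivial on `C`;
* `exists_conj_mem_W`: the elements outside `F(S)` are conjugate into `W \ W₂`;
* `mem_W_of_conj`: `W \ W₂` is a TI-set in `S` with normaliser `W`;
* `exists_fixed_of_char`: a fixed point from a fixed linear character.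
-/

set_option autoImplicit false
set_option linter.unusedSectionVars false

open scoped commutatorElement

namespace CfsgLib.OddChar.Pair

universe u

/-- `F(S) W₁`. -/
def FW {G : Type u} [Group G] (S W₁ : Subgroup G) : Subgroup G := Cfsg.fittingOf S ⊔ W₁

namespace Side

variable {G : Type u} [Group G] [Finite G] {S W₁ U W₂ : Subgroup G} {q p : ℕ}
variable (h : Side S W₁ U W₂ q p)
include h

theorem normalizer_fitting_le : S ≤ Subgroup.normalizer (Cfsg.fittingOf S : Set G) :=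
  h.normalizer_fitting.ge

theorem conj_mem_fitting {s a : G} (hs : s ∈ S) (ha : a ∈ Cfsg.fittingOf S) :
    s * a * s⁻¹ ∈ Cfsg.fittingOf S :=
  (Subgroup.mem_normalizer_iff.1 (h.normalizer_fitting_le hs) a).1 ha

theorem fitting_le_S : Cfsg.fittingOf S ≤ S := h.fitting_le.trans h.derived_le

theorem P_le_fitting : Cfsg.fittingHallOf S ≤ Cfsg.fittingOf S :=
  OddLocal.fittingHallOf_le_fittingOf S

theorem W₂_le_fitting : W₂ ≤ Cfsg.fittingOf S := h.W₂_le_P.trans h.P_le_fitting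

theorem FW_le : FW S W₁ ≤ S := sup_le h.fitting_le_S h.W₁_le

theorem derived_inf_W₁ {a : G} (ha : a ∈ ⁅S, S⁆) (hw : a ∈ W₁) : a = 1 :=
  Subgroup.mem_bot.1 (h.data.W₁_compl.2.2.1 ▸ Subgroup.mem_inf.2 ⟨ha, hw⟩)

theorem fitting_inf_W₁ {a : G} (ha : a ∈ Cfsg.fittingOf S) (hw : a ∈ W₁) : a = 1 :=
  h.derived_inf_W₁ (h.fitting_le ha) hw

theorem FW_compl : Cfsg.IsComplIn (Cfsg.fittingOf S) W₁ (FW S W₁) :=
  OddLocal.isComplIn_sup (fun _ hw => h.normalizer_fitting_le (h.W₁_le hw))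
    (eq_bot_iff.2 fun a ha => Subgroup.mem_bot.2
      (h.fitting_inf_W₁ (Subgroup.mem_inf.1 ha).1 (Subgroup.mem_inf.1 ha).2))

theorem W_le_FW : W₁ ⊔ W₂ ≤ FW S W₁ :=
  sup_le le_sup_right (h.W₂_le_fitting.trans le_sup_left)

/-- The projection of `F(S) W₁` onto `W`. -/
theorem exists_pi : ∃ π : ↥(FW S W₁) →* ↥(W₁ ⊔ W₂),
    (∀ m : ↥(FW S W₁), ∀ hm : (m : G) ∈ W₁ ⊔ W₂, π m = ⟨m, hm⟩) ∧
    (∀ m : ↥(FW S W₁), (m : G) ∈ centU S U → π m = 1) ∧
    (∀ m : ↥(FW S W₁), (m : G) ∈ Cfsg.fittingOf S → (π m : G) ∈ W₂) := by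
  classical
  haveI := Fintype.ofFinite W₁
  set P := Cfsg.fittingHallOf S with hP
  obtain ⟨q', hq'⟩ : ∃ q' : ℕ, q * q' % p = 1 := by
    obtain ⟨r, hr⟩ := Nat.exists_mul_mod_eq_one_of_coprime
      ((Nat.coprime_primes h.q_prime h.p_prime).2 h.q_ne_p) h.p_prime.one_lt
    exact ⟨r, hr.2⟩
  letI : CommGroup P := { (inferInstance : Group P) with
    mul_comm := fun a b => Subtype.ext (h.P_comm a.2 b.2) }
  set φ : W₁ → MulAut P := fun w => h.act (w : G) (h.W₁_le w.2) with hφ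
  set N : P →* P := (∏ w, (φ w).toMonoidHom) with hN
  have hNapp : ∀ x, N x = ∏ w, φ w x := fun x => by simp [hN, MonoidHom.finsetProd_apply]
  have hNfix : ∀ (v : W₁) (x : P), φ v (N x) = N x := fun v x => by
    rw [hNapp, map_prod]
    refine Fintype.prod_equiv (Equiv.mulLeft v) _ _ fun w => ?_
    show φ v (φ w x) = φ (v * w) x
    rw [← MulAut.mul_apply]
    exact congrArg (fun a => a x) (h.act_mul (h.W₁_le v.2) (h.W₁_le w.2)).symm
  have hNinv : ∀ (v : W₁) (x : P), N (φ v x) = N x := fun v x => by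
    rw [hNapp, hNapp]
    refine Fintype.prod_equiv (Equiv.mulRight v) _ _ fun w => ?_
    show φ w (φ v x) = φ (w * v) x
    rw [← MulAut.mul_apply]
    exact congrArg (fun a => a x) (h.act_mul (h.W₁_le w.2) (h.W₁_le v.2)).symm
  have hNmem : ∀ x, (N x : G) ∈ W₂ := fun x => by
    obtain ⟨w, hw, hw1⟩ := h.exists_W₁
    refine h.fixed_mem hw hw1 (h.P_le_derived (N x).2) ?_
    have := congrArg Subtype.val (hNfix ⟨w, hw⟩ x)
    rw [hφ, h.act_apply] at this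
    exact mul_inv_eq_iff_eq_mul.1 this
  have hNid : ∀ x : P, (x : G) ∈ W₂ → (N x) ^ q' = x := fun x hx => by
    have e : ∀ w : W₁, φ w x = x := fun w => Subtype.ext (by
      rw [hφ, h.act_apply, h.W₁_comm_W₂ w.2 hx, mul_inv_cancel_right])
    rw [hNapp, Finset.prod_congr rfl fun w _ => e w, Finset.prod_const, Finset.card_univ,
      ← Nat.card_eq_fintype_card, h.card_W₁, ← pow_mul]
    conv_rhs => rw [← pow_one x]
    rw [pow_eq_pow_iff_modEq]
    rcases eq_or_ne x 1 with e1 | e1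
    · rw [e1, orderOf_one]; exact Nat.modEq_one
    · have ho : orderOf x = p := by
        rw [← Subgroup.orderOf_coe, h.orderOf_P x.2 (fun e' => e1 (Subtype.ext e'))]
      rw [ho, Nat.ModEq, hq', Nat.one_mod_eq_one.2 h.p_prime.ne_one]
  choose fx hfx fc hfc he using fun (m : ↥(FW S W₁)) => h.FW_compl.2.2.2 m m.2
  choose gx hgx gc hgc hge using fun (m : ↥(FW S W₁)) => h.exists_mul_fitting (hfx m)
  have huniq : ∀ m : ↥(FW S W₁), ∀ x ∈ P, ∀ c ∈ centU S U, ∀ w ∈ W₁, (m : G) = x * c * w →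
      gx m = x ∧ fc m = w := by
    intro m x hx c hc w hw e
    have hxc : x * c ∈ Cfsg.fittingOf S := h.fitting_compl.1 hx |> fun a =>
      mul_mem a (h.fitting_compl.2.1 hc)
    have e1 : (x * c)⁻¹ * fx m = w * (fc m)⁻¹ := by
      rw [eq_mul_inv_iff_mul_eq, mul_assoc, ← he m, e]; group
    have e2 : (x * c)⁻¹ * fx m = 1 := h.fitting_inf_W₁ (mul_mem (inv_mem hxc) (hfx m))
      (e1 ▸ mul_mem hw (inv_mem (hfc m)))
    have e3 : fx m = x * c := (inv_mul_eq_one.1 e2).symm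
    have hw' : fc m = w := by
      rw [e2] at e1
      exact (mul_inv_eq_one.1 e1.symm).symm
    refine ⟨?_, hw'⟩
    have e4 : x⁻¹ * gx m = c * (gc m)⁻¹ := by
      rw [eq_mul_inv_iff_mul_eq, mul_assoc, ← hge m, e3]; group
    have e5 : x⁻¹ * gx m = 1 := h.U_inf_P
      (centU_le (e4 ▸ mul_mem hc (inv_mem (hgc m)))) (mul_mem (inv_mem hx) (hgx m))
    exact (inv_mul_eq_one.1 e5).symm
  set F : ↥(FW S W₁) → ↥(W₁ ⊔ W₂) := fun m =>
    ⟨((N ⟨gx m, hgx m⟩) ^ q' : P) * fc m, mul_mem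
      (Subgroup.mem_sup_right (by rw [SubmonoidClass.coe_pow]; exact pow_mem (hNmem _) q'))
      (Subgroup.mem_sup_left (hfc m))⟩ with hF
  have hmul : ∀ m n, F (m * n) = F m * F n := by
    intro m n
    set w := fc m
    set y : P := φ ⟨w, hfc m⟩ ⟨gx n, hgx n⟩
    have hy : (y : G) = w * gx n * w⁻¹ := h.act_apply _ _
    have e : ((m * n : ↥(FW S W₁)) : G) =
        (gx m * y) * (gc m * (w * gc n * w⁻¹)) * (w * fc n) := by
      rw [Subgroup.coe_mul, he m, he n, hge m, hge n, hy]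
      have hc1 : gc m * (w * gx n * w⁻¹) = (w * gx n * w⁻¹) * gc m :=
        ((mem_centU.1 (hgc m)).2 _ (hy ▸ y.2)).symm
      calc gx m * gc m * w * (gx n * gc n * fc n)
          = gx m * (gc m * (w * gx n * w⁻¹)) * (w * gc n * w⁻¹) * (w * fc n) := by group
        _ = _ := by rw [hc1]; group
    obtain ⟨e1, e2⟩ := huniq (m * n) _ (mul_mem (hgx m) y.2) _
      (mul_mem (hgc m) (h.conj_mem_centU (hfc m) (hgc n))) _ (mul_mem (hfc m) (hfc n)) e
    apply Subtype.ext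
    show ((N ⟨gx (m * n), hgx (m * n)⟩) ^ q' : P) * fc (m * n) =
      (((N ⟨gx m, hgx m⟩) ^ q' : P) : G) * fc m * ((((N ⟨gx n, hgx n⟩) ^ q' : P) : G) * fc n)
    rw [show (⟨gx (m * n), hgx (m * n)⟩ : P) = ⟨gx m, hgx m⟩ * y from Subtype.ext e1, map_mul,
      mul_pow, hNinv, e2, Subgroup.coe_mul]
    have hz : (((N ⟨gx n, hgx n⟩) ^ q' : P) : G) ∈ W₂ := by
      rw [SubmonoidClass.coe_pow]; exact pow_mem (hNmem _) q'
    have hwz := h.W₁_comm_W₂ (hfc m) hz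
    have hwz' : (((N ⟨gx n, hgx n⟩) ^ q' : P) : G) * w =
        fc m * (((N ⟨gx n, hgx n⟩) ^ q' : P) : G) := hwz.symm
    calc _ = (((N ⟨gx m, hgx m⟩) ^ q' : P) : G) * ((((N ⟨gx n, hgx n⟩) ^ q' : P) : G) * w) *
          fc n := by simp only [w, Subgroup.coe_mul]; group
      _ = _ := by rw [hwz']; group
  refine ⟨MonoidHom.mk' F hmul, fun m hm => ?_, fun m hm => ?_, fun m hm => ?_⟩
  · obtain ⟨a, ha, b, hb, hab⟩ := CTI.exists_mul_of_mem (fun a ha b hb => h.W₁_comm_W₂ ha hb) hm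
    obtain ⟨e1, e2⟩ := huniq m b (h.W₂_le_P hb) 1 (one_mem _) a ha (by
      rw [hab, h.W₁_comm_W₂ ha hb, mul_one])
    apply Subtype.ext
    show (((N ⟨gx m, hgx m⟩) ^ q' : P) : G) * fc m = (m : G)
    rw [show (⟨gx m, hgx m⟩ : P) = ⟨b, h.W₂_le_P hb⟩ from Subtype.ext e1,
      hNid ⟨b, h.W₂_le_P hb⟩ hb, e2, hab]
    exact (h.W₁_comm_W₂ ha hb).symm
  · obtain ⟨e1, e2⟩ := huniq m 1 (one_mem _) m hm 1 (one_mem _) (by group)
    apply Subtype.ext
    show (((N ⟨gx m, hgx m⟩) ^ q' : P) : G) * fc m = 1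
    rw [show (⟨gx m, hgx m⟩ : P) = 1 from Subtype.ext e1, map_one, one_pow, e2]
    simp
  · obtain ⟨x, hx, c, hc, hxc⟩ := h.exists_mul_fitting hm
    obtain ⟨e1, e2⟩ := huniq m x hx c hc 1 (one_mem _) (by rw [hxc, mul_one])
    show (((N ⟨gx m, hgx m⟩) ^ q' : P) : G) * fc m ∈ W₂
    rw [e2, mul_one, SubmonoidClass.coe_pow]
    exact pow_mem (hNmem _) q'

/-- The elements of `F(S) W₁` outside `F(S)` are conjugate into `W \ W₂`. -/
theorem exists_conj_mem_W {m : G} (hm : m ∈ FW S W₁) (hmF : m ∉ Cfsg.fittingOf S) :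
    ∃ f ∈ Cfsg.fittingOf S, f * m * f⁻¹ ∈ W₁ ⊔ W₂ ∧ f * m * f⁻¹ ∉ W₂ := by
  classical
  obtain ⟨a, ha, w, hw, rfl⟩ := h.FW_compl.2.2.2 m hm
  have hw1 : w ≠ 1 := fun e => hmF (by rwa [e, mul_one])
  set A := Cfsg.fittingOf S with hA
  letI : CommGroup A := { (inferInstance : Group A) with
    mul_comm := fun a b => Subtype.ext (h.fitting_comm a.2 b.2) }
  have hcA : ∀ f : A, w * f * w⁻¹ ∈ A := fun f => h.conj_mem_fitting (h.W₁_le hw) f.2
  let Φ : A →* A := MonoidHom.mk' (fun f => f * (⟨w * f * w⁻¹, hcA f⟩ : A)⁻¹) fun f g => by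
    rw [mul_mul_mul_comm, ← mul_inv]
    congr 2
    exact Subtype.ext (show w * ((f : G) * g) * w⁻¹ = (w * f * w⁻¹) * (w * g * w⁻¹) by group)
  set Z := W₂.subgroupOf A with hZ
  have hZA : W₂ ≤ A := h.W₂_le_fitting
  have hker : Φ.ker = Z := by
    ext f
    rw [MonoidHom.mem_ker, Subgroup.mem_subgroupOf]
    constructor
    · intro e
      have e' : (f : G) = w * f * w⁻¹ := congrArg Subtype.val (mul_inv_eq_one.1 e)
      exact h.fixed_mem hw hw1 (h.fitting_le f.2) (mul_inv_eq_iff_eq_mul.1 e'.symm)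
    · intro hf
      refine mul_inv_eq_one.2 (Subtype.ext ?_)
      show (f : G) = w * f * w⁻¹
      rw [h.W₁_comm_W₂ hw hf, mul_inv_cancel_right]
  have hdis : Disjoint Φ.range Z := by
    rw [disjoint_iff, eq_bot_iff]
    rintro d ⟨⟨f, hf⟩, hd⟩
    have hdW : (d : G) ∈ W₂ := hd
    have hdw : (f : G) * (w * f * w⁻¹)⁻¹ = d := congrArg Subtype.val hf
    have hc : Commute w (d : G) := h.W₁_comm_W₂ hw hdW
    have key : ∀ k : ℕ, w ^ k * f * (w ^ k)⁻¹ = ((d : G) ^ k)⁻¹ * f := by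
      intro k
      induction k with
      | zero => simp
      | succ k ih =>
        have e1 : w * f * w⁻¹ = (d : G)⁻¹ * f := by rw [← hdw]; group
        have hci : w * ((d : G) ^ k)⁻¹ = ((d : G) ^ k)⁻¹ * w := (hc.pow_right k).inv_right.eq
        calc w ^ (k + 1) * f * (w ^ (k + 1))⁻¹ = w * (w ^ k * f * (w ^ k)⁻¹) * w⁻¹ := by
              rw [pow_succ']; group
          _ = w * ((d : G) ^ k)⁻¹ * f * w⁻¹ := by rw [ih]; group
          _ = ((d : G) ^ k)⁻¹ * (w * f * w⁻¹) := by rw [hci]; group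
          _ = ((d : G) ^ (k + 1))⁻¹ * f := by rw [e1, pow_succ']; group
    have h1 := key q
    have hwq : w ^ q = 1 := by rw [← h.orderOf_W₁ hw hw1]; exact pow_orderOf_eq_one w
    rw [hwq] at h1
    simp only [one_mul, inv_one, mul_one] at h1
    have h2 : (d : G) ^ q = 1 := by
      have := congrArg (fun t => ((d : G) ^ q) * t * (f : G)⁻¹) h1
      simpa using this
    rw [Subgroup.mem_bot]
    by_contra hd1
    have ho : orderOf (d : G) = p := h.orderOf_P (h.W₂_le_P hdW) fun e => hd1 (Subtype.ext e)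
    exact h.p_prime.ne_one (Nat.eq_one_of_dvd_coprimes
      ((Nat.coprime_primes h.q_prime h.p_prime).2 h.q_ne_p)
      (ho ▸ orderOf_dvd_of_pow_eq_one h2) dvd_rfl)
  have hcompl : Subgroup.IsComplement' Φ.range Z := by
    refine Subgroup.isComplement'_of_disjoint_and_mul_eq_univ hdis ?_
    have hc' : Φ.range ⊔ Z = ⊤ := by
      refine Subgroup.eq_top_of_le_card _ ?_
      have h1 := Φ.ker.card_mul_index
      rw [Subgroup.index_ker, hker] at h1
      have h2 : Nat.card ↥(Φ.range ⊔ Z) = Nat.card Φ.range * Nat.card Z :=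
        OddLocal.card_of_isComplIn (OddLocal.isComplIn_sup
          (fun z _ => by rw [Subgroup.normalizer_eq_top]; exact Subgroup.mem_top z) hdis.eq_bot)
      rw [h2, mul_comm, h1]
    rw [← Subgroup.mul_normal, hc', Subgroup.coe_top]
  obtain ⟨⟨⟨r, ⟨f, rfl⟩⟩, ⟨z, hz⟩⟩, hrz⟩ := (hcompl.existsUnique ⟨a, ha⟩).exists
  have hzW : (z : G) ∈ W₂ := hz
  have haz : a = (f : G) * (w * f * w⁻¹)⁻¹ * z := congrArg Subtype.val hrz.symm
  refine ⟨(f : G)⁻¹, inv_mem f.2, ?_⟩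
  have e : (f : G)⁻¹ * (a * w) * (f : G)⁻¹⁻¹ = z * w := by
    rw [haz]
    have hcomm : (w * f * w⁻¹)⁻¹ * z = z * (w * f * w⁻¹)⁻¹ :=
      h.fitting_comm (inv_mem (hcA f)) z.2
    calc (f : G)⁻¹ * ((f : G) * (w * f * w⁻¹)⁻¹ * z * w) * (f : G)⁻¹⁻¹
        = ((w * f * w⁻¹)⁻¹ * z) * (w * f) := by group
      _ = _ := by rw [hcomm]; group
  rw [e]
  refine ⟨mul_mem (Subgroup.mem_sup_right hzW) (Subgroup.mem_sup_left hw), fun h' => hw1 ?_⟩
  exact h.fitting_inf_W₁ (h.W₂_le_fitting (by simpa using mul_mem (inv_mem hzW) h')) hw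

/-- `W \ W₂` is a TI-set in `S`. -/
theorem mem_W_of_conj {s t : G} (hs : s ∈ S) (ht : t ∈ W₁ ⊔ W₂) (ht₂ : t ∉ W₂)
    (hst : s * t * s⁻¹ ∈ W₁ ⊔ W₂) : s ∈ W₁ ⊔ W₂ := by
  obtain ⟨a, ha, b, hb, rfl⟩ := CTI.exists_mul_of_mem (fun a ha b hb => h.W₁_comm_W₂ ha hb) ht
  obtain ⟨a', ha', b', hb', he⟩ := CTI.exists_mul_of_mem (fun a ha b hb => h.W₁_comm_W₂ ha hb) hst
  have ha1 : a ≠ 1 := fun e => ht₂ (by rwa [e, one_mul])
  have hbp : ∀ x ∈ W₂, x ^ p = 1 := fun x hx => h.P_elem.2 x (h.W₂_le_P hx)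
  have hap : a ^ p ≠ 1 := fun e => ha1 (by
    have := Nat.eq_one_of_dvd_coprimes ((Nat.coprime_primes h.p_prime h.q_prime).2 h.q_ne_p.symm)
      (orderOf_dvd_of_pow_eq_one e) (h.card_W₁ ▸ Subgroup.orderOf_dvd_natCard _ ha)
    exact orderOf_eq_one_iff.1 this)
  have hpow : s * a ^ p * s⁻¹ = a' ^ p := by
    have := congrArg (· ^ p) he
    simp only [conj_pow] at this
    rwa [(show Commute a b from h.W₁_comm_W₂ ha hb).mul_pow,
      (show Commute a' b' from h.W₁_comm_W₂ ha' hb').mul_pow, hbp b hb, hbp b' hb', mul_one,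
      mul_one] at this
  obtain ⟨d, hd, v, hv, rfl⟩ := h.data.W₁_compl.2.2.2 s hs
  have hva : v * a ^ p * v⁻¹ = a ^ p := by
    haveI := h.data.W₁_cyclic
    have hc := congrArg Subtype.val ((IsCyclic.isMulCommutative (α := W₁)).is_comm.comm
      ⟨v, hv⟩ ⟨a ^ p, pow_mem ha p⟩)
    simp only [Subgroup.coe_mul] at hc
    rw [hc, mul_inv_cancel_right]
  have e2 : d * a ^ p * d⁻¹ = a' ^ p := by
    rw [← hpow]
    calc d * a ^ p * d⁻¹ = d * (v * a ^ p * v⁻¹) * d⁻¹ := by rw [hva]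
      _ = _ := by group
  have hd' : d * (a ^ p * d⁻¹ * (a ^ p)⁻¹) ∈ ⁅S, S⁆ := by
    refine mul_mem hd ?_
    rw [show a ^ p * d⁻¹ * (a ^ p)⁻¹ = ⁅a ^ p, d⁻¹⁆ * d⁻¹ by rw [commutatorElement_def]; group]
    exact mul_mem (Subgroup.commutator_mem_commutator (h.W₁_le (pow_mem ha p))
      (h.derived_le (inv_mem hd))) (inv_mem hd)
  have e3 : a' ^ p * (a ^ p)⁻¹ = d * (a ^ p * d⁻¹ * (a ^ p)⁻¹) := by rw [← e2]; group
  have e4 := h.derived_inf_W₁ (e3 ▸ hd') (mul_mem (pow_mem ha' p) (inv_mem (pow_mem ha p)))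
  rw [mul_inv_eq_one.1 e4] at e2
  exact mul_mem (Subgroup.mem_sup_right (h.fixed_mem (pow_mem ha p) hap hd
    (mul_inv_eq_iff_eq_mul.1 e2).symm)) (Subgroup.mem_sup_left hv)

/-- A fixed linear character gives a fixed point. -/
theorem exists_fixed_of_char {X : Subgroup (MulAut (Cfsg.fittingHallOf S))} (hX : X ≤ Ubar S U)
    {α : Cfsg.fittingHallOf S →* ℂˣ} (hα : α ≠ 1) (hfix : ∀ a ∈ X, ∀ x, α (a x) = α x) :
    ∃ y : Cfsg.fittingHallOf S, y ≠ 1 ∧ ∀ a ∈ X, a y = y := by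
  classical
  letI : CommGroup (Cfsg.fittingHallOf S) := { (inferInstance : Group (Cfsg.fittingHallOf S)) with
    mul_comm := fun a b => Subtype.ext (h.P_comm a.2 b.2) }
  haveI := Fintype.ofFinite X
  obtain ⟨x, hx⟩ : ∃ x, α x ≠ 1 := by
    by_contra hne
    push Not at hne
    exact hα (MonoidHom.ext hne)
  refine ⟨∏ a : X, (a : MulAut (Cfsg.fittingHallOf S)) x, fun e => hx ?_, fun b hb => ?_⟩
  · have h1 := congrArg α e
    rw [map_prod, map_one, Finset.prod_congr rfl fun (a : X) _ => hfix a a.2 x, Finset.prod_const,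
      Finset.card_univ, ← Nat.card_eq_fintype_card] at h1
    have h2 : α x ^ p = 1 := by
      rw [← map_pow, show x ^ p = 1 from Subtype.ext (h.P_elem.2 x x.2), map_one]
    refine orderOf_eq_one_iff.1 (Nat.eq_one_of_dvd_coprimes ?_ (orderOf_dvd_of_pow_eq_one h2)
      (orderOf_dvd_of_pow_eq_one h1))
    refine h.coprime_p_u.coprime_dvd_right ((Subgroup.card_dvd_of_le hX).trans ?_)
    rw [h.card_Ubar]
    exact Dvd.intro_left _ h.relIndex_centU_mul
  · rw [map_prod]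
    exact Fintype.prod_equiv (Equiv.mulLeft ⟨b, hb⟩) _ _ fun a => rfl

/-- An element of `U` fixing a non-trivial character that `W₁` fixes lies in `C`. -/
theorem mem_centU_of_fix_char {α : Cfsg.fittingHallOf S →* ℂˣ} (hα : α ≠ 1)
    (hW : ∀ (w : G) (hw : w ∈ W₁) (x : Cfsg.fittingHallOf S), α (h.act w (h.W₁_le hw) x) = α x)
    {u : G} (hu : u ∈ U) (hfix : ∀ x, α (h.act u (h.U_le hu) x) = α x) : u ∈ centU S U := by
  set X : Subgroup (MulAut (Cfsg.fittingHallOf S)) :=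
    { carrier := {a | a ∈ Ubar S U ∧ ∀ x, α (a x) = α x}
      one_mem' := ⟨one_mem _, fun _ => rfl⟩
      mul_mem' := fun {a b} ha hb => ⟨mul_mem ha.1 hb.1, fun x => by
        rw [MulAut.mul_apply, ha.2, hb.2]⟩
      inv_mem' := fun {a} ha => ⟨inv_mem ha.1, fun x => by
        rw [← ha.2 (a⁻¹ x), MulAut.apply_inv_self]⟩ } with hX
  have hXU : X ≤ Ubar S U := fun a ha => ha.1
  obtain ⟨y, hy, hyX⟩ := h.exists_fixed_of_char hXU hα fun a ha => ha.2
  have hbot := h.key_Ubar hXU (fun w hw a ha => ⟨h.conjW_mem hw ha.1, fun x => by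
    rw [MulAut.mul_apply, MulAut.mul_apply, hW w hw, ha.2,
      ← hW w hw ((h.act w (h.W₁_le hw))⁻¹ x), MulAut.apply_inv_self]⟩) hy hyX
  rw [← h.act_eq_one hu, ← Subgroup.mem_bot, ← hbot]
  exact ⟨h.act_mem hu, hfix⟩

end Side

end CfsgLib.OddChar.Pair
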