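import Cfsg.Agent.Lib.OddChar.TICoherent
import Cfsg.Agent.Lib.OddChar.IrrKernel

/-!
# No group of odd order is covered by coprime TI Frobenius kernels (Suzuki)

* `Family`, `exists_family`: the exceptional characters of one kernel;
* `family_disjoint`, `family_parity`, `family_out`, `family_in`;
* `no_partition`.
-/

namespace CfsgLib.OddChar.Partition

open CfsgLib.Char CfsgLib.CharNormal CfsgLib.OddChar.Coh CfsgLib.OddChar.Above
open scoped ComplexConjugate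

variable {G : Type*} [Group G] [Fintype G]

/-- `x` is the identity or has no conjugate in `H`. -/
def Off (H : Subgroup G) (x : G) : Prop := x = 1 ∨ ∀ y : G, y * x * y⁻¹ ∉ H

open Classical in
/-- The nonidentity elements of a subgroup. -/
noncomputable def sharp (H : Subgroup G) : Finset G := Finset.univ.filter fun x => x ∈ H ∧ x ≠ 1

theorem mem_sharp {H : Subgroup G} {x : G} : x ∈ sharp H ↔ x ∈ H ∧ x ≠ 1 := by
  simp [sharp]

/-- The data of the exceptional characters of a kernel `H`. -/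
structure Family (H : Subgroup G) where
  e : ℕ
  m : ℕ
  F : Finset (Cfsg.IrrCharacter G)
  b : Cfsg.IrrCharacter G → ℤ
  g : Cfsg.IrrCharacter G → ℤ
  η₀ : Cfsg.IrrCharacter G
  Γ : G → ℂ
  two_le_e : 2 ≤ e
  two_le_m : 2 ≤ m
  even_m : Even m
  card_eq : Nat.card H = e * m + 1
  mem_η₀ : η₀ ∈ F
  b_η₀ : b η₀ = 1
  b_ne : ∀ η ∈ F, b η ≠ 0
  sum_b : ∑ η ∈ F, b η ^ 2 = (m : ℤ)
  two_le_card : 2 ≤ F.card
  rel : ∀ η ∈ F, ∀ η' ∈ F, ∀ x, Off H x →
    (b η' : ℂ) * (η : G → ℂ) x = (b η : ℂ) * (η' : G → ℂ) x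
  const : ∀ η, η ∉ F → ∀ x ∈ sharp H, (η : G → ℂ) x = (g η : ℂ)
  nonconst : ∀ η ∈ F, ∃ x ∈ sharp H, ∃ y ∈ sharp H, (η : G → ℂ) x ≠ (η : G → ℂ) y
  g_one : g irrOne = 1
  g_spec : ∀ η : Cfsg.IrrCharacter G, Cfsg.classInner Γ (η : G → ℂ) = (g η : ℂ)
  Γ_gen : Cfsg.IsGeneralizedCharacter G Γ
  Γ_off : ∀ x, Off H x → Γ x = 0
  Γ_norm : ∑ η : Cfsg.IrrCharacter G, g η ^ 2 = (e : ℤ) + 1
  odd_gb : Odd (∑ η ∈ F, g η * b η)
  big : (e : ℝ) * ((e * m + 1 : ℕ) : ℝ) - (e : ℝ) ^ 2 ≤ ∑ x ∈ sharp H, ‖(η₀ : G → ℂ) x‖ ^ 2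

/-- Values on the kernel: a sum over `L` of a function supported on `K`. -/
theorem sum_support {L : Type*} [Group L] [Fintype L] (K : Subgroup L) (f : L → ℂ)
    (hf : ∀ x, x ∉ K → f x = 0) : ∑ x, f x = f 1 + ∑ x ∈ sharp K, f x := by
  classical
  rw [← Finset.add_sum_erase _ _ (Finset.mem_univ (1 : L))]
  congr 1
  refine (Finset.sum_subset (fun x hx => Finset.mem_erase.mpr ⟨(mem_sharp.mp hx).2, Finset.mem_univ _⟩)
    fun x hx hn => hf x fun hK => hn (mem_sharp.mpr ⟨hK, (Finset.mem_erase.mp hx).1⟩)).symm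

open Classical in
theorem exists_family (H L : Subgroup G) [Fintype L] [(H.subgroupOf L).Normal]
    (hodd : Odd (Nat.card L))
    (hC : ∀ k ∈ H.subgroupOf L, k ≠ 1 → Subgroup.centralizer ({k} : Set L) ≤ H.subgroupOf L)
    (hnt : H.subgroupOf L ≠ ⊥) (hKL : H.subgroupOf L < ⊤) (hHL : H ≤ L)
    (hN : Subgroup.normalizer (H : Set G) = L) (hTI : Cfsg.IsTISubset (H : Set G)) :
    ∃ D : Family H, D.e * Nat.card H = Nat.card L := by
  set K := H.subgroupOf L with hKdef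
  have := Fintype.ofFinite K
  have hnil := nilpotent_kernel K hKL.ne hC
  have hsolv : Group.IsSolvable K := inferInstance
  obtain ⟨⟨hiso, hiso1⟩, -⟩ := system_TI H L hodd hC hnt hsolv hN hTI
  obtain ⟨-, σ, ⟨hσa, hσs, hσi, hσg⟩, hag⟩ := coherent_TI H L hodd hC hnt hKL hnil hHL hN hTI
  set S := Cfsg.inducedIrrAbove K ⊥ with hS
  have hmS : ∀ φ ∈ S, φ ∈ Cfsg.zspan S := fun φ h => mem_zspan h
  have hirr : ∀ φ ∈ S, Cfsg.IsIrrCharacter L φ := fun φ h => irr_of_above K hC h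
  have hch : ∀ φ ∈ S, Cfsg.IsCharacter L φ := fun φ h => isCharacter_of_isIrr (hirr φ h)
  have hδ : ∀ φ ∈ S, ∀ φ' ∈ S, Cfsg.classInner φ φ' = if φ = φ' then 1 else 0 := fun φ h φ' h' => by
    split_ifs with he
    · subst he; exact classInner_irr_self (hirr φ h)
    · exact classInner_irr_ne (hirr φ h) (hirr φ' h') he
  have hσσ : ∀ φ ∈ S, ∀ φ' ∈ S, Cfsg.classInner (σ φ) (σ φ') = if φ = φ' then 1 else 0 :=
    fun φ h φ' h' => by rw [hσi φ (hmS φ h) φ' (hmS φ' h'), hδ φ h φ' h']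
  set e := K.index with he
  have hepos : 0 < e := Nat.pos_of_ne_zero K.index_ne_zero_of_finite
  have hcardK : Nat.card K = Nat.card H := Nat.card_congr (Subgroup.subgroupOfEquivOfLe hHL).toEquiv
  obtain ⟨φ₀, hφ₀, hd₀⟩ := exists_deg_index K ⊥ hsolv (bot_lt_iff_ne_bot.mpr hnt)
  set T := (above_finite K ⊥).toFinset with hTdef
  have hT : ∀ {φ}, φ ∈ T ↔ φ ∈ S := fun {φ} => Set.Finite.mem_toFinset _
  set bb : (L → ℂ) → ℕ := fun φ => deg φ / e with hbb
  have hdeg : ∀ φ ∈ S, deg φ = e * bb φ ∧ 0 < bb φ := by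
    intro φ hφ
    obtain ⟨θ, hθ, -, -, hind⟩ := id hφ
    obtain ⟨n, hn0, hn⟩ := exists_degree_pos hθ
    have hdn : deg φ = e * n := by rw [hind]; exact deg_indFun K hn
    have : bb φ = n := by rw [hbb]; simp only [hdn]; exact Nat.mul_div_cancel_left n hepos
    rw [this]; exact ⟨hdn, hn0⟩
  have hb₀ : bb φ₀ = 1 := by rw [hbb]; simp only [hd₀]; exact Nat.div_self hepos
  have hval : ∀ φ ∈ S, φ 1 = (bb φ : ℂ) * φ₀ 1 := fun φ h => by
    rw [deg_spec (hch φ h), deg_spec (hch φ₀ hφ₀), (hdeg φ h).1, (hdeg φ₀ hφ₀).1, hb₀]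
    push_cast; ring
  have hαS : ∀ φ ∈ S, φ - (bb φ : ℤ) • φ₀ ∈ Cfsg.zspanOn S {1}ᶜ := fun φ h =>
    mem_zspanOn_one (Submodule.sub_mem _ (hmS φ h) (Submodule.smul_mem _ _ (hmS φ₀ hφ₀)))
      (by simp [hval φ h])
  have hσα : ∀ φ ∈ S, σ φ - (bb φ : ℂ) • σ φ₀ = Cfsg.indFun L (φ - (bb φ : ℤ) • φ₀) := fun φ h => by
    refine Eq.trans ?_ (hag _ (hαS φ h))
    rw [sub_eq_add_neg (a := φ), ← neg_smul, hσa _ (hmS φ h) _
      (Submodule.smul_mem _ _ (hmS φ₀ hφ₀)), hσs _ (hmS φ₀ hφ₀), ← Int.cast_smul_eq_zsmul ℂ,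
      Int.cast_neg, Int.cast_natCast, neg_smul, ← sub_eq_add_neg]
  -- signs
  have hsign : ∀ φ ∈ S, ∃ (η : Cfsg.IrrCharacter G) (s : ℤ), (s = 1 ∨ s = -1) ∧
      σ φ = (s : ℂ) • (η : G → ℂ) := fun φ h => by
    rcases gen_norm_one (hσg φ (hmS φ h)) (by rw [hσσ φ h φ h, if_pos rfl]) with h' | h'
    · exact ⟨⟨_, h'⟩, 1, Or.inl rfl, by simp⟩
    · exact ⟨⟨_, h'⟩, -1, Or.inr rfl, by simp⟩
  have : Nonempty (Cfsg.IrrCharacter G) := ⟨irrOne⟩
  choose! η s hs hση using hsign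
  have hss : ∀ φ ∈ S, (s φ : ℂ) * (s φ : ℂ) = 1 := fun φ h => by
    rcases hs φ h with h' | h' <;> simp [h']
  have hηinj : ∀ φ ∈ S, ∀ φ' ∈ S, η φ = η φ' → φ = φ' := by
    intro φ h φ' h' he'
    by_contra hne
    have h1 := hσσ φ h φ' h'
    rw [if_neg hne, hση φ h, hση φ' h', ← he', classInner_smul_left, classInner_smul_right,
      classInner_irr_self (η φ).2, map_intCast, mul_one, mul_eq_zero] at h1
    rcases hs φ h with x | x <;> rcases hs φ' h' with y | y <;> simp [x, y] at h1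
  set F := T.image η with hF
  set b : Cfsg.IrrCharacter G → ℤ := fun ω =>
    ∑ φ ∈ T, if η φ = ω then s φ₀ * s φ * (bb φ : ℤ) else 0 with hb
  have hbη : ∀ φ ∈ S, b (η φ) = s φ₀ * s φ * (bb φ : ℤ) := fun φ h => by
    simp only [hb]
    rw [Finset.sum_eq_single φ, if_pos rfl]
    · intro φ' h' hne; exact if_neg fun e' => hne (hηinj φ' (hT.mp h') φ h e')
    · exact fun h' => absurd (hT.mpr h) h'
  -- `γ` and `Γ`
  set γ : L → ℂ := Cfsg.indFun K (fun _ => 1) - φ₀ with hγ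
  have hγgen : Cfsg.IsGeneralizedCharacter L γ :=
    isGen_sub (isGen_indFun K (isGen_one (G := K))) (isGen_of_irr (hirr φ₀ hφ₀))
  have hsupp : ∀ φ ∈ S, ∀ x, x ∉ K → φ x = 0 := fun φ h x hx => above_support K h hx
  have hγsupp : ∀ x, x ∉ K → γ x = 0 := fun x hx => by
    rw [hγ, Pi.sub_apply, hsupp φ₀ hφ₀ x hx, sub_zero]
    refine indFun_eq_zero_of_forall _ fun y hy => absurd ?_ hx
    simpa [mul_assoc] using ‹K.Normal›.conj_mem _ hy y
  have hγ1 : γ 1 = 0 := by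
    rw [hγ, Pi.sub_apply, indFun_one, deg_spec (hch φ₀ hφ₀), hd₀, mul_one, sub_self]
  have hind1 : ∀ φ ∈ S, Cfsg.classInner (Cfsg.indFun K (fun _ => 1)) φ = 0 := by
    intro φ h
    rw [frobenius_reciprocity K _ (isClassFunction_of_isIrr (hirr φ h)), ← classInner_conj_symm]
    rw [map_eq_zero]
    by_contra hne
    obtain ⟨-, k, hk, hne'⟩ := (above_eq_relevant K hC ▸ h : φ ∈ {χ | Cfsg.IsIrrCharacter L χ ∧ ∃ k ∈ K, χ k ≠ χ 1})
    exact hne' (res_eq_degree_of_constituent_one K (hirr φ h) hne k hk)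
  have h1φ : ∀ φ ∈ S, Cfsg.classInner φ (fun _ => 1) = 0 := by
    intro φ h
    obtain ⟨-, k, -, hne'⟩ := (above_eq_relevant K hC ▸ h : φ ∈ {χ | Cfsg.IsIrrCharacter L χ ∧ ∃ k ∈ K, χ k ≠ χ 1})
    exact classInner_irr_ne (hirr φ h) isIrrCharacter_one fun e' => hne' (by rw [e'])
  have hγ1inn : Cfsg.classInner γ (fun _ => 1) = 1 := by
    rw [hγ, classInner_sub_left, h1φ φ₀ hφ₀, sub_zero,
      frobenius_reciprocity K _ (isClassFunction_const 1)]
    exact classInner_irr_self (G := K) isIrrCharacter_one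
  -- a function constant on the nonidentity elements of the kernel
  have hpair : ∀ (f X : L → ℂ) (c : ℂ), (∀ x, x ∉ K → f x = 0) → f 1 = 0 →
      (∀ x ∈ sharp K, X x = c) → Cfsg.classInner f X = conj c * Cfsg.classInner f (fun _ => 1) := by
    intro f X c hf hf1 hX
    rw [classInner_def, classInner_def, ← mul_assoc, mul_comm (conj c), mul_assoc]
    congr 1
    rw [sum_support K _ (fun x hx => by rw [hf x hx, zero_mul]),
      sum_support K (fun x => f x * conj 1) (fun x hx => by rw [hf x hx, zero_mul]), hf1]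
    simp only [zero_mul, zero_add, map_one, mul_one]
    rw [Finset.mul_sum]
    exact Finset.sum_congr rfl fun x hx => by rw [hX x hx, mul_comm]
  have hrel : ∀ χ : L → ℂ, Cfsg.IsIrrCharacter L χ → IsRelevant K χ → χ ∈ S := fun χ h h' => by
    rw [hS, above_eq_relevant K hC]; exact ⟨h, h'⟩
  -- orthogonality to the differences means constancy
  have hconst : ∀ X : L → ℂ, Cfsg.IsGeneralizedCharacter L X →
      (∀ φ ∈ S, Cfsg.classInner X (φ - (bb φ : ℤ) • φ₀) = 0) →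
      ∀ x ∈ sharp K, X x = conj (Cfsg.classInner γ X) := by
    intro X hX hort x hx
    have hc : ∀ y ∈ sharp K, X y = X x := fun y hy => by
      refine apply_eq_of_orthogonal K (isClassFunction_of_isGen hX) (fun χ ξ h1 h2 h3 h4 => ?_)
        (mem_sharp.mp hy).1 (mem_sharp.mp hy).2 (mem_sharp.mp hx).1 (mem_sharp.mp hx).2
      have hχS := hrel χ h1 h2
      have hξS := hrel ξ h3 h4
      have e1 := hort χ hχS
      have e2 := hort ξ hξS
      simp only [← Int.cast_smul_eq_zsmul ℂ, Int.cast_natCast, classInner_sub_right,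
        classInner_smul_right, map_natCast] at e1 e2
      rw [classInner_sub_right, classInner_smul_right, classInner_smul_right,
        char_conj_one (isCharacter_of_isIrr h1), char_conj_one (isCharacter_of_isIrr h3),
        hval χ hχS, hval ξ hξS]
      linear_combination ((bb ξ : ℂ) * φ₀ 1) * e1 - ((bb χ : ℂ) * φ₀ 1) * e2
    rw [hpair γ X (X x) hγsupp hγ1 hc, hγ1inn, mul_one, Complex.conj_conj]
  set Γ := Cfsg.indFun L γ with hΓ
  have hΓgen : Cfsg.IsGeneralizedCharacter G Γ := isGen_indFun L hγgen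
  choose g hg using fun ω : Cfsg.IrrCharacter G => classInner_gen_int hΓgen (isGen_of_irr ω.2)
  have hfr : ∀ (f : L → ℂ) (ω : G → ℂ), Cfsg.IsClassFunction G ω →
      Cfsg.classInner (Cfsg.indFun L f) ω = Cfsg.classInner f (fun x : L => ω x) :=
    fun f ω hω => frobenius_reciprocity L f hω
  have hTI' : ∀ y : G, y ∉ L → ∀ t ∈ (H : Set G), y * t * y⁻¹ ∈ (H : Set G) → t = 1 :=
    fun y hy => hTI y (hN ▸ hy)
  have hoff : ∀ f : L → ℂ, (∀ x, x ∉ K → f x = 0) → f 1 = 0 → ∀ x, Off H x →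
      Cfsg.indFun L f x = 0 := by
    intro f hf hf1 x hx
    rcases hx with rfl | hx
    · rw [indFun_one, hf1, mul_zero]
    rw [indFun_apply, Finset.sum_eq_zero, mul_zero]
    intro y _
    by_cases hy : y⁻¹ * x * y ∈ L
    · rw [extendByZero_of_mem _ hy]
      refine hf _ fun h => hx y⁻¹ ?_
      simpa using Subgroup.mem_subgroupOf.mp h
    · exact extendByZero_of_notMem _ hy
  have hαsupp : ∀ φ ∈ S, ∀ x, x ∉ K → (φ - (bb φ : ℤ) • φ₀) x = 0 := fun φ h x hx => by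
    simp [hsupp φ h x hx, hsupp φ₀ hφ₀ x hx]
  have hsharp : ∀ {x : L}, x ∈ sharp K ↔ (x : G) ∈ sharp H := fun {x} => by
    rw [mem_sharp, mem_sharp, hKdef, Subgroup.mem_subgroupOf]
    exact and_congr_right fun _ => not_congr Subtype.ext_iff
  -- the inner products with `Γ` on the family
  have hΓσ : ∀ φ ∈ S, Cfsg.classInner Γ (σ φ) =
      -(if φ = φ₀ then (1 : ℂ) else 0) + (bb φ : ℂ) * (Cfsg.classInner Γ (σ φ₀) + 1) := by
    intro φ h
    have h1 : Cfsg.classInner Γ (σ φ - (bb φ : ℂ) • σ φ₀) =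
        Cfsg.classInner γ (φ - (bb φ : ℤ) • φ₀) := by
      rw [hσα φ h]
      exact classInner_indFun_of_TI L (H : Set G) hTI'
        (isClassFunction_of_isGen (isGen_sub (isGen_of_irr (hirr φ h)) (by
          rw [← Int.cast_smul_eq_zsmul ℂ]; exact isGen_intCast_smul (isGen_of_irr (hirr φ₀ hφ₀)) _)))
        hγsupp (hαsupp φ h) hγ1
    rw [classInner_sub_right, classInner_smul_right, map_natCast] at h1
    simp only [hγ, ← Int.cast_smul_eq_zsmul ℂ, Int.cast_natCast, classInner_sub_left,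
      classInner_sub_right, classInner_smul_right, map_natCast, hind1 φ h, hind1 φ₀ hφ₀,
      hδ φ₀ hφ₀ φ h, hδ φ₀ hφ₀ φ₀ hφ₀, if_true, eq_comm (a := φ₀) (b := φ)] at h1
    linear_combination h1
  have hnotF : ∀ ω : Cfsg.IrrCharacter G, ω ∉ F → ∀ φ ∈ S, Cfsg.classInner (ω : G → ℂ) (σ φ) = 0 :=
    fun ω hω φ h => by
      rw [hση φ h, classInner_smul_right, classInner_irr_ne ω.2 (η φ).2 (fun e' => hω ?_), mul_zero]
      rw [Subtype.ext e']; exact Finset.mem_image_of_mem _ (hT.mpr h)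
  have hconstF : ∀ ω : Cfsg.IrrCharacter G, ω ∉ F → ∀ x ∈ sharp H, (ω : G → ℂ) x = (g ω : ℂ) := by
    intro ω hω x hx
    have hxL : x ∈ L := hHL (mem_sharp.mp hx).1
    have h := hconst (fun y : L => (ω : G → ℂ) y) (isGen_res L (isGen_of_irr ω.2)) (fun φ h => by
      rw [← frobenius_reciprocity' L _ (isClassFunction_of_isIrr ω.2), ← hσα φ h, classInner_sub_right,
        classInner_smul_right, hnotF ω hω φ h, hnotF ω hω φ₀ hφ₀, mul_zero, sub_zero])
      ⟨x, hxL⟩ (hsharp.mpr hx)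
    rw [← hfr γ _ (isClassFunction_of_isIrr ω.2), ← hΓ, hg ω, map_intCast] at h
    exact h
  have hcne : ∀ φ ∈ S, Cfsg.conjFun φ ≠ φ := fun φ h => above_conj_ne K hC hodd h
  have hnonconst : ∀ φ ∈ S, ∃ x ∈ sharp H, ∃ y ∈ sharp H,
      (η φ : G → ℂ) x ≠ (η φ : G → ℂ) y := by
    intro φ h
    by_contra hcon
    push Not at hcon
    obtain ⟨k, hk, hk1⟩ : ∃ k ∈ K, k ≠ 1 := by
      by_contra hh; push Not at hh; exact hnt ((Subgroup.eq_bot_iff_forall K).mpr hh)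
    have hkH : (k : G) ∈ sharp H := hsharp.mp (mem_sharp.mpr ⟨hk, hk1⟩)
    have hcS := above_conj K ⊥ h
    set α : L → ℂ := φ - Cfsg.conjFun φ
    have hα : α ∈ Cfsg.zspanOn S {1}ᶜ := mem_zspanOn_one
      (Submodule.sub_mem _ (hmS φ h) (hmS _ hcS)) (by simp [α, Cfsg.conjFun, char_conj_one (hch φ h)])
    have h1 : Cfsg.classInner (Cfsg.indFun L α) (η φ : G → ℂ) = 0 := by
      rw [hfr α _ (isClassFunction_of_isIrr (η φ).2), hpair α _ ((η φ : G → ℂ) (k : G))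
        (fun x hx => by simp [α, Cfsg.conjFun, hsupp φ h x hx]) (apply_one_of_mem hα)
        (fun x hx => hcon _ (hsharp.mp hx) _ hkH), classInner_sub_left, h1φ φ h, h1φ _ hcS, sub_zero,
        mul_zero]
    rw [show Cfsg.indFun L α = σ α from (hag α hα).symm, show α = φ - Cfsg.conjFun φ from rfl, sub_eq_add_neg φ, ← neg_one_smul ℤ (Cfsg.conjFun φ),
      hσa _ (hmS φ h) _ (Submodule.smul_mem _ _ (hmS _ hcS)), hσs _ (hmS _ hcS),
      ← Int.cast_smul_eq_zsmul ℂ, classInner_add_left, classInner_smul_left, hση φ h,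
      hση _ hcS, classInner_smul_left, classInner_smul_left, classInner_irr_self (η φ).2,
      classInner_irr_ne (η _).2 (η φ).2 (fun e' => hcne φ h (hηinj _ hcS φ h (Subtype.ext e'))),
      mul_zero, mul_zero, add_zero, mul_one] at h1
    rcases hs φ h with hh | hh <;> simp [hh] at h1
  -- arithmetic
  set m : ℕ := ∑ φ ∈ T, bb φ ^ 2 with hm
  have hHm : Nat.card H = e * m + 1 := by
    have h := sum_deg_above K ⊥ hirr
    rw [Subgroup.relIndex_bot_left, hcardK, ← hTdef, ← he, Finset.sum_congr rfl fun φ h => by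
      rw [(hdeg φ (hT.mp h)).1, mul_pow], ← Finset.mul_sum, ← hm, sq, mul_assoc] at h
    have h' := Nat.eq_of_mul_eq_mul_left hepos h
    have : 0 < Nat.card H := Nat.card_pos
    omega
  have hT2 : ({φ₀, Cfsg.conjFun φ₀} : Finset (L → ℂ)) ⊆ T := fun x hx => by
    rcases Finset.mem_insert.mp hx with rfl | hx
    · exact hT.mpr hφ₀
    · rw [Finset.mem_singleton.mp hx]; exact hT.mpr (above_conj K ⊥ hφ₀)
  have hm2 : 2 ≤ m := by
    refine le_trans ?_ (Finset.sum_le_sum_of_subset (f := fun φ => bb φ ^ 2) hT2)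
    rw [Finset.sum_pair (hcne φ₀ hφ₀).symm, hb₀]
    have := (hdeg _ (above_conj K ⊥ hφ₀)).2
    nlinarith
  have hmev : Even m := by
    rw [← ZMod.natCast_eq_zero_iff_even, hm, Nat.cast_sum]
    exact Finset.sum_involution (fun φ _ => Cfsg.conjFun φ)
      (fun φ h => by
        simp only [hbb, deg_conjFun (hch φ (hT.mp h))]
        exact CharTwo.add_self_eq_zero _)
      (fun φ h _ => hcne φ (hT.mp h)) (fun φ h => hT.mpr (above_conj K ⊥ (hT.mp h)))
      fun φ _ => Coh.conjFun_conjFun φ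
  have he2 : 2 ≤ e := by
    have : e ≠ 1 := fun h => hKL.ne (Subgroup.index_eq_one.mp h)
    omega
  have hinjOn : Set.InjOn η (↑T : Set (L → ℂ)) := fun a ha c hc e' => hηinj a (hT.mp ha) c (hT.mp hc) e'
  have hsb : ∑ ω ∈ F, b ω ^ 2 = (m : ℤ) := by
    rw [hF, Finset.sum_image hinjOn, hm, Nat.cast_sum]
    refine Finset.sum_congr rfl fun φ h => ?_
    rw [hbη φ (hT.mp h)]
    rcases hs φ₀ hφ₀ with x | x <;> rcases hs φ (hT.mp h) with y | y <;> simp [x, y]
  have hΓnorm : ∑ ω : Cfsg.IrrCharacter G, g ω ^ 2 = (e : ℤ) + 1 := by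
    have h := classInner_eq_sum (f' := Γ) (isClassFunction_of_isGen hΓgen)
    simp only [hg, map_intCast] at h
    have hnn : Cfsg.classInner Γ Γ = (e : ℂ) + 1 := by
      rw [hΓ, classInner_indFun_of_TI L (H : Set G) hTI' (isClassFunction_of_isGen hγgen) hγsupp hγsupp hγ1,
        hγ, classInner_sub_left, classInner_sub_right, classInner_sub_right, hind1 φ₀ hφ₀,
        ← classInner_conj_symm _ φ₀, hind1 φ₀ hφ₀, map_zero, hδ φ₀ hφ₀ φ₀ hφ₀, if_pos rfl]
      have hii : Cfsg.classInner (Cfsg.indFun K (fun _ => 1)) (Cfsg.indFun K (fun _ : K => (1 : ℂ))) =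
          (e : ℂ) := by
        have h := card_mul_classInner_indFun_normal K (isIrrCharacter_one (G := K))
          (isIrrCharacter_one (G := K))
        rw [Nat.card_congr (Equiv.subtypeUnivEquiv fun x : L => conjFun_const K x 1),
          ← K.index_mul_card, Nat.cast_mul, mul_comm (K.index : ℂ)] at h
        exact mul_left_cancel₀ (Nat.cast_ne_zero.mpr Nat.card_pos.ne') h
      rw [hii]; ring
    rw [hnn] at h
    have : ((∑ ω : Cfsg.IrrCharacter G, g ω ^ 2 : ℤ) : ℂ) = (((e : ℤ) + 1 : ℤ) : ℂ) := by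
      push_cast
      rw [h]
      exact Finset.sum_congr rfl fun ω _ => sq _
    exact_mod_cast this
  have hA : ∃ A : ℤ, Cfsg.classInner Γ (σ φ₀) = (A : ℂ) := classInner_gen_int hΓgen (hσg φ₀ (hmS φ₀ hφ₀))
  obtain ⟨A, hA⟩ := hA
  have hgη : ∀ φ ∈ S, g (η φ) = s φ * (-(if φ = φ₀ then (1 : ℤ) else 0) + (bb φ : ℤ) * (A + 1)) := by
    intro φ h
    have h1 := hΓσ φ h
    rw [hA, hση φ h, classInner_smul_right, map_intCast, hg] at h1
    have h2 : (g (η φ) : ℂ) =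
        (s φ : ℂ) * (-(if φ = φ₀ then (1 : ℂ) else 0) + (bb φ : ℂ) * ((A : ℂ) + 1)) := by
      rw [← h1, ← mul_assoc, hss φ h, one_mul]
    split_ifs at h2 ⊢ <;> exact_mod_cast h2
  have hodd' : Odd (∑ ω ∈ F, g ω * b ω) := by
    rw [hF, Finset.sum_image hinjOn, Finset.sum_congr rfl (g := fun φ =>
      s φ₀ * ((bb φ ^ 2 : ℕ) : ℤ) * (A + 1) + (if φ = φ₀ then -(s φ₀) else 0)) fun φ h => by
        rw [hgη φ (hT.mp h), hbη φ (hT.mp h)]
        have e2 : s φ * s φ = 1 := by exact_mod_cast hss φ (hT.mp h)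
        split_ifs with hh
        · subst hh; rw [hb₀]; push_cast; linear_combination (s φ * (A + 1) - s φ) * e2
        · push_cast; linear_combination (s φ₀ * (bb φ : ℤ) ^ 2 * (A + 1)) * e2,
      Finset.sum_add_distrib, Finset.sum_ite_eq', if_pos (hT.mpr hφ₀), ← Finset.sum_mul, ← Finset.mul_sum,
      ← Nat.cast_sum, ← hm]
    obtain ⟨r, hr⟩ := hmev
    rcases hs φ₀ hφ₀ with x | x <;> rw [x]
    · exact ⟨(r : ℤ) * (A + 1) - 1, by rw [hr]; push_cast; ring⟩
    · exact ⟨-(r : ℤ) * (A + 1), by rw [hr]; push_cast; ring⟩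
  have hbig : (e : ℝ) * ((e * m + 1 : ℕ) : ℝ) - (e : ℝ) ^ 2 ≤
      ∑ x ∈ sharp H, ‖(η φ₀ : G → ℂ) x‖ ^ 2 := by
    set X : L → ℂ := (fun x : L => σ φ₀ x) - φ₀ with hX
    have hXgen : Cfsg.IsGeneralizedCharacter L X :=
      isGen_sub (isGen_res L (hσg φ₀ (hmS φ₀ hφ₀))) (isGen_of_irr (hirr φ₀ hφ₀))
    obtain ⟨a, ha⟩ := classInner_gen_int hγgen hXgen
    have hXc : ∀ x ∈ sharp K, X x = (a : ℂ) := fun x hx => by
      rw [hconst X hXgen (fun φ h => ?_) x hx, ha, map_intCast]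
      rw [hX, classInner_sub_left,
        ← frobenius_reciprocity' L _ (isClassFunction_of_isGen (hσg φ₀ (hmS φ₀ hφ₀))), ← hσα φ h,
        classInner_sub_right, classInner_smul_right, hσσ φ₀ hφ₀ φ h, hσσ φ₀ hφ₀ φ₀ hφ₀,
        ← Int.cast_smul_eq_zsmul ℂ, classInner_sub_right, classInner_smul_right, hδ φ₀ hφ₀ φ h,
        hδ φ₀ hφ₀ φ₀ hφ₀, Int.cast_natCast]
      ring
    have hsum : ∀ f : G → ℝ, ∑ x ∈ sharp H, f x = ∑ x ∈ sharp K, f (x : G) := fun f => by
      refine (Finset.sum_bij (fun (x : L) _ => (x : G)) (fun x hx => hsharp.mp hx)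
        (fun x _ y _ e' => Subtype.ext e') (fun y hy => ⟨⟨y, hHL (mem_sharp.mp hy).1⟩,
          hsharp.mpr hy, rfl⟩) fun x _ => rfl).symm
    rw [hsum (fun x => ‖(η φ₀ : G → ℂ) x‖ ^ 2), Finset.sum_congr rfl
      (g := fun x : L => ‖φ₀ x + (a : ℂ)‖ ^ 2) fun x hx => by
        have h1 : σ φ₀ (x : G) = φ₀ x + (a : ℂ) := by rw [← hXc x hx, hX]; simp
        rw [← h1, hση φ₀ hφ₀, Pi.smul_apply, smul_eq_mul, norm_mul]
        rcases hs φ₀ hφ₀ with y | y <;> simp [y]]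
    have h2 : ∑ x ∈ sharp K, φ₀ x = -(e : ℂ) := by
      have h := h1φ φ₀ hφ₀
      rw [classInner_def] at h
      simp only [map_one, mul_one, mul_eq_zero, inv_eq_zero, Nat.cast_eq_zero, Nat.card_pos.ne',
        false_or] at h
      rw [sum_support K φ₀ (hsupp φ₀ hφ₀), deg_spec (hch φ₀ hφ₀), hd₀] at h
      linear_combination h
    have h3 : ∑ x ∈ sharp K, ((‖φ₀ x‖ ^ 2 : ℝ) : ℂ) = (e : ℂ) * ((e * m + 1 : ℕ) : ℂ) - (e : ℂ) ^ 2 := by
      have h := hδ φ₀ hφ₀ φ₀ hφ₀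
      rw [if_pos rfl, classInner_def] at h
      rw [inv_mul_eq_one₀ (Nat.cast_ne_zero.mpr Nat.card_pos.ne'),
        sum_support K _ (fun x hx => by rw [hsupp φ₀ hφ₀ x hx, zero_mul]),
        deg_spec (hch φ₀ hφ₀), hd₀, map_natCast, ← K.index_mul_card, hcardK, hHm, ← he] at h
      rw [Finset.sum_congr rfl (g := fun x => φ₀ x * conj (φ₀ x)) fun x _ => by
        rw [Complex.mul_conj, Complex.normSq_eq_norm_sq]]
      push_cast at h ⊢
      linear_combination -h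
    have h4 : ((∑ x ∈ sharp K, ‖φ₀ x + (a : ℂ)‖ ^ 2 : ℝ) : ℂ) =
        (((e : ℝ) * ((e * m + 1 : ℕ) : ℝ) - (e : ℝ) ^ 2 +
          (e : ℝ) * ((a : ℝ) ^ 2 * m - 2 * a) : ℝ) : ℂ) := by
      have hexp : ∀ x : L, ((‖φ₀ x + (a : ℂ)‖ ^ 2 : ℝ) : ℂ) =
          ((‖φ₀ x‖ ^ 2 : ℝ) : ℂ) + (a : ℂ) * (φ₀ x + conj (φ₀ x)) + (a : ℂ) * (a : ℂ) := fun x => by
        rw [← Complex.normSq_eq_norm_sq, ← Complex.normSq_eq_norm_sq, ← Complex.mul_conj,
          ← Complex.mul_conj, map_add, map_intCast]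
        ring
      rw [Complex.ofReal_sum, Finset.sum_congr rfl fun x _ => hexp x, Finset.sum_add_distrib,
        Finset.sum_add_distrib, h3, ← Finset.mul_sum, Finset.sum_add_distrib, ← map_sum, h2,
        Finset.sum_const, nsmul_eq_mul]
      have hc : ((sharp K).card : ℂ) = (e : ℂ) * (m : ℂ) := by
        have h := sum_support K (fun x => if x ∈ K then (1 : ℂ) else 0) (fun x hx => if_neg hx)
        rw [Finset.sum_boole, if_pos K.one_mem, Finset.sum_congr rfl fun x hx =>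
          if_pos (mem_sharp.mp hx).1, Finset.sum_const, nsmul_eq_mul, mul_one,
          ← Fintype.card_subtype] at h
        have hc' : (Fintype.card {x // x ∈ K} : ℂ) = (e : ℂ) * m + 1 := by
          have e' : Fintype.card {x // x ∈ K} = e * m + 1 := by
            rw [← Nat.card_eq_fintype_card]; exact hcardK.trans hHm
          rw [e']; push_cast; ring
        linear_combination hc' - h
      rw [hc, map_neg, map_natCast]
      push_cast
      ring
    rw [Complex.ofReal_inj.mp h4]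
    have he0 : (0 : ℝ) ≤ e := Nat.cast_nonneg e
    have ha2 : (0 : ℝ) ≤ (a : ℝ) ^ 2 * m - 2 * a := by
      have hm' : (2 : ℝ) ≤ m := by exact_mod_cast hm2
      rcases le_or_gt a 0 with h | h
      · have : (a : ℝ) ≤ 0 := by exact_mod_cast h
        nlinarith [sq_nonneg (a : ℝ)]
      · have : (1 : ℝ) ≤ a := by exact_mod_cast h
        nlinarith
    nlinarith [mul_nonneg he0 ha2]
  refine ⟨⟨e, m, F, b, g, η φ₀, Γ, he2, hm2, hmev, hHm, Finset.mem_image_of_mem _ (hT.mpr hφ₀), ?_, ?_,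
    hsb, ?_, ?_, hconstF, ?_, ?_, hg, hΓgen, hoff γ hγsupp hγ1, hΓnorm, hodd', hbig⟩, ?_⟩
  · rw [hbη φ₀ hφ₀, hb₀]
    rcases hs φ₀ hφ₀ with x | x <;> simp [x]
  · intro ω hω
    obtain ⟨φ, h, rfl⟩ := Finset.mem_image.mp hω
    rw [hbη φ (hT.mp h)]
    have := (hdeg φ (hT.mp h)).2
    rcases hs φ₀ hφ₀ with x | x <;> rcases hs φ (hT.mp h) with y | y <;> simp [x, y] <;> omega
  · rw [hF, Finset.card_image_of_injOn hinjOn, ← Finset.card_pair (hcne φ₀ hφ₀).symm]
    exact Finset.card_le_card hT2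
  · intro ω hω ω' hω' x hx
    obtain ⟨φ, h, rfl⟩ := Finset.mem_image.mp hω
    obtain ⟨φ', h', rfl⟩ := Finset.mem_image.mp hω'
    rw [hT] at h h'
    have hr : ∀ φ ∈ S, (η φ : G → ℂ) x = (s φ : ℂ) * (bb φ : ℂ) * σ φ₀ x := by
      intro φ h
      have h1 := hoff _ (hαsupp φ h) (apply_one_of_mem (hαS φ h)) x hx
      rw [← hσα φ h, Pi.sub_apply, Pi.smul_apply, smul_eq_mul, hση φ h, Pi.smul_apply, smul_eq_mul,
        sub_eq_zero] at h1
      rw [mul_assoc, ← h1, ← mul_assoc, hss φ h, one_mul]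
    rw [hr φ h, hr φ' h', hbη φ h, hbη φ' h']
    push_cast; ring
  · intro ω hω
    obtain ⟨φ, h, rfl⟩ := Finset.mem_image.mp hω
    exact hnonconst φ (hT.mp h)
  · have h1 : (irrOne : Cfsg.IrrCharacter G) ∉ F := fun hω => by
      obtain ⟨φ, h, e'⟩ := Finset.mem_image.mp hω
      obtain ⟨x, -, y, -, hne⟩ := hnonconst φ (hT.mp h)
      exact hne (by rw [e', irrOne_apply, irrOne_apply])
    obtain ⟨k, hk, hk1⟩ : ∃ k ∈ K, k ≠ 1 := by
      by_contra hh; push Not at hh; exact hnt ((Subgroup.eq_bot_iff_forall K).mpr hh)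
    have := hconstF _ h1 _ (hsharp.mp (mem_sharp.mpr ⟨hk, hk1⟩))
    rw [irrOne_apply] at this
    exact_mod_cast this.symm
  · show e * Nat.card H = Nat.card L
    rw [← hcardK]; exact K.index_mul_card

end CfsgLib.OddChar.Partition
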