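import Cfsg.Agent.Lib.OddChar.Coset
import Cfsg.Agent.Lib.OddChar.Inertia
import Cfsg.Agent.Lib.Char.PermLemma
import Cfsg.Prelude.Def_OddOrderLocal

/-!
# `L = K ⋊ W₁` with a common centraliser `W₂`

* `commute`, `coprime_card`, `isSelfNormalizingCyclic`;
* `inj_classes`, `card_fixed_irr`, `fixed_all_of_fixed`: the invariant characters of `K`.
-/

namespace CfsgLib.OddChar.Semi

open CfsgLib.Char CfsgLib.CharNormal

variable {L : Type*} [Group L] [Fintype L] {K W₁ W₂ : Subgroup L} [hK : K.Normal]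

/-- The standing hypotheses. -/
structure Setting (K W₁ W₂ : Subgroup L) : Prop where
  inf_eq : K ⊓ W₁ = ⊥
  sup_eq : K ⊔ W₁ = ⊤
  hall : Nat.Coprime (Nat.card W₁) W₁.index
  cyclic₁ : IsCyclic W₁
  cyclic₂ : IsCyclic W₂
  le : W₂ ≤ K
  cent : ∀ x ∈ W₁, x ≠ 1 → K ⊓ Subgroup.centralizer ({x} : Set L) = W₂

variable (h : Setting K W₁ W₂)
include h

omit [Fintype L] hK in
theorem commute {a b : L} (ha : a ∈ W₁) (hb : b ∈ W₂) : Commute a b := by
  by_cases h1 : a = 1
  · subst h1; exact Commute.one_left b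
  · rw [← h.cent a ha h1] at hb
    exact (Subgroup.mem_centralizer_singleton_iff.mp hb.2).symm

theorem card_K : W₁.index = Nat.card K := by
  have hc : Subgroup.IsComplement' K W₁ :=
    Subgroup.isComplement'_of_disjoint_and_mul_eq_univ (disjoint_iff.mpr h.inf_eq)
      (by rw [← Subgroup.normal_mul, h.sup_eq, Subgroup.coe_top])
  exact hc.index_eq_card

theorem coprime_K : Nat.Coprime (Nat.card W₁) (Nat.card K) := card_K h ▸ h.hall

theorem coprime_card : Nat.Coprime (Nat.card W₁) (Nat.card W₂) :=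
  (coprime_K h).coprime_dvd_right (Subgroup.card_dvd_of_le h.le)

omit [Fintype L] in
theorem exists_mul (g : L) : ∃ k ∈ K, ∃ x ∈ W₁, g = k * x := by
  have : g ∈ K ⊔ W₁ := h.sup_eq ▸ Subgroup.mem_top g
  obtain ⟨k, hk, x, hx, e⟩ := Subgroup.mem_sup_of_normal_left.mp this
  exact ⟨k, hk, x, hx, e.symm⟩

theorem isCyclic_sup : IsCyclic ↥(W₁ ⊔ W₂) := by
  obtain ⟨a, ha⟩ := h.cyclic₁.exists_generator
  obtain ⟨b, hb⟩ := h.cyclic₂.exists_generator
  obtain ⟨k, hk⟩ := exists_pow_of_coprime (G := L) (coprime_card h)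
  obtain ⟨k', hk'⟩ := exists_pow_of_coprime (G := L) (coprime_card h).symm
  have hc := commute h a.2 b.2
  have h1 : (a : L) ^ Nat.card W₁ = 1 := by
    rw [← Subgroup.coe_pow, pow_card_eq_one', Subgroup.coe_one]
  have h2 : (b : L) ^ Nat.card W₂ = 1 := by
    rw [← Subgroup.coe_pow, pow_card_eq_one', Subgroup.coe_one]
  have e : W₁ ⊔ W₂ = Subgroup.zpowers ((a : L) * b) := by
    refine le_antisymm (sup_le ?_ ?_) (Subgroup.zpowers_le.mpr
      (mul_mem (le_sup_left (a := W₁) a.2) (le_sup_right (b := W₂) b.2)))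
    · intro x hx
      obtain ⟨j, hj⟩ := Subgroup.mem_zpowers_iff.mp (ha ⟨x, hx⟩)
      rw [show x = (a : L) ^ j from by simpa using (congrArg Subtype.val hj).symm]
      refine Subgroup.zpow_mem _ ?_ j
      have := Subgroup.pow_mem _ (Subgroup.mem_zpowers ((a : L) * b)) k
      rwa [hk a b hc h1 h2] at this
    · intro x hx
      obtain ⟨j, hj⟩ := Subgroup.mem_zpowers_iff.mp (hb ⟨x, hx⟩)
      rw [show x = (b : L) ^ j from by simpa using (congrArg Subtype.val hj).symm]
      refine Subgroup.zpow_mem _ ?_ j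
      have := Subgroup.pow_mem _ (Subgroup.mem_zpowers ((a : L) * b)) k'
      rw [show ((a : L) * b) ^ k' = b by rw [hc.eq]; exact hk' b a hc.symm h2 h1] at this
      exact this
  rw [e]
  infer_instance

theorem isSelfNormalizingCyclic (h₁ : W₁ ≠ ⊥) (h₂ : W₂ ≠ ⊥) :
    Cfsg.IsSelfNormalizingCyclic W₁ W₂ := by
  have hcyc := isCyclic_sup h
  have hWc : ∀ u v : ↥(W₁ ⊔ W₂), u * v = v * u :=
    (IsCyclic.isMulCommutative (α := ↥(W₁ ⊔ W₂))).is_comm.comm
  refine ⟨h₁, h₂, le_bot_iff.mp (h.inf_eq ▸ le_inf (inf_le_right.trans h.le) inf_le_left),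
    fun a ha b hb => (commute h ha hb).eq, hcyc, fun X hX ⟨w, hw⟩ => ?_⟩
  refine le_antisymm (fun g hg => ?_) (fun g hg => ?_)
  · obtain ⟨k, hk, x₁, hx₁, rfl⟩ := exists_mul h g
    obtain ⟨hwW, hwn⟩ := hX hw
    have hw' := (Subgroup.mem_set_normalizer_iff.mp hg w).mp hw
    obtain ⟨hw'W, -⟩ := hX hw'
    have hdec : ∀ u ∈ W₁ ⊔ W₂, ∃ x ∈ W₁, ∃ y ∈ W₂, u = x * y := by
      intro u hu
      have hn : W₂ ≤ Subgroup.normalizer (W₁ : Set L) := by
        intro y hy
        rw [Subgroup.mem_normalizer_iff]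
        refine fun x => ⟨fun hx => ?_, fun hx => ?_⟩
        · rwa [← (commute h hx hy).eq, mul_inv_cancel_right]
        · have := (commute h hx hy).eq
          rw [show y * x * y⁻¹ * y = y * x by group] at this
          rw [mul_right_inj] at this
          rwa [this]
      rw [← SetLike.mem_coe, Subgroup.coe_mul_of_right_le_normalizer_left _ _ hn] at hu
      obtain ⟨x, hx, y, hy, rfl⟩ := hu
      exact ⟨x, hx, y, hy, rfl⟩
    obtain ⟨x, hx, y, hy, rfl⟩ := hdec w hwW
    obtain ⟨x', hx', y', hy', he⟩ := hdec _ hw'W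
    have hxne : x ≠ 1 := fun e => hwn (Or.inr (by rw [e, one_mul]; exact hy))
    have hfix : x₁ * (x * y) * x₁⁻¹ = x * y := by
      have := congrArg Subtype.val (hWc ⟨x₁, le_sup_left (a := W₁) hx₁⟩ ⟨x * y, hwW⟩)
      simp only [Subgroup.coe_mul] at this
      rw [this, mul_inv_cancel_right]
    rw [show k * x₁ * (x * y) * (k * x₁)⁻¹ = k * (x₁ * (x * y) * x₁⁻¹) * k⁻¹ by group, hfix] at he
    -- compare the components modulo K
    have hxx : x'⁻¹ * x ∈ K ⊓ W₁ := by
      refine ⟨?_, W₁.mul_mem (W₁.inv_mem hx') hx⟩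
      rw [show x'⁻¹ * x = x'⁻¹ * (k⁻¹ * (k * (x * y) * k⁻¹) * k) * y⁻¹ by group, he,
        show x'⁻¹ * (k⁻¹ * (x' * y') * k) * y⁻¹ = (x'⁻¹ * k⁻¹ * x') * y' * k * y⁻¹ by group]
      refine K.mul_mem (K.mul_mem (K.mul_mem ?_ (h.le hy')) hk) (K.inv_mem (h.le hy))
      simpa using hK.conj_mem _ (K.inv_mem hk) x'⁻¹
    rw [h.inf_eq, Subgroup.mem_bot, inv_mul_eq_one] at hxx
    subst hxx
    obtain ⟨j, hj⟩ := exists_pow_of_coprime (G := L) (coprime_card h)
    have hp : ∀ y ∈ W₂, (x' * y) ^ j = x' := fun y hy => hj x' y (commute h hx' hy)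
      (by rw [← Subgroup.coe_mk W₁ x' hx', ← Subgroup.coe_pow, pow_card_eq_one', Subgroup.coe_one])
      (by rw [← Subgroup.coe_mk W₂ y hy, ← Subgroup.coe_pow, pow_card_eq_one', Subgroup.coe_one])
    have h3 := congrArg (· ^ j) he
    simp only [conj_pow, hp y hy, hp y' hy'] at h3
    refine mul_mem (le_sup_right (a := W₁) ?_) (le_sup_left (a := W₁) hx₁)
    rw [← h.cent x' hx' hxne]
    exact ⟨hk, Subgroup.mem_centralizer_singleton_iff.mpr (mul_inv_eq_iff_eq_mul.mp h3)⟩
  · rw [Subgroup.mem_set_normalizer_iff]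
    have hfix : ∀ v ∈ W₁ ⊔ W₂, g * v * g⁻¹ = v := fun v hv => by
      have := congrArg Subtype.val (hWc ⟨g, hg⟩ ⟨v, hv⟩)
      simp only [Subgroup.coe_mul] at this
      rw [this, mul_inv_cancel_right]
    refine fun v => ⟨fun hv => ?_, fun hv => ?_⟩
    · rwa [hfix v (hX hv).1]
    · have hvW : v ∈ W₁ ⊔ W₂ := by
        have := mul_mem (mul_mem (inv_mem hg) (hX hv).1) hg
        simpa [mul_assoc] using this
      rwa [hfix v hvW] at hv

theorem orderOf_coprime {x : L} (hx : x ∈ W₁) : Nat.Coprime (orderOf x) (Nat.card K) :=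
  (coprime_K h).coprime_dvd_left (Subgroup.orderOf_dvd_natCard _ hx)

/-- Elements of `W₂` conjugate in `K` are equal. -/
theorem inj_classes (h₁ : W₁ ≠ ⊥) {w w' : L} (hw : w ∈ W₂) (hw' : w' ∈ W₂) {z : L} (hz : z ∈ K)
    (he : z * w * z⁻¹ = w') : w = w' := by
  obtain ⟨⟨x, hx⟩, hx1'⟩ := Subgroup.ne_bot_iff_exists_ne_one.mp h₁
  have hx1 : x ≠ 1 := fun e => hx1' (Subtype.ext e)
  set H := K ⊓ Subgroup.centralizer ({w} : Set L)
  have hxw : Commute x w := commute h hx hw
  have hxw' : Commute x w' := commute h hx hw'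
  have hn : x ∈ Subgroup.normalizer (H : Set L) := by
    have hstep : ∀ y : L, Commute y w → ∀ u ∈ H, y * u * y⁻¹ ∈ H := fun y hy u hu =>
      ⟨hK.conj_mem u hu.1 y, Subgroup.mem_centralizer_singleton_iff.mpr
        ((hy.mul_left (Subgroup.mem_centralizer_singleton_iff.mp hu.2)).mul_left hy.inv_left).eq⟩
    rw [Subgroup.mem_normalizer_iff]
    refine fun u => ⟨hstep x hxw u, fun hu => ?_⟩
    have := hstep x⁻¹ hxw.inv_left _ hu
    simpa [mul_assoc] using this
  have hcop : Nat.Coprime (orderOf x) (Nat.card H) :=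
    (orderOf_coprime h hx).coprime_dvd_right (Subgroup.card_dvd_of_le inf_le_left)
  have hq : z⁻¹ * x * z * x⁻¹ ∈ H := by
    refine ⟨?_, Subgroup.mem_centralizer_singleton_iff.mpr ?_⟩
    · rw [show z⁻¹ * x * z * x⁻¹ = z⁻¹ * (x * z * x⁻¹) by group]
      exact K.mul_mem (K.inv_mem hz) (hK.conj_mem z hz x)
    · have h1 : Commute (z⁻¹ * x * z) w := by
        have e : z⁻¹ * w' * z = w := by rw [← he]; group
        have := hxw'.map (MulAut.conj z⁻¹).toMonoidHom
        simpa [e] using this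
      exact (h1.mul_left hxw.inv_left).eq
  obtain ⟨t, ht, c, hc, hcx, htc⟩ := exists_conj_coset H x hn hcop hq
  rw [inv_mul_cancel_right] at htc
  have hc1 : c = 1 := by
    have h1 : (c * x) ^ orderOf x = 1 := by
      rw [← htc, conj_pow, show z⁻¹ * x * z = z⁻¹ * x * z⁻¹⁻¹ by group, conj_pow, pow_orderOf_eq_one]
      group
    rw [(show Commute c x from hcx).mul_pow, pow_orderOf_eq_one, mul_one] at h1
    exact orderOf_eq_one_iff.mp (Nat.eq_one_of_dvd_coprimes hcop (orderOf_dvd_of_pow_eq_one h1)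
      (Subgroup.orderOf_dvd_natCard _ hc))
  rw [hc1, one_mul] at htc
  have hs : z * t⁻¹ ∈ W₂ := by
    rw [← h.cent x hx hx1]
    refine ⟨K.mul_mem hz (K.inv_mem ht.1), Subgroup.mem_centralizer_singleton_iff.mpr ?_⟩
    calc z * t⁻¹ * x = z * t⁻¹ * (t * (z⁻¹ * x * z) * t⁻¹) := by rw [htc]
      _ = x * (z * t⁻¹) := by group
  have htw : Commute t w := Subgroup.mem_centralizer_singleton_iff.mp ht.2
  have hsw : Commute (z * t⁻¹) w := by
    have := (h.cyclic₂.isMulCommutative (α := W₂)).is_comm.comm ⟨_, hs⟩ ⟨w, hw⟩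
    exact congrArg Subtype.val this
  have hzw : Commute z w := by
    have := hsw.mul_left htw
    rwa [inv_mul_cancel_right] at this
  rw [← he, hzw.eq, mul_inv_cancel_right]

/-- The class of an element of `W₂`. -/
def classW₂ (w : W₂) : ConjClasses K := ConjClasses.mk ⟨w, h.le w.2⟩

theorem card_fixed_irr (h₁ : W₁ ≠ ⊥) {x : L} (hx : x ∈ W₁) (hx1 : x ≠ 1) :
    Nat.card {θ : Cfsg.IrrCharacter K //
      CfsgLib.CharNormal.conjFun K x (θ : K → ℂ) = θ} = Nat.card W₂ := by
  classical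
  have := Fintype.ofFinite K
  let e : MulAut K := MulAut.conjNormal x
  let σ : Cfsg.IrrCharacter K ≃ Cfsg.IrrCharacter K :=
    { toFun := conjIrr K x
      invFun := conjIrr K x⁻¹
      left_inv := fun θ => Subtype.ext (conjFun_inv_conjFun K x θ.1)
      right_inv := fun θ => Subtype.ext (conjFun_conjFun_inv K x θ.1) }
  let π : ConjClasses K ≃ ConjClasses K :=
    { toFun := ConjClasses.map e.symm.toMonoidHom
      invFun := ConjClasses.map e.toMonoidHom
      left_inv := fun C => by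
        obtain ⟨g, rfl⟩ := ConjClasses.mk_surjective C
        exact congrArg ConjClasses.mk (e.apply_symm_apply g)
      right_inv := fun C => by
        obtain ⟨g, rfl⟩ := ConjClasses.mk_surjective C
        exact congrArg ConjClasses.mk (e.symm_apply_apply g) }
  have hcard := card_fixed_eq σ π fun θ g g' hg => by
    show CfsgLib.CharNormal.conjFun K x θ.1 g' = θ.1 g
    rw [conjFun_eq_comp]
    have h1 : IsConj g' (e.symm g) := ConjClasses.mk_eq_mk_iff_isConj.mp hg
    have h2 : IsConj (e g') g := by simpa using (MonoidHom.map_isConj e.toMonoidHom h1)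
    exact isClassFunction_iff.mp (isClassFunction_of_isIrr θ.2) _ _ h2
  rw [show Nat.card {θ : Cfsg.IrrCharacter K //
      CfsgLib.CharNormal.conjFun K x (θ : K → ℂ) = θ} = Nat.card {θ // σ θ = θ} from
    Nat.card_congr (Equiv.subtypeEquivRight fun θ =>
      ⟨fun e => Subtype.ext e, fun e => congrArg Subtype.val e⟩), hcard]
  let F : W₂ → {C : ConjClasses K // π C = C} := fun w => ⟨classW₂ h w, by
    refine congrArg ConjClasses.mk (Subtype.ext ?_)
    refine (MulAut.conjNormal_symm_apply x (⟨(w : L), h.le w.2⟩ : K)).trans ?_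
    show x⁻¹ * (w : L) * x = w
    rw [mul_assoc, ← (commute h hx w.2).eq, inv_mul_cancel_left]⟩
  refine (Nat.card_eq_of_bijective F ⟨fun a b he => ?_, fun ⟨C, hC⟩ => ?_⟩).symm
  · obtain ⟨z, hz⟩ := isConj_iff.mp (ConjClasses.mk_eq_mk_iff_isConj.mp (congrArg Subtype.val he))
    exact Subtype.ext (inj_classes h h₁ a.2 b.2 z.2 (congrArg Subtype.val hz))
  · obtain ⟨g, rfl⟩ := ConjClasses.mk_surjective C
    have hC' : ConjClasses.mk (e g) = ConjClasses.mk g :=
      (congrArg π.symm hC).symm.trans (π.symm_apply_apply _)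
    obtain ⟨y, hy⟩ := isConj_iff.mp (ConjClasses.mk_eq_mk_iff_isConj.mp hC')
    have hy' : (y : L) * (x * (g : L) * x⁻¹) * (y : L)⁻¹ = g := congrArg (Subtype.val : K → L) hy
    have hc0 : Commute ((y : L) * x) (g : L) := by
      show (y : L) * x * g = g * ((y : L) * x)
      calc (y : L) * x * g = (y : L) * (x * (g : L) * x⁻¹) * (y : L)⁻¹ * ((y : L) * x) := by group
        _ = _ := by rw [hy']
    obtain ⟨z, hz, c, hc, hcc, hzc⟩ := exists_conj_coset K x
      (by rw [Subgroup.normalizer_eq_top]; exact Subgroup.mem_top _) (orderOf_coprime h hx) y.2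
    obtain ⟨j, hj⟩ := exists_pow_of_coprime (G := L) (orderOf_coprime h hx)
    have hpow : (c * x) ^ j = x := by
      rw [hcc]
      exact hj x c hcc.symm (pow_orderOf_eq_one _)
        (orderOf_dvd_iff_pow_eq_one.mp (Subgroup.orderOf_dvd_natCard _ hc))
    have hcg : Commute (c * x) (z * (g : L) * z⁻¹) := by
      rw [← hzc]
      exact hc0.map (MulAut.conj z).toMonoidHom
    have hxg : Commute x (z * (g : L) * z⁻¹) := hpow ▸ hcg.pow_left j
    have hmem : z * (g : L) * z⁻¹ ∈ W₂ := by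
      rw [← h.cent x hx hx1]
      exact ⟨hK.conj_mem _ g.2 z, Subgroup.mem_centralizer_singleton_iff.mpr hxg.eq.symm⟩
    refine ⟨⟨_, hmem⟩, Subtype.ext ?_⟩
    show ConjClasses.mk (⟨z * (g : L) * z⁻¹, _⟩ : K) = ConjClasses.mk g
    rw [ConjClasses.mk_eq_mk_iff_isConj, isConj_comm, isConj_iff]
    exact ⟨⟨z, hz⟩, Subtype.ext rfl⟩

/-- A character fixed by one nontrivial element of `W₁` is fixed by all. -/
theorem fixed_all_of_fixed (h₁ : W₁ ≠ ⊥) {θ : Cfsg.IrrCharacter K} {x : L} (hx : x ∈ W₁)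
    (hx1 : x ≠ 1) (hfix : CfsgLib.CharNormal.conjFun K x (θ : K → ℂ) = θ) :
    ∀ y ∈ W₁, CfsgLib.CharNormal.conjFun K y (θ : K → ℂ) = θ := by
  classical
  have := Fintype.ofFinite K
  obtain ⟨a, ha⟩ := h.cyclic₁.exists_generator
  have ha1 : (a : L) ≠ 1 := by
    intro e
    obtain ⟨j, hj⟩ := Subgroup.mem_zpowers_iff.mp (ha ⟨x, hx⟩)
    have := congrArg Subtype.val hj
    simp [e] at this
    exact hx1 this.symm
  let S : L → Finset (Cfsg.IrrCharacter K) := fun y =>
    Finset.univ.filter fun φ => CfsgLib.CharNormal.conjFun K y (φ : K → ℂ) = φ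
  have hS : ∀ y ∈ W₁, y ≠ 1 → (S y).card = Nat.card W₂ := fun y hy hy1 => by
    rw [← card_fixed_irr h h₁ hy hy1, Nat.card_eq_fintype_card, Fintype.card_subtype]
  have hsub : ∀ y ∈ W₁, S (a : L) ⊆ S y := by
    intro y hy φ hφ
    obtain ⟨j, hj⟩ := Subgroup.mem_zpowers_iff.mp (ha ⟨y, hy⟩)
    refine Finset.mem_filter.mpr ⟨Finset.mem_univ _, (mem_inertia K).mp ?_⟩
    rw [show y = (a : L) ^ j from by simpa using (congrArg Subtype.val hj).symm]
    exact Subgroup.zpow_mem _ ((mem_inertia K).mpr (Finset.mem_filter.mp hφ).2) j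
  have heq := Finset.eq_of_subset_of_card_le (hsub x hx)
    (le_of_eq ((hS x hx hx1).trans (hS a a.2 ha1).symm))
  intro y hy
  have hθ : θ ∈ S x := Finset.mem_filter.mpr ⟨Finset.mem_univ _, hfix⟩
  rw [← heq] at hθ
  exact (Finset.mem_filter.mp (hsub y hy hθ)).2

end CfsgLib.OddChar.Semi
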