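import Cfsg.Agent.Lib.Char.Integral
import Cfsg.Agent.Lib.Char.ClassAlgebra
import Cfsg.Agent.Lib.Char.Generalized
import Cfsg.Prelude.Def_OddOrderLocal

/-!
# A congruence for characters constant on a central subgroup of a TI Sylow subgroup

`exists_dvd_sub`.
-/

namespace CfsgLib.OddChar

open CfsgLib.Char
open scoped ComplexConjugate

variable {G : Type*} [Group G] [Fintype G]

open Classical in
theorem exists_dvd_sub (p : ℕ) [Fact p.Prime] (P : Sylow p G)
    (hTI : Cfsg.IsTISubset ((P : Subgroup G) : Set G))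
    (hodd : Odd (Nat.card (Subgroup.normalizer ((P : Subgroup G) : Set G))))
    (Z : Subgroup G) (hZP : Z ≤ P)
    (hZn : ∀ x ∈ Subgroup.normalizer ((P : Subgroup G) : Set G), ∀ z ∈ Z, x * z * x⁻¹ ∈ Z)
    (hZc : ∀ z ∈ Z, ∀ y ∈ (P : Subgroup G), z * y = y * z)
    (ψ : G → ℂ) (hψ : Cfsg.IsIrrCharacter G ψ)
    (hconst : ∀ z ∈ Z, ∀ z' ∈ Z, z ≠ 1 → z' ≠ 1 → ψ z = ψ z') (z : G) (hz : z ∈ Z) (hz1 : z ≠ 1) :
    ∃ n d : ℤ, ψ z = n ∧ ψ 1 = d ∧ (Nat.card (P : Subgroup G) : ℤ) ∣ d - n := by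
  set N := Subgroup.normalizer ((P : Subgroup G) : Set G) with hN
  have hmemN : ∀ g : G, ∀ x ∈ (P : Subgroup G), x ≠ 1 → g * x * g⁻¹ ∈ (P : Subgroup G) → g ∈ N :=
    fun g x hx hx1 h => by
      by_contra hg
      exact hx1 (hTI g hg x hx h)
  have hψc := isCharacter_of_isIrr hψ
  have hψf := isClassFunction_of_isIrr hψ
  obtain ⟨d, hd0, hd⟩ := exists_degree_pos hψ
  -- the value on `Z` is a rational integer
  obtain ⟨c, hc⟩ : ∃ n : ℤ, ψ z = n := by
    have := Fintype.ofFinite Z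
    obtain ⟨m, hm⟩ := classInner_gen_int (isGen_res Z (isGen_of_irr hψ)) (isGen_one (G := Z))
    have hcard : 1 < Fintype.card Z :=
      Fintype.one_lt_card_iff.mpr ⟨⟨z, hz⟩, 1, fun e => hz1 (congrArg Subtype.val e)⟩
    have hsum : ∑ x : Z, ψ x = (d : ℂ) + ((Fintype.card Z : ℂ) - 1) * ψ z := by
      rw [← Finset.add_sum_erase _ _ (Finset.mem_univ (1 : Z)), Subgroup.coe_one, hd,
        Finset.sum_congr rfl fun (x : Z) hx => hconst x x.2 z hz
          (fun e => (Finset.mem_erase.mp hx).1 (Subtype.ext e)) hz1,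
        Finset.sum_const, Finset.card_erase_of_mem (Finset.mem_univ _), Finset.card_univ, nsmul_eq_mul,
        Nat.cast_sub hcard.le, Nat.cast_one]
    rw [classInner_def] at hm
    simp only [map_one, mul_one] at hm
    rw [hsum] at hm
    have hne : ((Fintype.card Z : ℂ) - 1) ≠ 0 := by
      rw [sub_ne_zero]; exact_mod_cast hcard.ne'
    have hq : ψ z = (((m * Fintype.card Z - d : ℤ) : ℚ) / ((Fintype.card Z : ℤ) - 1 : ℤ) : ℚ) := by
      rw [Nat.card_eq_fintype_card] at hm
      have h0 : (Fintype.card Z : ℂ) ≠ 0 := by exact_mod_cast (by omega : Fintype.card Z ≠ 0)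
      field_simp at hm
      push_cast
      rw [eq_div_iff hne]
      linear_combination hm
    have hint := char_isIntegral hψc z
    rw [hq] at hint
    obtain ⟨n, hn⟩ := exists_int_of_isIntegral_rat hint
    exact ⟨n, by rw [hq, hn]; simp⟩
  refine ⟨c, d, hc, by rw [hd]; simp, ?_⟩
  -- the class of `z`
  set S : Finset G := Finset.univ.filter fun a => IsConj z a with hS
  set k := (Finset.univ.filter fun b : G => b * z * b⁻¹ = z).card with hk
  have hfib : ∀ a ∈ S, (Finset.univ.filter fun b : G => b * z * b⁻¹ = a).card = k := by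
    intro a ha
    obtain ⟨g, rfl⟩ := isConj_iff.mp (Finset.mem_filter.mp ha).2
    refine Finset.card_equiv (Equiv.mulLeft g⁻¹) fun b => ?_
    simp only [Finset.mem_filter, Finset.mem_univ, true_and, Equiv.coe_mulLeft]
    constructor
    · intro h
      rw [show g⁻¹ * b * z * (g⁻¹ * b)⁻¹ = g⁻¹ * (b * z * b⁻¹) * g by group, h]
      group
    · intro h
      rw [show b * z * b⁻¹ = g * (g⁻¹ * b * z * (g⁻¹ * b)⁻¹) * g⁻¹ by group, h]
  have hsumS : ∀ F : G → ℂ, ∑ b : G, F (b * z * b⁻¹) = (k : ℂ) * ∑ a ∈ S, F a := by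
    intro F
    rw [← Finset.sum_fiberwise_of_maps_to (t := S) (g := fun b : G => b * z * b⁻¹)
      (fun b _ => Finset.mem_filter.mpr ⟨Finset.mem_univ _, isConj_iff.mpr ⟨b, rfl⟩⟩), Finset.mul_sum]
    refine Finset.sum_congr rfl fun a ha => ?_
    rw [Finset.sum_congr rfl fun b hb => congrArg F (Finset.mem_filter.mp hb).2, Finset.sum_const,
      hfib a ha, nsmul_eq_mul]
  have hk0 : (k : ℂ) ≠ 0 := by
    have : 0 < k := Finset.card_pos.mpr ⟨1, by simp⟩
    exact_mod_cast this.ne'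
  let T : G → ℂ := fun y => ∑ a ∈ S, ψ (a * y)
  have hcard : (Nat.card G : ℂ) = (k : ℂ) * S.card := by
    have := hsumS fun _ => 1
    simpa [Nat.card_eq_fintype_card] using this
  have hval : ∀ y : G, T y = (S.card : ℂ) * ψ z * ψ y / ψ 1 := fun y => by
    have h1 := (hsumS fun a => ψ (a * y)).symm.trans (sum_char_conj_mul hψ z y)
    rw [hcard] at h1
    apply mul_left_cancel₀ hk0
    rw [show (k : ℂ) * T y = (k : ℂ) * S.card * ψ z * ψ y / ψ 1 from h1]
    ring
  have hzi : z⁻¹ ≠ 1 := inv_ne_one.mpr hz1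
  have hTT : T z = T z⁻¹ := by
    rw [hval, hval, hconst z hz z⁻¹ (Z.inv_mem hz) hz1 hzi]
  -- no element inverts `z`
  have hninv : ∀ g : G, g * z * g⁻¹ ≠ z⁻¹ := by
    intro g hg
    have hgN : g ∈ N := hmemN g z (hZP hz) hz1 (hg ▸ (P : Subgroup G).inv_mem (hZP hz))
    have h2 : Commute (g ^ 2) z := by
      have : g ^ 2 * z * (g ^ 2)⁻¹ = z := by
        rw [show g ^ 2 * z * (g ^ 2)⁻¹ = g * (g * z * g⁻¹) * g⁻¹ by rw [pow_two]; group, hg,
          show g * z⁻¹ * g⁻¹ = (g * z * g⁻¹)⁻¹ by group, hg, inv_inv]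
      exact mul_inv_eq_iff_eq_mul.mp this
    obtain ⟨j, hj⟩ := hodd
    have hgz : Commute g z := by
      have e : (⟨g, hgN⟩ : N) ^ Nat.card N = 1 := pow_card_eq_one'
      have e' : g ^ Nat.card N = 1 := by rwa [Subtype.ext_iff, Subgroup.coe_pow, Subgroup.coe_one] at e
      have : g = ((g ^ 2) ^ j)⁻¹ := by
        rw [eq_inv_iff_mul_eq_one, ← pow_mul, ← pow_succ', ← hj]; exact e'
      rw [this]
      exact (h2.pow_left j).inv_left
    rw [hgz.eq, mul_inv_cancel_right] at hg
    have hzN : z ∈ N := Subgroup.le_normalizer (hZP hz)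
    have h2z : z ^ 2 = 1 := by
      rw [pow_two]
      nth_rw 2 [hg]
      exact mul_inv_cancel z
    have e : (⟨z, hzN⟩ : N) ^ Nat.card N = 1 := pow_card_eq_one'
    have e' : z ^ Nat.card N = 1 := by rwa [Subtype.ext_iff, Subgroup.coe_pow, Subgroup.coe_one] at e
    rw [hj, pow_succ, pow_mul, h2z, one_pow, one_mul] at e'
    exact hz1 e'
  -- the part of the class outside `Z` splits into regular `P`-orbits
  let B : Type _ := {a : G // IsConj z a ∧ a ∉ Z}
  let act : MulAction (P : Subgroup G) B :=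
    { smul := fun u a => ⟨(u : G) * a.1 * (u : G)⁻¹,
        a.2.1.trans (isConj_iff.mpr ⟨(u : G), rfl⟩), fun h => a.2.2 (by
          have := hZn _ (Subgroup.le_normalizer ((P : Subgroup G).inv_mem u.2)) _ h
          simpa [mul_assoc] using this)⟩
      one_smul := fun a => Subtype.ext (show ((1 : (P : Subgroup G)) : G) * a.1 *
        ((1 : (P : Subgroup G)) : G)⁻¹ = a.1 by simp)
      mul_smul := fun u v a => Subtype.ext (show ((u * v : (P : Subgroup G)) : G) * a.1 *
        ((u * v : (P : Subgroup G)) : G)⁻¹ = (u : G) * ((v : G) * a.1 * (v : G)⁻¹) * (u : G)⁻¹ by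
          simp only [Subgroup.coe_mul]; group) }
  have hfree : ∀ (u : (P : Subgroup G)) (a : B), u • a = a → u = 1 := by
    intro u a hua
    by_contra hu1
    have hu : (u : G) ≠ 1 := fun e => hu1 (Subtype.ext e)
    have he : (u : G) * a.1 * (u : G)⁻¹ = a.1 := congrArg Subtype.val hua
    have hcm : (u : G) * a.1 = a.1 * u := mul_inv_eq_iff_eq_mul.mp he
    have haN : a.1 ∈ N := hmemN a.1 u u.2 hu (by
      rw [← hcm, mul_inv_cancel_right]; exact u.2)
    obtain ⟨g, hg⟩ := isConj_iff.mp a.2.1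
    have haP : a.1 ∈ (P : Subgroup G) := by
      obtain ⟨i, hi⟩ := P.isPGroup' ⟨z, hZP hz⟩
      have hiz : z ^ p ^ i = 1 := by simpa using congrArg Subtype.val hi
      have hia : a.1 ^ p ^ i = 1 := by rw [← hg, conj_pow, hiz]; group
      have hPN : (P : Subgroup G) ≤ N := Subgroup.le_normalizer
      have : (((P.subtype hPN : Sylow p N) : Subgroup N)).Normal := by
        rw [Sylow.coe_subtype]
        exact Subgroup.normal_subgroupOf_iff_le_normalizer hPN |>.mpr le_rfl
      have : Subsingleton (Sylow p N) :=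
        (Sylow.unique_of_normal (P.subtype hPN) this).instSubsingleton
      have hdvd : orderOf (⟨a.1, haN⟩ : N) ∣ p ^ i :=
        orderOf_dvd_of_pow_eq_one (Subtype.ext (by rw [Subgroup.coe_pow, Subgroup.coe_one]; exact hia))
      obtain ⟨l, -, hl⟩ := (Nat.dvd_prime_pow Fact.out).mp hdvd
      obtain ⟨Q, hQ⟩ := IsPGroup.exists_le_sylow
        (IsPGroup.of_card (n := l) ((Nat.card_zpowers _).trans hl) :
          IsPGroup p (Subgroup.zpowers (⟨a.1, haN⟩ : N)))
      have h3 := hQ (Subgroup.mem_zpowers _)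
      rw [Subsingleton.elim Q (P.subtype hPN), Sylow.coe_subtype] at h3
      exact h3
    have hgN : g ∈ N := hmemN g z (hZP hz) hz1 (hg ▸ haP)
    exact a.2.2 (hg ▸ hZn g hgN z hz)
  have horb : ∀ y ∈ Z, ∃ β : ℂ, IsIntegral ℤ β ∧
      ∑ a ∈ S.filter (fun a => a ∉ Z), ψ (a * y) = (Nat.card (P : Subgroup G) : ℂ) * β := by
    intro y hy
    let q : B → MulAction.orbitRel.Quotient (P : Subgroup G) B := Quotient.mk''
    refine ⟨∑ o : MulAction.orbitRel.Quotient (P : Subgroup G) B, ψ ((Quotient.out o : B).1 * y),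
      IsIntegral.sum _ fun o _ => char_isIntegral hψc _, ?_⟩
    rw [show ∑ a ∈ S.filter (fun a => a ∉ Z), ψ (a * y) = ∑ a : B, ψ (a.1 * y) from
      Finset.sum_subtype _ (fun a => by simp [hS]) _, Finset.mul_sum,
      ← Finset.sum_fiberwise Finset.univ q]
    refine Finset.sum_congr rfl fun o _ => ?_
    have himg : Finset.univ.filter (fun a : B => q a = o) =
        Finset.univ.image fun u : (P : Subgroup G) => u • (Quotient.out o : B) := by
      ext a
      simp only [Finset.mem_filter, Finset.mem_univ, true_and, Finset.mem_image, q]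
      constructor
      · intro h
        have : a ∈ MulAction.orbit (P : Subgroup G) (Quotient.out o : B) := by
          exact MulAction.orbitRel_apply.mp (Quotient.exact (h.trans (Quotient.out_eq o).symm))
        exact this
      · rintro ⟨u, rfl⟩
        refine Eq.trans (Quotient.sound ?_) (Quotient.out_eq o)
        exact MulAction.mem_orbit _ u
    rw [himg, Finset.sum_image (fun u _ v _ e => by
      have := hfree (v⁻¹ * u) _ (by rw [mul_smul, e, inv_smul_smul])
      exact (inv_mul_eq_one.mp this).symm)]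
    rw [Finset.sum_congr rfl fun u _ => show ψ ((u • (Quotient.out o : B)).1 * y) =
      ψ ((Quotient.out o : B).1 * y) from by
        have hcy : y * (u : G) = u * y := hZc y hy u u.2
        show ψ ((u : G) * (Quotient.out o : B).1 * (u : G)⁻¹ * y) = _
        rw [show (u : G) * (Quotient.out o : B).1 * (u : G)⁻¹ * y =
            (u : G) * ((Quotient.out o : B).1 * ((u : G)⁻¹ * (y * (u : G)))) * (u : G)⁻¹ by group,
          hψf, hcy, inv_mul_cancel_left],
      Finset.sum_const, nsmul_eq_mul, Finset.card_univ, Nat.card_eq_fintype_card]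
  obtain ⟨β, hβ, hβe⟩ := horb z hz
  obtain ⟨β', hβ', hβe'⟩ := horb z⁻¹ (Z.inv_mem hz)
  have hzS : z ∈ S := Finset.mem_filter.mpr ⟨Finset.mem_univ _, IsConj.refl z⟩
  have hA : ∑ a ∈ S.filter (fun a => a ∈ Z), ψ (a * z) =
      ((S.filter fun a => a ∈ Z).card : ℂ) * c := by
    rw [← nsmul_eq_mul, ← Finset.sum_const]
    refine Finset.sum_congr rfl fun a ha => ?_
    obtain ⟨haS, haZ⟩ := Finset.mem_filter.mp ha
    rw [← hc]
    refine hconst _ (Z.mul_mem haZ hz) z hz (fun e => ?_) hz1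
    obtain ⟨g, hg⟩ := isConj_iff.mp (Finset.mem_filter.mp haS).2
    exact hninv g (hg.trans (eq_inv_of_mul_eq_one_left e))
  have hA' : ∑ a ∈ S.filter (fun a => a ∈ Z), ψ (a * z⁻¹) =
      (d : ℂ) + (((S.filter fun a => a ∈ Z).card : ℂ) - 1) * c := by
    have hm : z ∈ S.filter fun a => a ∈ Z := Finset.mem_filter.mpr ⟨hzS, hz⟩
    have hpos : 1 ≤ (S.filter fun a => a ∈ Z).card := Finset.card_pos.mpr ⟨z, hm⟩
    rw [← Finset.add_sum_erase _ _ hm, mul_inv_cancel, hd,
      show ((S.filter fun a => a ∈ Z).card : ℂ) - 1 = (((S.filter fun a => a ∈ Z).erase z).card : ℂ) by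
        rw [Finset.card_erase_of_mem hm, Nat.cast_sub hpos, Nat.cast_one],
      ← nsmul_eq_mul, ← Finset.sum_const]
    congr 1
    refine Finset.sum_congr rfl fun a ha => ?_
    obtain ⟨hne, hm'⟩ := Finset.mem_erase.mp ha
    rw [← hc]
    exact hconst _ (Z.mul_mem (Finset.mem_filter.mp hm').2 (Z.inv_mem hz)) z hz
      (fun e => hne (mul_inv_eq_one.mp e)) hz1
  have e1 := Finset.sum_filter_add_sum_filter_not S (fun a => a ∈ Z) fun a => ψ (a * z)
  have e2 := Finset.sum_filter_add_sum_filter_not S (fun a => a ∈ Z) fun a => ψ (a * z⁻¹)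
  rw [hA, hβe] at e1
  rw [hA', hβe'] at e2
  have hPne : (Nat.card (P : Subgroup G) : ℂ) ≠ 0 := by exact_mod_cast Nat.card_pos.ne'
  have hkey : (Nat.card (P : Subgroup G) : ℂ) * (β - β') = (d : ℂ) - c := by
    linear_combination e1 - e2 + hTT
  have hq : β - β' = ((((d : ℤ) - c : ℤ) : ℚ) / (Nat.card (P : Subgroup G) : ℚ) : ℚ) := by
    push_cast
    rw [eq_div_iff hPne, ← hkey]
    ring
  obtain ⟨n, hn⟩ := exists_int_of_isIntegral_rat (hq ▸ hβ.sub hβ')
  refine ⟨n, ?_⟩
  have : ((d : ℤ) - c : ℂ) = ((Nat.card (P : Subgroup G) : ℤ) : ℂ) * n := by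
    rw [Int.cast_natCast, Int.cast_natCast, ← hkey, hq, hn]
    simp
  exact_mod_cast this

end CfsgLib.OddChar
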