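import Cfsg.Agent.Lib.OddChar.Semidirect
import Cfsg.Agent.Lib.OddChar.CyclicTI

/-!
# The characters of `L = K ⋊ W₁` attached to the linear characters of `W₁ × W₂`

`ti`, `exists_mu`.
-/

namespace CfsgLib.OddChar.Semi

open CfsgLib.Char CfsgLib.CharNormal CfsgLib.OddChar.CTI
open scoped ComplexConjugate

variable {L : Type*} [Group L] [Fintype L] {K W₁ W₂ : Subgroup L} [hK : K.Normal]
  (h : Setting K W₁ W₂)

include h in
/-- The elements of `W` outside `W₂` form a TI-set. -/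
theorem ti (g : L) (hg : g ∉ W₁ ⊔ W₂) {t : L} (ht : t ∈ W₁ ⊔ W₂) (ht₂ : t ∉ W₂) :
    g * t * g⁻¹ ∉ W₁ ⊔ W₂ := by
  intro hgt
  have hc : ∀ a ∈ W₁, ∀ b ∈ W₂, a * b = b * a := fun a ha b hb => (commute h ha hb).eq
  obtain ⟨k, hk, x₁, hx₁, rfl⟩ := exists_mul h g
  obtain ⟨x, hx, y, hy, rfl⟩ := exists_mul_of_mem hc ht
  obtain ⟨x', hx', y', hy', he⟩ := exists_mul_of_mem hc hgt
  have hxne : x ≠ 1 := fun e => ht₂ (by rw [e, one_mul]; exact hy)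
  have := isCyclic_sup h
  have hfix : x₁ * (x * y) * x₁⁻¹ = x * y := by
    have e := congrArg Subtype.val ((IsCyclic.isMulCommutative (α := ↥(W₁ ⊔ W₂))).is_comm.comm
      ⟨x₁, le_sup_left (a := W₁) hx₁⟩ ⟨x * y, ht⟩)
    simp only [Subgroup.coe_mul] at e
    rw [e, mul_inv_cancel_right]
  rw [show k * x₁ * (x * y) * (k * x₁)⁻¹ = k * (x₁ * (x * y) * x₁⁻¹) * k⁻¹ by group, hfix] at he
  have hxx : x'⁻¹ * x ∈ K ⊓ W₁ := by
    refine ⟨?_, W₁.mul_mem (W₁.inv_mem hx') hx⟩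
    rw [show x'⁻¹ * x = x'⁻¹ * (k⁻¹ * (k * (x * y) * k⁻¹) * k) * y⁻¹ by group, he,
      show x'⁻¹ * (k⁻¹ * (x' * y') * k) * y⁻¹ = (x'⁻¹ * k⁻¹ * x') * y' * k * y⁻¹ by group]
    refine K.mul_mem (K.mul_mem (K.mul_mem ?_ (h.le hy')) hk) (K.inv_mem (h.le hy))
    simpa using hK.conj_mem _ (K.inv_mem hk) x'⁻¹
  rw [h.inf_eq, Subgroup.mem_bot, inv_mul_eq_one] at hxx
  subst hxx
  obtain ⟨j, hj⟩ := exists_pow_of_coprime (G := L) (coprime_card h)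
  have hp : ∀ y ∈ W₂, (x' * y) ^ j = x' := fun y hy => hj x' y (commute h hx' hy)
    (by rw [← Subgroup.coe_mk W₁ x' hx', ← Subgroup.coe_pow, pow_card_eq_one', Subgroup.coe_one])
    (by rw [← Subgroup.coe_mk W₂ y hy, ← Subgroup.coe_pow, pow_card_eq_one', Subgroup.coe_one])
  have h3 := congrArg (· ^ j) he
  simp only [conj_pow, hp y hy, hp y' hy'] at h3
  refine hg (mul_mem (le_sup_right (a := W₁) ?_) (le_sup_left (a := W₁) hx₁))
  rw [← h.cent x' hx' hxne]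
  exact ⟨hk, Subgroup.mem_centralizer_singleton_iff.mpr (mul_inv_eq_iff_eq_mul.mp h3)⟩

include h in
theorem exists_mu [Fintype ↥(W₁ ⊔ W₂)] (h₁ : W₁ ≠ ⊥) (h₂ : W₂ ≠ ⊥) :
    ∃ (μ : (↥(W₁ ⊔ W₂) →* ℂˣ) → (L → ℂ)) (δ : (↥(W₁ ⊔ W₂) →* ℂˣ) → ℂ),
      Function.Injective μ ∧ (∀ ω, Cfsg.IsIrrCharacter L (μ ω)) ∧ (∀ ω, δ ω = 1 ∨ δ ω = -1) ∧
      (∀ ω ω' : ↥(W₁ ⊔ W₂) →* ℂˣ, (∀ w : ↥(W₁ ⊔ W₂), (w : L) ∈ W₂ → ω w = ω' w) → δ ω = δ ω' ∧
        Cfsg.indFun (W₁ ⊔ W₂) (fun w => (ω w : ℂ) - (ω' w : ℂ)) = δ ω • (μ ω - μ ω')) ∧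
      (∀ ω, ∀ w : ↥(W₁ ⊔ W₂), (w : L) ∉ W₂ → μ ω w = δ ω * (ω w : ℂ)) ∧
      (∀ θ : L → ℂ, Cfsg.IsIrrCharacter L θ → (∀ ω, θ ≠ μ ω) →
        ∀ w : ↥(W₁ ⊔ W₂), (w : L) ∉ W₂ → θ w = 0) ∧
      (∀ ω, ∃ n : ℤ, μ ω 1 - δ ω = n * (Nat.card W₁ : ℂ)) := by
  classical
  have hS := isSelfNormalizingCyclic h h₁ h₂
  have hcomm := commute_of_mem hS
  have := finite_hom hcomm
  have := Fintype.ofFinite (↥(W₁ ⊔ W₂) →* ℂˣ)
  obtain ⟨π₁, π₂, hπ, hπ₁, hπ₂, e₁, e₂⟩ := exists_proj hS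
  have hrec : ∀ ω : ↥(W₁ ⊔ W₂) →* ℂˣ, ω.comp π₁ * ω.comp π₂ = ω := fun ω => MonoidHom.ext fun w => by
    simp [← map_mul, hπ]
  have hφ : ∀ ω : ↥(W₁ ⊔ W₂) →* ℂˣ, ∀ w : ↥(W₁ ⊔ W₂), (w : L) ∈ W₂ → ω.comp π₁ w = 1 := fun ω w hw => by
    simp [(e₂ w hw).1]
  have hψ : ∀ ω : ↥(W₁ ⊔ W₂) →* ℂˣ, ∀ w : ↥(W₁ ⊔ W₂), (w : L) ∈ W₁ → ω.comp π₂ w = 1 := fun ω w hw => by
    simp [(e₁ w hw).2]
  let P₁ : Type _ := {φ : ↥(W₁ ⊔ W₂) →* ℂˣ // ∀ w : ↥(W₁ ⊔ W₂), (w : L) ∈ W₂ → φ w = 1}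
  let P₂ : Type _ := {ψ : ↥(W₁ ⊔ W₂) →* ℂˣ // ∀ w : ↥(W₁ ⊔ W₂), (w : L) ∈ W₁ → ψ w = 1}
  let p₁ : (↥(W₁ ⊔ W₂) →* ℂˣ) → P₁ := fun ω => ⟨ω.comp π₁, hφ ω⟩
  let p₂ : (↥(W₁ ⊔ W₂) →* ℂˣ) → P₂ := fun ω => ⟨ω.comp π₂, hψ ω⟩
  let i₀ : P₁ := ⟨1, fun _ _ => rfl⟩
  -- the functions on `W` supported outside `W₂`
  set T : Set L := {t | t ∈ W₁ ⊔ W₂ ∧ t ∉ W₂} with hT
  have hTI : ∀ g : L, g ∉ W₁ ⊔ W₂ → ∀ t ∈ T, g * t * g⁻¹ ∈ T → t = 1 := fun g hg t ht hgt =>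
    absurd hgt.1 (ti h g hg ht.1 ht.2)
  let F : P₁ → P₂ → ↥(W₁ ⊔ W₂) → ℂ := fun i j => lin (i.1 * j.1) - lin j.1
  have hFT : ∀ i j, ∀ x : ↥(W₁ ⊔ W₂), (x : L) ∉ T → F i j x = 0 := fun i j x hx => by
    have hx2 : (x : L) ∈ W₂ := by
      by_contra hne
      exact hx ⟨x.2, hne⟩
    simp [F, lin, i.2 x hx2]
  have hF1 : ∀ i j, F i j 1 = 0 := fun i j => by simp [F, lin]
  let τ : P₂ → P₁ → L → ℂ := fun j i => Cfsg.indFun (W₁ ⊔ W₂) (F i j)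
  have hgen : ∀ j i, Cfsg.IsGeneralizedCharacter L (τ j i) := fun j i =>
    isGen_indFun _ (isGen_sub (isGen_of_irr (isIrrCharacter_units_hom _))
      (isGen_of_irr (isIrrCharacter_units_hom _)))
  have hτ1 : ∀ j i, τ j i 1 = 0 := fun j i => by
    simp only [τ, indFun_apply, mul_one, inv_mul_cancel]
    rw [show Cfsg.extendByZero (W₁ ⊔ W₂) (F i j) (1 : L) = 0 from
      (extendByZero_coe (F i j) 1).trans (hF1 i j)]
    simp
  have heq : ∀ i i' : P₁, ∀ j j' : P₂, i.1 * j.1 = i'.1 * j'.1 ↔ i = i' ∧ j = j' := fun i i' j j' =>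
    ⟨fun e => by
      obtain ⟨a, b⟩ := hom_ext_of_sup i.2 i'.2 j.2 j'.2 e
      exact ⟨Subtype.ext a, Subtype.ext b⟩, fun e => by rw [e.1, e.2]⟩
  have heq1 : ∀ i : P₁, ∀ j j' : P₂, i.1 * j.1 = j'.1 ↔ i = i₀ ∧ j = j' := fun i j j' => by
    conv_lhs => rw [← hom_one_mul j'.1]
    exact heq i i₀ j j'
  have heq1' : ∀ i : P₁, ∀ j j' : P₂, j'.1 = i.1 * j.1 ↔ i = i₀ ∧ j = j' := fun i j j' => by
    rw [eq_comm]; exact heq1 i j j'
  have hip : ∀ j j' : P₂, ∀ i i' : P₁, i ≠ i₀ → i' ≠ i₀ → Cfsg.classInner (τ j i) (τ j' i') =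
      if j = j' then (if i = i' then 2 else 1) else 0 := by
    intro j j' i i' hi hi'
    simp only [τ]
    rw [classInner_indFun_of_TI _ T hTI (fun a b => by rw [hcomm b a, mul_inv_cancel_right])
      (hFT i j) (hFT i' j') (hF1 i j)]
    simp only [F, classInner_sub_left, classInner_sub_right, classInner_lin, heq, heq1, heq1',
      Subtype.coe_inj]
    by_cases a : j = j' <;> by_cases b : i = i' <;> simp [a, b, hi, hi'] <;> norm_num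
  choose ε hε m hm hminj hmτ using fun j : P₂ => coherent_of_gram i₀ (τ j)
    (by simp [τ, F, i₀, hom_one_mul, indFun_zero]) (hgen j) (hτ1 j)
    (fun i i' hi hi' => by rw [hip j j i i' hi hi', if_pos rfl])
  obtain ⟨i₁, hi₁⟩ : ∃ i : P₁, i ≠ i₀ := by
    by_contra hne
    push Not at hne
    refine h₁ ((Subgroup.eq_bot_iff_forall _).mpr fun x hx => ?_)
    let w : ↥(W₁ ⊔ W₂) := ⟨x, le_sup_left (a := W₁) hx⟩
    by_contra hx1
    have hw1 : w ≠ 1 := fun e => hx1 (congrArg Subtype.val e)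
    have := sum_lin hcomm w
    rw [if_neg hw1] at this
    have hc : ∀ ω : ↥(W₁ ⊔ W₂) →* ℂˣ, lin ω w = 1 := fun ω => by
      have e : ω.comp π₁ = 1 := congrArg Subtype.val (hne (p₁ ω))
      have := DFunLike.congr_fun e w
      rw [MonoidHom.comp_apply, (e₁ w hx).1] at this
      simp [lin, this]
    simp [hc] at this
  -- no character occurs in two of the families
  have hsep : ∀ j j' : P₂, ∀ i i' : P₁, m j i = m j' i' → j = j' := by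
    intro j j' i i' he
    by_contra hne
    obtain ⟨a, ha⟩ : ∃ a : P₁, a ≠ i := (em (i = i₀)).elim (fun e => ⟨i₁, e ▸ hi₁⟩)
      fun e => ⟨i₀, Ne.symm e⟩
    obtain ⟨a', ha'⟩ : ∃ a : P₁, a ≠ i' := (em (i' = i₀)).elim (fun e => ⟨i₁, e ▸ hi₁⟩)
      fun e => ⟨i₀, Ne.symm e⟩
    have hdiff : ∀ j : P₂, ∀ i a : P₁, m j i - m j a = ε j • (τ j i - τ j a) := by
      intro j i a
      rw [hmτ j i, hmτ j a]
      rcases hε j with e | e <;> rw [e] <;> module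
    have h0 : ∀ b b' : P₁, Cfsg.classInner (τ j b) (τ j' b') = 0 := by
      intro b b'
      rcases eq_or_ne b i₀ with rfl | hb
      · simp [τ, F, i₀, hom_one_mul, indFun_zero, classInner_zero_left]
      rcases eq_or_ne b' i₀ with rfl | hb'
      · simp [τ, F, i₀, hom_one_mul, indFun_zero, classInner_zero_right]
      rw [hip j j' b b' hb hb', if_neg hne]
    have hz : Cfsg.classInner (m j i - m j a) (m j' i' - m j' a') = 0 := by
      rw [hdiff, hdiff, classInner_smul_left, classInner_smul_right]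
      simp [classInner_sub_left, classInner_sub_right, h0]
    rw [classInner_sub_left, classInner_sub_right, classInner_sub_right] at hz
    have t1 : Cfsg.classInner (m j i) (m j' i') = 1 := he ▸ classInner_irr_self (hm j i)
    have t2 : Cfsg.classInner (m j i) (m j' a') = 0 :=
      classInner_irr_ne (hm _ _) (hm _ _) (he ▸ fun e => ha' (hminj j' e).symm)
    have t3 : Cfsg.classInner (m j a) (m j' i') = 0 :=
      classInner_irr_ne (hm _ _) (hm _ _) (he ▸ fun e => ha (hminj j e))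
    rw [t1, t2, t3] at hz
    by_cases e : m j a = m j' a'
    · rw [e, classInner_irr_self (hm j' a')] at hz
      norm_num at hz
    · rw [classInner_irr_ne (hm _ _) (hm _ _) e] at hz
      norm_num at hz
  let μ : (↥(W₁ ⊔ W₂) →* ℂˣ) → L → ℂ := fun ω => m (p₂ ω) (p₁ ω)
  let δ : (↥(W₁ ⊔ W₂) →* ℂˣ) → ℂ := fun ω => ε (p₂ ω)
  have hμinj : Function.Injective μ := fun ω ω' e => by
    have ej := hsep _ _ _ _ e
    have ei : p₁ ω = p₁ ω' := by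
      have e' : m (p₂ ω) (p₁ ω) = m (p₂ ω') (p₁ ω') := e
      rw [ej] at e'
      exact hminj _ e'
    rw [← hrec ω, ← hrec ω']
    exact congrArg₂ (· * ·) (congrArg Subtype.val ei) (congrArg Subtype.val ej)
  have hμip : ∀ ω ω', Cfsg.classInner (μ ω) (μ ω') = if ω = ω' then 1 else 0 := by
    intro ω ω'
    split_ifs with e
    · rw [e]; exact classInner_irr_self (hm _ _)
    · exact classInner_irr_ne (hm _ _) (hm _ _) fun he => e (hμinj he)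
  have hsq : ∀ j, ε j * ε j = 1 := fun j => by rcases hε j with e | e <;> simp [e]
  have hpair : ∀ ω ω' : ↥(W₁ ⊔ W₂) →* ℂˣ, (∀ w : ↥(W₁ ⊔ W₂), (w : L) ∈ W₂ → ω w = ω' w) →
      δ ω = δ ω' ∧ Cfsg.indFun (W₁ ⊔ W₂) (lin ω - lin ω') = δ ω • (μ ω - μ ω') := by
    intro ω ω' hres
    have ej : p₂ ω = p₂ ω' := Subtype.ext (MonoidHom.ext fun w => hres _ (hπ₂ w))
    refine ⟨congrArg ε ej, ?_⟩
    have e : lin ω - lin ω' = F (p₁ ω) (p₂ ω) - F (p₁ ω') (p₂ ω) := by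
      have a : (p₁ ω).1 * (p₂ ω).1 = ω := hrec ω
      have b : (p₁ ω').1 * (p₂ ω).1 = ω' := by rw [ej]; exact hrec ω'
      simp [F, a, b]
    show Cfsg.indFun (W₁ ⊔ W₂) (lin ω - lin ω') =
      ε (p₂ ω) • (m (p₂ ω) (p₁ ω) - m (p₂ ω') (p₁ ω'))
    rw [e, indFun_sub, ← ej]
    show τ (p₂ ω) (p₁ ω) - τ (p₂ ω) (p₁ ω') = _
    rw [hmτ, hmτ]
    module
  -- functions orthogonal to every `ν - ν ∘ π₂` vanish outside `W₂`
  have hvan : ∀ θ : ↥(W₁ ⊔ W₂) → ℂ,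
      (∀ ν : ↥(W₁ ⊔ W₂) →* ℂˣ, Cfsg.classInner (lin ν - lin (ν.comp π₂)) θ = 0) →
      ∀ w : ↥(W₁ ⊔ W₂), (w : L) ∉ W₂ → θ w = 0 := by
    intro θ hθ w hw
    have hind : ∀ x : ↥(W₁ ⊔ W₂),
        ∑ ν : ↥(W₁ ⊔ W₂) →* ℂˣ, lin ν w⁻¹ * (lin ν x - lin (ν.comp π₂) x) =
          if x = w then (Nat.card ↥(W₁ ⊔ W₂) : ℂ) else 0 := by
      intro x
      have e : ∀ ν : ↥(W₁ ⊔ W₂) →* ℂˣ, lin ν w⁻¹ * (lin ν x - lin (ν.comp π₂) x) =
          lin ν (w⁻¹ * x) - lin ν (w⁻¹ * π₂ x) := fun ν => by simp [lin, mul_sub]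
      rw [Finset.sum_congr rfl fun ν _ => e ν, Finset.sum_sub_distrib, sum_lin hcomm, sum_lin hcomm,
        if_neg (show ¬ w⁻¹ * π₂ x = 1 from fun e => hw (by rw [inv_mul_eq_one.mp e]; exact hπ₂ x))]
      simp only [inv_mul_eq_one, eq_comm (a := w) (b := x), sub_zero]
    have h0 : Cfsg.classInner
        (fun x : ↥(W₁ ⊔ W₂) => if x = w then (Nat.card ↥(W₁ ⊔ W₂) : ℂ) else 0) θ = 0 := by
      rw [show (fun x : ↥(W₁ ⊔ W₂) => if x = w then (Nat.card ↥(W₁ ⊔ W₂) : ℂ) else 0) =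
        ∑ ν : ↥(W₁ ⊔ W₂) →* ℂˣ, lin ν w⁻¹ • (lin ν - lin (ν.comp π₂)) from
        funext fun x => by simp only [Finset.sum_apply, Pi.smul_apply, Pi.sub_apply, smul_eq_mul, hind x], classInner_sum_left]
      simp [classInner_smul_left, hθ]
    simpa [classInner_def, ite_mul, Nat.card_pos.ne'] using h0
  have hν : ∀ ν : ↥(W₁ ⊔ W₂) →* ℂˣ, ∀ w : ↥(W₁ ⊔ W₂), (w : L) ∈ W₂ → ν w = ν.comp π₂ w :=
    fun ν w hw => by simp [(e₂ w hw).2]
  have hval : ∀ ω, ∀ w : ↥(W₁ ⊔ W₂), (w : L) ∉ W₂ → μ ω w = δ ω * (ω w : ℂ) := by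
    intro ω w hw
    refine sub_eq_zero.mp (hvan ((fun x : ↥(W₁ ⊔ W₂) => μ ω x) - δ ω • lin ω) (fun ν => ?_) w hw)
    obtain ⟨hd, hi⟩ := hpair ν (ν.comp π₂) (hν ν)
    rw [classInner_sub_right, ← frobenius_reciprocity _ _ (isClassFunction_of_isIrr (hm _ _)), hi,
      classInner_smul_left, classInner_sub_left, hμip, hμip, classInner_smul_right,
      classInner_sub_left, classInner_lin, classInner_lin, sub_eq_zero]
    have hc : conj (δ ω) = δ ω := by rcases hε (p₂ ω) with e | e <;> simp [δ, e]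
    rw [hc]
    by_cases a : ν = ω
    · rw [a]
    · by_cases b : ν.comp π₂ = ω
      · rw [hd, b]
      · simp [a, b]
  refine ⟨μ, δ, hμinj, fun ω => hm _ _, fun ω => hε _, hpair, hval, fun θ hθ hne w hw => ?_,
    fun ω => ?_⟩
  · refine hvan (fun x : ↥(W₁ ⊔ W₂) => θ x) (fun ν => ?_) w hw
    rw [← frobenius_reciprocity _ _ (isClassFunction_of_isIrr hθ), (hpair ν _ (hν ν)).2,
      classInner_smul_left, classInner_sub_left, classInner_irr_ne (hm _ _) hθ (hne ν).symm,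
      classInner_irr_ne (hm _ _) hθ (hne _).symm, sub_self, mul_zero]
  · have := Fintype.ofFinite W₁
    let ι₁ : W₁ →* ↥(W₁ ⊔ W₂) := Subgroup.inclusion le_sup_left
    have hδ : ∃ z : ℤ, δ ω = z := by
      rcases hε (p₂ ω) with e | e
      · exact ⟨1, by simp [δ, e]⟩
      · exact ⟨-1, by simp [δ, e]⟩
    obtain ⟨z, hz⟩ := hδ
    set f : W₁ → ℂ := (fun x : W₁ => μ ω x) - δ ω • lin (ω.comp ι₁) with hf
    have hfg : Cfsg.IsGeneralizedCharacter W₁ f := by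
      rw [hf, hz]
      exact isGen_sub (isGen_res W₁ (isGen_of_irr (hm _ _)))
        (isGen_intCast_smul (isGen_of_irr (isIrrCharacter_units_hom _)) z)
    obtain ⟨n, hn⟩ := classInner_gen_int hfg (isGen_one (G := W₁))
    refine ⟨n, ?_⟩
    rw [classInner_def, Finset.sum_eq_single (1 : W₁)] at hn
    · simp only [hf, Pi.sub_apply, Pi.smul_apply, smul_eq_mul, lin, map_one, Units.val_one, mul_one,
        Subgroup.coe_one] at hn
      have hc0 : (Nat.card W₁ : ℂ) ≠ 0 := by exact_mod_cast Nat.card_pos.ne'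
      rw [← hn]
      field_simp
    · intro x _ hx1
      have hx2 : (x : L) ∉ W₂ := fun h2 => by
        have hm' : (x : L) ∈ K ⊓ W₁ := ⟨h.le h2, x.2⟩
        rw [h.inf_eq] at hm'
        exact hx1 (Subtype.ext hm')
      have : f x = 0 := by
        have := hval ω (ι₁ x) hx2
        simp only [ι₁, Subgroup.coe_inclusion] at this
        simp [hf, lin, this, ι₁]
      simp [this]
    · simp

end CfsgLib.OddChar.Semi
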