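import Cfsg.Agent.Lib.OddChar.FrobeniusKer
import Cfsg.Agent.Lib.OddChar.TISylow
import Cfsg.Agent.Lib.PGroup.Basic
import Cfsg.Agent.S1514

/-!
# Coherence for a Frobenius normalizer of a TI set

* `exists_extension`: the sign and the extension to a character of degree `[L:K]`;
* `coherent_TI`: the characters induced from the kernel are coherent.
-/

namespace CfsgLib.OddChar.Above

open CfsgLib.Char CfsgLib.CharNormal CfsgLib.OddChar.Coh
open scoped ComplexConjugate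

variable {G : Type*} [Group G] [Fintype G] {L : Subgroup G} [Fintype L]

/-- A class function of `G` orthogonal to a coherent image has multiples of `|L|/ψ(1)` as jumps. -/
theorem mult_jump (Z : Subgroup L) [Z.Normal] (F : L → ℂ) (hF : Cfsg.IsClassFunction L F)
    {ψ : L → ℂ}
    (h : ∀ φ : L → ℂ, Cfsg.IsIrrCharacter L φ → (∃ z ∈ Z, φ z ≠ φ 1) →
      ψ 1 * Cfsg.classInner F φ = φ 1 * Cfsg.classInner F ψ) {z : L} (hz : z ∈ Z) (hz1 : z ≠ 1) :
    ψ 1 * (F 1 - F z) = Cfsg.classInner F ψ * (Nat.card L : ℂ) := by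
  classical
  have h1 := congrFun (classFun_eq_sum hF) 1
  have hzv := congrFun (classFun_eq_sum hF) z
  simp only [Finset.sum_apply, Pi.smul_apply, smul_eq_mul] at h1 hzv
  have hterm : ∀ ω : Cfsg.IrrCharacter L,
      ψ 1 * Cfsg.classInner F ω * ((ω : L → ℂ) 1 - (ω : L → ℂ) z) =
      Cfsg.classInner F ψ * ((ω : L → ℂ) 1 * (ω : L → ℂ) 1 - (ω : L → ℂ) 1 * (ω : L → ℂ) z) := by
    intro ω
    by_cases hω : ∃ w ∈ Z, (ω : L → ℂ) w ≠ (ω : L → ℂ) 1
    · rw [h _ ω.2 hω]; ring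
    · push Not at hω
      rw [hω z hz]; ring
  calc ψ 1 * (F 1 - F z)
      = ∑ ω : Cfsg.IrrCharacter L, ψ 1 * Cfsg.classInner F ω * ((ω : L → ℂ) 1 - (ω : L → ℂ) z) := by
        rw [h1, hzv, ← Finset.sum_sub_distrib, Finset.mul_sum]
        exact Finset.sum_congr rfl fun ω _ => by ring
    _ = _ := by
        rw [Finset.sum_congr rfl fun ω _ => hterm ω, ← Finset.mul_sum, Finset.sum_sub_distrib,
          sum_degree_mul_apply z, if_neg hz1, sub_zero, Finset.sum_congr rfl fun ω _ => (sq _).symm,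
          sum_degree_sq]

open Classical in
/-- The norms force the sign. -/
theorem norm_cases {p m : ℕ} {c N Sq : ℤ} (hp : Odd p) (hSg : 2 ≤ Sq) (hev : 2 ∣ Sq) (hN : 0 ≤ N)
    (h : ((p : ℤ) ^ m) ^ 2 * N = ((p : ℤ) ^ m) ^ 2 - 2 * c - c ^ 2 * Sq) :
    N = 1 ∧ (c = 0 ∨ (c = -1 ∧ Sq = 2)) := by
  set q := (p : ℤ) ^ m with hq
  have hqo : Odd (q ^ 2) := ((hp.natCast (R := ℤ)).pow).pow
  have hN1 : 1 ≤ N := by
    by_contra hlt
    obtain rfl : N = 0 := by omega
    obtain ⟨w, rfl⟩ := hev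
    obtain ⟨u, hu⟩ := hqo
    rw [mul_zero] at h
    have : c ^ 2 * (2 * w) = 2 * (c ^ 2 * w) := by ring
    omega
  have hle : 2 * c + c ^ 2 * Sq ≤ 0 := by
    nlinarith [mul_le_mul_of_nonneg_left hN1 (sq_nonneg q)]
  have hc : c = 0 ∨ (c = -1 ∧ Sq = 2) := by
    rcases lt_trichotomy c 0 with hc | hc | hc
    · refine Or.inr ?_
      have h1 : c = -1 := by nlinarith
      subst h1
      exact ⟨rfl, by nlinarith⟩
    · exact Or.inl hc
    · exfalso; nlinarith
  refine ⟨?_, hc⟩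
  have h0 : q ^ 2 * N = q ^ 2 := by
    rcases hc with rfl | ⟨rfl, rfl⟩ <;> linear_combination h
  have hq0 : q ^ 2 ≠ 0 := fun e => by rw [e] at hqo; exact absurd hqo (by decide)
  exact mul_left_cancel₀ hq0 (h0.trans (mul_one _).symm)

open Classical in
/-- A coherent `T` of degrees `b ψ(1)` extends to a character of degree `ψ(1)/p^m` and its conjugate. -/
theorem exists_extension {p : ℕ} [hpf : Fact p.Prime] (P : Sylow p G)
    (hN : Subgroup.normalizer ((P : Subgroup G) : Set G) = L)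
    (hTI : Cfsg.IsTISubset ((P : Subgroup G) : Set G)) (hodd : Odd (Nat.card L))
    (Z : Subgroup L) [Z.Normal] (hZ1 : Z ≠ ⊥) (hZP : ∀ z ∈ Z, (z : G) ∈ (P : Subgroup G))
    (hZc : ∀ z ∈ Z, ∀ y : L, (y : G) ∈ (P : Subgroup G) → z * y = y * z)
    (S : Set (L → ℂ)) (hirr : ∀ φ ∈ S, Cfsg.IsIrrCharacter L φ)
    (hcne : ∀ φ ∈ S, Cfsg.conjFun φ ≠ φ)
    (hiso : Cfsg.IsLinearIsometryOn (Cfsg.zspanOn S {1}ᶜ) (fun α : L → ℂ => Cfsg.indFun L α))
    (hiso1 : ∀ α ∈ Cfsg.zspanOn S {1}ᶜ, Cfsg.indFun L α 1 = 0)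
    (T : Finset (L → ℂ)) (hTS : ↑T ⊆ S) (hTc : ∀ φ ∈ T, Cfsg.conjFun φ ∈ T)
    (hTrel : ∀ φ : L → ℂ, Cfsg.IsIrrCharacter L φ → (∃ z ∈ Z, φ z ≠ φ 1) → φ ∈ T)
    (hcoh : Cfsg.IsCoherent (↑T : Set (L → ℂ)) {1}ᶜ (fun α : L → ℂ => Cfsg.indFun L α))
    {ψ χ : L → ℂ} (hψ : ψ ∈ T) (hχS : χ ∈ S) (hχcS : Cfsg.conjFun χ ∈ S) (hχT : χ ∉ T)
    {m : ℕ} (hdeg : deg ψ = p ^ m * deg χ)
    (hdvd : ∀ φ ∈ T, deg ψ ∣ deg φ ∧ Odd (deg φ / deg ψ))
    (hPcard : deg χ * Nat.card (P : Subgroup G) = Nat.card L) :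
    Cfsg.IsCoherent (↑(T ∪ {χ, Cfsg.conjFun χ}) : Set (L → ℂ)) {1}ᶜ
      (fun α : L → ℂ => Cfsg.indFun L α) := by
  have hch : ∀ φ ∈ S, Cfsg.IsCharacter L φ := fun φ h => isCharacter_of_isIrr (hirr φ h)
  obtain ⟨-, σ, ⟨hσa, hσs, hσi, hσg⟩, hag⟩ := hcoh
  have hσm : ∀ φ ∈ T, φ ∈ Cfsg.zspan (↑T : Set (L → ℂ)) := fun φ h => mem_zspan h
  have hδ : ∀ φ ∈ S, ∀ φ' ∈ S, Cfsg.classInner φ φ' = if φ = φ' then 1 else 0 := fun φ h φ' h' => by
    split_ifs with he
    · subst he; exact classInner_irr_self (hirr φ h)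
    · exact classInner_irr_ne (hirr φ h) (hirr φ' h') he
  have hσσ : ∀ φ ∈ T, ∀ φ' ∈ T, Cfsg.classInner (σ φ) (σ φ') = if φ = φ' then 1 else 0 :=
    fun φ h φ' h' => by rw [hσi φ (hσm φ h) φ' (hσm φ' h'), hδ φ (hTS h) φ' (hTS h')]
  set b : (L → ℂ) → ℕ := fun φ => deg φ / deg ψ with hb
  have hval : ∀ φ ∈ T, φ 1 = (b φ : ℂ) * ψ 1 := fun φ h => by
    rw [deg_spec (hch φ (hTS h)), deg_spec (hch ψ (hTS hψ)), ← Nat.cast_mul, hb,
      Nat.div_mul_cancel (hdvd φ h).1]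
  have hψ0 : ψ 1 ≠ 0 := irr_one_ne_zero (hirr ψ (hTS hψ))
  have hψpos : 0 < deg ψ := Nat.pos_of_ne_zero fun e =>
    hψ0 (by rw [deg_spec (hch ψ (hTS hψ)), e, Nat.cast_zero])
  have hbψ : b ψ = 1 := Nat.div_self hψpos
  have hαT : ∀ φ ∈ T, φ - (b φ : ℤ) • ψ ∈ Cfsg.zspanOn (↑T : Set (L → ℂ)) {1}ᶜ := fun φ h =>
    mem_zspanOn_one (Submodule.sub_mem _ (hσm φ h) (Submodule.smul_mem _ _ (hσm ψ hψ)))
      (by simp [hval φ h])
  have hσα : ∀ φ ∈ T, Cfsg.indFun L (φ - (b φ : ℤ) • ψ) = σ φ - (b φ : ℂ) • σ ψ := fun φ h => by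
    refine (hag _ (hαT φ h)).symm.trans ?_
    rw [sub_eq_add_neg, ← neg_smul, hσa _ (hσm φ h) _
      (Submodule.smul_mem _ _ (hσm ψ hψ)), hσs _ (hσm ψ hψ), ← Int.cast_smul_eq_zsmul ℂ,
      Int.cast_neg, Int.cast_natCast, neg_smul, ← sub_eq_add_neg]
  have hinnσ : ∀ (f : G → ℂ) (φ : L → ℂ), φ ∈ T →
      Cfsg.classInner f (σ φ) - (b φ : ℂ) * Cfsg.classInner f (σ ψ) =
        Cfsg.classInner f (Cfsg.indFun L (φ - (b φ : ℤ) • ψ)) := fun f φ h => by
    rw [hσα φ h, classInner_sub_right, classInner_smul_right, map_natCast]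
  have hσ1 : ∀ φ ∈ T, σ φ 1 = (b φ : ℂ) * σ ψ 1 := fun φ h => by
    have := hiso1 _ (zspanOn_mono hTS _ (hαT φ h))
    rw [hσα φ h, Pi.sub_apply, Pi.smul_apply, smul_eq_mul] at this
    linear_combination this
  have hσirr : ∀ φ ∈ T, Cfsg.IsIrrCharacter G (σ φ) ∨ Cfsg.IsIrrCharacter G (-σ φ) := fun φ h =>
    gen_norm_one (hσg φ (hσm φ h)) (by rw [hσσ φ h φ h, if_pos rfl])
  have hσψ1 : σ ψ 1 ≠ 0 := by
    rcases hσirr ψ hψ with h | h
    · exact irr_one_ne_zero h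
    · exact fun h0 => irr_one_ne_zero h (by simp [h0])
  -- the difference `D`
  set q : ℕ := p ^ m with hq
  have hqψ : ψ 1 = (q : ℂ) * χ 1 := by
    rw [deg_spec (hch ψ (hTS hψ)), deg_spec (hch χ hχS), hdeg, Nat.cast_mul]
  have hmemD : ψ - (q : ℤ) • χ ∈ Cfsg.zspanOn S {1}ᶜ :=
    mem_zspanOn_one (Submodule.sub_mem _ (mem_zspan (hTS hψ))
      (Submodule.smul_mem _ _ (mem_zspan hχS))) (by simp [hqψ])
  set D := Cfsg.indFun L (ψ - (q : ℤ) • χ) with hD
  have hDgen : Cfsg.IsGeneralizedCharacter G D := hiso.2.2.2 _ hmemD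
  obtain ⟨c₀, hc₀⟩ := classInner_gen_int hDgen (hσg ψ (hσm ψ hψ))
  set c : ℤ := c₀ - 1 with hc
  have hne : ∀ φ ∈ T, φ ≠ χ := fun φ h e => hχT (e ▸ h)
  have hDσ : ∀ φ ∈ T, Cfsg.classInner D (σ φ) =
      (if φ = ψ then 1 else 0) + (b φ : ℂ) * (c : ℂ) := by
    intro φ h
    have h1 := hinnσ D φ h
    rw [hc₀, hiso.2.2.1 _ hmemD _ (zspanOn_mono hTS _ (hαT φ h))] at h1
    simp only [← Int.cast_smul_eq_zsmul ℂ, Int.cast_natCast, classInner_sub_left,
      classInner_sub_right, classInner_smul_left, classInner_smul_right, map_natCast,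
      hδ ψ (hTS hψ) φ (hTS h), hδ χ hχS φ (hTS h), hδ ψ (hTS hψ) ψ (hTS hψ),
      hδ χ hχS ψ (hTS hψ), if_neg (hne φ h).symm, if_neg (hne ψ hψ).symm, if_true] at h1
    rw [hc]
    push_cast
    by_cases he : φ = ψ
    · subst he; rw [if_pos rfl] at h1 ⊢; linear_combination h1
    · rw [if_neg (Ne.symm he)] at h1; rw [if_neg he]; linear_combination h1
  set Pr : G → ℂ := ∑ φ ∈ T, Cfsg.classInner D (σ φ) • σ φ with hPr
  set Δ := D - Pr with hΔ
  have hPσ : ∀ φ ∈ T, Cfsg.classInner Pr (σ φ) = Cfsg.classInner D (σ φ) := by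
    intro φ h
    rw [hPr, classInner_sum_left, Finset.sum_eq_single φ]
    · rw [classInner_smul_left, hσσ φ h φ h, if_pos rfl, mul_one]
    · intro φ' h' he
      rw [classInner_smul_left, hσσ φ' h' φ h, if_neg he, mul_zero]
    · exact fun h' => absurd h h'
  have hΔσ : ∀ φ ∈ T, Cfsg.classInner Δ (σ φ) = 0 := fun φ h => by
    rw [hΔ, classInner_sub_left, hPσ φ h, sub_self]
  have hΔgen : Cfsg.IsGeneralizedCharacter G Δ := isGen_sub hDgen (isGen_sum _ fun φ h => by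
    obtain ⟨k, hk⟩ := classInner_gen_int hDgen (hσg φ (hσm φ h))
    rw [hk]; exact isGen_intCast_smul (hσg φ (hσm φ h)) k)
  have hΔP : Cfsg.classInner Δ Pr = 0 := by
    rw [hPr, classInner_sum_right]
    exact Finset.sum_eq_zero fun φ h => by rw [classInner_smul_right, hΔσ φ h, mul_zero]
  have hPΔ : Cfsg.classInner Pr Δ = 0 := by rw [← classInner_conj_symm, hΔP, map_zero]
  obtain ⟨z₀, hz₀, hz₀1⟩ : ∃ z ∈ Z, z ≠ 1 := by
    by_contra hcon
    push Not at hcon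
    exact hZ1 ((Subgroup.eq_bot_iff_forall Z).mpr hcon)
  -- every multiplicity in `Δ` is a multiple of `q`
  have hdiv : ∀ η : Cfsg.IrrCharacter G, ∃ j : ℤ,
      Cfsg.classInner Δ (η : G → ℂ) = ((q : ℤ) * j : ℤ) := by
    intro η
    by_cases hex : ∃ φ ∈ T, σ φ = (η : G → ℂ) ∨ -σ φ = (η : G → ℂ)
    · obtain ⟨φ, hφ, he | he⟩ := hex
      · exact ⟨0, by rw [← he, hΔσ φ hφ]; simp⟩
      · exact ⟨0, by rw [← he, classInner_neg_right, hΔσ φ hφ]; simp⟩
    push Not at hex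
    have hησ : ∀ φ ∈ T, Cfsg.classInner (η : G → ℂ) (σ φ) = 0 := fun φ hφ => by
      rcases hσirr φ hφ with h | h
      · exact classInner_irr_ne η.2 h (Ne.symm (hex φ hφ).1)
      · have := classInner_irr_ne η.2 h (Ne.symm (hex φ hφ).2)
        rwa [classInner_neg_right, neg_eq_zero] at this
    have hPη : Cfsg.classInner Pr (η : G → ℂ) = 0 := by
      rw [hPr, classInner_sum_left]
      exact Finset.sum_eq_zero fun φ hφ => by
        rw [classInner_smul_left, show Cfsg.classInner (σ φ) (η : G → ℂ) = 0 by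
            rw [← classInner_conj_symm, hησ φ hφ, map_zero], mul_zero]
    set F : L → ℂ := fun x => (η : G → ℂ) x with hF
    have hFgen : Cfsg.IsGeneralizedCharacter L F := isGen_res L (isGen_of_irr η.2)
    have hprop : ∀ φ : L → ℂ, Cfsg.IsIrrCharacter L φ → (∃ z ∈ Z, φ z ≠ φ 1) →
        ψ 1 * Cfsg.classInner F φ = φ 1 * Cfsg.classInner F ψ := by
      intro φ hφi hrel
      have hφT := hTrel φ hφi hrel
      have h1 := hinnσ (η : G → ℂ) φ hφT
      rw [hησ φ hφT, hησ ψ hψ, frobenius_reciprocity' L _ (isClassFunction_of_isIrr η.2), ← hF,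
        ← Int.cast_smul_eq_zsmul ℂ, classInner_sub_right, classInner_smul_right, Int.cast_natCast,
        map_natCast, mul_zero, sub_zero, eq_comm, sub_eq_zero] at h1
      rw [h1, hval φ hφT]
      ring
    obtain ⟨a, ha⟩ := classInner_gen_int hFgen (isGen_of_irr (hirr ψ (hTS hψ)))
    obtain ⟨a', ha'⟩ := classInner_gen_int hFgen (isGen_of_irr (hirr χ hχS))
    have hrelZ : ∀ χ' ξ' : L → ℂ, Cfsg.IsIrrCharacter L χ' → IsRelevant Z χ' →
        Cfsg.IsIrrCharacter L ξ' → IsRelevant Z ξ' →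
        Cfsg.classInner F (ξ' 1 • χ' - χ' 1 • ξ') = 0 := by
      intro χ' ξ' h1 h2 h3 h4
      have e1 := hprop χ' h1 h2
      have e2 := hprop ξ' h3 h4
      rw [classInner_sub_right, classInner_smul_right, classInner_smul_right,
        char_conj_one (isCharacter_of_isIrr h1), char_conj_one (isCharacter_of_isIrr h3)]
      refine mul_left_cancel₀ hψ0 ?_
      linear_combination (ξ' 1) * e1 - (χ' 1) * e2
    obtain ⟨n, d, hn, hd, hPd⟩ := exists_dvd_sub p P hTI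
      (by rw [hN]; exact hodd) (Z.map L.subtype)
      (by rintro _ ⟨z, hz, rfl⟩; exact hZP z hz)
      (by
        rintro x hx _ ⟨z, hz, rfl⟩
        rw [hN] at hx
        exact ⟨_, ‹Z.Normal›.conj_mem z hz ⟨x, hx⟩, rfl⟩)
      (by
        rintro _ ⟨z, hz, rfl⟩ y hy
        have hyL : y ∈ L := hN ▸ Subgroup.le_normalizer hy
        exact congrArg Subtype.val (hZc z hz ⟨y, hyL⟩ hy))
      (η : G → ℂ) η.2
      (by
        rintro _ ⟨z, hz, rfl⟩ _ ⟨z', hz', rfl⟩ hne1 hne1'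
        exact apply_eq_of_orthogonal Z (isClassFunction_of_isGen hFgen) hrelZ hz
          (fun e => hne1 (by rw [e]; rfl)) hz' (fun e => hne1' (by rw [e]; rfl)))
      (z₀ : G) ⟨z₀, hz₀, rfl⟩ (fun e => hz₀1 (Subtype.ext e))
    obtain ⟨j, hj⟩ := hPd
    have hjump := mult_jump Z F (isClassFunction_of_isGen hFgen) hprop hz₀ hz₀1
    rw [show F 1 = (d : ℂ) from hd, show F z₀ = (n : ℂ) from hn, ha, hqψ,
      deg_spec (hch χ hχS), ← hPcard, Nat.cast_mul] at hjump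
    have hdn : (d : ℂ) - (n : ℂ) = (Nat.card (P : Subgroup G) : ℂ) * (j : ℂ) := by exact_mod_cast hj
    rw [hdn] at hjump
    have hd0 : (deg χ : ℂ) * (Nat.card (P : Subgroup G) : ℂ) ≠ 0 := by
      refine mul_ne_zero ?_ (Nat.cast_ne_zero.mpr Nat.card_pos.ne')
      rw [← deg_spec (hch χ hχS)]; exact irr_one_ne_zero (hirr χ hχS)
    have haj : (a : ℂ) = (q : ℂ) * (j : ℂ) := mul_right_cancel₀ hd0 (by linear_combination -hjump)
    refine ⟨j - a', ?_⟩
    rw [hΔ, classInner_sub_left, hPη, sub_zero, hD,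
      frobenius_reciprocity L _ (isClassFunction_of_isIrr η.2), ← hF, ← classInner_conj_symm,
      ← Int.cast_smul_eq_zsmul ℂ, classInner_sub_right, classInner_smul_right, ha, ha',
      Int.cast_natCast, map_sub, map_mul, map_intCast, map_intCast, map_natCast, map_natCast, haj]
    push_cast
    ring
  choose j hj using hdiv
  set μ : G → ℂ := -∑ η : Cfsg.IrrCharacter G, (j η : ℂ) • (η : G → ℂ) with hμ
  have hμgen : Cfsg.IsGeneralizedCharacter G μ :=
    isGen_neg (isGen_sum _ fun η _ => isGen_intCast_smul (isGen_of_irr η.2) _)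
  have hΔμ : Δ = -((q : ℂ) • μ) := by
    rw [classFun_eq_sum (isClassFunction_of_isGen hΔgen), hμ, smul_neg, neg_neg, Finset.smul_sum]
    refine Finset.sum_congr rfl fun η _ => ?_
    rw [hj η, smul_smul]
    push_cast
    rfl
  obtain ⟨N', hN'⟩ := classInner_gen_int hμgen hμgen
  have hN0 : 0 ≤ N' := by
    have := nsq_nonneg μ
    rw [nsq, hN', Complex.intCast_re] at this
    exact_mod_cast this
  have hq0 : (q : ℂ) ≠ 0 := Nat.cast_ne_zero.mpr (pow_ne_zero m hpf.out.ne_zero)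
  -- the norms
  set Sq : ℕ := ∑ φ ∈ T, b φ ^ 2 with hSq
  have hPP : Cfsg.classInner Pr Pr = 1 + 2 * (c : ℂ) + (c : ℂ) ^ 2 * (Sq : ℂ) := by
    conv_lhs => arg 2; rw [hPr]
    rw [classInner_sum_right, Finset.sum_congr rfl (g := fun φ => (c : ℂ) ^ 2 * ((b φ ^ 2 : ℕ) : ℂ) +
      (if φ = ψ then 1 + 2 * (c : ℂ) else 0)) fun φ h => by
        rw [classInner_smul_right, hPσ φ h, hDσ φ h]
        split_ifs with he
        · subst he; simp [hbψ]; ring
        · simp; ring,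
      Finset.sum_add_distrib, ← Finset.mul_sum, Finset.sum_ite_eq', if_pos hψ, hSq, Nat.cast_sum]
    ring
  have hDD : Cfsg.classInner D D = 1 + (q : ℂ) ^ 2 := by
    rw [hD, hiso.2.2.1 _ hmemD _ hmemD]
    simp only [← Int.cast_smul_eq_zsmul ℂ, Int.cast_natCast, classInner_sub_left,
      classInner_sub_right, classInner_smul_left, classInner_smul_right, map_natCast,
      hδ ψ (hTS hψ) ψ (hTS hψ), hδ χ hχS χ hχS, hδ ψ (hTS hψ) χ hχS, hδ χ hχS ψ (hTS hψ),
      if_neg (hne ψ hψ), if_neg (hne ψ hψ).symm, if_true]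
    ring
  have hnorm : (q : ℂ) ^ 2 * (N' : ℂ) = (q : ℂ) ^ 2 - 2 * (c : ℂ) - (c : ℂ) ^ 2 * (Sq : ℂ) := by
    have h1 : Cfsg.classInner D D = Cfsg.classInner Δ Δ + Cfsg.classInner Pr Pr := by
      conv_lhs => rw [show D = Δ + Pr by rw [hΔ, sub_add_cancel]]
      rw [classInner_add_left, classInner_add_right, classInner_add_right, hΔP, hPΔ]
      ring
    rw [hDD, hPP, hΔμ, classInner_neg_left, classInner_neg_right, neg_neg, classInner_smul_left,
      classInner_smul_right, map_natCast, hN'] at h1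
    linear_combination -h1
  have hbodd : ∀ φ ∈ T, Odd (b φ) := fun φ h => (hdvd φ h).2
  have hS2 : 2 ≤ Sq := by
    refine le_trans ?_ (Finset.sum_le_sum_of_subset (f := fun φ => b φ ^ 2)
      (Finset.insert_subset hψ (Finset.singleton_subset_iff.mpr (hTc ψ hψ))))
    rw [Finset.sum_pair (hcne ψ (hTS hψ)).symm]
    have := (hbodd ψ hψ).pos
    have := (hbodd _ (hTc ψ hψ)).pos
    nlinarith
  have hbc : ∀ φ ∈ T, b (Cfsg.conjFun φ) = b φ := fun φ h => by
    simp only [hb, deg_conjFun (hch φ (hTS h))]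
  have hSev : 2 ∣ Sq := by
    rw [← ZMod.natCast_eq_zero_iff Sq 2, hSq, Nat.cast_sum]
    exact Finset.sum_involution (fun φ _ => Cfsg.conjFun φ)
      (fun φ h => by simp only [hbc φ h]; exact CharTwo.add_self_eq_zero _)
      (fun φ h _ => hcne φ (hTS h)) (fun φ h => hTc φ h) fun φ _ => Coh.conjFun_conjFun φ
  have hpodd : Odd p := by
    refine hodd.of_dvd_nat ?_
    have h1 : Z.map L.subtype ≠ ⊥ := fun e =>
      hZ1 ((Subgroup.map_eq_bot_iff_of_injective _ L.subtype_injective).mp e)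
    have hPne : (P : Subgroup G) ≠ ⊥ := fun e => h1 (le_bot_iff.mp (by
      rintro _ ⟨z, hz, rfl⟩
      rw [← e]; exact hZP z hz))
    obtain ⟨k, hk⟩ := IsPGroup.iff_card.mp P.isPGroup'
    have hk0 : k ≠ 0 := fun e => by
      rw [e, pow_zero] at hk
      exact hPne (Subgroup.card_eq_one.mp hk)
    exact (dvd_pow_self p hk0).trans (hk ▸ Dvd.intro_left _ hPcard)
  obtain ⟨hN1, hcases⟩ := norm_cases hpodd (c := c) (N := N') (Sq := (Sq : ℤ)) (m := m)
    (by exact_mod_cast hS2) (by exact_mod_cast hSev) hN0 (by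
      rw [hq] at hnorm; push_cast at hnorm; exact_mod_cast hnorm)
  have hμμ : Cfsg.classInner μ μ = 1 := by rw [hN', hN1, Int.cast_one]
  have hμσ : ∀ φ ∈ T, Cfsg.classInner μ (σ φ) = 0 := fun φ h => by
    have := hΔσ φ h
    rw [hΔμ, classInner_neg_left, classInner_smul_left, neg_eq_zero] at this
    exact (mul_eq_zero.mp this).resolve_left hq0
  -- the corrected images of `T`
  obtain ⟨σ₁, hσ₁gen, hσ₁inn, hσ₁μ, hσ₁α, hσ₁D⟩ : ∃ σ₁ : (L → ℂ) → (G → ℂ),
      (∀ φ ∈ T, Cfsg.IsGeneralizedCharacter G (σ₁ φ)) ∧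
      (∀ φ ∈ T, ∀ φ' ∈ T, Cfsg.classInner (σ₁ φ) (σ₁ φ') = Cfsg.classInner φ φ') ∧
      (∀ φ ∈ T, Cfsg.classInner μ (σ₁ φ) = 0) ∧
      (∀ φ ∈ T, Cfsg.indFun L (φ - (b φ : ℤ) • ψ) = σ₁ φ - (b φ : ℂ) • σ₁ ψ) ∧
      D = σ₁ ψ - (q : ℂ) • μ := by
    have hD' : D = Pr - (q : ℂ) • μ := by rw [← sub_add_cancel D Pr, ← hΔ, hΔμ]; abel
    rcases hcases with hc0 | ⟨hc1, hSeq⟩
    · refine ⟨σ, fun φ h => hσg φ (hσm φ h), fun φ h φ' h' => hσi φ (hσm φ h) φ' (hσm φ' h'), hμσ,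
        hσα, ?_⟩
      rw [hD', hPr, Finset.sum_eq_single ψ]
      · rw [hDσ ψ hψ, if_pos rfl, hc0, Int.cast_zero, mul_zero, add_zero, one_smul]
      · intro φ h he
        rw [hDσ φ h, if_neg he, hc0, Int.cast_zero, mul_zero, add_zero, zero_smul]
      · exact fun h => absurd hψ h
    · have hψc := hTc ψ hψ
      have hneψ : Cfsg.conjFun ψ ≠ ψ := hcne ψ (hTS hψ)
      have hTeq : ∀ φ ∈ T, φ = ψ ∨ φ = Cfsg.conjFun ψ := by
        intro φ hφ
        by_contra hcon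
        push Not at hcon
        have h3 : b ψ ^ 2 + (b (Cfsg.conjFun ψ) ^ 2 + b φ ^ 2) ≤ Sq := by
          refine le_trans (le_of_eq ?_) (Finset.sum_le_sum_of_subset (f := fun φ => b φ ^ 2)
            (show {ψ, Cfsg.conjFun ψ, φ} ⊆ T by
              simp [Finset.insert_subset_iff, hψ, hψc, hφ]))
          rw [Finset.sum_insert (by simp [hneψ.symm, hcon.1.symm]), Finset.sum_pair hcon.2.symm]
        rw [hbc ψ hψ, hbψ] at h3
        have := (hbodd φ hφ).pos
        have : Sq = 2 := by exact_mod_cast hSeq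
        nlinarith
      have hcm : ∀ φ ∈ T, Cfsg.conjFun φ ∈ Cfsg.zspan (↑T : Set (L → ℂ)) :=
        fun φ h => hσm _ (hTc φ h)
      refine ⟨fun φ => -σ (Cfsg.conjFun φ), fun φ h => isGen_neg (hσg _ (hcm φ h)), fun φ h φ' h' => ?_,
        fun φ h => by rw [classInner_neg_right, hμσ _ (hTc φ h), neg_zero], fun φ h => ?_, ?_⟩
      · rw [classInner_neg_left, classInner_neg_right, neg_neg, hσi _ (hcm φ h) _ (hcm φ' h'),
          Coh.classInner_conjFun, hδ φ (hTS h) φ' (hTS h')]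
        split_ifs <;> simp
      · have hb1 : b φ = 1 := by rcases hTeq φ h with rfl | rfl; exacts [hbψ, (hbc ψ hψ).trans hbψ]
        rw [hσα φ h, hb1, Nat.cast_one, one_smul, one_smul]
        rcases hTeq φ h with rfl | rfl
        · abel
        · simp only [Coh.conjFun_conjFun]; abel
      · rw [hD', hPr, Finset.sum_congr rfl (g := fun φ => if φ = Cfsg.conjFun ψ then -σ φ else 0)
          (fun φ h => by
            rw [hDσ φ h, hc1]
            rcases hTeq φ h with rfl | rfl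
            · rw [if_pos rfl, if_neg hneψ.symm, hbψ]; simp
            · rw [if_neg hneψ, if_pos rfl, hbc ψ hψ, hbψ]; simp),
          Finset.sum_ite_eq', if_pos hψc]
  -- the difference of the two new characters
  have hmemX : χ - Cfsg.conjFun χ ∈ Cfsg.zspanOn S {1}ᶜ :=
    mem_zspanOn_one (Submodule.sub_mem _ (mem_zspan hχS) (mem_zspan hχcS))
      (by simp [Cfsg.conjFun, char_conj_one (hch χ hχS)])
  set X := Cfsg.indFun L (χ - Cfsg.conjFun χ) with hX
  have hχcT : Cfsg.conjFun χ ∉ T := fun h => hχT (by simpa [Coh.conjFun_conjFun] using hTc _ h)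
  have hnec : ∀ φ ∈ T, φ ≠ Cfsg.conjFun χ := fun φ h e => hχcT (e ▸ h)
  have hXσ : ∀ φ ∈ T, Cfsg.classInner X (σ₁ φ) = (b φ : ℂ) * Cfsg.classInner X (σ₁ ψ) := by
    intro φ h
    have h1 : Cfsg.classInner X (Cfsg.indFun L (φ - (b φ : ℤ) • ψ)) = 0 := by
      rw [hX, hiso.2.2.1 _ hmemX _ (zspanOn_mono hTS _ (hαT φ h))]
      simp only [← Int.cast_smul_eq_zsmul ℂ, Int.cast_natCast, classInner_sub_left,
        classInner_sub_right, classInner_smul_right, map_natCast,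
        hδ χ hχS φ (hTS h), hδ χ hχS ψ (hTS hψ), hδ _ hχcS φ (hTS h), hδ _ hχcS ψ (hTS hψ),
        if_neg (hne φ h).symm, if_neg (hne ψ hψ).symm, if_neg (hnec φ h).symm,
        if_neg (hnec ψ hψ).symm]
      ring
    rw [hσ₁α φ h, classInner_sub_right, classInner_smul_right, map_natCast, sub_eq_zero] at h1
    exact h1
  have hXX : Cfsg.classInner X X = 2 := by
    rw [hX, hiso.2.2.1 _ hmemX _ hmemX]
    simp only [classInner_sub_left, classInner_sub_right, hδ χ hχS χ hχS, hδ _ hχcS _ hχcS,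
      hδ χ hχS _ hχcS, hδ _ hχcS χ hχS, if_neg (hcne χ hχS), if_neg (hcne χ hχS).symm, if_true]
    norm_num
  have hXgen : Cfsg.IsGeneralizedCharacter G X := hiso.2.2.2 _ hmemX
  have hu0 : Cfsg.classInner X (σ₁ ψ) = 0 := by
    obtain ⟨u, hu⟩ := classInner_gen_int hXgen (hσ₁gen ψ hψ)
    rw [hu]
    by_contra hne0
    have hu' : u ≠ 0 := fun e => hne0 (by rw [e, Int.cast_zero])
    set PX : G → ℂ := ∑ φ ∈ T, ((b φ : ℂ) * (u : ℂ)) • σ₁ φ with hPX
    have hXPX : Cfsg.classInner X PX = (u : ℂ) ^ 2 * (Sq : ℂ) := by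
      rw [hPX, classInner_sum_right, hSq, Nat.cast_sum, Finset.mul_sum]
      refine Finset.sum_congr rfl fun φ h => ?_
      rw [classInner_smul_right, hXσ φ h, hu, map_mul, map_natCast, map_intCast]
      push_cast; ring
    have hPXPX : Cfsg.classInner PX PX = (u : ℂ) ^ 2 * (Sq : ℂ) := by
      conv_lhs => arg 1; rw [hPX]
      rw [classInner_sum_left, hSq, Nat.cast_sum, Finset.mul_sum]
      refine Finset.sum_congr rfl fun φ h => ?_
      rw [classInner_smul_left, hPX, classInner_sum_right, Finset.sum_eq_single φ]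
      · rw [classInner_smul_right, hσ₁inn φ h φ h, hδ φ (hTS h) φ (hTS h), if_pos rfl, map_mul,
          map_natCast, map_intCast]
        push_cast; ring
      · intro φ' h' he
        rw [classInner_smul_right, hσ₁inn φ h φ' h', hδ φ (hTS h) φ' (hTS h'), if_neg (Ne.symm he),
          mul_zero]
      · exact fun h' => absurd h h'
    have hrest : Cfsg.classInner (X - PX) (X - PX) = 2 - (u : ℂ) ^ 2 * (Sq : ℂ) := by
      rw [classInner_sub_left, classInner_sub_right, classInner_sub_right, hXX, hXPX, hPXPX,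
        ← classInner_conj_symm X PX, hXPX]
      simp
    have hle : (u : ℝ) ^ 2 * (Sq : ℝ) ≤ 2 := by
      have h0 := nsq_nonneg (X - PX)
      rw [nsq, hrest] at h0
      have : ((2 : ℂ) - (u : ℂ) ^ 2 * (Sq : ℂ)) = (((2 : ℝ) - (u : ℝ) ^ 2 * (Sq : ℝ) : ℝ) : ℂ) := by
        push_cast; ring
      rw [this, Complex.ofReal_re] at h0
      linarith
    have hle' : u ^ 2 * (Sq : ℤ) ≤ 2 := by exact_mod_cast hle
    have hu1 : 1 ≤ u ^ 2 := by
      have : 0 < u ^ 2 := by positivity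
      omega
    have heq : u ^ 2 * (Sq : ℤ) = 2 := by
      have : (2 : ℤ) ≤ (Sq : ℤ) := by exact_mod_cast hS2
      nlinarith
    have heqC : (u : ℂ) ^ 2 * (Sq : ℂ) = 2 := by exact_mod_cast heq
    have hXeq : X = PX := sub_eq_zero.mp (eq_zero_of_classInner_self_eq_zero
      (by rw [hrest, heqC, sub_self]))
    have hval1 : ∀ φ ∈ T, σ₁ φ 1 = (b φ : ℂ) * σ₁ ψ 1 := fun φ h => by
      have := hiso1 _ (zspanOn_mono hTS _ (hαT φ h))
      rw [hσ₁α φ h, Pi.sub_apply, Pi.smul_apply, smul_eq_mul] at this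
      linear_combination this
    have h1 : (0 : ℂ) = (u : ℂ) * σ₁ ψ 1 * (Sq : ℂ) := by
      rw [← show X 1 = 0 from hiso1 _ hmemX, hXeq, hPX, Finset.sum_apply, hSq, Nat.cast_sum,
        Finset.mul_sum]
      refine Finset.sum_congr rfl fun φ h => ?_
      rw [Pi.smul_apply, smul_eq_mul, hval1 φ h]
      push_cast; ring
    have h1σ : σ₁ ψ 1 ≠ 0 := by
      rcases gen_norm_one (hσ₁gen ψ hψ) (by rw [hσ₁inn ψ hψ ψ hψ, classInner_irr_self (hirr ψ (hTS hψ))])
        with h | h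
      · exact irr_one_ne_zero h
      · exact fun h0 => irr_one_ne_zero h (by simp [h0])
    have hS0 : (Sq : ℂ) ≠ 0 := Nat.cast_ne_zero.mpr (by omega)
    exact mul_ne_zero (mul_ne_zero hne0 h1σ) hS0 h1.symm
  have hXσ0 : ∀ φ ∈ T, Cfsg.classInner X (σ₁ φ) = 0 := fun φ h => by rw [hXσ φ h, hu0, mul_zero]
  have hμX : Cfsg.classInner μ X = 1 := by
    have h1 : Cfsg.classInner D X = -(q : ℂ) := by
      rw [hD, hX, hiso.2.2.1 _ hmemD _ hmemX]
      simp only [← Int.cast_smul_eq_zsmul ℂ, Int.cast_natCast, classInner_sub_left,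
        classInner_sub_right, classInner_smul_left,
        hδ ψ (hTS hψ) χ hχS, hδ ψ (hTS hψ) _ hχcS, hδ χ hχS χ hχS, hδ χ hχS _ hχcS,
        if_neg (hne ψ hψ), if_neg (hnec ψ hψ), if_neg (hcne χ hχS).symm, if_true]
      ring
    rw [hσ₁D, classInner_sub_left, classInner_smul_left, ← classInner_conj_symm, hXσ0 ψ hψ, map_zero,
      zero_sub, neg_inj] at h1
    exact mul_left_cancel₀ hq0 (h1.trans (mul_one _).symm)
  -- the extension
  set U := T ∪ {χ, Cfsg.conjFun χ} with hU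
  have hUS : ∀ φ ∈ U, φ ∈ S := fun φ h => by
    rcases Finset.mem_union.mp h with h | h
    · exact hTS h
    · rcases Finset.mem_insert.mp h with rfl | h
      · exact hχS
      · rw [Finset.mem_singleton.mp h]; exact hχcS
  set T' : (L → ℂ) → (G → ℂ) := fun φ => if φ ∈ T then σ₁ φ else if φ = χ then μ else μ - X with hT'
  have hT'T : ∀ φ ∈ T, T' φ = σ₁ φ := fun φ h => if_pos h
  have hT'χ : T' χ = μ := by rw [hT']; simp [hχT]
  have hT'c : T' (Cfsg.conjFun χ) = μ - X := by rw [hT']; simp [hχcT, hcne χ hχS]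
  have hμμX : Cfsg.classInner μ (μ - X) = 0 := by rw [classInner_sub_right, hμμ, hμX, sub_self]
  have hσμX : ∀ φ ∈ T, Cfsg.classInner (μ - X) (σ₁ φ) = 0 := fun φ h => by
    rw [classInner_sub_left, hσ₁μ φ h, hXσ0 φ h, sub_zero]
  have hμXμX : Cfsg.classInner (μ - X) (μ - X) = 1 := by
    rw [classInner_sub_left, classInner_sub_right, classInner_sub_right, hμμ, hμX, hXX,
      ← classInner_conj_symm μ X, hμX, map_one]
    norm_num
  obtain ⟨f, hf, hfiso⟩ := exists_isometry (S := (↑U : Set (L → ℂ))) U.finite_toSet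
    (fun φ h φ' h' he => classInner_irr_ne (hirr _ (hUS φ h)) (hirr _ (hUS φ' h')) he)
    (fun φ h => irr_ne_zero (hirr _ (hUS φ h))) T'
    (fun φ h => by
      rcases Finset.mem_union.mp h with h | h
      · rw [hT'T φ h]; exact hσ₁gen φ h
      · rcases Finset.mem_insert.mp h with rfl | h
        · rw [hT'χ]; exact hμgen
        · rw [Finset.mem_singleton.mp h, hT'c]; exact isGen_sub hμgen hXgen)
    (fun φ h φ' h' => by
      rw [hδ φ (hUS φ h) φ' (hUS φ' h')]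
      simp only [hU, Finset.mem_coe, Finset.mem_union, Finset.mem_insert, Finset.mem_singleton] at h h'
      rcases h with h | he | he <;> rcases h' with h' | he' | he' <;> (try subst φ) <;> (try subst φ')
      · rw [hT'T φ h, hT'T φ' h', hσ₁inn φ h φ' h', hδ φ (hTS h) φ' (hTS h')]
      · rw [hT'T φ h, hT'χ, ← classInner_conj_symm, hσ₁μ φ h, map_zero, if_neg (hne φ h)]
      · rw [hT'T φ h, hT'c, ← classInner_conj_symm, hσμX φ h, map_zero, if_neg (hnec φ h)]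
      · rw [hT'χ, hT'T φ' h', hσ₁μ φ' h', if_neg (hne φ' h').symm]
      · rw [hT'χ, hμμ, if_pos rfl]
      · rw [hT'χ, hT'c, hμμX, if_neg (hcne χ hχS).symm]
      · rw [hT'c, hT'T φ' h', hσμX φ' h', if_neg (hnec φ' h').symm]
      · rw [hT'c, hT'χ, ← classInner_conj_symm, hμμX, map_zero, if_neg (hcne _ hχS)]
      · rw [hT'c, hμXμX, if_pos rfl])
  have hUmem : ∀ {φ}, φ ∈ U → φ ∈ Cfsg.zspan (↑U : Set (L → ℂ)) := fun {φ} h => mem_zspan h
  have hχU : χ ∈ U := by simp [hU]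
  have hcU : Cfsg.conjFun χ ∈ U := by simp [hU]
  refine ⟨⟨χ - Cfsg.conjFun χ, mem_zspanOn_one (Submodule.sub_mem _ (hUmem hχU) (hUmem hcU))
    (by simp [Cfsg.conjFun, char_conj_one (hch χ hχS)]),
    sub_ne_zero.mpr (hcne χ hχS).symm⟩, f, hfiso, fun y hy => ?_⟩
  -- agreement with induction
  have key : ∀ y ∈ Cfsg.zspan (↑U : Set (L → ℂ)), ∃ s : ℂ, y 1 = s * χ 1 ∧
      f y - Cfsg.indFun L y = s • (f χ - Cfsg.indFun L χ) := by
    intro y hy
    induction hy using Submodule.span_induction with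
    | mem φ hφ =>
      simp only [hU, Finset.mem_coe, Finset.mem_union, Finset.mem_insert, Finset.mem_singleton] at hφ
      rcases hφ with h | rfl | rfl
      · refine ⟨(b φ : ℂ) * (q : ℂ), by rw [hval φ h, hqψ]; ring, ?_⟩
        have hfφ : f φ = σ₁ φ := (hf φ (Finset.mem_union_left _ h)).trans (hT'T φ h)
        have h1 := hσ₁α φ h
        have h2 := hσ₁D
        rw [hD, ← Int.cast_smul_eq_zsmul ℂ, Int.cast_natCast, indFun_sub, indFun_smul] at h2
        rw [← Int.cast_smul_eq_zsmul ℂ, Int.cast_natCast, indFun_sub, indFun_smul] at h1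
        rw [hfφ, hf χ hχU, hT'χ]
        funext g
        have e1 := congrFun h1 g
        have e2 := congrFun h2 g
        simp only [Pi.sub_apply, Pi.smul_apply, smul_eq_mul] at e1 e2 ⊢
        linear_combination -e1 - (b φ : ℂ) * e2
      · exact ⟨1, (one_mul _).symm, (one_smul _ _).symm⟩
      · refine ⟨1, by simp [Cfsg.conjFun, char_conj_one (hch χ hχS)], ?_⟩
        rw [one_smul, hf _ hcU, hT'c, hf χ hχU, hT'χ, hX, indFun_sub]
        abel
    | zero => exact ⟨0, by simp, by simp [indFun_zero]⟩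
    | add x y _ _ hx hy =>
      obtain ⟨s, hs1, hs2⟩ := hx
      obtain ⟨t, ht1, ht2⟩ := hy
      exact ⟨s + t, by rw [Pi.add_apply, hs1, ht1, add_mul],
        by rw [map_add, indFun_add, add_smul, ← hs2, ← ht2]; abel⟩
    | smul k x _ hx =>
      obtain ⟨s, hs1, hs2⟩ := hx
      refine ⟨(k : ℂ) * s, by simp [hs1]; ring, ?_⟩
      rw [← Int.cast_smul_eq_zsmul ℂ, map_smul, indFun_smul, ← smul_sub, hs2, smul_smul]
  obtain ⟨s, hs1, hs2⟩ := key y hy.1
  rw [apply_one_of_mem hy, eq_comm, mul_eq_zero] at hs1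
  rw [hs1.resolve_right (irr_one_ne_zero (hirr χ hχS)), zero_smul, sub_eq_zero] at hs2
  exact hs2

end CfsgLib.OddChar.Above
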