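import Cfsg.Agent.Lib.OddChar.TypeIProps
import Cfsg.Agent.Lib.OddChar.RankTwoLines
import Cfsg.Agent.Lib.OddLocal.FittingUnique
import Mathlib.GroupTheory.SpecificGroups.ZGroup

/-!
# The configuration from a Type I subgroup that is not a Frobenius group

* `exists_rank_two`: such a subgroup has `A` elementary of order `p²` outside the kernel;
* `Witness`, `exists_witness`: for the least such `p`, the second subgroup `L`, a Frobenius group;
* `Witness.two_mul_index_le`: `2 [L : L_F] ≤ p + 1`.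
-/

set_option autoImplicit false

namespace CfsgLib.OddChar.TypeIWitness

open CfsgLib.OddChar.TypeIProps

universe u

variable {G : Type u} [Group G]

/-- The centralisers of the elements of the kernel lie in it. -/
def IsFrob (M : Subgroup G) : Prop :=
  ∀ x ∈ Cfsg.fittingHallOf M, x ≠ 1 →
    M ⊓ Subgroup.centralizer ({x} : Set G) ≤ Cfsg.fittingHallOf M

/-- The configuration. -/
structure Witness (G : Type u) [Group G] where
  p : ℕ
  M : Subgroup G
  L : Subgroup G
  A : Subgroup G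
  x : G
  h₀ : G
  prime : p.Prime
  hM : IsCoatom M
  hMI : CfsgLib.OddLocal.S15.IsTypeICore M
  hL : IsCoatom L
  hLI : CfsgLib.OddLocal.S15.IsTypeICore L
  hA : Cfsg.IsElementaryAbelian p A
  card_A : Nat.card A = p ^ 2
  A_le : A ≤ M
  not_dvd : ¬ p ∣ Nat.card (Cfsg.fittingHallOf M)
  A_le_L : A ≤ Cfsg.fittingHallOf L
  frobL : IsFrob L
  x_mem : x ∈ A
  x_ne : x ≠ 1
  h₀_mem : h₀ ∈ Cfsg.fittingHallOf M
  h₀_not : h₀ ∉ ⁅Cfsg.fittingHallOf M, Cfsg.fittingHallOf M⁆
  h₀_comm : x * h₀ = h₀ * x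
  cent_le : Subgroup.centralizer ({x} : Set G) ≤ M
  cent_unique : ∀ N : Subgroup G, IsCoatom N → Subgroup.centralizer ({x} : Set G) ≤ N → N = M
  not_le : ¬ Subgroup.centralizer ({x} : Set G) ≤ L
  compl : Cfsg.IsComplIn (Cfsg.fittingHallOf M) (L ⊓ M) M
  cent_A : Cfsg.fittingHallOf M ⊓ Subgroup.centralizer (A : Set G) = ⊥

theorem card_eq_mul {H M : Subgroup G} (h : H ≤ M) :
    Nat.card M = Nat.card H * H.relIndex M := by
  rw [Subgroup.relIndex, ← Nat.card_congr (Subgroup.subgroupOfEquivOfLe h).toEquiv,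
    Subgroup.card_mul_index]

variable [Finite G]

theorem isComplement'_of_isComplIn {E M : Subgroup G}
    (h : Cfsg.IsComplIn (Cfsg.fittingHallOf M) E M) :
    Subgroup.IsComplement' (Cfsg.fittingHall M) (E.subgroupOf M) := by
  refine Subgroup.isComplement'_of_disjoint_and_mul_eq_univ ?_ (Set.eq_univ_iff_forall.2 fun m => ?_)
  · rw [disjoint_iff, Subgroup.eq_bot_iff_forall]
    intro m hm
    have : (m : G) ∈ Cfsg.fittingHallOf M ⊓ E :=
      ⟨TypeICoherence.mem_fittingHallOf_iff.2 hm.1, hm.2⟩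
    rw [h.2.2.1, Subgroup.mem_bot] at this
    exact Subtype.ext this
  · obtain ⟨a, ha, b, hb, hab⟩ := h.2.2.2 m m.2
    exact ⟨⟨a, h.1 ha⟩, (TypeICoherence.mem_fittingHallOf_iff (x := ⟨a, h.1 ha⟩)).1 ha,
      ⟨b, h.2.1 hb⟩, hb, Subtype.ext hab.symm⟩

theorem coprime_card_complIn {E M : Subgroup G}
    (h : Cfsg.IsComplIn (Cfsg.fittingHallOf M) E M) :
    (Nat.card E).Coprime (Nat.card (Cfsg.fittingHallOf M)) := by
  have hc := isComplement'_of_isComplIn h
  have he : Nat.card (E.subgroupOf M) = (Cfsg.fittingHall M).index := hc.symm.index_eq_card.symm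
  rw [← Nat.card_congr (Subgroup.subgroupOfEquivOfLe h.2.1).toEquiv, he,
    CfsgLib.OddLocal.card_fittingHallOf]
  exact CfsgLib.OddLocal.fittingHall_spec.2.2.symm

theorem elementary_coprime {r : ℕ} (hr : r.Prime) {A : Subgroup G}
    (hcard : Nat.card A = r ^ 2) {H : Subgroup G} (h : ¬ r ∣ Nat.card H) :
    (Nat.card A).Coprime (Nat.card H) := by
  rw [hcard]
  exact (Nat.Prime.coprime_iff_not_dvd hr).2 h |>.pow_left 2

variable (P : Props G)
include P

/-- The Sylow subgroups of rank two outside the kernel. -/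
theorem exists_rank_two {M : Subgroup G} (hM : IsCoatom M) (hI : CfsgLib.OddLocal.S15.IsTypeICore M)
    (hnf : ¬ IsFrob M) :
    ∃ (r : ℕ) (A : Subgroup G), r.Prime ∧ A ≤ M ∧ Cfsg.IsElementaryAbelian r A ∧
      Nat.card A = r ^ 2 ∧ ¬ r ∣ Nat.card (Cfsg.fittingHallOf M) := by
  classical
  by_contra hcon
  apply hnf
  obtain ⟨U, -, hU, -, U₀, hU₀, hexp, hfpf⟩ := hI.1.2.2.2.2
  set K := Cfsg.fittingHall M with hK
  have hKc : (Nat.card K).Coprime K.index := CfsgLib.OddLocal.fittingHall_spec.2.2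
  have hUcard : Nat.card U = K.index := hU.symm.index_eq_card.symm
  have hUc : Cfsg.IsComplIn (Cfsg.fittingHallOf M) (U.map M.subtype) M := by
    refine ⟨CfsgLib.OddLocal.fittingHallOf_le M, Subgroup.map_subtype_le _, ?_, fun m hm => ?_⟩
    · rw [Cfsg.fittingHallOf, ← Subgroup.map_inf _ _ _ M.subtype_injective, hU.disjoint.eq_bot,
        Subgroup.map_bot]
    · obtain ⟨⟨⟨a, ha⟩, ⟨b, hb⟩⟩, hab⟩ := (hU.existsUnique ⟨m, hm⟩).exists
      exact ⟨a, ⟨a, ha, rfl⟩, b, ⟨b, hb, rfl⟩, congrArg Subtype.val hab.symm⟩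
  have hZ : IsZGroup U := by
    refine ⟨fun r hr Q => ?_⟩
    haveI := Fact.mk hr
    by_contra hnc
    let f : U →* G := M.subtype.comp U.subtype
    have hf : Function.Injective f := M.subtype_injective.comp U.subtype_injective
    have hrange : U.map M.subtype = f.range := by
      rw [MonoidHom.range_comp, Subgroup.range_subtype]
    let e : U ≃* ↥(U.map M.subtype) :=
      U.equivMapOfInjective _ M.subtype_injective
    have hab := ((P.compl M hM hI _ hUc).1 r hr (Q.mapSurjective (f := e.toMonoidHom) e.surjective)).1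
    set Q' : Subgroup G := (Q : Subgroup U).map f with hQ'
    have hQp : IsPGroup r Q' := Q.2.map _
    have hQc : ∀ a ∈ Q', ∀ b ∈ Q', a * b = b * a := by
      rintro _ ⟨a, ha, rfl⟩ _ ⟨b, hb, rfl⟩
      have hma : e a ∈ ((Q.mapSurjective (f := e.toMonoidHom) e.surjective :
          Sylow r ↥(U.map M.subtype)) : Subgroup ↥(U.map M.subtype)) := ⟨a, ha, rfl⟩
      have hmb : e b ∈ ((Q.mapSurjective (f := e.toMonoidHom) e.surjective :
          Sylow r ↥(U.map M.subtype)) : Subgroup ↥(U.map M.subtype)) := ⟨b, hb, rfl⟩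
      exact congrArg (fun z : ↥(U.map M.subtype) => (z : G)) (congrArg Subtype.val
        (hab.is_comm.comm ⟨e a, hma⟩ ⟨e b, hmb⟩))
    have hQnc : ¬ IsCyclic Q' := fun h => hnc (isCyclic_of_surjective
      ((Q : Subgroup U).equivMapOfInjective f hf).symm.toMonoidHom
      ((Q : Subgroup U).equivMapOfInjective f hf).symm.surjective)
    obtain ⟨A, hAQ, hA, hAcard⟩ := RankTwoLines.exists_elementary hQp hQc hQnc
    refine hcon ⟨r, A, hr, ?_, hA, hAcard, fun hd => ?_⟩
    · exact hAQ.trans (Subgroup.map_le_range _ _ |>.trans (hrange ▸ Subgroup.map_subtype_le _))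
    · have h1 : r ∣ Nat.card U := by
        have h2 := Subgroup.card_dvd_of_le hAQ
        rw [hAcard, hQ', Subgroup.card_map_of_injective hf] at h2
        exact ((dvd_pow_self r two_ne_zero).trans h2).trans (Subgroup.card_subgroup_dvd_card _)
      rw [hUcard] at h1
      rw [CfsgLib.OddLocal.card_fittingHallOf] at hd
      exact hr.not_dvd_one (hKc ▸ Nat.dvd_gcd hd h1)
  have hU₀U : U₀ = U := by
    refine Subgroup.eq_of_le_of_card_ge hU₀ (Nat.le_of_dvd Nat.card_pos ?_)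
    haveI := hZ
    rw [← IsZGroup.exponent_eq_card (G := U), ← hexp]
    exact Group.exponent_dvd_nat_card
  intro x hx hx1 y hy
  by_contra hyF
  obtain ⟨hyM, hyc⟩ := Subgroup.mem_inf.1 hy
  rw [Subgroup.mem_centralizer_singleton_iff] at hyc
  set y₁ : M := ⟨y, hyM⟩
  set x₁ : M := ⟨x, CfsgLib.OddLocal.fittingHallOf_le M hx⟩
  have hy₁ : (y₁ : M ⧸ K) ≠ 1 := fun e =>
    hyF (TypeICoherence.mem_fittingHallOf_iff.2 ((QuotientGroup.eq_one_iff y₁).1 e))
  obtain ⟨r, hr, hrd⟩ := Nat.exists_prime_and_dvd (fun e => hy₁ (orderOf_eq_one_iff.1 e))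
  have hrU : r ∣ K.index := by
    rw [Subgroup.index_eq_card]; exact hrd.trans (orderOf_dvd_natCard _)
  have hry : r ∣ orderOf y₁ := hrd.trans (orderOf_map_dvd (QuotientGroup.mk' K) y₁)
  set y₂ := y₁ ^ (orderOf y₁ / r) with hy₂
  have hy₂o : orderOf y₂ = r := orderOf_pow_orderOf_div (orderOf_pos y₁).ne' hry
  haveI : Group.IsSolvable M := isSolvable_of_isCoatom P.minSimple hM
  have hUi : U.index = Nat.card K := hU.index_eq_card
  obtain ⟨g, hg⟩ := CfsgLib.Solvable.exists_conj_le_of_coprime_index (H := U)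
    (K := Subgroup.zpowers y₂) (by rw [hUi, hUcard]; exact hKc.symm) (by
      rw [Nat.card_zpowers, hy₂o, hUi]
      exact (hKc.coprime_dvd_right hrU).symm)
  have hu : g * y₂ * g⁻¹ ∈ U := hg (Subgroup.smul_mem_pointwise_smul _ _ _ (Subgroup.mem_zpowers y₂))
  have hcomm : Commute y₂ x₁ := (Commute.pow_left (Subtype.ext hyc : Commute y₁ x₁) _)
  have h1 := hfpf _ (hU₀U ▸ hu) (fun e => hr.ne_one (by
    rw [← hy₂o, conj_eq_one_iff.1 e, orderOf_one])) (g * x₁ * g⁻¹)
    ((inferInstance : K.Normal).conj_mem _ (TypeICoherence.mem_fittingHallOf_iff.1 hx) g) (by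
      calc g * y₂ * g⁻¹ * (g * x₁ * g⁻¹) = g * (y₂ * x₁) * g⁻¹ := by group
        _ = g * (x₁ * y₂) * g⁻¹ := by rw [hcomm.eq]
        _ = _ := by group)
  exact hx1 (congrArg Subtype.val (conj_eq_one_iff.1 h1))

theorem pRankLE_two {M : Subgroup G} (hM : IsCoatom M) (hI : CfsgLib.OddLocal.S15.IsTypeICore M) {p : ℕ}
    (hp : p.Prime) (hnd : ¬ p ∣ Nat.card (Cfsg.fittingHallOf M)) : Cfsg.PRankLE p 2 M := by
  haveI := Fact.mk hp
  intro B hBc hBp
  set B' : Subgroup G := B.map M.subtype with hB'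
  have hBg : IsPGroup p B := fun b => ⟨1, by
    rw [pow_one]; exact Subtype.ext (by simpa using hBp b b.2)⟩
  have hcop : (Nat.card B').Coprime (Nat.card (Cfsg.fittingHallOf M)) := by
    obtain ⟨n, hn⟩ := (hBg.map M.subtype).exists_card_eq
    rw [hn]
    exact ((Nat.Prime.coprime_iff_not_dvd hp).2 hnd).pow_left n
  obtain ⟨U, hU, hBU⟩ := exists_compl_ge P.minSimple hM (Subgroup.map_subtype_le _) hcop
  set C := B'.subgroupOf U with hC
  have hCp : IsPGroup p C := (hBg.map _).of_equiv (Subgroup.subgroupOfEquivOfLe hBU).symm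
  obtain ⟨Q, hQ⟩ := hCp.exists_le_sylow
  have h := ((P.compl M hM hI U hU).1 p hp Q).2 (C.subgroupOf Q)
  have hpow : ∀ c ∈ C, c ^ p = 1 := by
    intro c hc
    obtain ⟨b, hb, (hbe : (b : G) = c)⟩ := (hc : (c : G) ∈ B')
    exact Subtype.ext (by
      rw [Subgroup.coe_pow, ← hbe, ← Subgroup.coe_pow, hBp b hb, Subgroup.coe_one, Subgroup.coe_one])
  have hcc : ∀ c ∈ C, ∀ d ∈ C, c * d = d * c := by
    intro c hc d hd
    obtain ⟨b, hb, (hbe : (b : G) = c)⟩ := (hc : (c : G) ∈ B')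
    obtain ⟨b', hb', (hbe' : (b' : G) = d)⟩ := (hd : (d : G) ∈ B')
    refine Subtype.ext ?_
    rw [Subgroup.coe_mul, Subgroup.coe_mul, ← hbe, ← hbe', ← Subgroup.coe_mul, ← Subgroup.coe_mul]
    exact congrArg Subtype.val (congrArg Subtype.val (hBc.is_comm.comm (⟨b, hb⟩ : B) ⟨b', hb'⟩))
  have h' := h ⟨⟨fun a b => Subtype.ext (Subtype.ext (hcc _ a.2 _ b.2))⟩⟩
    fun a ha => Subtype.ext (by simpa using hpow _ ha)
  rwa [Nat.card_congr (Subgroup.subgroupOfEquivOfLe hQ).toEquiv, hC,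
    Nat.card_congr (Subgroup.subgroupOfEquivOfLe hBU).toEquiv,
    Subgroup.card_map_of_injective M.subtype_injective] at h'

theorem not_mem_sigma {M : Subgroup G} (hM : IsCoatom M) (hI : CfsgLib.OddLocal.S15.IsTypeICore M) {p : ℕ}
    (hp : p.Prime) {A : Subgroup G} (hAM : A ≤ M) (hcard : Nat.card A = p ^ 2)
    (hnd : ¬ p ∣ Nat.card (Cfsg.fittingHallOf M)) : p ∉ Cfsg.sigma M := by
  intro hσ
  refine (P.sigma_hall M hM).1.2.2 p hp hσ ?_
  rw [(P.typeI_core M hM hI).1]
  have h1 : p ∣ Nat.card M :=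
    ((dvd_pow_self p two_ne_zero).trans hcard.symm.dvd).trans (Subgroup.card_dvd_of_le hAM)
  rw [card_eq_mul (CfsgLib.OddLocal.fittingHallOf_le M)] at h1
  exact (hp.dvd_mul.1 h1).resolve_left hnd

/-- `C_H(A) = 1`. -/
theorem cent_A_eq_bot {M : Subgroup G} (hM : IsCoatom M) (hI : CfsgLib.OddLocal.S15.IsTypeICore M) {p : ℕ}
    (hp : p.Prime) {A : Subgroup G} (hAM : A ≤ M) (hA : Cfsg.IsElementaryAbelian p A)
    (hcard : Nat.card A = p ^ 2) (hnd : ¬ p ∣ Nat.card (Cfsg.fittingHallOf M)) :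
    Cfsg.fittingHallOf M ⊓ Subgroup.centralizer (A : Set G) = ⊥ := by
  rw [← (P.typeI_core M hM hI).1]
  haveI := Fact.mk hp
  refine P.centA M hM p hp ⟨hp, not_mem_sigma P hM hI hp hAM hcard hnd,
    pRankLE_two P hM hI hp hnd, fun h1 => ?_⟩ A hAM hA hcard
  have h := h1 (A.subgroupOf M) ⟨⟨fun a b => Subtype.ext (Subtype.ext
      (RankTwoLines.commute hA a.2 b.2).eq)⟩⟩
    fun a ha => Subtype.ext (by simpa using hA.2 _ ha)
  rw [Nat.card_congr (Subgroup.subgroupOfEquivOfLe hAM).toEquiv, hcard] at h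
  exact absurd h (not_le.2 (pow_lt_pow_right₀ hp.one_lt one_lt_two))

/-- The choice of `x` and `h₀`. -/
theorem exists_x {M : Subgroup G} (hM : IsCoatom M) (hI : CfsgLib.OddLocal.S15.IsTypeICore M) {p : ℕ}
    (hp : p.Prime) {A : Subgroup G} (hAM : A ≤ M) (hA : Cfsg.IsElementaryAbelian p A)
    (hcard : Nat.card A = p ^ 2) (hnd : ¬ p ∣ Nat.card (Cfsg.fittingHallOf M)) :
    ∃ x ∈ A, x ≠ 1 ∧ ∃ h ∈ Cfsg.fittingHallOf M,
      h ∉ ⁅Cfsg.fittingHallOf M, Cfsg.fittingHallOf M⁆ ∧ x * h = h * x := by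
  set H := Cfsg.fittingHallOf M with hH
  by_contra hcon
  push Not at hcon
  haveI := Fact.mk hp
  have hsol : Group.IsSolvable H := by
    haveI := isSolvable_of_isCoatom P.minSimple hM
    exact Group.isSolvable_of_isSolvable_injective
      (f := Subgroup.inclusion (CfsgLib.OddLocal.fittingHallOf_le M))
      (Subgroup.inclusion_injective _)
  have hgen := CfsgLib.Solvable.iSup_centralizer_eq (A := A) (K := H)
    (fun a ha b hb => (RankTwoLines.commute hA ha hb).eq)
    (fun hc => by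
      have h2 := hc.exponent_eq_card
      have h3 : Monoid.exponent A ∣ p := Monoid.exponent_dvd_of_forall_pow_eq_one fun a =>
        Subtype.ext (by simpa using hA.2 a a.2)
      rw [h2, hcard] at h3
      exact absurd (Nat.le_of_dvd hp.pos h3)
        (not_le.2 (lt_of_eq_of_lt (pow_one p).symm (pow_lt_pow_right₀ hp.one_lt one_lt_two))))
    (hAM.trans (le_normalizer_fittingHallOf M)) (elementary_coprime hp hcard hnd)
  refine (CfsgLib.Solvable.commutator_self_lt hsol (fitting_ne_bot hI)).not_ge ?_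
  refine le_trans hgen.ge (iSup₂_le fun a ha h hh => ?_)
  by_contra hh'
  exact hcon a ha.1 ha.2 h hh.1 hh' (Subgroup.mem_centralizer_singleton_iff.1 hh.2).symm

/-- The second subgroup is a Frobenius group. -/
theorem frob_of_minimal {p : ℕ} (hp : p.Prime)
    (hmin : ∀ r : ℕ, r.Prime → ∀ N : Subgroup G, IsCoatom N → CfsgLib.OddLocal.S15.IsTypeICore N →
      ∀ B : Subgroup G, B ≤ N → Cfsg.IsElementaryAbelian r B → Nat.card B = r ^ 2 →
        ¬ r ∣ Nat.card (Cfsg.fittingHallOf N) → p ≤ r)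
    {M L A : Subgroup G} {x : G} (hM : IsCoatom M) (hMI : CfsgLib.OddLocal.S15.IsTypeICore M) (hL : IsCoatom L)
    (hLI : CfsgLib.OddLocal.S15.IsTypeICore L) (hne : L ≠ M) (hA : Cfsg.IsElementaryAbelian p A)
    (hcard : Nat.card A = p ^ 2) (hAL : A ≤ Cfsg.fittingHallOf L) (hx : x ∈ A) (hx1 : x ≠ 1)
    (hcx : Subgroup.centralizer ({x} : Set G) ≤ M)
    (hcL : ¬ Subgroup.centralizer ({x} : Set G) ≤ L)
    (hcompl : Cfsg.IsComplIn (Cfsg.fittingHallOf M) (L ⊓ M) M) : IsFrob L := by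
  classical
  by_contra hnf
  obtain ⟨r, B, hr, hBL, hB, hBcard, hrL⟩ := exists_rank_two P hL hLI hnf
  haveI := Fact.mk hp
  haveI := Fact.mk hr
  have hpr : p ≤ r := hmin r hr L hL hLI B hBL hB hBcard hrL
  set K := Cfsg.fittingHallOf L with hK
  have hpK : p ∣ Nat.card K :=
    ((dvd_pow_self p two_ne_zero).trans hcard.symm.dvd).trans (Subgroup.card_dvd_of_le hAL)
  have hne' : p ≠ r := fun e => hrL (e ▸ hpK)
  have hlt : p < r := lt_of_le_of_ne hpr hne'
  have hp2 : p ≠ 2 := fun e => by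
    subst e
    exact (Nat.not_even_iff_odd.2 P.minSimple.1)
      (even_iff_two_dvd.2 (hpK.trans (Subgroup.card_subgroup_dvd_card K)))
  have hrodd : Odd r := hr.odd_of_ne_two (by have := hp.two_le; omega)
  have hKn := TypeICoherence.normalizer_fittingHallOf P.minSimple hL (fitting_ne_bot hLI)
  obtain ⟨b₀, hb₀, hb₀1⟩ : ∃ b ∈ B, b ≠ (1 : G) := by
    by_contra h
    push Not at h
    have : B = ⊥ := (Subgroup.eq_bot_iff_forall _).2 h
    rw [this, Subgroup.card_bot] at hBcard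
    exact (Nat.one_lt_pow two_ne_zero hr.one_lt).ne hBcard
  have hb₀o : orderOf b₀ = r := RankTwoLines.orderOf_eq hB hb₀ hb₀1
  rcases hLI.2 with hti | ⟨hab, hrank, -⟩ | ⟨hexp, -⟩
  · refine hcL fun c hc => ?_
    rw [← hKn]
    by_contra hcn
    refine hx1 (hti c hcn x (hAL hx) ?_)
    rw [Subgroup.mem_centralizer_singleton_iff.1 hc, mul_inv_cancel_right]
    exact hAL hx
  · have hcomm : ∀ a ∈ K, ∀ b ∈ K, a * b = b * a := fun a ha b hb =>
      congrArg Subtype.val (hab.is_comm.comm (⟨a, ha⟩ : K) ⟨b, hb⟩)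
    have hOmega : ∀ z ∈ K, z ^ p = 1 → z ∈ A := by
      intro z hz hzp
      let T : Subgroup K :=
        { carrier := {w | w ^ p = 1}
          one_mem' := one_pow p
          mul_mem' := fun {a b} (ha : a ^ p = 1) (hb : b ^ p = 1) => by
            show (a * b) ^ p = 1
            rw [(show Commute a b from Subtype.ext (hcomm _ a.2 _ b.2)).mul_pow, ha, hb, one_mul]
          inv_mem' := fun {a} (ha : a ^ p = 1) => by
            show (a⁻¹) ^ p = 1
            rw [inv_pow, ha, inv_one] }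
      have hle : A.subgroupOf K ≤ T := fun a ha =>
        (Subtype.ext (by simpa using hA.2 _ ha) : a ^ p = 1)
      have hT := hrank p hp T ⟨⟨fun a b => Subtype.ext (Subtype.ext (hcomm _ a.1.2 _ b.1.2))⟩⟩
        fun a ha => ha
      have heq : A.subgroupOf K = T := Subgroup.eq_of_le_of_card_ge hle (by
        rw [Nat.card_congr (Subgroup.subgroupOfEquivOfLe hAL).toEquiv, hcard]
        exact hT)
      have : (⟨z, hz⟩ : K) ∈ A.subgroupOf K := heq ▸ (Subtype.ext hzp : (⟨z, hz⟩ : K) ^ p = 1)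
      exact this
    have hBM : B ≤ M := by
      intro b hb
      rcases eq_or_ne b 1 with rfl | hb1
      · exact one_mem M
      refine hcx (Subgroup.mem_centralizer_singleton_iff.2 ?_)
      refine RankTwoLines.centralizes_of_large_prime hA hcard hr hlt hrodd hp2
        (RankTwoLines.orderOf_eq hB hb hb1) (fun a ha => hOmega _
          (conj_mem_fittingHallOf (hBL hb) (hAL ha)) ?_) x hx
      rw [conj_pow, hA.2 a ha, mul_one, mul_inv_cancel]
    have hBE : B ≤ L ⊓ M := le_inf hBL hBM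
    have hBcop : (Nat.card B).Coprime (Nat.card (Cfsg.fittingHallOf M)) :=
      (coprime_card_complIn hcompl).coprime_dvd_left (Subgroup.card_dvd_of_le hBE)
    obtain ⟨d, hd, hd1, h, hh, hh1, hdh⟩ : ∃ d ∈ B, d ≠ 1 ∧
        ∃ h ∈ Cfsg.fittingHallOf M, h ≠ 1 ∧ d * h = h * d := by
      by_contra hcon
      push Not at hcon
      refine fitting_ne_bot hMI (eq_bot_iff.2 ?_)
      rw [← CfsgLib.Solvable.iSup_centralizer_eq (A := B) (K := Cfsg.fittingHallOf M)
        (fun a ha b hb => (RankTwoLines.commute hB ha hb).eq)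
        (fun hc => by
          have h2 := hc.exponent_eq_card
          have h3 : Monoid.exponent B ∣ r := Monoid.exponent_dvd_of_forall_pow_eq_one fun a =>
            Subtype.ext (by simpa using hB.2 a a.2)
          rw [h2, hBcard] at h3
          exact absurd (Nat.le_of_dvd hr.pos h3)
            (not_le.2 (lt_of_eq_of_lt (pow_one r).symm (pow_lt_pow_right₀ hr.one_lt one_lt_two))))
        (hBM.trans (le_normalizer_fittingHallOf M)) hBcop]
      refine iSup₂_le fun a ha h hh => ?_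
      by_contra hh1
      exact hcon a ha.1 ha.2 h hh.1 hh1 (Subgroup.mem_centralizer_singleton_iff.1 hh.2).symm
    have hdo : orderOf d = r := RankTwoLines.orderOf_eq hB hd hd1
    have hcM := cent_le_of_coprime P hM hMI (hBM hd) hd1
      (hBcop.coprime_dvd_left (hdo ▸ hBcard.symm ▸ dvd_pow_self r two_ne_zero)) hh hh1 hdh
    have hdx : d * x = x * d := by
      refine RankTwoLines.centralizes_of_large_prime hA hcard hr hlt hrodd hp2 hdo
        (fun a ha => hOmega _ (conj_mem_fittingHallOf (hBL hd) (hAL ha)) ?_) x hx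
      rw [conj_pow, hA.2 a ha, mul_one, mul_inv_cancel]
    have hcL' := cent_le_of_coprime P hL hLI (hBL hd) hd1
      (by rw [hdo]; exact (Nat.Prime.coprime_iff_not_dvd hr).2 hrL) (hAL hx) hx1 hdx
    exact hne (hcM.2 L hL hcL'.1)
  · have h1 : Monoid.exponent (L ⧸ Cfsg.fittingHall L) ∣ p - 1 := hexp p hp hpK
    have h2 : ((⟨b₀, hBL hb₀⟩ : L) : L ⧸ Cfsg.fittingHall L) ≠ 1 := fun e => by
      have h3 := (QuotientGroup.eq_one_iff _).1 e
      refine hrL ?_
      rw [← hb₀o]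
      exact Subgroup.orderOf_dvd_natCard _
        ((TypeICoherence.mem_fittingHallOf_iff (x := ⟨b₀, hBL hb₀⟩)).2 h3)
    have h3 : orderOf ((⟨b₀, hBL hb₀⟩ : L) : L ⧸ Cfsg.fittingHall L) = r := by
      refine orderOf_eq_prime ?_ h2
      rw [← QuotientGroup.mk_pow, show (⟨b₀, hBL hb₀⟩ : L) ^ r = 1 from Subtype.ext (hB.2 b₀ hb₀),
        QuotientGroup.mk_one]
    have h4 : r ∣ p - 1 := h3 ▸ (Monoid.order_dvd_exponent _).trans h1
    have := Nat.le_of_dvd (by have := hp.two_le; omega) h4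
    omega

/-- A Type I subgroup that is not a Frobenius group gives a configuration. -/
theorem exists_witness {M₀ : Subgroup G} (hM₀ : IsCoatom M₀) (hI₀ : CfsgLib.OddLocal.S15.IsTypeICore M₀)
    (hnf : ¬ IsFrob M₀) : Nonempty (Witness G) := by
  classical
  have hex : ∃ p : ℕ, p.Prime ∧ ∃ N : Subgroup G, IsCoatom N ∧ CfsgLib.OddLocal.S15.IsTypeICore N ∧
      ∃ B : Subgroup G, B ≤ N ∧ Cfsg.IsElementaryAbelian p B ∧ Nat.card B = p ^ 2 ∧
        ¬ p ∣ Nat.card (Cfsg.fittingHallOf N) := by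
    obtain ⟨r, B, hr, hB⟩ := exists_rank_two P hM₀ hI₀ hnf
    exact ⟨r, hr, M₀, hM₀, hI₀, B, hB⟩
  obtain ⟨hp, M, hM, hMI, A, hAM, hA, hcard, hnd⟩ := Nat.find_spec hex
  set p := Nat.find hex
  have hmin : ∀ r : ℕ, r.Prime → ∀ N : Subgroup G, IsCoatom N → CfsgLib.OddLocal.S15.IsTypeICore N →
      ∀ B : Subgroup G, B ≤ N → Cfsg.IsElementaryAbelian r B → Nat.card B = r ^ 2 →
        ¬ r ∣ Nat.card (Cfsg.fittingHallOf N) → p ≤ r :=
    fun r hr N hN hNI B h1 h2 h3 h4 => Nat.find_min' hex ⟨hr, N, hN, hNI, B, h1, h2, h3, h4⟩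
  haveI := Fact.mk hp
  have hG := P.minSimple
  haveI := hG.2.1
  have hAp : IsPGroup p A := IsPGroup.of_card hcard
  obtain ⟨S, hS⟩ := hAp.exists_le_sylow
  have hpG : p ∣ Nat.card G :=
    ((dvd_pow_self p two_ne_zero).trans hcard.symm.dvd).trans (Subgroup.card_subgroup_dvd_card A)
  have hSne : (S : Subgroup G) ≠ ⊥ := S.ne_bot_of_dvd_card hpG
  have hNS : Subgroup.normalizer ((S : Subgroup G) : Set G) ≠ ⊤ := fun e => by
    rcases IsSimpleGroup.eq_bot_or_eq_top_of_normal _ (Subgroup.normalizer_eq_top_iff.1 e) with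
      h | h
    · exact hSne h
    · exact CfsgLib.OddLocal.not_isPGroup_minSimple hG p (fun g => by
        obtain ⟨k, hk⟩ := S.2 ⟨g, h ▸ Subgroup.mem_top g⟩
        exact ⟨k, by simpa using congrArg Subtype.val hk⟩)
  obtain ⟨L, hL, hNL⟩ := CfsgLib.OddLocal.exists_isCoatom_ge hG hNS
  have hSL : (S : Subgroup G) ≤ L := Subgroup.le_normalizer.trans hNL
  have hpσ : p ∈ Cfsg.sigma L := by
    refine ⟨hp, ?_, S.subtype hSL, ?_⟩
    · exact (S.ne_bot_of_dvd_card hpG |> fun _ =>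
        ((dvd_pow_self p two_ne_zero).trans hcard.symm.dvd).trans
          (Subgroup.card_dvd_of_le (hS.trans hSL)))
    · rwa [Sylow.coe_subtype, Subgroup.map_subgroupOf_eq_of_le hSL]
  have hAσ : A ≤ Cfsg.sigmaCore L := by
    intro a ha
    have haL : a ∈ L := hSL (hS ha)
    have h1 : ¬ p ∣ (Cfsg.sigmaCore L).relIndex L := (P.sigma_hall L hL).1.2.2 p hp hpσ
    have h2 : (Cfsg.sigmaCore L).subgroupOf L = Cfsg.piCore (Cfsg.sigma L) L :=
      Subgroup.comap_map_eq_self_of_injective L.subtype_injective _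
    have h3 : (⟨a, haL⟩ : L) ∈ Cfsg.piCore (Cfsg.sigma L) L := by
      rw [← QuotientGroup.eq_one_iff]
      by_contra hne
      refine h1 ?_
      rw [Subgroup.relIndex, h2, Subgroup.index_eq_card]
      have ho : orderOf ((⟨a, haL⟩ : L) : L ⧸ Cfsg.piCore (Cfsg.sigma L) L) = p := by
        refine orderOf_eq_prime ?_ hne
        rw [← QuotientGroup.mk_pow, show (⟨a, haL⟩ : L) ^ p = 1 from Subtype.ext (hA.2 a ha),
          QuotientGroup.mk_one]
      rw [← ho]
      exact orderOf_dvd_natCard _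
    exact ⟨⟨a, haL⟩, h3, rfl⟩
  have hpM := not_mem_sigma P hM hMI hp hAM hcard hnd
  have hne : L ≠ M := fun e => hpM (e ▸ hpσ)
  obtain ⟨x, hx, hx1, h₀, hh₀, hh₀', hxh⟩ := exists_x P hM hMI hp hAM hA hcard hnd
  have hh₀1 : h₀ ≠ 1 := fun e => hh₀' (e ▸ one_mem _)
  have hcx := cent_le_of_coprime P hM hMI (hAM hx) hx1
    ((elementary_coprime hp hcard hnd).coprime_dvd_left (Subgroup.orderOf_dvd_natCard A hx))
    hh₀ hh₀1 hxh
  have hnle : ¬ Subgroup.centralizer ({x} : Set G) ≤ L := fun h => hne (hcx.2 L hL h)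
  have hLI : CfsgLib.OddLocal.S15.IsTypeICore L := by
    by_contra h
    exact hnle (P.ptype_cent L hL h p hp A hAσ hA hcard x hx hx1)
  have hAK : A ≤ Cfsg.fittingHallOf L := (P.typeI_core L hL hLI).1 ▸ hAσ
  have hcompl := ((P.tame L hL).2 x (mem_typeA_of_mem_fitting hLI (hAK hx) hx1) hnle M hM hcx.1).1
  exact ⟨{
    p := p, M := M, L := L, A := A, x := x, h₀ := h₀, prime := hp, hM := hM, hMI := hMI
    hL := hL, hLI := hLI, hA := hA, card_A := hcard, A_le := hAM, not_dvd := hnd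
    A_le_L := hAK
    frobL := frob_of_minimal P hp hmin hM hMI hL hLI hne hA hcard hAK hx hx1 hcx.1 hnle hcompl
    x_mem := hx, x_ne := hx1, h₀_mem := hh₀, h₀_not := hh₀', h₀_comm := hxh
    cent_le := hcx.1, cent_unique := hcx.2, not_le := hnle, compl := hcompl
    cent_A := cent_A_eq_bot P hM hMI hp hAM hA hcard hnd }⟩

/-- `2 [L : L_F] ≤ p + 1`. -/
theorem Witness.two_mul_index_le (w : Witness G) :
    2 * (Cfsg.fittingHall w.L).index ≤ w.p + 1 := by
  classical
  haveI := Fact.mk w.prime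
  have := Fintype.ofFinite w.L
  set K := Cfsg.fittingHallOf w.L with hKdef
  set K₁ := Cfsg.fittingHall w.L with hK₁
  have hpK : w.p ∣ Nat.card K := ((dvd_pow_self w.p two_ne_zero).trans w.card_A.symm.dvd).trans
    (Subgroup.card_dvd_of_le w.A_le_L)
  have hoddG := P.minSimple.1
  have hp2 : w.p ≠ 2 := fun e => (Nat.not_even_iff_odd.2 hoddG)
    (even_iff_two_dvd.2 (e ▸ hpK.trans (Subgroup.card_subgroup_dvd_card K)))
  have hoddL : Odd (Nat.card w.L) := hoddG.of_dvd_nat (Subgroup.card_subgroup_dvd_card _)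
  have hC := TypeICoherence.centralizer_le_fittingHall w.frobL
  have hK₁ne : K₁ ≠ ⊥ := w.hLI.1.2.2.1
  have hKn := TypeICoherence.normalizer_fittingHallOf P.minSimple w.hL (fitting_ne_bot w.hLI)
  rcases w.hLI.2 with hti | ⟨hab, hrank, -⟩ | ⟨hexp, -⟩
  · refine absurd (fun c hc => ?_) w.not_le
    rw [← hKn]
    by_contra hcn
    refine w.x_ne (hti c hcn w.x (w.A_le_L w.x_mem) ?_)
    rw [Subgroup.mem_centralizer_singleton_iff.1 hc, mul_inv_cancel_right]
    exact w.A_le_L w.x_mem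
  swap
  · have h := FrobeniusKernelChars.index_dvd_of_exponent_dvd K₁ hC hK₁ne hoddL
      (hexp w.p w.prime hpK)
    have hodd : Odd K₁.index := hoddL.of_dvd_nat (Subgroup.index_dvd_card _)
    have h2 := (Nat.coprime_two_left.2 hodd).mul_dvd_of_dvd_of_dvd
      (even_iff_two_dvd.1 ((w.prime.odd_of_ne_two hp2).tsub_odd odd_one)) h
    have := Nat.le_of_dvd (by have := w.prime.two_le; omega) h2
    omega
  have hcomm : ∀ a ∈ K, ∀ b ∈ K, a * b = b * a := fun a ha b hb =>
    congrArg Subtype.val (hab.is_comm.comm (⟨a, ha⟩ : K) ⟨b, hb⟩)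
  have hOmega : ∀ z ∈ K, z ^ w.p = 1 → z ∈ w.A := by
    intro z hz hzp
    let T : Subgroup K :=
      { carrier := {v | v ^ w.p = 1}
        one_mem' := one_pow _
        mul_mem' := fun {a b} (ha : a ^ w.p = 1) (hb : b ^ w.p = 1) => by
          show (a * b) ^ w.p = 1
          rw [(show Commute a b from Subtype.ext (hcomm _ a.2 _ b.2)).mul_pow, ha, hb, one_mul]
        inv_mem' := fun {a} (ha : a ^ w.p = 1) => by
          show (a⁻¹) ^ w.p = 1
          rw [inv_pow, ha, inv_one] }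
    have hle : w.A.subgroupOf K ≤ T := fun a ha =>
      (Subtype.ext (by simpa using w.hA.2 _ ha) : a ^ w.p = 1)
    have hT := hrank w.p w.prime T ⟨⟨fun a b => Subtype.ext (Subtype.ext (hcomm _ a.1.2 _ b.1.2))⟩⟩
      fun a ha => ha
    have heq : w.A.subgroupOf K = T := Subgroup.eq_of_le_of_card_ge hle (by
      rw [Nat.card_congr (Subgroup.subgroupOfEquivOfLe w.A_le_L).toEquiv, w.card_A]
      exact hT)
    exact (heq ▸ (Subtype.ext hzp : (⟨z, hz⟩ : K) ^ w.p = 1) : (⟨z, hz⟩ : K) ∈ w.A.subgroupOf K)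
  have hAn : ∀ d ∈ w.L, ∀ a ∈ w.A, d * a * d⁻¹ ∈ w.A := fun d hd a ha =>
    hOmega _ (conj_mem_fittingHallOf hd (w.A_le_L ha))
      (by rw [conj_pow, w.hA.2 a ha, mul_one, mul_inv_cancel])
  have hKM : K ≤ w.M := fun c hc => w.cent_le
    (Subgroup.mem_centralizer_singleton_iff.2 (hcomm c hc w.x (w.A_le_L w.x_mem)))
  -- `L ∩ M` is the kernel
  have hLM : w.L ⊓ w.M ≤ K := by
    intro m hm
    by_contra hmK
    obtain ⟨hmL, hmM⟩ := Subgroup.mem_inf.1 hm
    have hm₁ : ((⟨m, hmL⟩ : w.L) : w.L ⧸ K₁) ≠ 1 := fun e => hmK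
      ((TypeICoherence.mem_fittingHallOf_iff (x := ⟨m, hmL⟩)).2 ((QuotientGroup.eq_one_iff _).1 e))
    obtain ⟨r, hr, hrd⟩ := Nat.exists_prime_and_dvd (fun e => hm₁ (orderOf_eq_one_iff.1 e))
    haveI := Fact.mk hr
    have hrm : r ∣ orderOf m := by
      rw [← Subgroup.orderOf_mk m hmL]
      exact hrd.trans (orderOf_map_dvd (QuotientGroup.mk' K₁) _)
    have hrK : ¬ r ∣ Nat.card K := fun h => hr.not_dvd_one
      ((CfsgLib.OddLocal.coprime_fittingHallOf w.L) ▸ Nat.dvd_gcd h (by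
        rw [CfsgLib.OddLocal.relIndex_fittingHallOf, Subgroup.index_eq_card]
        exact hrd.trans (orderOf_dvd_natCard _)))
    obtain ⟨U, -, hU, -, U₀, hU₀, hexpU, hfpf⟩ := w.hMI.1.2.2.2.2
    set H₁ := Cfsg.fittingHall w.M with hH₁
    have hH₁c : (Nat.card H₁).Coprime H₁.index := CfsgLib.OddLocal.fittingHall_spec.2.2
    haveI : Group.IsSolvable w.M := isSolvable_of_isCoatom P.minSimple w.hM
    set E := (w.L ⊓ w.M).subgroupOf w.M with hE
    have hEc : Nat.card E = H₁.index :=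
      (isComplement'_of_isComplIn w.compl).symm.index_eq_card.symm
    have hUcard : Nat.card U = H₁.index := hU.symm.index_eq_card.symm
    obtain ⟨g, hg⟩ := CfsgLib.Solvable.exists_conj_le_of_coprime_index (H := U) (K := E)
      (by rw [hU.index_eq_card, hUcard]; exact hH₁c.symm)
      (by rw [hU.index_eq_card, hEc]; exact hH₁c.symm)
    have hEU : E.map (MulAut.conj g).toMonoidHom = U := by
      refine Subgroup.eq_of_le_of_card_ge ?_ (by
        rw [Subgroup.card_map_of_injective (MulEquiv.injective _), hEc, hUcard])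
      rintro _ ⟨e, he, rfl⟩
      exact hg (Subgroup.smul_mem_pointwise_smul _ _ _ he)
    set E₀ : Subgroup G := (U₀.map (MulAut.conj g⁻¹).toMonoidHom).map w.M.subtype with hE₀
    have hE₀L : E₀ ≤ w.L := by
      rintro _ ⟨_, ⟨u, hu, rfl⟩, rfl⟩
      have huU := hU₀ hu
      rw [← hEU] at huU
      obtain ⟨e, he, rfl⟩ := huU
      simp only [MulEquiv.coe_toMonoidHom, MulAut.conj_apply, inv_inv]
      rw [show g⁻¹ * (g * e * g⁻¹) * g = e by group]
      exact (Subgroup.mem_inf.1 he).1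
    have hE₀fpf : ∀ u ∈ E₀, u ≠ 1 → Cfsg.fittingHallOf w.M ⊓ Subgroup.centralizer {u} = ⊥ := by
      rintro _ ⟨_, ⟨u, hu, rfl⟩, rfl⟩ hne
      rw [Subgroup.eq_bot_iff_forall]
      intro h hh
      obtain ⟨hhH, hhc⟩ := Subgroup.mem_inf.1 hh
      obtain ⟨h', hh', rfl⟩ := hhH
      have hcomm' : h' * (g⁻¹ * u * g) = (g⁻¹ * u * g) * h' := by
        refine Subtype.ext ?_
        simpa using Subgroup.mem_centralizer_singleton_iff.1 hhc
      have hu1 : u ≠ 1 := fun e => hne (by simp [e])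
      have h1 := hfpf u hu hu1 (g * h' * g⁻¹) ((inferInstance : H₁.Normal).conj_mem _ hh' g) (by
        calc u * (g * h' * g⁻¹) = g * ((g⁻¹ * u * g) * h') * g⁻¹ := by group
          _ = g * (h' * (g⁻¹ * u * g)) * g⁻¹ := by rw [hcomm']
          _ = _ := by group)
      rw [conj_eq_one_iff.1 h1, map_one]
    have hex : ∀ q : ℕ, q.Prime → q ∣ Nat.card ↥(w.L ⊓ w.M) → ∃ u ∈ E₀, orderOf u = q := by
      intro q hq hqd
      haveI := Fact.mk hq
      rw [← Nat.card_congr (Subgroup.subgroupOfEquivOfLe (inf_le_right : w.L ⊓ w.M ≤ w.M)).toEquiv,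
        hEc, ← hUcard] at hqd
      obtain ⟨u, hu⟩ := exists_prime_orderOf_dvd_card' (G := U) q hqd
      have h1 : q ∣ Nat.card U₀ :=
        (hu ▸ Monoid.order_dvd_exponent u).trans (hexpU ▸ Group.exponent_dvd_nat_card)
      obtain ⟨v, hv⟩ := exists_prime_orderOf_dvd_card' (G := U₀) q h1
      refine ⟨_, ⟨_, ⟨(v : w.M), v.2, rfl⟩, rfl⟩, ?_⟩
      rw [orderOf_injective w.M.subtype w.M.subtype_injective,
        orderOf_injective _ (MulEquiv.injective (MulAut.conj g⁻¹)), Subgroup.orderOf_coe, hv]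
    obtain ⟨d, hd, hdo⟩ := hex r hr (hrm.trans (Subgroup.orderOf_dvd_natCard _ hm))
    have hAM' : w.A ≤ w.L ⊓ w.M :=
      le_inf (w.A_le_L.trans (CfsgLib.OddLocal.fittingHallOf_le _)) w.A_le
    obtain ⟨z, hz, hzo⟩ := hex w.p w.prime
      (((dvd_pow_self w.p two_ne_zero).trans w.card_A.symm.dvd).trans
        (Subgroup.card_dvd_of_le hAM'))
    have hzK : z ∈ K := by
      refine mem_fitting_of_coprime (hE₀L hz) ?_
      rw [hzo]
      exact (CfsgLib.OddLocal.coprime_fittingHallOf w.L).coprime_dvd_left hpK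
    have hzA : z ∈ w.A := hOmega z hzK (hzo ▸ pow_orderOf_eq_one z)
    have hz1 : z ≠ 1 := fun e => w.prime.ne_one (by rw [← hzo, e, orderOf_one])
    have hd1 : d ≠ 1 := fun e => hr.ne_one (by rw [← hdo, e, orderOf_one])
    have hline : d * z * d⁻¹ ∈ Subgroup.zpowers z := by
      by_contra hnot
      have hzd : d * z * d⁻¹ ∈ w.A := hAn d (hE₀L hd) z hzA
      obtain ⟨i, j, hij⟩ := RankTwoLines.span w.hA w.card_A hzA hz1 hzd hnot w.x_mem
      have hxE : w.x ∈ E₀ := by
        rw [hij]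
        exact mul_mem (E₀.zpow_mem hz i) (E₀.zpow_mem (mul_mem (mul_mem hd hz) (inv_mem hd)) j)
      have h0 : w.h₀ ∈ Cfsg.fittingHallOf w.M ⊓ Subgroup.centralizer {w.x} :=
        ⟨w.h₀_mem, Subgroup.mem_centralizer_singleton_iff.2 w.h₀_comm.symm⟩
      rw [hE₀fpf w.x hxE w.x_ne, Subgroup.mem_bot] at h0
      exact w.h₀_not (h0 ▸ one_mem _)
    set Z := Subgroup.zpowers z with hZ
    set D := Subgroup.zpowers d with hD
    have hDZ : D ≤ Subgroup.normalizer (Z : Set G) := by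
      rw [hD, Subgroup.zpowers_le, Subgroup.mem_normalizer_iff_map_conj_eq]
      refine Subgroup.eq_of_le_of_card_ge ?_
        (Subgroup.card_map_of_injective (MulEquiv.injective _)).ge
      rintro _ ⟨_, ⟨i, rfl⟩, rfl⟩
      show d * z ^ i * d⁻¹ ∈ Z
      rw [← conj_zpow]
      exact Subgroup.zpow_mem _ hline i
    have hZD : ∀ c, c ∈ Z → c ∈ D → c = 1 := by
      intro c hcZ hcD
      have hcop : (Nat.card Z).Coprime (Nat.card D) := by
        rw [Nat.card_zpowers, Nat.card_zpowers, hzo, hdo]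
        exact (Nat.coprime_primes w.prime hr).2 fun e => hrK (e ▸ hpK)
      exact orderOf_eq_one_iff.1 (Nat.eq_one_of_dvd_coprimes hcop
        (Subgroup.orderOf_dvd_natCard _ hcZ) (Subgroup.orderOf_dvd_natCard _ hcD))
    have hcardS : Nat.card ↥(Z ⊔ D) = w.p * r := by
      have hcoe := Subgroup.coe_mul_of_right_le_normalizer_left Z D hDZ
      let f : Z × D → ↥(Z ⊔ D) := fun q =>
        ⟨q.1 * q.2, mul_mem (Subgroup.mem_sup_left q.1.2) (Subgroup.mem_sup_right q.2.2)⟩
      have hf : Function.Bijective f := by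
        constructor
        · rintro ⟨a, b⟩ ⟨a', b'⟩ e
          have e' : (a : G) * b = a' * b' := congrArg Subtype.val e
          have h1 : (a' : G)⁻¹ * a = b' * (b : G)⁻¹ := by
            calc (a' : G)⁻¹ * a = (a' : G)⁻¹ * (a * b) * (b : G)⁻¹ := by group
              _ = _ := by rw [e']; group
          have h2 := hZD _ (mul_mem (inv_mem a'.2) a.2) (h1 ▸ mul_mem b'.2 (inv_mem b.2))
          have h3 : a = a' := Subtype.ext (inv_mul_eq_one.1 h2).symm
          subst h3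
          exact Prod.ext rfl (Subtype.ext (mul_left_cancel e'))
        · rintro ⟨c, hc⟩
          rw [← SetLike.mem_coe, hcoe] at hc
          obtain ⟨a, ha, b, hb, rfl⟩ := hc
          exact ⟨(⟨a, ha⟩, ⟨b, hb⟩), rfl⟩
      rw [← Nat.card_congr (Equiv.ofBijective f hf), Nat.card_prod, Nat.card_zpowers,
        Nat.card_zpowers, hzo, hdo]
    have hS : Z ⊔ D ≤ E₀ := sup_le (Subgroup.zpowers_le.2 hz) (Subgroup.zpowers_le.2 hd)
    haveI : IsCyclic ↥(Z ⊔ D) := CfsgLib.Solvable.isCyclic_of_fpf (fitting_ne_bot w.hMI)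
      ((hS.trans (by
        rintro _ ⟨u, -, rfl⟩
        exact u.2 : E₀ ≤ w.M)).trans (le_normalizer_fittingHallOf _))
      (CfsgLib.Solvable.fpf_mono hS hE₀fpf) (Or.inr ⟨w.p, r, w.prime, hr, hcardS⟩)
    have hdz : d * z = z * d := by
      letI := IsCyclic.commGroup (α := ↥(Z ⊔ D))
      exact congrArg Subtype.val (mul_comm
        (⟨d, Subgroup.mem_sup_right (Subgroup.mem_zpowers d)⟩ : ↥(Z ⊔ D))
        ⟨z, Subgroup.mem_sup_left (Subgroup.mem_zpowers z)⟩)
    have hdK : d ∈ K :=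
      w.frobL z hzK hz1 ⟨hE₀L hd, Subgroup.mem_centralizer_singleton_iff.2 hdz⟩
    exact hrK (hdo ▸ Subgroup.orderOf_dvd_natCard _ hdK)
  -- the complement
  obtain ⟨D₁, hD₁⟩ := Subgroup.exists_right_complement'_of_coprime
    (N := K₁) CfsgLib.OddLocal.fittingHall_spec.2.2
  set D := D₁.map w.L.subtype with hD
  have hDcard : Nat.card D = K₁.index := by
    rw [hD, Subgroup.card_map_of_injective w.L.subtype_injective, hD₁.symm.index_eq_card]
  have hDL : D ≤ w.L := Subgroup.map_subtype_le _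
  have hDK : ∀ d ∈ D, d ∈ K → d = 1 := by
    rintro _ ⟨d, hd, rfl⟩ hdK
    have : d ∈ K₁ ⊓ D₁ := ⟨TypeICoherence.mem_fittingHallOf_iff.1 hdK, hd⟩
    rw [hD₁.disjoint.eq_bot, Subgroup.mem_bot] at this
    rw [this, map_one]
  have hfpfA : ∀ d ∈ D, d ≠ 1 → ∀ a ∈ w.A, d * a = a * d → a = 1 := by
    intro d hd hd1 a ha hda
    by_contra ha1
    exact hd1 (hDK d hd (w.frobL a (w.A_le_L ha) ha1
      ⟨hDL hd, Subgroup.mem_centralizer_singleton_iff.2 hda⟩))
  have hDne : D ≠ ⊥ := fun e => by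
    rw [e, Subgroup.card_bot, eq_comm, Subgroup.index_eq_one] at hDcard
    exact w.hLI.1.2.2.2.1 hDcard
  obtain ⟨z, hz⟩ : ∃ z : Subgroup.center D, z ≠ 1 := by
    haveI : Nontrivial (Subgroup.center D) :=
      (Subgroup.nontrivial_iff_ne_bot _).2 (CfsgLib.Solvable.center_ne_bot_of_fpf
        (K := K) (fitting_ne_bot w.hLI) hDne (hDL.trans (le_normalizer_fittingHallOf _))
        fun d hd hd1 => by
          rw [Subgroup.eq_bot_iff_forall]
          intro k hk
          obtain ⟨hkK, hkc⟩ := Subgroup.mem_inf.1 hk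
          by_contra hk1
          exact hd1 (hDK d hd (w.frobL k hkK hk1
            ⟨hDL hd, Subgroup.mem_centralizer_singleton_iff.2
              (Subgroup.mem_centralizer_singleton_iff.1 hkc).symm⟩)))
    exact exists_ne 1
  rw [← hDcard]
  refine RankTwoLines.two_mul_card_le w.hA w.card_A hp2
    (hoddG.of_dvd_nat (Subgroup.card_subgroup_dvd_card D)) (fun d hd => hAn d (hDL hd)) hfpfA
    (z := ((z : D) : G)) (z : D).2 (fun e => hz (Subtype.ext (Subtype.ext e)))
    (fun d hd => (congrArg Subtype.val (Subgroup.mem_center_iff.1 z.2 ⟨d, hd⟩)).symm) w.x_mem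
    (fun d hd hdx => hDK d hd (hLM ⟨hDL hd, ?_⟩))
  -- an element fixing the line of `x` lies in `M`
  have hgen : Subgroup.zpowers (d * w.x * d⁻¹) = Subgroup.zpowers w.x :=
    RankTwoLines.zpowers_eq_of_mem (RankTwoLines.orderOf_eq w.hA w.x_mem w.x_ne)
      (fun e => w.x_ne (conj_eq_one_iff.1 e)) hdx
  have hle : Subgroup.centralizer ({w.x} : Set G) ≤ w.M.map (MulAut.conj d).toMonoidHom := by
    intro c hc
    rw [Subgroup.mem_map_equiv, MulAut.conj_symm_apply]
    refine w.cent_le (Subgroup.mem_centralizer_singleton_iff.2 ?_)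
    obtain ⟨i, hi⟩ := hdx
    have hc' : Commute c (d * w.x * d⁻¹) :=
      hi ▸ ((show Commute c w.x from Subgroup.mem_centralizer_singleton_iff.1 hc).zpow_right i)
    calc d⁻¹ * c * d * w.x = d⁻¹ * (c * (d * w.x * d⁻¹)) * d := by group
      _ = d⁻¹ * (d * w.x * d⁻¹ * c) * d := by rw [hc'.eq]
      _ = w.x * (d⁻¹ * c * d) := by group
  have heq := w.cent_unique _
    (((MulAut.conj d).mapSubgroup.isCoatom_iff w.M).2 w.hM) hle
  show d ∈ w.M
  rw [← CfsgLib.OddLocal.normalizer_eq_of_isCoatom P.minSimple w.hM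
    (CfsgLib.OddLocal.ne_bot_of_isCoatom P.minSimple w.hM) le_rfl Subgroup.le_normalizer,
    Subgroup.mem_normalizer_iff_map_conj_eq]
  exact heq

end CfsgLib.OddChar.TypeIWitness
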