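import Cfsg.Agent.Lib.OddChar.TypeIBoundPre
import Cfsg.Agent.Lib.OddChar.TypeIWitness
import Cfsg.Agent.S1524

/-!
# The coherent character of the Frobenius subgroup in S1540

For `L` of Type I and Frobenius: `χ = Ind θ` with `θ` linear, its image `ψ` under the coherent
isometry, the constant `c` with `ψ = χ + c` on average on `L_F \ {1}`, and the resulting norm.
-/

set_option autoImplicit false

namespace CfsgLib.OddChar.TypeIBoundL

open CfsgLib.Char CfsgLib.CharNormal CfsgLib.OddChar.TypeIProps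
open scoped ComplexConjugate

universe u

variable {G : Type u} [Group G] [Fintype G]

theorem sibleyTI : TypeICoherence.SibleyTIProp G :=
  fun H L W₁ _ => Cfsg.Agent.S1524.result H L W₁

/-- What is used about `ψ`. -/
structure LData (L : Subgroup G) [Fintype L] where
  χ : L → ℂ
  ψ : G → ℂ
  ψ' : G → ℂ
  α : L → ℂ
  c : ℤ
  gen_χ : Cfsg.IsGeneralizedCharacter L χ
  χ_one : χ 1 = ((Cfsg.fittingHall L).index : ℂ)
  hψ : Cfsg.IsIrrCharacter G ψ ∨ Cfsg.IsIrrCharacter G (-ψ)
  hψ' : Cfsg.IsIrrCharacter G ψ' ∨ Cfsg.IsIrrCharacter G (-ψ')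
  hψ1 : ψ 1 = ψ' 1
  hψo : Cfsg.classInner ψ ψ' = 0
  hα : Cfsg.IsClassFunction L α
  hψd : ψ - ψ' = Cfsg.dadeIsometry (CfsgLib.OddLocal.S15.typeACore L) L (Cfsg.supportR L) α
  gen_ψ : Cfsg.IsGeneralizedCharacter G ψ
  norm_ψ : Cfsg.classInner ψ ψ = 1
  avg_eq : ∀ a : L, (a : G) ∈ CfsgLib.OddLocal.S15.typeACore L →
    TypeIOrth.avg (CfsgLib.OddLocal.S15.typeACore L) L (Cfsg.supportR L) ψ a = χ a + c
  norm_eq : ∑ᶠ a ∈ {a : L | (a : G) ∈ CfsgLib.OddLocal.S15.typeACore L},
      ‖TypeIOrth.avg (CfsgLib.OddLocal.S15.typeACore L) L (Cfsg.supportR L) ψ a‖ ^ 2 =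
    ((Cfsg.fittingHall L).index : ℝ) * Nat.card (Cfsg.fittingHall L)
      + (c : ℝ) ^ 2 * Nat.card (Cfsg.fittingHall L)
      - (((Cfsg.fittingHall L).index : ℝ) + c) ^ 2

variable (P : Props G) {L : Subgroup G} [Fintype L]
include P

theorem exists_LData (hL : IsCoatom L) (hLI : CfsgLib.OddLocal.S15.IsTypeICore L) (hfrob : TypeIWitness.IsFrob L) :
    Nonempty (LData L) := by
  classical
  set K := Cfsg.fittingHall L with hKdef
  set e := K.index with hedef
  have hC := TypeICoherence.centralizer_le_fittingHall hfrob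
  have hodd : Odd (Nat.card L) := hLI.1.2.1
  have hKne : K ≠ ⊥ := hLI.1.2.2.1
  haveI : Nontrivial K := (Subgroup.nontrivial_iff_ne_bot K).2 hKne
  haveI : Group.IsNilpotent K := CfsgLib.OddLocal.fittingHall_spec.2.1
  have hKD : commutator K ≠ ⊤ := (Group.IsSolvable.commutator_lt_top_of_nontrivial K).ne
  obtain ⟨θ, hθ, hθ1, hθne⟩ := TypeIBoundPre.exists_linear_ne_one hKD
  set χ := Cfsg.indFun K θ with hχdef
  obtain ⟨hirr, -, τ₁, ⟨hadd, hsmul, hiso, hgen⟩, hagree⟩ :=
    TypeICoherence.coherent_typeI L P.dade sibleyTI P.minSimple hL hLI hfrob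
  set S := Cfsg.inducedIrrAbove K ⊥ with hS
  set τ : (L → ℂ) → G → ℂ := Cfsg.dadeIsometry (CfsgLib.OddLocal.S15.typeACore L) L (Cfsg.supportR L) with hτ
  have hD := P.dade L hL
  have hA : CfsgLib.OddLocal.S15.typeACore L = (Cfsg.fittingHallOf L : Set G) \ {1} :=
    TypeICoherence.typeA_eq hLI hfrob
  have hmemA : ∀ a : L, (a : G) ∈ CfsgLib.OddLocal.S15.typeACore L ↔ a ∈ K ∧ a ≠ 1 := by
    intro a
    rw [hA]
    simp [Set.mem_sdiff, TypeICoherence.mem_fittingHallOf_iff, hKdef]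
  have hχS : χ ∈ S := ⟨θ, hθ, hθne, fun a ha => by
    rw [show a = 1 from Subtype.ext (Subgroup.mem_bot.1 ha)], rfl⟩
  have hχirr := hirr χ hχS
  have hχ1 : χ 1 = (e : ℂ) := by rw [hχdef, indFun_one, hθ1, mul_one]
  have hχS' : Cfsg.conjFun χ ∈ S := by
    refine ⟨Cfsg.conjFun θ, PairBessel.isIrr_conjFun hθ, fun h => hθne ?_, fun a ha => by
      rw [show a = 1 from Subtype.ext (Subgroup.mem_bot.1 ha)], Above.conjFun_indFun K θ⟩
    rw [← PairBessel.conjFun_conjFun θ, h]
    funext k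
    simp [Cfsg.conjFun]
  have hχcne : Cfsg.conjFun χ ≠ χ := FrobeniusKernelChars.conj_ne K hC hodd hχS
  have hχcirr := hirr _ hχS'
  have hχ0 : ∀ a : L, a ∉ K → χ a = 0 := fun a ha => indFun_eq_zero_of_forall K fun y hy =>
    absurd (by simpa [mul_assoc] using (inferInstance : K.Normal).conj_mem _ hy y) ha
  have hsub : ∀ φ ∈ S, φ ∈ Cfsg.zspan S := fun φ hφ => Submodule.subset_span hφ
  have hzgen : ∀ α ∈ Cfsg.zspan S, Cfsg.IsGeneralizedCharacter L α := fun α hα =>
    FrobeniusKernelChars.isGen_zspan (fun φ h => isCharacter_of_isIrr (hirr φ h)) hα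
  have hsupp : ∀ α : L → ℂ, (∀ a : L, a ∉ K → α a = 0) → α 1 = 0 →
      ∀ a : L, (a : G) ∉ CfsgLib.OddLocal.S15.typeACore L → α a = 0 := by
    intro α h0 h1 a ha
    by_cases haK : a ∈ K
    · have : a = 1 := by
        by_contra h
        exact ha ((hmemA a).2 ⟨haK, h⟩)
      rw [this, h1]
    · exact h0 a haK
  have hτ1 : ∀ α : L → ℂ, τ α 1 = 0 := by
    intro α
    refine Dade.dade_apply_none ?_
    rintro ⟨a, ha, x, v, hv, hx⟩
    rw [mul_one, mul_inv_cancel] at hx
    have hvL : v ∈ L := by rw [eq_inv_of_mul_eq_one_right hx.symm]; exact inv_mem a.2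
    rw [Dade.eq_one_of_mem hD ha hv hvL, mul_one] at hx
    exact hD.one_not_mem (hx ▸ ha)
  -- `ψ`, `ψ'`
  set ψ := τ₁ χ with hψdef
  set ψ' := τ₁ (Cfsg.conjFun χ) with hψ'def
  have hψn : Cfsg.classInner ψ ψ = 1 := by
    rw [hψdef, hiso _ (hsub _ hχS) _ (hsub _ hχS), classInner_irr_self hχirr]
  have hψg : Cfsg.IsGeneralizedCharacter G ψ := hgen _ (hsub _ hχS)
  have hψcl : Cfsg.IsClassFunction G ψ := isClassFunction_of_isGen hψg
  -- the isometry on differences
  have hlin : ∀ φ ∈ S, ∀ η ∈ S, ∀ n : ℤ,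
      τ₁ (φ + (-n) • η) = τ₁ φ + (-n) • τ₁ η := fun φ hφ η hη n => by
    rw [hadd _ (hsub _ hφ) _ (Submodule.smul_mem _ _ (hsub _ hη)), hsmul _ (hsub _ hη)]
  have hkey : ∀ φ ∈ S, ∀ η ∈ S, ∀ n : ℤ, φ 1 = (n : ℂ) * η 1 →
      τ₁ φ + (-n) • τ₁ η = τ (φ + (-n) • η) := fun φ hφ η hη n h1 => by
    rw [← hlin φ hφ η hη n]
    refine hagree _ ⟨Submodule.add_mem _ (hsub _ hφ) (Submodule.smul_mem _ _ (hsub _ hη)),
      fun x hx => ?_⟩
    obtain rfl : x = 1 := by simpa using hx
    simp [h1]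
  have hdiff : ψ - ψ' = τ (χ - Cfsg.conjFun χ) := by
    have h := hkey χ hχS (Cfsg.conjFun χ) hχS' 1 (by
      simp [Cfsg.conjFun, hχ1])
    rw [neg_one_zsmul, neg_one_zsmul, ← sub_eq_add_neg, ← sub_eq_add_neg] at h
    exact h
  -- the averaged function
  set f := TypeIOrth.avg (CfsgLib.OddLocal.S15.typeACore L) L (Cfsg.supportR L) ψ with hfdef
  have hfcl : Cfsg.IsClassFunction L f := TypeIOrth.isClassFunction_avg hD hψcl
  have hadj : ∀ β : L → ℂ, Cfsg.IsClassFunction L β → (∀ a : L, a ∉ K → β a = 0) → β 1 = 0 →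
      Cfsg.classInner β f = Cfsg.classInner (τ β) ψ := fun β hβ h0 h1 =>
    (TypeIOrth.classInner_dade hD hβ (hsupp β h0 h1) hψcl).symm
  have hortho : ∀ φ ∈ S, ∀ n : ℕ, φ 1 = (n : ℂ) * χ 1 →
      Cfsg.classInner (φ - (n : ℂ) • χ) (f - χ) = 0 := by
    intro φ hφ n hn
    have heq : φ - (n : ℂ) • χ = φ + (-(n : ℤ)) • χ := by
      funext a
      simp [zsmul_eq_mul, sub_eq_add_neg]
    have hz : φ - (n : ℂ) • χ ∈ Cfsg.zspan S := by
      rw [heq]
      exact Submodule.add_mem _ (hsub _ hφ) (Submodule.smul_mem _ _ (hsub _ hχS))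
    have h1 : Cfsg.classInner (φ - (n : ℂ) • χ) f = Cfsg.classInner φ χ - n := by
      rw [hadj _ (isClassFunction_of_isGen (hzgen _ hz))
        (fun a ha => FrobeniusKernelChars.zspan_apply_eq_zero K ⊥ hz ha) (by simp [hn]), heq,
        ← hkey φ hφ χ hχS n (by exact_mod_cast hn), classInner_add_left,
        show (-(n : ℤ)) • τ₁ χ = (-(n : ℂ)) • τ₁ χ from by funext g; simp [zsmul_eq_mul],
        classInner_smul_left, hψdef, hiso _ (hsub _ hφ) _ (hsub _ hχS),
        hiso _ (hsub _ hχS) _ (hsub _ hχS), classInner_irr_self hχirr]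
      ring
    rw [classInner_sub_right, h1, classInner_sub_left, classInner_smul_left,
      classInner_irr_self hχirr]
    ring
  set δ : L → ℂ := fun a => if a = 1 then 1 else 0 with hδ
  have hinnerδ : ∀ φ : L → ℂ, Cfsg.classInner φ δ = (Nat.card L : ℂ)⁻¹ * φ 1 := fun φ => by
    rw [classInner_def, Finset.sum_eq_single 1] <;> simp +contextual [hδ]
  have he0 : (e : ℂ) ≠ 0 := Nat.cast_ne_zero.2 Subgroup.index_ne_zero_of_finite
  have hL0 : (Nat.card L : ℂ) ≠ 0 := card_ne_zero'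
  set z : ℂ := conj (-(Cfsg.classInner χ (f - χ)) * Nat.card L / e) with hz
  set D' : L → ℂ := (f - χ) + z • δ with hD'
  have hD'cl : Cfsg.IsClassFunction L D' := by
    refine isClassFunction_add (isClassFunction_sub hfcl (isClassFunction_of_isIrr hχirr))
      (isClassFunction_smul (fun a b => ?_) _)
    simp only [hδ, conj_eq_one_iff]
  have hD'0 : ∀ φ ∈ S, Cfsg.classInner φ D' = 0 := by
    intro φ hφ
    obtain ⟨θ', hθ', hne', hker, rfl⟩ := hφ
    obtain ⟨n, hn⟩ := exists_degree (isCharacter_of_isIrr hθ')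
    have hn1 : Cfsg.indFun K θ' 1 = (n : ℂ) * χ 1 := by
      rw [indFun_one, hn, hχ1]; ring
    have h := hortho _ ⟨θ', hθ', hne', hker, rfl⟩ n hn1
    rw [classInner_sub_left, classInner_smul_left, sub_eq_zero] at h
    rw [hD', classInner_add_right, classInner_smul_right, hinnerδ, h, hn1, hχ1, hz,
      Complex.conj_conj]
    field_simp
    ring
  set c : ℂ := Cfsg.classInner (fun k : K => D' k) (fun _ => 1) with hc
  have hconst : ∀ a : L, a ∈ K → a ≠ 1 → f a = χ a + c := by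
    intro a ha ha1
    have hcl : Cfsg.IsClassFunction K (fun k : K => D' k) := fun g h => hD'cl g h
    have h := congrFun (classFun_eq_sum hcl) ⟨a, ha⟩
    rw [Finset.sum_apply, Finset.sum_eq_single (irrOne : Cfsg.IrrCharacter K)
      (fun θ' _ hne' => ?_) (fun h => absurd (Finset.mem_univ _) h)] at h
    · simp only [hD', Pi.add_apply, Pi.sub_apply, Pi.smul_apply, hδ, if_neg ha1, smul_eq_mul,
        mul_zero, add_zero, irrOne_apply, mul_one] at h
      rw [hc, hD', hδ]
      simp only [Pi.add_apply, Pi.sub_apply, Pi.smul_apply, smul_eq_mul]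
      rw [show ((irrOne : Cfsg.IrrCharacter K) : K → ℂ) = fun _ => 1 from rfl] at h
      linear_combination h
    · have h0 : Cfsg.classInner (fun k : K => D' k) (θ' : K → ℂ) = 0 := by
        rw [← classInner_conj_symm, ← frobenius_reciprocity K _ hD'cl,
          hD'0 _ ⟨_, θ'.2, fun e => hne' (Subtype.ext e), fun a ha => by
            rw [show a = 1 from Subtype.ext (Subgroup.mem_bot.1 ha)], rfl⟩, map_zero]
      rw [Pi.smul_apply, h0, zero_smul]
  -- `c` is an integer
  set γ : L → ℂ := Cfsg.indFun K (fun _ => (1 : ℂ)) - χ with hγ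
  have hγgen : Cfsg.IsGeneralizedCharacter L γ :=
    isGen_sub (isGen_indFun K (isGen_of_irr isIrrCharacter_one)) (isGen_of_irr hχirr)
  have hγ0 : ∀ a : L, a ∉ K → γ a = 0 := fun a ha => by
    rw [hγ, Pi.sub_apply, hχ0 a ha, TypeIBoundPre.indFun_const_one]
    simp [ha]
  have hγ1 : γ 1 = 0 := by
    rw [hγ, Pi.sub_apply, indFun_one, hχ1]
    simp [hedef]
  have hχone : Cfsg.classInner χ (fun _ => 1) = 0 := by
    rw [hχdef, frobenius_reciprocity K θ (isClassFunction_const 1)]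
    exact classInner_irr_ne hθ isIrrCharacter_one hθne
  have hindχ : Cfsg.classInner (Cfsg.indFun K fun _ => (1 : ℂ)) χ = 0 := by
    rw [frobenius_reciprocity K _ (isClassFunction_of_isIrr hχirr), ← classInner_conj_symm,
      hχdef, ← frobenius_reciprocity' K _ (isClassFunction_indFun K θ),
      frobenius_reciprocity K θ (isClassFunction_indFun K _),
      show (fun k : K => Cfsg.indFun K (fun _ => (1 : ℂ)) k) = (e : ℂ) • fun _ => (1 : ℂ) from
        funext fun k => by rw [TypeIBoundPre.indFun_const_one]; simp [k.2, hedef],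
      classInner_smul_right, classInner_irr_ne hθ isIrrCharacter_one hθne, mul_zero, map_zero]
  obtain ⟨c₀, hc₀⟩ : ∃ c₀ : ℤ, c = c₀ := by
    obtain ⟨m, hm⟩ := classInner_gen_int
      (Dade.isGen_dade hD hγgen (hsupp γ hγ0 hγ1)) hψg
    have h1 : Cfsg.classInner γ f = Cfsg.classInner γ (χ + fun _ => c) := by
      rw [classInner_def, classInner_def]
      congr 1
      refine Finset.sum_congr rfl fun a _ => ?_
      by_cases ha : a ∈ K
      · by_cases ha1 : a = 1
        · rw [ha1, hγ1, zero_mul, zero_mul]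
        · rw [hconst a ha ha1, Pi.add_apply]
      · rw [hγ0 a ha, zero_mul, zero_mul]
    have h2 : Cfsg.classInner γ (χ + fun _ => c) = -1 + conj c := by
      rw [show (fun _ : L => c) = c • fun _ : L => (1 : ℂ) from funext fun _ => by simp,
        classInner_add_right, classInner_smul_right, hγ, classInner_sub_left, classInner_sub_left,
        hindχ, classInner_irr_self hχirr, classInner_indFun_one_one, hχone]
      ring
    rw [← hadj γ (isClassFunction_of_isGen hγgen) hγ0 hγ1, h1, h2] at hm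
    refine ⟨m + 1, ?_⟩
    have h3 : conj c = ((m + 1 : ℤ) : ℂ) := by push_cast; linear_combination hm
    rw [← Complex.conj_conj c, h3, map_intCast]
  -- the norm
  have hsumχ : ∑ a : L, χ a = 0 := by
    have h := card_mul_classInner χ (fun _ : L => (1 : ℂ))
    rw [hχone, mul_zero] at h
    simpa using h.symm
  have hsumsq : ∑ a : L, χ a * conj (χ a) = (e : ℂ) * Nat.card K := by
    rw [← card_mul_classInner, classInner_irr_self hχirr, mul_one, ← Subgroup.card_mul_index K,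
      Nat.cast_mul, mul_comm]
  have hnorm : (((∑ a : L with a ∈ K ∧ a ≠ 1, ‖f a‖ ^ 2 : ℝ)) : ℂ) =
      (e : ℂ) * Nat.card K + (c₀ : ℂ) ^ 2 * Nat.card K - ((e : ℂ) + c₀) ^ 2 := by
    have hterm : ∀ a ∈ Finset.univ.filter (fun a : L => a ∈ K ∧ a ≠ 1),
        ((‖f a‖ ^ 2 : ℝ) : ℂ) = (χ a + c₀) * (conj (χ a) + c₀) := by
      intro a ha
      obtain ⟨-, haK, ha1⟩ := Finset.mem_filter.1 ha
      rw [hconst a haK ha1, hc₀, Complex.ofReal_pow, ← Complex.mul_conj', map_add, map_intCast]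
    rw [Complex.ofReal_sum, Finset.sum_congr rfl hterm]
    have hsplit : ∑ a : L with a ∈ K ∧ a ≠ 1, (χ a + c₀) * (conj (χ a) + c₀) =
        (∑ a : L with a ∈ K, (χ a + c₀) * (conj (χ a) + c₀)) - ((e : ℂ) + c₀) ^ 2 := by
      rw [eq_sub_iff_add_eq, ← Finset.sum_erase_add (Finset.univ.filter fun a : L => a ∈ K) _
        (a := 1) (by simp), hχ1, map_natCast, ← sq]
      congr 1
      refine Finset.sum_congr ?_ fun _ _ => rfl
      ext a
      simp [and_comm]
    rw [hsplit]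
    congr 1
    have hK1 : ∀ (g : L → ℂ), (∀ a, a ∉ K → g a = 0) → ∑ a : L with a ∈ K, g a = ∑ a : L, g a :=
      fun g hg => Finset.sum_subset (Finset.filter_subset _ _) fun a _ ha =>
        hg a (by simpa using ha)
    simp only [add_mul, mul_add, Finset.sum_add_distrib, ← Finset.sum_mul, ← Finset.mul_sum]
    rw [hK1 (fun a => χ a * conj (χ a)) fun a ha => by simp [hχ0 a ha], hsumsq, hK1 χ hχ0,
      hsumχ, hK1 (fun a => conj (χ a)) fun a ha => by simp [hχ0 a ha], ← map_sum, hsumχ,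
      map_zero, Finset.sum_const, nsmul_eq_mul]
    have hcardK : (Finset.univ.filter fun a : L => a ∈ K).card = Nat.card K := by
      rw [Nat.card_eq_fintype_card, Fintype.card_subtype]
    rw [hcardK]
    ring
  have hreal : (∑ a : L with a ∈ K ∧ a ≠ 1, ‖f a‖ ^ 2 : ℝ) =
      (e : ℝ) * Nat.card K + (c₀ : ℝ) ^ 2 * Nat.card K - ((e : ℝ) + c₀) ^ 2 := by
    apply Complex.ofReal_injective
    rw [hnorm]
    push_cast
    ring
  refine ⟨{
    χ := χ, ψ := ψ, ψ' := ψ', α := χ - Cfsg.conjFun χ, c := c₀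
    gen_χ := isGen_of_irr hχirr
    χ_one := hχ1
    hψ := gen_norm_one hψg hψn
    hψ' := gen_norm_one (hgen _ (hsub _ hχS')) (by
      rw [hiso _ (hsub _ hχS') _ (hsub _ hχS'), classInner_irr_self hχcirr])
    hψ1 := sub_eq_zero.1 (by
      have := congrFun hdiff 1
      rwa [Pi.sub_apply, hτ1] at this)
    hψo := by
      rw [hψdef, hψ'def, hiso _ (hsub _ hχS) _ (hsub _ hχS'),
        classInner_irr_ne hχirr hχcirr hχcne.symm]
    hα := isClassFunction_sub (isClassFunction_of_isIrr hχirr) (isClassFunction_of_isIrr hχcirr)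
    hψd := hdiff
    gen_ψ := hψg
    norm_ψ := hψn
    avg_eq := fun a ha => by
      obtain ⟨h1, h2⟩ := (hmemA a).1 ha
      rw [← hfdef, hconst a h1 h2, hc₀]
    norm_eq := ?_ }⟩
  rw [finsum_mem_eq_toFinset_sum, ← hreal]
  refine Finset.sum_congr ?_ fun _ _ => rfl
  ext a
  simp [hmemA]

end CfsgLib.OddChar.TypeIBoundL
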