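import Cfsg.Agent.Lib.OddChar.TypeIBoundL

/-!
# The second subgroup in S1540

For a configuration `w` and the data of `ψ` for `w.L`:
* `apply_mul_x`, `apply_coset`: values of `ψ` on the cosets used by the Dade maps;
* `exists_coset_sum`: the sums of `ψ` over the cosets of the derived subgroup of `M_F`;
* `dvd_sub`: the congruence modulo `p`.
-/

set_option autoImplicit false

namespace CfsgLib.OddChar.TypeIBoundM

open CfsgLib.Char CfsgLib.CharNormal CfsgLib.OddChar.TypeIProps CfsgLib.OddChar.TypeIWitness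
open scoped ComplexConjugate Pointwise

universe u

variable {G : Type u} [Group G]

/-- Commuting `x ∉ kernel` and `h ≠ 1` in the kernel exclude a Frobenius complement. -/
theorem not_frobenius {M : Type u} [Group M] {E : Subgroup M} {F : Set M}
    (hE : Cfsg.IsFrobeniusComplement E) (hker : Cfsg.frobeniusKernel E = F) {x h : M}
    (hxF : x ∉ F) (hhF : h ∈ F) (hh1 : h ≠ 1) (hxh : x * h = h * x) : False := by
  rw [← hker] at hxF hhF
  simp only [Cfsg.frobeniusKernel, Set.mem_setOf_eq, not_or, not_forall, not_not] at hxF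
  obtain ⟨hx1, g, hg⟩ := hxF
  have hh : ∀ g : M, h ∉ MulAut.conj g • E := hhF.resolve_left hh1
  have hgh : g⁻¹ * h * g ∉ E := fun e => hh g (by
    rw [Subgroup.mem_pointwise_smul_iff_inv_smul_mem]
    simpa [mul_assoc] using e)
  have hgx : g⁻¹ * x * g ∈ E := by
    rw [Subgroup.mem_pointwise_smul_iff_inv_smul_mem] at hg
    simpa [mul_assoc] using hg
  have h1 : g⁻¹ * x * g ∈ E ⊓ (MulAut.conj (g⁻¹ * h * g) • E) := by
    refine Subgroup.mem_inf.2 ⟨hgx, ?_⟩
    rw [Subgroup.mem_pointwise_smul_iff_inv_smul_mem]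
    have e : (MulAut.conj (g⁻¹ * h * g))⁻¹ • (g⁻¹ * x * g) = g⁻¹ * x * g := by
      simp only [MulAut.smul_def, ← map_inv, MulAut.conj_apply]
      calc (g⁻¹ * h * g)⁻¹ * (g⁻¹ * x * g) * (g⁻¹ * h * g)⁻¹⁻¹
          = g⁻¹ * (h⁻¹ * (x * h)) * g := by group
        _ = g⁻¹ * x * g := by rw [hxh]; group
    rwa [e]
  rw [hE.2.2 _ hgh, Subgroup.mem_bot] at h1
  refine hx1 ?_
  calc x = g * (g⁻¹ * x * g) * g⁻¹ := by group
    _ = 1 := by rw [h1]; group

/-- The inclusion of `M_F` in `G`. -/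
noncomputable def incl (M : Subgroup G) : Cfsg.fittingHall M →* G :=
  M.subtype.comp (Cfsg.fittingHall M).subtype

theorem incl_injective (M : Subgroup G) : Function.Injective (incl M) :=
  M.subtype_injective.comp (Cfsg.fittingHall M).subtype_injective

theorem range_incl (M : Subgroup G) : (incl M).range = Cfsg.fittingHallOf M := by
  rw [incl, MonoidHom.range_comp, Subgroup.range_subtype]
  rfl

theorem map_commutator_incl (M : Subgroup G) :
    (commutator (Cfsg.fittingHall M)).map (incl M) =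
      ⁅Cfsg.fittingHallOf M, Cfsg.fittingHallOf M⁆ := by
  rw [commutator_def, Subgroup.map_commutator, ← MonoidHom.range_eq_map, range_incl]

theorem commutator_le_fittingHallOf (M : Subgroup G) :
    ⁅Cfsg.fittingHallOf M, Cfsg.fittingHallOf M⁆ ≤ Cfsg.fittingHallOf M :=
  Subgroup.commutator_le_self _

theorem conj_mem_commutator {M : Subgroup G} {m d : G} (hm : m ∈ M)
    (hd : d ∈ ⁅Cfsg.fittingHallOf M, Cfsg.fittingHallOf M⁆) :
    m * d * m⁻¹ ∈ ⁅Cfsg.fittingHallOf M, Cfsg.fittingHallOf M⁆ := by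
  have e : ⁅Cfsg.fittingHallOf M, Cfsg.fittingHallOf M⁆ =
      (⁅Cfsg.fittingHall M, Cfsg.fittingHall M⁆).map M.subtype :=
    (Subgroup.map_commutator _ _ M.subtype).symm
  rw [e] at hd ⊢
  obtain ⟨d', hd', rfl⟩ := hd
  refine ⟨(⟨m, hm⟩ : M) * d' * (⟨m, hm⟩ : M)⁻¹, ?_, by simp⟩
  haveI : (⁅Cfsg.fittingHall M, Cfsg.fittingHall M⁆).Normal := Subgroup.commutator_normal _ _
  exact Subgroup.Normal.conj_mem inferInstance _ hd' _

variable [Fintype G] (P : Props G) (w : Witness G)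

theorem h₀_ne : w.h₀ ≠ 1 := fun e => w.h₀_not (e ▸ one_mem _)

theorem x_pow : w.x ^ w.p = 1 := w.hA.2 w.x w.x_mem

include P

theorem x_not_mem : w.x ∉ Cfsg.fittingHallOf w.M := fun h => w.not_dvd (by
  have _ := P
  haveI := Fact.mk w.prime
  rw [← RankTwoLines.orderOf_eq w.hA w.x_mem w.x_ne]
  exact Subgroup.orderOf_dvd_natCard _ h)

theorem M_not_conj : ∀ g : G, w.M ≠ w.L.map (MulAut.conj g).toMonoidHom := by
  intro g hg
  have hF : Cfsg.fittingHallOf w.M =
      (Cfsg.fittingHallOf w.L).map (MulAut.conj g).toMonoidHom := by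
    rw [hg]; exact NotAllTypeI.fittingHallOf_map_conj w.L g
  refine x_not_mem P w ?_
  have hh : g⁻¹ * w.h₀ * g ∈ Cfsg.fittingHallOf w.L :=
    TypeIMeet.mem_map_conj_iff.1 (hF ▸ w.h₀_mem)
  have hx : g⁻¹ * w.x * g ∈ w.L := TypeIMeet.mem_map_conj_iff.1 (hg ▸ w.A_le w.x_mem)
  rw [hF, TypeIMeet.mem_map_conj_iff]
  refine w.frobL _ hh (fun e => h₀_ne w ?_) ⟨hx, Subgroup.mem_centralizer_singleton_iff.2 ?_⟩
  · rw [show w.h₀ = g * (g⁻¹ * w.h₀ * g) * g⁻¹ by group, e, mul_one, mul_inv_cancel]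
  · calc g⁻¹ * w.x * g * (g⁻¹ * w.h₀ * g) = g⁻¹ * (w.x * w.h₀) * g := by group
      _ = g⁻¹ * (w.h₀ * w.x) * g := by rw [w.h₀_comm]
      _ = g⁻¹ * w.h₀ * g * (g⁻¹ * w.x * g) := by group

theorem x_mem_typeA : w.x ∈ CfsgLib.OddLocal.S15.typeACore w.M :=
  (mem_typeA_iff w.hMI).2 ⟨w.A_le w.x_mem, w.x_ne, w.h₀, w.h₀_mem, h₀_ne w, w.h₀_comm⟩

variable [Fintype w.L] (d : TypeIBoundL.LData w.L)

/-- `ψ` is constant on the coset of `x` in the kernel of `M`. -/
theorem apply_mul_x {u : G} (hu : u ∈ Cfsg.fittingHallOf w.M) (hxu : w.x * u = u * w.x) :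
    d.ψ (w.x * u) = d.ψ w.x := by
  have := Fintype.ofFinite w.M
  rcases eq_or_ne u 1 with rfl | hu1
  · rw [mul_one]
  refine TypeIOrth.psi_coset P w.hL w.hLI w.frobL w.hM w.hMI (M_not_conj P w) d.hψ d.hψ' d.hψ1
    d.hψo d.hα d.hψd (x_mem_typeA P w) (x_not_mem P w) hu ?_
  refine (mem_typeA_iff w.hMI).2 ⟨mul_mem (w.A_le w.x_mem)
    (CfsgLib.OddLocal.fittingHallOf_le _ hu), fun e => ?_, u, hu, hu1, ?_⟩
  · refine x_not_mem P w ?_
    rw [show w.x = w.x * u * u⁻¹ by group, e, one_mul]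
    exact inv_mem hu
  · rw [mul_assoc, ← mul_assoc u w.x u, ← hxu, mul_assoc]

/-- `ψ` is constant on the cosets of the Dade set-up on `M_F`. -/
theorem apply_coset {h : G} (hh : h ∈ Cfsg.fittingHallOf w.M) (hh1 : h ≠ 1) {u : G}
    (hu : u ∈ Cfsg.supportR w.M h) : d.ψ (h * u) = d.ψ h := by
  by_cases hle : Subgroup.centralizer ({h} : Set G) ≤ w.M
  · rw [supportR_eq_bot hle, Subgroup.mem_bot] at hu
    rw [hu, mul_one]
  have hhA := mem_typeA_of_mem_fitting w.hMI hh hh1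
  obtain ⟨N, ⟨hN, hhN⟩, -⟩ := ((P.tame w.M w.hM).1 h hhA hle).2
  obtain ⟨-, ⟨hhNA, hhN1⟩, hI | hII, hIIf⟩ := (P.tame w.M w.hM).2 h hhA hle N hN hhN
  swap
  · obtain ⟨E, hE, hker⟩ := hIIf hII
    exact (not_frobenius hE hker (x := ⟨w.x, w.A_le w.x_mem⟩)
      (h := ⟨w.h₀, CfsgLib.OddLocal.fittingHallOf_le _ w.h₀_mem⟩)
      (fun e => x_not_mem P w (TypeICoherence.mem_fittingHallOf_iff.2 e))
      (TypeICoherence.mem_fittingHallOf_iff.1 w.h₀_mem)
      (fun e => h₀_ne w (congrArg Subtype.val e)) (Subtype.ext w.h₀_comm)).elim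
  have hhNF : h ∉ Cfsg.fittingHallOf N := fun e => hhN1 (by
    rw [Cfsg.typeA1, (P.typeI_core N hN hI).2]
    exact ⟨e, hh1⟩)
  have hne : ∀ g : G, N ≠ w.L.map (MulAut.conj g).toMonoidHom := by
    intro g hg
    obtain ⟨hhN', -, y, hy, hy1, hhy⟩ := (mem_typeA_iff hI).1 hhNA
    have hF : Cfsg.fittingHallOf N =
        (Cfsg.fittingHallOf w.L).map (MulAut.conj g).toMonoidHom := by
      rw [hg]; exact NotAllTypeI.fittingHallOf_map_conj w.L g
    refine hhNF ?_
    rw [hF, TypeIMeet.mem_map_conj_iff]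
    refine w.frobL (g⁻¹ * y * g) (TypeIMeet.mem_map_conj_iff.1 (hF ▸ hy)) (fun e => hy1 ?_)
      ⟨TypeIMeet.mem_map_conj_iff.1 (hg ▸ hhN'), Subgroup.mem_centralizer_singleton_iff.2 ?_⟩
    · rw [show y = g * (g⁻¹ * y * g) * g⁻¹ by group, e, mul_one, mul_inv_cancel]
    · calc g⁻¹ * h * g * (g⁻¹ * y * g) = g⁻¹ * (h * y) * g := by group
        _ = g⁻¹ * (y * h) * g := by rw [hhy]
        _ = g⁻¹ * y * g * (g⁻¹ * h * g) := by group
  rw [supportR_eq P w.hM hhA hle hN hhN] at hu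
  obtain ⟨huN, huc⟩ := Subgroup.mem_inf.1 hu
  rcases eq_or_ne u 1 with rfl | hu1
  · rw [mul_one]
  have hc := Subgroup.mem_centralizer_singleton_iff.1 huc
  have := Fintype.ofFinite N
  refine TypeIOrth.psi_coset P w.hL w.hLI w.frobL hN hI hne d.hψ d.hψ' d.hψ1 d.hψo d.hα d.hψd
    hhNA hhNF huN ((mem_typeA_iff hI).2 ⟨mul_mem ((mem_typeA_iff hI).1 hhNA).1
      (CfsgLib.OddLocal.fittingHallOf_le _ huN), fun e => ?_, u, huN, hu1, ?_⟩)
  · refine hhNF ?_
    rw [show h = h * u * u⁻¹ by group, e, one_mul]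
    exact inv_mem huN
  · rw [mul_assoc, ← mul_assoc u h u, hc, mul_assoc]

/-- The averaged function on the elements of `M_F`. -/
theorem avg_eq {a : w.M} (ha : (a : G) ∈ Cfsg.fittingHallOf w.M) (ha1 : (a : G) ≠ 1) {B : Set G}
    (hB : (a : G) ∈ B) : TypeIOrth.avg B w.M (Cfsg.supportR w.M) d.ψ a = d.ψ a :=
  TypeIOrth.avg_eq_of_forall hB fun _ hu => apply_coset P w d ha ha1 hu

open Classical in
/-- The sums over the cosets of the derived subgroup of `M_F`. -/
theorem exists_coset_sum : ∃ c : ℤ, ∀ h ∈ Cfsg.fittingHallOf w.M,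
    h ∉ ⁅Cfsg.fittingHallOf w.M, Cfsg.fittingHallOf w.M⁆ →
    ∑ d' : ↥(⁅Cfsg.fittingHallOf w.M, Cfsg.fittingHallOf w.M⁆), d.ψ (h * d') =
      (Nat.card ↥(⁅Cfsg.fittingHallOf w.M, Cfsg.fittingHallOf w.M⁆) : ℂ) * c := by
  have := Fintype.ofFinite w.M
  set M := w.M with hMdef
  set K := Cfsg.fittingHall M with hKdef
  obtain ⟨U, -, hU, ⟨U₁, hU₁, -, hc, hcent⟩, -⟩ := w.hMI.1.2.2.2.2
  have hdata : TypeFChars.Data (Cfsg.fittingHall M) U U₁ := ⟨hU,
    CfsgLib.OddLocal.fittingHall_spec.2.2, hU₁,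
    fun a ha b hb => congrArg Subtype.val (hc.is_comm.comm (⟨a, ha⟩ : U₁) ⟨b, hb⟩), hcent⟩
  have hD := P.dade M w.hM
  have hψcl : Cfsg.IsClassFunction G d.ψ := isClassFunction_of_isGen d.gen_ψ
  have hfgen : Cfsg.IsGeneralizedCharacter K (fun k => d.ψ (incl M k)) :=
    isGen_comp d.gen_ψ (incl M)
  have hoddM : Odd (Nat.card M) := w.hMI.1.2.1
  have hpair : ∀ θ θ' : K → ℂ, Cfsg.IsIrrCharacter K θ → Cfsg.IsIrrCharacter K θ' →
      θ 1 = 1 → θ' 1 = 1 → θ ≠ (fun _ => 1) → θ' ≠ (fun _ => 1) →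
      Cfsg.classInner (fun k => d.ψ (incl M k)) θ =
        Cfsg.classInner (fun k => d.ψ (incl M k)) θ' := by
    intro θ θ' hθ hθ' h1 h1' hne hne'
    obtain ⟨C, hC, hind, -⟩ := TypeFChars.exists_cons hdata hθ hne
    obtain ⟨C', hC', hind', -⟩ := TypeFChars.exists_cons hdata hθ' hne'
    have hnt : ∀ (η : K → ℂ), Cfsg.IsIrrCharacter K η → η ≠ (fun _ => 1) →
        ∀ (C : Finset (M → ℂ)), (∀ φ ∈ C, Cfsg.IsIrrCharacter M φ) →
        Cfsg.indFun K η = ∑ φ ∈ C, φ → ∀ φ ∈ C, TypeIOrth.NotTriv M φ := by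
      intro η hη hη1 C hC hind φ hφ
      refine ⟨hC φ hφ, ?_⟩
      by_contra htriv
      push Not at htriv
      have h : Cfsg.classInner (Cfsg.indFun K η) φ = 1 := by
        rw [hind, TypeFChars.classInner_cons hC (hC φ hφ), if_pos hφ]
      rw [frobenius_reciprocity K η (isClassFunction_of_isIrr (hC φ hφ)),
        show (fun k : K => φ k) = φ 1 • fun _ => (1 : ℂ) from
          funext fun k => by simpa using htriv k k.2,
        classInner_smul_right, classInner_irr_ne hη isIrrCharacter_one hη1, mul_zero] at h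
      exact zero_ne_one h
    set β := Cfsg.indFun K θ - Cfsg.indFun K θ' with hβ
    have hβeq : β = ∑ φ ∈ C \ C', φ - ∑ φ ∈ C' \ C, φ := by
      rw [hβ, hind, hind', Finset.sum_sdiff_sub_sum_sdiff]
    have hA' : ∀ φ ∈ C \ C', TypeIOrth.NotTriv M φ := fun φ hφ =>
      hnt θ hθ hne C hC hind φ (Finset.mem_sdiff.1 hφ).1
    have hB' : ∀ φ ∈ C' \ C, TypeIOrth.NotTriv M φ := fun φ hφ =>
      hnt θ' hθ' hne' C' hC' hind' φ (Finset.mem_sdiff.1 hφ).1
    have hβ1 : β 1 = 0 := by rw [hβ, Pi.sub_apply, indFun_one, indFun_one, h1, h1', sub_self]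
    have hdeg : ∑ φ ∈ C \ C', φ 1 = ∑ φ ∈ C' \ C, φ 1 := by
      rw [hβeq] at hβ1
      simpa [sub_eq_zero, Finset.sum_apply] using hβ1
    have h0 := TypeIOrth.dade_inner_psi_eq_zero P w.hL w.hLI w.frobL w.hM w.hMI (M_not_conj P w)
      d.hψ d.hψ' d.hψ1 d.hψo d.hα d.hψd (C \ C') (C' \ C) hA' hB'
      (fun φ hφ hφ' => (Finset.mem_sdiff.1 hφ).2 (Finset.mem_sdiff.1 hφ').1)
      (fun φ hφ hφ' => TypeIBoundPre.conj_notMem_cons K hoddM hθ hne hC hind
        (Finset.mem_sdiff.1 hφ).1 (Finset.mem_sdiff.1 hφ').1)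
      (fun φ hφ hφ' => TypeIBoundPre.conj_notMem_cons K hoddM hθ' hne' hC' hind'
        (Finset.mem_sdiff.1 hφ).1 (Finset.mem_sdiff.1 hφ').1)
      hdeg
    have hoff : ∀ a : M, a ∉ K → β a = 0 := by
      intro a ha
      have : ∀ η : K → ℂ, Cfsg.indFun K η a = 0 := fun η => indFun_eq_zero_of_forall K fun y hy =>
        absurd (by simpa [mul_assoc] using (inferInstance : K.Normal).conj_mem _ hy y) ha
      rw [hβ, Pi.sub_apply, this, this, sub_self]
    have hβcl : Cfsg.IsClassFunction M β :=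
      isClassFunction_sub (isClassFunction_indFun K θ) (isClassFunction_indFun K θ')
    rw [← hβeq, TypeIOrth.classInner_dade hD hβcl (fun a ha => by
      by_cases hak : a ∈ K
      · have : a = 1 := by
          by_contra h
          exact ha (mem_typeA_of_mem_fitting w.hMI (TypeICoherence.mem_fittingHallOf_iff.2 hak)
            fun e => h (Subtype.ext e))
        rw [this, hβ1]
      · exact hoff a hak) hψcl] at h0
    have h2 : Cfsg.classInner β (TypeIOrth.avg (CfsgLib.OddLocal.S15.typeACore M) M (Cfsg.supportR M) d.ψ) =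
        Cfsg.classInner β (fun a : M => d.ψ a) := by
      rw [classInner_def, classInner_def]
      congr 1
      refine Finset.sum_congr rfl fun a _ => ?_
      by_cases hak : a ∈ K
      · by_cases ha1 : a = 1
        · rw [ha1, hβ1, zero_mul, zero_mul]
        · have hF := TypeICoherence.mem_fittingHallOf_iff.2 hak
          have h1 : (a : G) ≠ 1 := fun e => ha1 (Subtype.ext e)
          rw [avg_eq P w d hF h1 (mem_typeA_of_mem_fitting w.hMI hF h1)]
      · rw [hoff a hak, zero_mul, zero_mul]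
    have hres : Cfsg.IsClassFunction M (fun a : M => d.ψ a) := fun g k => hψcl g k
    rw [h2, hβ, classInner_sub_left, frobenius_reciprocity K θ hres,
      frobenius_reciprocity K θ' hres, sub_eq_zero] at h0
    rw [← classInner_conj_symm θ, ← classInner_conj_symm θ']
    exact congrArg conj h0
  obtain ⟨c, hc⟩ := TypeIBoundPre.sum_coset_of_equal hfgen hpair
  refine ⟨c, fun h hh hhD => ?_⟩
  obtain ⟨h', hh', rfl⟩ := hh
  set k : K := ⟨h', hh'⟩ with hk
  have hk' : k ∉ commutator K := fun e => hhD (map_commutator_incl M ▸ ⟨k, e, rfl⟩)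
  have h3 := hc k hk'
  rw [← map_commutator_incl M, Subgroup.card_map_of_injective (incl_injective M), ← h3]
  symm
  refine Fintype.sum_equiv
    ((commutator K).equivMapOfInjective (incl M) (incl_injective M)).toEquiv _ _ fun x => ?_
  simp only [map_mul, MulEquiv.toEquiv_eq_coe, MulEquiv.coe_toEquiv,
    Subgroup.coe_equivMapOfInjective_apply]
  rfl

open Classical in
/-- The congruence modulo `p`. -/
theorem dvd_sub {c : ℤ} (hc : ∀ h ∈ Cfsg.fittingHallOf w.M,
    h ∉ ⁅Cfsg.fittingHallOf w.M, Cfsg.fittingHallOf w.M⁆ →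
    ∑ d' : ↥(⁅Cfsg.fittingHallOf w.M, Cfsg.fittingHallOf w.M⁆), d.ψ (h * d') =
      (Nat.card ↥(⁅Cfsg.fittingHallOf w.M, Cfsg.fittingHallOf w.M⁆) : ℂ) * c) :
    (w.p : ℤ) ∣ c - (d.c + (Cfsg.fittingHall w.L).index) := by
  haveI := Fact.mk w.prime
  set H := Cfsg.fittingHallOf w.M with hH
  set D := ⁅H, H⁆ with hDdef
  set C := D ⊓ Subgroup.centralizer ({w.x} : Set G) with hCdef
  set e := (Cfsg.fittingHall w.L).index with he
  have hxM : w.x ∈ w.M := w.A_le w.x_mem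
  have hψcl : Cfsg.IsClassFunction G d.ψ := isClassFunction_of_isGen d.gen_ψ
  have hint : ∀ g, IsIntegral ℤ (d.ψ g) := PowCongr.isIntegral_gen d.gen_ψ
  obtain ⟨h1, h2⟩ := TypeIBoundPre.congr_fixed (x_pow w) D
    (fun _ hd => conj_mem_commutator hxM hd) (fun g => d.ψ (w.h₀ * g)) (fun _ => hint _)
    (fun g _ => by
      rw [← hψcl (w.h₀ * g) w.x]
      congr 1
      rw [← mul_assoc w.x w.h₀ g, w.h₀_comm]
      group)
  rw [hc w.h₀ w.h₀_mem w.h₀_not] at h1
  -- the value at `x`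
  set xL : w.L := ⟨w.x, CfsgLib.OddLocal.fittingHallOf_le _ (w.A_le_L w.x_mem)⟩ with hxL
  have hxA : (xL : G) ∈ CfsgLib.OddLocal.S15.typeACore w.L :=
    mem_typeA_of_mem_fitting w.hLI (w.A_le_L w.x_mem) w.x_ne
  have hR : Cfsg.supportR w.L w.x =
      Cfsg.fittingHallOf w.M ⊓ Subgroup.centralizer ({w.x} : Set G) :=
    supportR_eq P w.hL hxA w.not_le w.hM w.cent_le
  have hψx : d.ψ w.x = d.χ xL + d.c := by
    rw [← d.avg_eq xL hxA]
    refine (TypeIOrth.avg_eq_of_forall hxA fun u hu => ?_).symm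
    rw [hR] at hu
    obtain ⟨huH, huc⟩ := Subgroup.mem_inf.1 hu
    exact apply_mul_x P w d huH (Subgroup.mem_centralizer_singleton_iff.1 huc).symm
  have hgen : Cfsg.IsGeneralizedCharacter w.L (d.χ + (d.c : ℂ) • fun _ => 1) :=
    isGen_add d.gen_χ (isGen_intCast_smul isGen_one _)
  have hxp : CongrP w.p (d.ψ w.x ^ w.p) (((d.c + e : ℤ) : ℂ) ^ w.p) := by
    have h := PowCongr.congr_mul_of_pow_eq_one (p := w.p) hgen (x := xL) (y := 1)
      (Commute.one_right _) (Subtype.ext (x_pow w))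
    simp only [mul_one, Pi.add_apply, Pi.smul_apply, smul_eq_mul] at h
    rw [d.χ_one] at h
    rw [hψx]
    convert h using 2
    push_cast
    ring
  have hterm : ∀ u : C, CongrP w.p (d.ψ (w.h₀ * u) ^ w.p) (((d.c + e : ℤ) : ℂ) ^ w.p) := by
    intro u
    obtain ⟨huD, huc⟩ := Subgroup.mem_inf.1 u.2
    have huH : (u : G) ∈ H := commutator_le_fittingHallOf _ huD
    have hcomm : Commute w.x (w.h₀ * (u : G)) := Commute.mul_right
      w.h₀_comm (Subgroup.mem_centralizer_singleton_iff.1 huc).symm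
    have h := PowCongr.congr_mul_of_pow_eq_one (p := w.p) d.gen_ψ hcomm (x_pow w)
    rw [apply_mul_x P w d (mul_mem w.h₀_mem huH) hcomm.eq] at h
    exact h.symm.trans hxp
  have hpow : ∀ {a b : ℂ}, IsIntegral ℤ a → IsIntegral ℤ b → CongrP w.p a b → ∀ n : ℕ,
      CongrP w.p (a ^ n) (b ^ n) := by
    intro a b ha hb hab n
    induction n with
    | zero => exact .refl _
    | succ n ih =>
      rw [pow_succ, pow_succ]
      exact (ih.mul_right ha).trans (hab.mul_left (hb.pow n))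
  have h3 : CongrP w.p ((((Nat.card D : ℤ) * c : ℤ) : ℂ) ^ w.p)
      ((((Nat.card C : ℤ) * (d.c + e) ^ w.p : ℤ)) : ℂ) := by
    have hi : IsIntegral ℤ ((((Nat.card D : ℤ) * c : ℤ)) : ℂ) := isIntegral_algebraMap
    refine ((hpow hi (IsIntegral.sum _ fun u _ => hint _) (by push_cast; exact h1) w.p).trans
      (PowCongr.congr_sum_pow _ fun u _ => hint _)).trans ?_
    refine (CongrP.sum fun u _ => hterm u).trans ?_
    rw [Finset.sum_const, Finset.card_univ, nsmul_eq_mul, ← Nat.card_eq_fintype_card]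
    push_cast
    exact .refl _
  have h4 : CongrP w.p ((((Nat.card D : ℤ) * c) ^ w.p : ℤ) : ℂ)
      ((((Nat.card D : ℤ) * (d.c + e) ^ w.p : ℤ)) : ℂ) := by
    push_cast at h3 ⊢
    exact h3.trans (h2.symm.mul_right (IsIntegral.pow ((isIntegral_algebraMap (R := ℤ) (x := d.c)).add
      (isIntegral_algebraMap (R := ℤ) (x := (e : ℤ)))) _) |>.trans (.refl _))
  have h5 := h4.int_dvd
  rw [← ZMod.intCast_zmod_eq_zero_iff_dvd] at h5 ⊢
  push_cast at h5 ⊢
  simp only [ZMod.pow_card] at h5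
  have hD0 : (Nat.card D : ZMod w.p) ≠ 0 := fun h => w.not_dvd
    (((ZMod.natCast_eq_zero_iff _ _).1 h).trans
      (Subgroup.card_dvd_of_le (commutator_le_fittingHallOf w.M)))
  rw [← mul_sub] at h5
  exact (mul_eq_zero.1 h5).resolve_left hD0

end CfsgLib.OddChar.TypeIBoundM
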