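import Cfsg.Agent.Lib.OddChar.FrobeniusKernelChars
import Cfsg.Agent.Lib.OddChar.Dade
import Cfsg.Agent.Lib.OddLocal.Basic
import Cfsg.Agent.S1500
import Cfsg.Agent.Lib.OddLocal.TypeICore
import Cfsg.Prelude.Def_OddOrderLocal

/-!
# Coherence for a Frobenius maximal subgroup of Type I

* `dadeA`, `sibleyTI`: the two statements used as hypotheses (S1537 for `A(M)`, S1524);
* `typeA_eq`: for a Frobenius `L` of Type I, `A(L)` is the set of non-identity elements of `L_F`;
* `coherent_typeI`: the statement S1542 from these hypotheses.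
-/

set_option autoImplicit false

namespace CfsgLib.OddChar.TypeICoherence

open CfsgLib.Char CfsgLib.CharNormal

universe u

/-- The Dade set-up of S1537 for the sets `A(M)`. -/
def DadeAProp (G : Type u) [Group G] : Prop :=
  ∀ M : Subgroup G, IsCoatom M → Cfsg.DadeHypothesis (CfsgLib.OddLocal.S15.typeACore M) M (Cfsg.supportR M)

/-- Sibley's coherence theorem for TI kernels, as in S1524. -/
def SibleyTIProp (G : Type u) [Group G] [Fintype G] : Prop :=
  ∀ (H L W₁ : Subgroup G) [Fintype L], Odd (Nat.card L) → H ≤ L → W₁ ≤ L → H ≠ ⊥ → W₁ ≠ ⊥ →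
    Group.IsNilpotent H → (∀ x ∈ L, ∀ h ∈ H, x * h * x⁻¹ ∈ H) → H ⊓ W₁ = ⊥ → H ⊔ W₁ = L →
    (∀ w ∈ W₁, w ≠ 1 → ∀ h ∈ H, w * h = h * w → h = 1) → Cfsg.IsTISubset (H : Set G) →
    Subgroup.normalizer (H : Set G) = L →
    Cfsg.IsCoherent (Cfsg.inducedIrrAbove (H.subgroupOf L) ⊥) {1}ᶜ
      (fun α : L → ℂ => Cfsg.indFun L α)

variable {G : Type u} [Group G]

theorem mem_fittingHallOf_iff {L : Subgroup G} {x : L} :
    (x : G) ∈ Cfsg.fittingHallOf L ↔ x ∈ Cfsg.fittingHall L := by
  unfold Cfsg.fittingHallOf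
  exact Subgroup.mem_map_iff_mem L.subtype_injective

theorem centralizer_le_fittingHall {L : Subgroup G}
    (hfrob : ∀ x ∈ Cfsg.fittingHallOf L, x ≠ 1 →
      L ⊓ Subgroup.centralizer ({x} : Set G) ≤ Cfsg.fittingHallOf L) :
    ∀ k ∈ Cfsg.fittingHall L, k ≠ 1 →
      Subgroup.centralizer ({k} : Set L) ≤ Cfsg.fittingHall L := by
  intro k hk hk1 y hy
  refine mem_fittingHallOf_iff.mp (hfrob k (mem_fittingHallOf_iff.mpr hk)
    (fun e => hk1 (Subtype.ext e)) ⟨y.2, ?_⟩)
  exact Subgroup.mem_centralizer_singleton_iff.mpr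
    (congrArg Subtype.val (Subgroup.mem_centralizer_singleton_iff.mp hy))

/-- For a Frobenius subgroup of Type I the set `A(L)` is `L_F` without the identity. -/
theorem typeA_eq {L : Subgroup G} (hI : CfsgLib.OddLocal.S15.IsTypeICore L)
    (hfrob : ∀ x ∈ Cfsg.fittingHallOf L, x ≠ 1 →
      L ⊓ Subgroup.centralizer ({x} : Set G) ≤ Cfsg.fittingHallOf L) :
    CfsgLib.OddLocal.S15.typeACore L = (Cfsg.fittingHallOf L : Set G) \ {1} := by
  ext a
  simp only [CfsgLib.OddLocal.S15.typeACore, if_pos hI, Set.mem_setOf_eq, Set.mem_sdiff, SetLike.mem_coe,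
    Set.mem_singleton_iff]
  refine ⟨fun ⟨haL, ha1, x, hx, hx1, hc⟩ => ⟨hfrob x hx hx1 ⟨haL, ?_⟩, ha1⟩,
    fun ⟨ha, ha1⟩ => ⟨Subgroup.map_subtype_le _ ha, ha1, a, ha, ha1, rfl⟩⟩
  exact Subgroup.mem_centralizer_singleton_iff.mpr hc

/-- The normaliser of `L_F` is `L`. -/
theorem normalizer_fittingHallOf [Finite G] (hG : Cfsg.IsMinSimpleOddOrder G) {L : Subgroup G}
    (hL : IsCoatom L) (hne : Cfsg.fittingHallOf L ≠ ⊥) :
    Subgroup.normalizer (Cfsg.fittingHallOf L : Set G) = L := by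
  have hn : ((Cfsg.fittingHallOf L).subgroupOf L).Normal := by
    rw [show (Cfsg.fittingHallOf L).subgroupOf L = Cfsg.fittingHall L from
      Subgroup.comap_map_eq_self_of_injective L.subtype_injective _]
    infer_instance
  have hle : L ≤ Subgroup.normalizer (Cfsg.fittingHallOf L : Set G) :=
    (Subgroup.normal_subgroupOf_iff_le_normalizer (Subgroup.map_subtype_le _)).mp hn
  rcases hL.le_iff.mp hle with h | h
  · haveI := hG.2.1
    rcases (IsSimpleGroup.eq_bot_or_eq_top_of_normal _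
      (Subgroup.normalizer_eq_top_iff.mp h)) with h' | h'
    · exact absurd h' hne
    · exact absurd (top_le_iff.mp (h' ▸ Subgroup.map_subtype_le _)) hL.1
  · exact h

variable [Fintype G] (L : Subgroup G) [Fintype L]

/-- The conclusion of S1542 from S1537 and S1524. -/
theorem coherent_typeI (hD : DadeAProp G) (hTI : SibleyTIProp G)
    (hG : Cfsg.IsMinSimpleOddOrder G) (hL : IsCoatom L) (hI : CfsgLib.OddLocal.S15.IsTypeICore L)
    (hfrob : ∀ x ∈ Cfsg.fittingHallOf L, x ≠ 1 →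
      L ⊓ Subgroup.centralizer ({x} : Set G) ≤ Cfsg.fittingHallOf L) :
    (∀ χ ∈ Cfsg.inducedIrrAbove (Cfsg.fittingHall L) ⊥, Cfsg.IsIrrCharacter L χ) ∧
      Cfsg.IsCoherent (Cfsg.inducedIrrAbove (Cfsg.fittingHall L) ⊥) {1}ᶜ
        (Cfsg.dadeIsometry (CfsgLib.OddLocal.S15.typeACore L) L (Cfsg.supportR L)) := by
  classical
  set K := Cfsg.fittingHall L with hK
  have hC := centralizer_le_fittingHall hfrob
  refine ⟨fun χ h => FrobeniusKernelChars.isIrr_of_mem K hC h, ?_⟩
  have hodd : Odd (Nat.card L) := hI.1.2.1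
  have hK1 : K ≠ ⊥ := hI.1.2.2.1
  have hKtop : K < ⊤ := lt_top_iff_ne_top.mpr hI.1.2.2.2.1
  have hnil : Group.IsNilpotent K := CfsgLib.OddLocal.fittingHall_spec.2.1
  have hAeq := typeA_eq hI hfrob
  have hD' := hD L hL
  set τ : (L → ℂ) → G → ℂ := Cfsg.dadeIsometry (CfsgLib.OddLocal.S15.typeACore L) L (Cfsg.supportR L) with hτdef
  set S := Cfsg.inducedIrrAbove K ⊥
  have hgen : ∀ α ∈ Cfsg.zspan S, Cfsg.IsGeneralizedCharacter L α := fun α hα =>
    FrobeniusKernelChars.isGen_zspan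
      (fun χ h => isCharacter_of_isIrr (FrobeniusKernelChars.isIrr_of_mem K hC h)) hα
  have hsupp : ∀ α ∈ Cfsg.zspanOn S {1}ᶜ, ∀ x : L, (x : G) ∉ CfsgLib.OddLocal.S15.typeACore L → α x = 0 := by
    intro α hα x hx
    by_cases hxK : x ∈ K
    · have hx1 : x = 1 := by
        by_contra h
        exact hx (hAeq ▸ ⟨mem_fittingHallOf_iff.mpr hxK, fun e => h (Subtype.ext e)⟩)
      exact hα.2 x (by simp [hx1])
    · exact FrobeniusKernelChars.zspan_apply_eq_zero K ⊥ hα.1 hxK
  have hlin : Cfsg.IsLinearIsometryOn (Cfsg.zspanOn S {1}ᶜ) τ := by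
    refine ⟨fun α _ β _ => funext fun g => ?_, fun α _ n => funext fun g => ?_,
      fun α hα β hβ => ?_, fun α hα => ?_⟩
    · simp only [τ, Cfsg.dadeIsometry, Pi.add_apply]
      split_ifs <;> simp
    · simp only [τ, Cfsg.dadeIsometry, Pi.smul_apply]
      split_ifs <;> simp
    · exact (Cfsg.Agent.S1500.result _ L _ hD' α
        (isClassFunction_of_isGen (hgen α hα.1)) (hsupp α hα)).1 β
        (isClassFunction_of_isGen (hgen β hβ.1)) (hsupp β hβ)
    · exact CfsgLib.OddChar.Dade.isGen_dade hD' (hgen α hα.1) (hsupp α hα)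
  have hτ1 : ∀ α ∈ Cfsg.zspanOn S {1}ᶜ, τ α 1 = 0 := by
    intro α _
    refine CfsgLib.OddChar.Dade.dade_apply_none ?_
    rintro ⟨a, ha, x, v, hv, hx⟩
    rw [mul_one, mul_inv_cancel] at hx
    have hvL : v ∈ L := by
      rw [eq_inv_of_mul_eq_one_right hx.symm]; exact inv_mem a.2
    rw [CfsgLib.OddChar.Dade.eq_one_of_mem hD' ha hv hvL, mul_one] at hx
    exact hD'.one_not_mem (hx ▸ ha)
  have hKcard : ∀ p : ℕ, p.Prime → p ∣ Nat.card K → p ∣ Nat.card (Cfsg.fittingHallOf L) :=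
    fun p _ h => (CfsgLib.OddLocal.card_fittingHallOf L).symm ▸ h
  rcases hI.2 with hti | ⟨hab, -, -⟩ | ⟨hexp, -⟩
  · -- the TI case
    obtain ⟨U, hU1, hU, -⟩ := hI.1.2.2.2.2
    set H := Cfsg.fittingHallOf L with hH
    set W := U.map L.subtype with hW
    have hHn := normalizer_fittingHallOf hG hL (L := L)
      (fun e => hK1 ((Subgroup.map_eq_bot_iff_of_injective _ L.subtype_injective).mp e))
    have hdec := hTI H L W hodd (Subgroup.map_subtype_le _) (Subgroup.map_subtype_le _)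
      (fun e => hK1 ((Subgroup.map_eq_bot_iff_of_injective _ L.subtype_injective).mp e))
      (fun e => hU1 ((Subgroup.map_eq_bot_iff_of_injective _ L.subtype_injective).mp e))
      (CfsgLib.Cores.isNilpotent_map hnil _)
      (fun x hx h hh => (Subgroup.mem_normalizer_iff.mp (hHn.symm ▸ hx :) h).mp hh)
      (by
        rw [hH, hW, Cfsg.fittingHallOf, ← Subgroup.map_inf _ _ _ L.subtype_injective,
          hU.disjoint.eq_bot, Subgroup.map_bot])
      (by
        rw [hH, hW, Cfsg.fittingHallOf, ← Subgroup.map_sup, hU.sup_eq_top,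
          ← MonoidHom.range_eq_map, Subgroup.range_subtype])
      (fun w hw hw1 h hh hc => by
        by_contra hh1
        obtain ⟨w', hw', rfl⟩ := hw
        have h1 : w' ∈ K := mem_fittingHallOf_iff.mp (hfrob h hh hh1
          ⟨w'.2, Subgroup.mem_centralizer_singleton_iff.mpr hc⟩)
        have h2 : w' ∈ K ⊓ U := ⟨h1, hw'⟩
        rw [hU.disjoint.eq_bot, Subgroup.mem_bot] at h2
        exact hw1 (by simp [h2]))
      hti hHn
    have hHK : H.subgroupOf L = K := Subgroup.comap_map_eq_self_of_injective L.subtype_injective _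
    rw [hHK] at hdec
    obtain ⟨hα, τ₁, hτ₁, hagree⟩ := hdec
    refine ⟨hα, τ₁, hτ₁, fun α hα => ?_⟩
    rw [hagree α hα]
    have hcl := isClassFunction_of_isGen (hgen α hα.1)
    refine classFun_ext (isClassFunction_indFun L α)
      (CfsgLib.OddChar.Dade.isClassFunction_dade hD' hcl) fun χ hχ => ?_
    have hR : ∀ a : L, (a : G) ∈ CfsgLib.OddLocal.S15.typeACore L → Cfsg.supportR L (a : G) = ⊥ := by
      intro a ha
      rw [Cfsg.supportR, dif_neg]
      rintro ⟨hnle, -⟩
      refine hnle fun g hg => ?_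
      rw [hAeq] at ha
      rw [← hHn]
      by_contra hgN
      refine ha.2 (hti g hgN (a : G) ha.1 ?_)
      rw [Subgroup.mem_centralizer_singleton_iff.mp hg, mul_inv_cancel_right]
      exact ha.1
    have hadj := (Cfsg.Agent.S1500.result _ L _ hD' α hcl (hsupp α hα)).2 χ (fun a : L => χ a)
      (isClassFunction_of_isIrr hχ) (fun a ha => by
        rw [hR a ha]
        simp [finsum_mem_singleton])
    rw [frobenius_reciprocity L α (isClassFunction_of_isIrr hχ)]
    exact hadj.symm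
  · -- abelian kernel
    refine FrobeniusKernelChars.coherent_frobenius K hC hK1 hKtop hnil hodd τ hlin hτ1
      (Or.inr (Or.inl ?_))
    rw [Subgroup.commutator_eq_bot_iff_le_centralizer]
    intro x hx
    rw [Subgroup.mem_centralizer_iff]
    intro y hy
    exact Subtype.ext (congrArg (fun z : Cfsg.fittingHallOf L => (z : G)) (hab.is_comm.comm
      (⟨(y : G), mem_fittingHallOf_iff.mpr hy⟩ : Cfsg.fittingHallOf L)
      ⟨(x : G), mem_fittingHallOf_iff.mpr hx⟩))
  · -- the exponent condition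
    refine FrobeniusKernelChars.coherent_frobenius K hC hK1 hKtop hnil hodd τ hlin hτ1 ?_
    by_cases hpp : ∃ p m : ℕ, p.Prime ∧ Nat.card K = p ^ m
    · obtain ⟨p, m, hp, hm⟩ := hpp
      have hpK : p ∣ Nat.card K := by
        rw [hm]
        refine dvd_pow_self p fun e => hK1 ?_
        rw [← Subgroup.card_eq_one, hm, e, pow_zero]
      exact Or.inr (Or.inr ⟨p, m, hp, hm,
        FrobeniusKernelChars.index_dvd_of_exponent_dvd K hC hK1 hodd
          (hexp p hp (hKcard p hp hpK))⟩)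
    · exact Or.inl hpp

end CfsgLib.OddChar.TypeICoherence
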