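import Cfsg.Agent.Lib.OddChar.TypeIProps
import Cfsg.Agent.Lib.OddChar.Coset
import Cfsg.Agent.Lib.OddChar.Dade
import Cfsg.Agent.Lib.Char.Induced

/-!
# The supports of two maximal subgroups of Type I

For `L` Frobenius of Type I and `N` of Type I, not conjugate to `L`:
* `meet_data`: an element of `A(N)` in the support of `L`;
* `isCoatom_map_conj`, `not_conj_symm`;
* `orth`: the Dade images of suitable functions on `L` and on `N` are orthogonal.
-/

set_option autoImplicit false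

namespace CfsgLib.OddChar.TypeIMeet

open CfsgLib.Char CfsgLib.OddChar.TypeIProps
open scoped ComplexConjugate

universe u

variable {G : Type u} [Group G]

theorem isCoatom_map_conj {M : Subgroup G} (hM : IsCoatom M) (g : G) :
    IsCoatom (M.map (MulAut.conj g).toMonoidHom) :=
  ((MulAut.conj g).mapSubgroup.isCoatom_iff M).2 hM

theorem mem_map_conj_iff {M : Subgroup G} {g x : G} :
    x ∈ M.map (MulAut.conj g).toMonoidHom ↔ g⁻¹ * x * g ∈ M := by
  rw [Subgroup.mem_map_equiv, MulAut.conj_symm_apply]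

theorem map_conj_inv_cancel (M : Subgroup G) (g : G) :
    (M.map (MulAut.conj g).toMonoidHom).map (MulAut.conj g⁻¹).toMonoidHom = M := by
  ext x
  rw [mem_map_conj_iff, mem_map_conj_iff, inv_inv,
    show g⁻¹ * (g * x * g⁻¹) * g = x by group]

theorem map_conj_cancel (M : Subgroup G) (g : G) :
    (M.map (MulAut.conj g⁻¹).toMonoidHom).map (MulAut.conj g).toMonoidHom = M := by
  simpa using map_conj_inv_cancel M g⁻¹

theorem not_conj_symm {M N : Subgroup G}
    (h : ∀ g : G, N ≠ M.map (MulAut.conj g).toMonoidHom) :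
    ∀ g : G, M ≠ N.map (MulAut.conj g).toMonoidHom := fun g e =>
  h g⁻¹ (by rw [e, map_conj_inv_cancel])

variable [Finite G] (P : Props G)
include P

section Meet

variable {L N : Subgroup G} (hL : IsCoatom L) (hLI : CfsgLib.OddLocal.S15.IsTypeICore L)
  (hfrob : ∀ x ∈ Cfsg.fittingHallOf L, x ≠ 1 →
    L ⊓ Subgroup.centralizer ({x} : Set G) ≤ Cfsg.fittingHallOf L)
  (hN : IsCoatom N) (hNI : CfsgLib.OddLocal.S15.IsTypeICore N)
  (hne : ∀ g : G, N ≠ L.map (MulAut.conj g).toMonoidHom)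
include hL hLI hN hNI hne

theorem not_both {g : G} {a u y : G} (ha : a ∈ Cfsg.fittingHallOf L) (ha1 : a ≠ 1)
    (hu : u ∈ Cfsg.supportR L a) (hg : g = y * (a * u) * y⁻¹) {b v z : G}
    (hb : b ∈ Cfsg.fittingHallOf N) (hb1 : b ≠ 1) (hv : v ∈ Cfsg.supportR N b) :
    g ≠ z * (b * v) * z⁻¹ := by
  intro hg'
  have h := P.disjoint L N hL hN hne
  rw [(P.typeI_core L hL hLI).1, (P.typeI_core N hN hNI).1] at h
  exact Set.eq_empty_iff_forall_notMem.1 h g
    ⟨⟨a, ⟨ha, ha1⟩, u, hu, y, hg⟩, b, ⟨hb, hb1⟩, v, hv, z, hg'⟩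

include hfrob

/-- An element of `A(N)` in the support of `L`. -/
theorem meet_data {a u y : G} (ha : a ∈ Cfsg.fittingHallOf L) (ha1 : a ≠ 1)
    (hu : u ∈ Cfsg.supportR L a) (hb : y * (a * u) * y⁻¹ ∈ CfsgLib.OddLocal.S15.typeACore N) :
    y * (a * u) * y⁻¹ ∉ Cfsg.fittingHallOf N ∧
    (orderOf (y * a * y⁻¹)).Coprime (Nat.card (Cfsg.fittingHallOf N)) ∧
    y * a * y⁻¹ ∈ N ∧ y * u * y⁻¹ ∈ Cfsg.fittingHallOf N ∧
    (∀ v ∈ Cfsg.fittingHallOf N, v * (y * a * y⁻¹) = (y * a * y⁻¹) * v →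
      y⁻¹ * v * y ∈ Cfsg.supportR L a) := by
  have haA : a ∈ CfsgLib.OddLocal.S15.typeACore L := mem_typeA_of_mem_fitting hLI ha ha1
  have hD := P.dade L hL
  set a' := y * a * y⁻¹ with ha'
  set u' := y * u * y⁻¹ with hu'
  set b := y * (a * u) * y⁻¹ with hbdef
  have hbau : b = a' * u' := by rw [hbdef, ha', hu']; group
  have hau : Commute a' u' :=
    Commute.map (Dade.comm_of_mem_H hD haA hu) (MulAut.conj y).toMonoidHom
  have hcoa : (orderOf a).Coprime (Nat.card (Cfsg.fittingHallOf N)) :=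
    (TypeIProps.coprime_fitting P hL hN hne).coprime_dvd_left
      (Subgroup.orderOf_dvd_natCard _ ha)
  have hoa' : orderOf a' = orderOf a := MulEquiv.orderOf_eq (MulAut.conj y) a
  have hca' : (orderOf a').Coprime (Nat.card (Cfsg.fittingHallOf N)) := hoa' ▸ hcoa
  obtain ⟨hbN, hb1, y₁, hy₁, hy₁1, hby₁⟩ := (mem_typeA_iff hNI).1 hb
  -- `a'` is a power of `b`
  have hu'o : orderOf u' ∣ Nat.card (Cfsg.supportR L a) := by
    rw [hu', ← MulAut.conj_apply, MulEquiv.orderOf_eq]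
    exact Subgroup.orderOf_dvd_natCard _ hu
  obtain ⟨k, hk⟩ := exists_pow_of_coprime (G := G)
    (hoa' ▸ Dade.coprime_orderOf hD haA haA :
      Nat.Coprime (orderOf a') (Nat.card (Cfsg.supportR L a)))
  have hbk : b ^ k = a' := by
    rw [hbau]
    exact hk a' u' hau (pow_orderOf_eq_one a') (orderOf_dvd_iff_pow_eq_one.1 hu'o)
  have haN : a' ∈ N := hbk ▸ pow_mem hbN k
  have hay : a' * y₁ = y₁ * a' := hbk ▸ (Commute.pow_left hby₁ k).eq
  have ha'1 : a' ≠ 1 := fun e => ha1 (conj_eq_one_iff.1 e)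
  have hzc : y⁻¹ * y₁ * y ∈ Subgroup.centralizer ({a} : Set G) := by
    rw [Subgroup.mem_centralizer_singleton_iff]
    calc y⁻¹ * y₁ * y * a = y⁻¹ * (y₁ * a') * y := by rw [ha']; group
      _ = y⁻¹ * (a' * y₁) * y := by rw [hay]
      _ = a * (y⁻¹ * y₁ * y) := by rw [ha']; group
  have hzo : orderOf (y⁻¹ * y₁ * y) = orderOf y₁ := by
    have := MulEquiv.orderOf_eq (MulAut.conj y⁻¹) y₁
    rwa [MulAut.conj_apply, inv_inv] at this
  have hLC : L ⊓ Subgroup.centralizer ({a} : Set G) ≤ Cfsg.fittingHallOf L := hfrob a ha ha1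
  have hzcop : (orderOf (y⁻¹ * y₁ * y)).Coprime
      (Nat.card ↥(L ⊓ Subgroup.centralizer ({a} : Set G))) := by
    rw [hzo]
    exact ((TypeIProps.coprime_fitting P hL hN hne).coprime_dvd_left
      (Subgroup.card_dvd_of_le hLC)).symm.coprime_dvd_left (Subgroup.orderOf_dvd_natCard _ hy₁)
  have hz1 : y⁻¹ * y₁ * y ≠ 1 := fun e => hy₁1 (by
    rw [show y₁ = y * (y⁻¹ * y₁ * y) * y⁻¹ by group, e, mul_one, mul_inv_cancel])
  have hzR : y⁻¹ * y₁ * y ∈ Cfsg.supportR L a :=
    Dade.mem_H_of_coprime hD haA (Subgroup.mem_centralizer_singleton_iff.1 hzc) hzcop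
  have hnle : ¬ Subgroup.centralizer ({a} : Set G) ≤ L := fun h => hz1 (by
    rw [supportR_eq_bot h] at hzR
    exact Subgroup.mem_bot.1 hzR)
  obtain ⟨L₂, ⟨hL₂, haL₂⟩, -⟩ := ((P.tame L hL).1 a haA hnle).2
  have hR := supportR_eq P hL haA hnle hL₂ haL₂
  rw [hR] at hzR hu
  -- the supporter is conjugate to `N`
  set N₂ := L₂.map (MulAut.conj y).toMonoidHom with hN₂
  have hN₂c : IsCoatom N₂ := isCoatom_map_conj hL₂ y
  have hF : Cfsg.fittingHallOf N₂ =
      (Cfsg.fittingHallOf L₂).map (MulAut.conj y).toMonoidHom :=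
    NotAllTypeI.fittingHallOf_map_conj L₂ y
  have hy₁₂ : y₁ ∈ Cfsg.fittingHallOf N₂ := by
    rw [hF, mem_map_conj_iff]; exact hzR.1
  obtain ⟨g, hg⟩ : ∃ g : G, N₂ = N.map (MulAut.conj g).toMonoidHom := by
    by_contra hcon
    push Not at hcon
    refine hy₁1 (orderOf_eq_one_iff.1 (Nat.eq_one_of_dvd_coprimes
      (TypeIProps.coprime_fitting P hN hN₂c hcon) (Subgroup.orderOf_dvd_natCard _ hy₁)
      (Subgroup.orderOf_dvd_natCard _ hy₁₂)))
  have hcard : Nat.card (Cfsg.fittingHallOf L₂) = Nat.card (Cfsg.fittingHallOf N) := by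
    have h1 : Nat.card (Cfsg.fittingHallOf N₂) = Nat.card (Cfsg.fittingHallOf L₂) := by
      rw [hF, Subgroup.card_map_of_injective (MulEquiv.injective _)]
    rw [← h1, hg, NotAllTypeI.fittingHallOf_map_conj,
      Subgroup.card_map_of_injective (MulEquiv.injective _)]
  have huN : u' ∈ N := by
    rw [show u' = a'⁻¹ * b by rw [hbau]; group]
    exact mul_mem (inv_mem haN) hbN
  have huF : u' ∈ Cfsg.fittingHallOf N := by
    refine mem_fitting_of_coprime huN ((CfsgLib.OddLocal.coprime_fittingHallOf N).coprime_dvd_left ?_)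
    rw [hu', ← MulAut.conj_apply, MulEquiv.orderOf_eq, ← hcard]
    exact Subgroup.orderOf_dvd_natCard _ hu.1
  -- the supporter is `N`
  have hcle : Subgroup.centralizer ({a'} : Set G) ≤ N₂ := by
    intro c hc
    rw [hN₂, mem_map_conj_iff]
    refine haL₂ (Subgroup.mem_centralizer_singleton_iff.2 ?_)
    have h := Subgroup.mem_centralizer_singleton_iff.1 hc
    calc y⁻¹ * c * y * a = y⁻¹ * (c * a') * y := by rw [ha']; group
      _ = y⁻¹ * (a' * c) * y := by rw [h]
      _ = a * (y⁻¹ * c * y) := by rw [ha']; group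
  have hN₂N : N₂ = N :=
    (cent_le_of_coprime P hN hNI haN ha'1 hca' hy₁ hy₁1 hay).2 N₂ hN₂c hcle
  refine ⟨fun hbF => ?_, hca', haN, huF, fun v hv hva => ?_⟩
  · exact not_both P hL hLI hN hNI hne ha ha1 (hR ▸ hu) rfl hbF hb1 (one_mem _)
      (by rw [one_mul, inv_one, mul_one, mul_one] : b = 1 * (b * 1) * 1⁻¹)
  · rw [hR]
    refine ⟨?_, Subgroup.mem_centralizer_singleton_iff.2 ?_⟩
    · show y⁻¹ * v * y ∈ Cfsg.fittingHallOf L₂
      rw [← mem_map_conj_iff, ← hF, hN₂N]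
      exact hv
    · calc y⁻¹ * v * y * a = y⁻¹ * (v * a') * y := by rw [ha']; group
        _ = y⁻¹ * (a' * v) * y := by rw [hva]
        _ = a * (y⁻¹ * v * y) := by rw [ha']; group

variable [Fintype G] [Fintype L] [Fintype N]

open Classical in
/-- The Dade images from `L` and from `N` are orthogonal. -/
theorem orth {α : L → ℂ} (hα : Cfsg.IsClassFunction L α) {β : N → ℂ}
    (hβ : Cfsg.IsClassFunction N β) (hβA : ∀ x : N, (x : G) ∉ CfsgLib.OddLocal.S15.typeACore N → β x = 0)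
    (hsum : ∀ n : N, n ∉ Cfsg.fittingHall N → ∑ h : Cfsg.fittingHall N, β ((h : N) * n) = 0) :
    Cfsg.classInner (Cfsg.dadeIsometry (CfsgLib.OddLocal.S15.typeACore N) N (Cfsg.supportR N) β)
      (Cfsg.dadeIsometry (CfsgLib.OddLocal.S15.typeACore L) L (Cfsg.supportR L) α) = 0 := by
  have hDL := P.dade L hL
  have hDN := P.dade N hN
  have hAL : CfsgLib.OddLocal.S15.typeACore L = (Cfsg.fittingHallOf L : Set G) \ {1} :=
    TypeICoherence.typeA_eq hLI hfrob
  set τ := Cfsg.dadeIsometry (CfsgLib.OddLocal.S15.typeACore L) L (Cfsg.supportR L) α with hτ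
  have hτcl : Cfsg.IsClassFunction G τ := Dade.isClassFunction_dade hDL hα
  have hin : ∀ g : G, τ g ≠ 0 → ∃ a ∈ Cfsg.fittingHallOf L, a ≠ 1 ∧
      ∃ u ∈ Cfsg.supportR L a, ∃ y : G, g = y * (a * u) * y⁻¹ := by
    intro g hg
    by_contra h
    refine hg (Dade.dade_apply_none ?_)
    rintro ⟨a, ha, x, u, hu, hx⟩
    rw [hAL] at ha
    exact h ⟨a, ha.1, ha.2, u, hu, x⁻¹, by rw [← hx]; group⟩
  rw [Dade.dade_classInner hDN hβ hβA hτcl
    (ψ := fun b : N => if (b : G) ∈ Cfsg.fittingHallOf N then 0 else τ b) (fun b hb => ?_),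
    classInner_def]
  swap
  · by_cases hbF : (b : G) ∈ Cfsg.fittingHallOf N
    · rw [if_pos hbF]
      refine (mul_eq_zero_of_right _ (finsum_mem_of_eqOn_zero fun v hv => ?_)).symm
      by_contra h
      obtain ⟨a, ha, ha1, u, hu, y, hy⟩ := hin _ h
      exact not_both P hL hLI hN hNI hne ha ha1 hu hy hbF (fun e => hDN.one_not_mem (e ▸ hb)) hv
        (by rw [one_mul, inv_one, mul_one] : ((b : G) * v) = 1 * ((b : G) * v) * 1⁻¹)
    · rw [if_neg hbF, supportR_eq_bot (cent_le_of_mem_typeA P hN hNI hb hbF)]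
      simp [finsum_mem_singleton]
  refine mul_eq_zero_of_right _ ?_
  set F : N → ℂ := fun b => if (b : G) ∈ Cfsg.fittingHallOf N then 0 else τ b with hF
  set K := Cfsg.fittingHall N with hK
  have hKn : (Nat.card K).Coprime K.index := CfsgLib.OddLocal.fittingHall_spec.2.2
  obtain ⟨k, hk1, hk0⟩ := Nat.chineseRemainder hKn.symm 1 0
  rw [← Finset.sum_fiberwise Finset.univ (fun b : N => b ^ k)]
  refine Finset.sum_eq_zero fun c _ => ?_
  by_cases hall : ∀ b : N, b ^ k = c → β b * conj (F b) = 0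
  · exact Finset.sum_eq_zero fun b hb => hall b (Finset.mem_filter.1 hb).2
  push Not at hall
  obtain ⟨b₀, hb₀c, hb₀⟩ := hall
  obtain ⟨hβ0, hF0⟩ := mul_ne_zero_iff.1 hb₀
  have hb₀A : (b₀ : G) ∈ CfsgLib.OddLocal.S15.typeACore N := by
    by_contra h
    exact hβ0 (hβA b₀ h)
  have hτ0 : τ b₀ ≠ 0 ∧ (b₀ : G) ∉ Cfsg.fittingHallOf N := by
    by_cases h : (b₀ : G) ∈ Cfsg.fittingHallOf N
    · simp [hF, h] at hF0
    · exact ⟨by simpa [hF, h] using hF0, h⟩
  obtain ⟨a, ha, ha1, u, hu, y, hy⟩ := hin _ hτ0.1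
  obtain ⟨-, hca, haN, huF, hR⟩ :=
    meet_data P hL hLI hfrob hN hNI hne ha ha1 hu (hy ▸ hb₀A)
  have haA : a ∈ CfsgLib.OddLocal.S15.typeACore L := mem_typeA_of_mem_fitting hLI ha ha1
  set a' : N := ⟨y * a * y⁻¹, haN⟩ with ha'
  have hca' : (orderOf a').Coprime (Nat.card K) := by
    rw [← Subgroup.orderOf_coe, ← CfsgLib.OddLocal.card_fittingHallOf]
    exact hca
  have hak : a' ^ k = a' := by
    conv_rhs => rw [← pow_one a']
    refine pow_eq_pow_iff_modEq.2 (hk1.of_dvd (hca'.dvd_of_dvd_mul_right ?_))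
    rw [mul_comm, Subgroup.card_mul_index]
    exact orderOf_dvd_natCard a'
  have hKk : ∀ v : N, v ∈ K → v ^ k = 1 := fun v hv =>
    orderOf_dvd_iff_pow_eq_one.1 ((Subgroup.orderOf_dvd_natCard K hv).trans
      (Nat.modEq_zero_iff_dvd.1 hk0))
  set u' : N := ⟨y * u * y⁻¹, CfsgLib.OddLocal.fittingHallOf_le N huF⟩ with hu'
  have hu'K : u' ∈ K := TypeICoherence.mem_fittingHallOf_iff.1 huF
  have hau : Commute a' u' :=
    Subtype.ext (Commute.map (Dade.comm_of_mem_H (P.dade L hL) haA hu)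
      (MulAut.conj y).toMonoidHom).eq
  have hc : c = a' := by
    have hb : b₀ = a' * u' := Subtype.ext (by
      rw [Subgroup.coe_mul, ha', hu', hy]; group)
    rw [← hb₀c, hb, hau.mul_pow, hak, hKk u' hu'K, mul_one]
  subst hc
  have ha'K : a' ∉ K := fun h => ha1 (by
    have h1 := Nat.eq_one_of_dvd_coprimes hca' (dvd_refl _) (Subgroup.orderOf_dvd_natCard K h)
    rw [orderOf_eq_one_iff] at h1
    exact conj_eq_one_iff.1 (congrArg Subtype.val h1))
  set C := K ⊓ Subgroup.centralizer ({a'} : Set N) with hC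
  have hCsum : ∑ v : C, β ((v : N) * a') = 0 := by
    have h := sum_coset_eq K a' (by rw [Subgroup.normalizer_eq_top]; trivial) hca' β
      (fun h _ z => hβ z h)
    rw [hsum a' ha'K, smul_zero, eq_comm, nsmul_eq_mul, mul_eq_zero] at h
    exact h.resolve_left (by exact_mod_cast Nat.card_pos.ne')
  have hterm : ∀ v : C, β ((v : N) * a') * conj (F ((v : N) * a')) =
      β ((v : N) * a') * conj (α ⟨a, CfsgLib.OddLocal.fittingHallOf_le L ha⟩) := by
    intro v
    by_cases hvA : (((v : N) * a' : N) : G) ∈ CfsgLib.OddLocal.S15.typeACore N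
    · have hvc : ((v : N) : G) * (y * a * y⁻¹) = (y * a * y⁻¹) * (v : N) :=
        congrArg Subtype.val (Subgroup.mem_centralizer_singleton_iff.1 v.2.2)
      have hnotF : (((v : N) * a' : N) : G) ∉ Cfsg.fittingHallOf N := fun h => ha'K (by
        have h1 := TypeICoherence.mem_fittingHallOf_iff.1 h
        simpa using K.mul_mem (K.inv_mem (Subgroup.mem_inf.1 v.2).1) h1)
      have hval : F ((v : N) * a') = α ⟨a, CfsgLib.OddLocal.fittingHallOf_le L ha⟩ := by
        simp only [hF, if_neg hnotF]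
        refine Dade.dade_apply hDL hα (a := ⟨a, CfsgLib.OddLocal.fittingHallOf_le L ha⟩) haA
          (hR _ (TypeICoherence.mem_fittingHallOf_iff.2 v.2.1) hvc) (x := y⁻¹) ?_
        rw [Subgroup.coe_mul, ha', hvc]
        group
      rw [hval]
    · rw [hβA _ hvA, zero_mul, zero_mul]
  have hzero : ∑ v : C, β ((v : N) * a') * conj (F ((v : N) * a')) = 0 := by
    rw [Finset.sum_congr rfl fun v _ => hterm v, ← Finset.sum_mul, hCsum, zero_mul]
  refine Eq.trans ?_ hzero
  symm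
  refine Finset.sum_bij (fun v _ => (v : N) * a') (fun v _ => ?_)
    (fun v _ w _ h => Subtype.ext (mul_right_cancel h)) (fun b hb => ?_) (fun v _ => rfl)
  · refine Finset.mem_filter.2 ⟨Finset.mem_univ _, ?_⟩
    rw [Commute.mul_pow (Subgroup.mem_centralizer_singleton_iff.1 v.2.2), hKk v v.2.1, one_mul, hak]
  · have hb' : b ^ k = a' := (Finset.mem_filter.1 hb).2
    have hcom : Commute b a' := hb' ▸ (Commute.self_pow b k)
    refine ⟨⟨b * a'⁻¹, ?_, Subgroup.mem_centralizer_singleton_iff.2 ?_⟩, Finset.mem_univ _,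
      inv_mul_cancel_right b a'⟩
    · show b * a'⁻¹ ∈ K
      rw [← QuotientGroup.eq_one_iff]
      have h1 : (b : N ⧸ K) ^ k = b := by
        conv_rhs => rw [← pow_one (b : N ⧸ K)]
        refine pow_eq_pow_iff_modEq.2 (hk1.of_dvd ?_)
        rw [Subgroup.index_eq_card]
        exact orderOf_dvd_natCard _
      rw [QuotientGroup.mk_mul, QuotientGroup.mk_inv, ← hb', QuotientGroup.mk_pow, h1,
        mul_inv_cancel]
    · rw [mul_assoc, inv_mul_cancel, mul_one, ← mul_assoc, ← hcom.eq, mul_inv_cancel_right]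

end Meet

end CfsgLib.OddChar.TypeIMeet
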