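import Cfsg.Agent.Lib.OddChar.NotAllTypeI
import Cfsg.Agent.Lib.Solvable.Generation
import Cfsg.Agent.Lib.Solvable.Hall
import Mathlib.GroupTheory.SchurZassenhaus

/-!
# The facts about maximal subgroups used for Type I

`Props`: the statements S1537, S1390, S1391, S1378, S1379, S1350, S1355, S1417 (d), the equality
of the kernels for Type I and the centraliser property of the other types, with first consequences:
* `exists_compl_ge`, `mem_fitting_of_coprime`;
* `cent_le_of_coprime`, `cent_le_of_mem_typeA`, `supportR_eq`, `supportR_eq_bot`;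
* `not_mem_sigma_of_not_conj`.
-/

set_option autoImplicit false

namespace CfsgLib.OddChar.TypeIProps

universe u

/-- For a maximal subgroup not of Type I the elements of a rank two subgroup of the core have
their centraliser in it. -/
def PTypeCentProp (G : Type u) [Group G] : Prop :=
  ∀ L : Subgroup G, IsCoatom L → ¬ CfsgLib.OddLocal.S15.IsTypeICore L → ∀ p : ℕ, p.Prime → ∀ A : Subgroup G,
    A ≤ Cfsg.sigmaCore L → Cfsg.IsElementaryAbelian p A → Nat.card A = p ^ 2 →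
    ∀ x ∈ A, x ≠ 1 → Subgroup.centralizer ({x} : Set G) ≤ L

/-- The predecessors of S1540. -/
structure Props (G : Type u) [Group G] : Prop where
  minSimple : Cfsg.IsMinSimpleOddOrder G
  dade : TypeICoherence.DadeAProp G
  compl : ∀ M : Subgroup G, IsCoatom M → CfsgLib.OddLocal.S15.IsTypeICore M → ∀ U : Subgroup G,
    Cfsg.IsComplIn (Cfsg.fittingHallOf M) U M →
    (∀ (p : ℕ), p.Prime → ∀ P : Sylow p U,
        IsMulCommutative (P : Subgroup U) ∧ Cfsg.PRankLE p 2 (P : Subgroup U)) ∧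
    ∀ X : Set G, X ⊆ (U : Set G) \ {1} → X.Nonempty →
      Cfsg.fittingHallOf M ⊓ Subgroup.centralizer X ≠ ⊥ →
      Subgroup.centralizer X ≤ M ∧
        ∀ L : Subgroup G, IsCoatom L → Subgroup.centralizer X ≤ L → L = M
  tame : ∀ M : Subgroup G, IsCoatom M →
    (∀ x ∈ CfsgLib.OddLocal.S15.typeACore M, ¬ Subgroup.centralizer ({x} : Set G) ≤ M → x ∈ Cfsg.typeA1 M ∧
      ∃! L : Subgroup G, IsCoatom L ∧ Subgroup.centralizer ({x} : Set G) ≤ L) ∧
    ∀ x ∈ CfsgLib.OddLocal.S15.typeACore M, ¬ Subgroup.centralizer ({x} : Set G) ≤ M →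
      ∀ L : Subgroup G, IsCoatom L → Subgroup.centralizer ({x} : Set G) ≤ L →
        Cfsg.IsComplIn (Cfsg.fittingHallOf L) (M ⊓ L) L ∧
        (x ∈ CfsgLib.OddLocal.S15.typeACore L ∧ x ∉ Cfsg.typeA1 L) ∧
        (CfsgLib.OddLocal.S15.IsTypeICore L ∨ Cfsg.IsOfTypeII L) ∧
        (Cfsg.IsOfTypeII L → ∃ E : Subgroup ↥M, Cfsg.IsFrobeniusComplement E ∧
          Cfsg.frobeniusKernel E = ((Cfsg.fittingHall ↥M : Subgroup ↥M) : Set ↥M))
  sigma_conj : ∀ M N : Subgroup G, IsCoatom M → IsCoatom N →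
    (Cfsg.sigma M ∩ Cfsg.sigma N).Nonempty → ∃ g : G, N = M.map (MulAut.conj g).toMonoidHom
  disjoint : ∀ M N : Subgroup G, IsCoatom M → IsCoatom N →
    (∀ g : G, N ≠ M.map (MulAut.conj g).toMonoidHom) →
    Cfsg.tildeOf M ((Cfsg.sigmaCore M : Set G) \ {1}) ∩
      Cfsg.tildeOf N ((Cfsg.sigmaCore N : Set G) \ {1}) = ∅
  sigma_hall : ∀ M : Subgroup G, IsCoatom M →
    Cfsg.IsPiHallOf (Cfsg.sigma M) (Cfsg.sigmaCore M) M ∧
      Cfsg.IsPiHall (Cfsg.sigma M) (Cfsg.sigmaCore M)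
  fitting_le_sigma : ∀ M : Subgroup G, IsCoatom M → Cfsg.fittingHallOf M ≤ Cfsg.sigmaCore M
  centA : ∀ M : Subgroup G, IsCoatom M → ∀ p : ℕ, p.Prime → p ∈ Cfsg.tau2 M →
    ∀ A : Subgroup G, A ≤ M → Cfsg.IsElementaryAbelian p A → Nat.card A = p ^ 2 →
    Cfsg.sigmaCore M ⊓ Subgroup.centralizer (A : Set G) = ⊥
  typeI_core : ∀ M : Subgroup G, IsCoatom M → CfsgLib.OddLocal.S15.IsTypeICore M →
    Cfsg.sigmaCore M = Cfsg.fittingHallOf M ∧ Cfsg.typeCore M = Cfsg.fittingHallOf M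
  ptype_cent : PTypeCentProp G

variable {G : Type u} [Group G]

theorem le_normalizer_fittingHallOf (M : Subgroup G) :
    M ≤ Subgroup.normalizer (Cfsg.fittingHallOf M : Set G) := by
  refine (Subgroup.normal_subgroupOf_iff_le_normalizer
    (CfsgLib.OddLocal.fittingHallOf_le M)).1 ?_
  rw [show (Cfsg.fittingHallOf M).subgroupOf M = Cfsg.fittingHall M from
    Subgroup.comap_map_eq_self_of_injective M.subtype_injective _]
  infer_instance

theorem conj_mem_fittingHallOf {M : Subgroup G} {m h : G} (hm : m ∈ M)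
    (hh : h ∈ Cfsg.fittingHallOf M) : m * h * m⁻¹ ∈ Cfsg.fittingHallOf M :=
  (Subgroup.mem_normalizer_iff.1 (le_normalizer_fittingHallOf M hm) h).1 hh

theorem fitting_ne_bot {M : Subgroup G} (hI : CfsgLib.OddLocal.S15.IsTypeICore M) : Cfsg.fittingHallOf M ≠ ⊥ :=
  fun e => hI.1.2.2.1 ((Subgroup.map_eq_bot_iff_of_injective _ M.subtype_injective).mp e)

theorem fitting_lt {M : Subgroup G} (hI : CfsgLib.OddLocal.S15.IsTypeICore M) : Cfsg.fittingHallOf M < M := by
  refine lt_of_le_of_ne (Subgroup.map_subtype_le _) fun e => hI.1.2.2.2.1 ?_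
  apply Subgroup.map_injective M.subtype_injective
  rw [← MonoidHom.range_eq_map, Subgroup.range_subtype]
  exact e

theorem mem_typeA_iff {M : Subgroup G} (hI : CfsgLib.OddLocal.S15.IsTypeICore M) {a : G} :
    a ∈ CfsgLib.OddLocal.S15.typeACore M ↔
      a ∈ M ∧ a ≠ 1 ∧ ∃ x ∈ Cfsg.fittingHallOf M, x ≠ 1 ∧ a * x = x * a := by
  rw [CfsgLib.OddLocal.S15.typeACore, if_pos hI]
  rfl

theorem mem_typeA_of_mem_fitting {M : Subgroup G} (hI : CfsgLib.OddLocal.S15.IsTypeICore M) {a : G}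
    (ha : a ∈ Cfsg.fittingHallOf M) (ha1 : a ≠ 1) : a ∈ CfsgLib.OddLocal.S15.typeACore M :=
  (mem_typeA_iff hI).2 ⟨Subgroup.map_subtype_le _ ha, ha1, a, ha, ha1, rfl⟩

variable [Finite G]

theorem isSolvable_of_isCoatom (hG : Cfsg.IsMinSimpleOddOrder G) {M : Subgroup G}
    (hM : IsCoatom M) : Group.IsSolvable M :=
  hG.2.2.2 M hM.1

/-- An element of order coprime to the index lies in the kernel. -/
theorem mem_fitting_of_coprime {M : Subgroup G} {g : G} (hg : g ∈ M)
    (h : (orderOf g).Coprime ((Cfsg.fittingHallOf M).relIndex M)) :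
    g ∈ Cfsg.fittingHallOf M := by
  rw [CfsgLib.OddLocal.relIndex_fittingHallOf, Subgroup.index_eq_card] at h
  refine (TypeICoherence.mem_fittingHallOf_iff (x := ⟨g, hg⟩)).2
    ((QuotientGroup.eq_one_iff _).1 (orderOf_eq_one_iff.1 ?_))
  refine Nat.eq_one_of_dvd_coprimes h ?_ (orderOf_dvd_natCard _)
  rw [← Subgroup.orderOf_mk g hg]
  exact orderOf_map_dvd (QuotientGroup.mk' (Cfsg.fittingHall M)) ⟨g, hg⟩

/-- A subgroup of order coprime to the kernel lies in a complement. -/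
theorem exists_compl_ge (hG : Cfsg.IsMinSimpleOddOrder G) {M : Subgroup G} (hM : IsCoatom M)
    {B : Subgroup G} (hBM : B ≤ M)
    (hB : (Nat.card B).Coprime (Nat.card (Cfsg.fittingHallOf M))) :
    ∃ U : Subgroup G, Cfsg.IsComplIn (Cfsg.fittingHallOf M) U M ∧ B ≤ U := by
  haveI := isSolvable_of_isCoatom hG hM
  set K := Cfsg.fittingHall M with hK
  have hc : (Nat.card K).Coprime K.index := CfsgLib.OddLocal.fittingHall_spec.2.2
  obtain ⟨E, hE⟩ := Subgroup.exists_right_complement'_of_coprime hc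
  have hi : E.index = Nat.card K := hE.index_eq_card
  have hci : Nat.card E = K.index := hE.symm.index_eq_card.symm
  obtain ⟨g, hg⟩ := CfsgLib.Solvable.exists_conj_le_of_coprime_index (H := E)
    (K := B.subgroupOf M) (by rw [hi, hci]; exact hc.symm)
    (by rw [hi, Nat.card_congr (Subgroup.subgroupOfEquivOfLe hBM).toEquiv,
          ← CfsgLib.OddLocal.card_fittingHallOf]
        exact hB)
  set F := E.map (MulAut.conj g⁻¹).toMonoidHom with hF
  have hFc : Nat.card F = K.index := by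
    rw [hF, Subgroup.card_map_of_injective (MulEquiv.injective _), hci]
  have hKF : Subgroup.IsComplement' K F := by
    refine Subgroup.isComplement'_of_coprime ?_ (hFc ▸ hc)
    rw [hFc, Subgroup.card_mul_index]
  refine ⟨F.map M.subtype, ⟨CfsgLib.OddLocal.fittingHallOf_le M, Subgroup.map_subtype_le _, ?_,
    fun m hm => ?_⟩, fun b hb => ?_⟩
  · rw [Cfsg.fittingHallOf, ← Subgroup.map_inf _ _ _ M.subtype_injective, hKF.disjoint.eq_bot,
      Subgroup.map_bot]
  · obtain ⟨⟨⟨a, ha⟩, ⟨b, hb⟩⟩, hab⟩ := (hKF.existsUnique ⟨m, hm⟩).exists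
    exact ⟨a, ⟨a, ha, rfl⟩, b, ⟨b, hb, rfl⟩, congrArg Subtype.val hab.symm⟩
  · refine ⟨⟨b, hBM hb⟩, ⟨MulAut.conj g ⟨b, hBM hb⟩, hg ?_, ?_⟩, rfl⟩
    · exact Subgroup.smul_mem_pointwise_smul _ _ _ hb
    · simp [mul_assoc]

variable (P : Props G)
include P

/-- An element outside the kernel, of order coprime to it, centralising something in it. -/
theorem cent_le_of_coprime {M : Subgroup G} (hM : IsCoatom M) (hI : CfsgLib.OddLocal.S15.IsTypeICore M) {x : G}
    (hx : x ∈ M) (hx1 : x ≠ 1)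
    (hcop : (orderOf x).Coprime (Nat.card (Cfsg.fittingHallOf M))) {y : G}
    (hy : y ∈ Cfsg.fittingHallOf M) (hy1 : y ≠ 1) (hxy : x * y = y * x) :
    Subgroup.centralizer ({x} : Set G) ≤ M ∧
      ∀ L : Subgroup G, IsCoatom L → Subgroup.centralizer ({x} : Set G) ≤ L → L = M := by
  obtain ⟨U, hU, hxU⟩ := exists_compl_ge P.minSimple hM (B := Subgroup.zpowers x)
    (Subgroup.zpowers_le.2 hx) (by rwa [Nat.card_zpowers])
  refine (P.compl M hM hI U hU).2 {x} ?_ (Set.singleton_nonempty x) ?_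
  · rintro _ rfl
    exact ⟨hxU (Subgroup.mem_zpowers _), hx1⟩
  · intro h
    have : y ∈ Cfsg.fittingHallOf M ⊓ Subgroup.centralizer ({x} : Set G) :=
      ⟨hy, Subgroup.mem_centralizer_singleton_iff.2 hxy.symm⟩
    rw [h, Subgroup.mem_bot] at this
    exact hy1 this

omit [Finite G] in
theorem cent_le_of_mem_typeA {M : Subgroup G} (hM : IsCoatom M) (hI : CfsgLib.OddLocal.S15.IsTypeICore M) {b : G}
    (hb : b ∈ CfsgLib.OddLocal.S15.typeACore M) (hbF : b ∉ Cfsg.fittingHallOf M) :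
    Subgroup.centralizer ({b} : Set G) ≤ M := by
  by_contra h
  have := ((P.tame M hM).1 b hb h).1
  rw [Cfsg.typeA1, (P.typeI_core M hM hI).2] at this
  exact hbF this.1

omit [Finite G] P in
theorem supportR_eq_bot {M : Subgroup G} {x : G}
    (h : Subgroup.centralizer ({x} : Set G) ≤ M) : Cfsg.supportR M x = ⊥ := by
  rw [Cfsg.supportR, dif_neg (fun h' => h'.1 h)]

omit [Finite G] in
theorem supportR_eq {M : Subgroup G} (hM : IsCoatom M) {x : G} (hx : x ∈ CfsgLib.OddLocal.S15.typeACore M)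
    (hnle : ¬ Subgroup.centralizer ({x} : Set G) ≤ M) {L : Subgroup G} (hL : IsCoatom L)
    (hxL : Subgroup.centralizer ({x} : Set G) ≤ L) :
    Cfsg.supportR M x = Cfsg.fittingHallOf L ⊓ Subgroup.centralizer ({x} : Set G) := by
  have hu := ((P.tame M hM).1 x hx hnle).2
  rw [Cfsg.supportR, dif_pos ⟨hnle, hu⟩]
  congr 2
  exact hu.unique (Classical.choose_spec hu.exists) ⟨hL, hxL⟩

omit [Finite G] in
theorem not_mem_sigma_of_not_conj {M N : Subgroup G} (hM : IsCoatom M) (hN : IsCoatom N)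
    (hne : ∀ g : G, N ≠ M.map (MulAut.conj g).toMonoidHom) {q : ℕ} (hq : q ∈ Cfsg.sigma M) :
    q ∉ Cfsg.sigma N := fun h => by
  obtain ⟨g, hg⟩ := P.sigma_conj M N hM hN ⟨q, hq, h⟩
  exact hne g hg

/-- The kernel orders of maximal subgroups that are not conjugate are coprime. -/
theorem coprime_fitting {M N : Subgroup G} (hM : IsCoatom M) (hN : IsCoatom N)
    (hne : ∀ g : G, N ≠ M.map (MulAut.conj g).toMonoidHom) :
    (Nat.card (Cfsg.fittingHallOf M)).Coprime (Nat.card (Cfsg.fittingHallOf N)) := by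
  refine Nat.coprime_of_dvd fun q hq h1 h2 => not_mem_sigma_of_not_conj P hM hN hne
    ((P.sigma_hall M hM).1.2.1 q hq (h1.trans (Subgroup.card_dvd_of_le (P.fitting_le_sigma M hM))))
    ((P.sigma_hall N hN).1.2.1 q hq (h2.trans (Subgroup.card_dvd_of_le (P.fitting_le_sigma N hN))))

end CfsgLib.OddChar.TypeIProps
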